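import Mathlib
import Cfsg.Prelude.Def_LieClassical
import Cfsg.Agent.Lib.helper7.GU
import Cfsg.Agent.Lib.helper17.GUdet

/-!
Field automorphisms of odd prime order acting on `GU_n(q)`: the matrices fixed up to a scalar are the
products of a unitary scalar and a matrix of `GU_n(q₀)` over the fixed field.
-/

set_option autoImplicit false

namespace Cfsg.Agent.Lib.helper50

open Cfsg Matrix

section
variable {F : Type*} [Field F]

theorem fa_mem_fixed_iff (σ : F ≃+* F) (x : F) :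
    x ∈ FixedPoints.subfield (Subgroup.zpowers σ) F ↔ σ x = x := by
  constructor
  · intro h
    exact h ⟨σ, Subgroup.mem_zpowers σ⟩
  · intro h g
    have hle : Subgroup.zpowers σ ≤ MulAction.stabilizer (F ≃+* F) x := by
      rw [Subgroup.zpowers_le]
      exact h
    exact hle g.2

theorem fa_card_fixed [Fintype F] (σ : F ≃+* F) {q₀ r : ℕ} (hr : r.Prime) (hF : Fintype.card F = q₀ ^ r)
    (hσ : orderOf σ = r) : Nat.card (FixedPoints.subfield (Subgroup.zpowers σ) F) = q₀ := by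
  classical
  have hfin : IsOfFinOrder σ := orderOf_pos_iff.mp (hσ ▸ hr.pos)
  have : Finite (Subgroup.zpowers σ) := (finite_zpowers.mpr hfin).to_subtype
  have : Fintype (Subgroup.zpowers σ) := Fintype.ofFinite _
  have : Fintype (FixedPoints.subfield (Subgroup.zpowers σ) F) := Fintype.ofFinite _
  have h1 : Module.finrank (FixedPoints.subfield (Subgroup.zpowers σ) F) F = r := by
    rw [FixedPoints.finrank_eq_card, ← Nat.card_eq_fintype_card, Nat.card_zpowers, hσ]
  have h2 := Module.card_eq_pow_finrank (K := FixedPoints.subfield (Subgroup.zpowers σ) F) (V := F)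
  rw [h1, hF] at h2
  rw [Nat.card_eq_fintype_card]
  exact (Nat.pow_left_injective hr.ne_zero h2).symm

/-- The homomorphism `F^× × GL_n(K) → GL_n(F)`, `(a, h) ↦ a h`. -/
noncomputable def faPsi (K : Subfield F) (n : ℕ) : Fˣ × GL (Fin n) K →* GL (Fin n) F where
  toFun p := Matrix.GeneralLinearGroup.scalar (Fin n) p.1 * Matrix.GeneralLinearGroup.map K.subtype p.2
  map_one' := by simp
  map_mul' p p' := by
    have h : Commute (Matrix.GeneralLinearGroup.scalar (Fin n) p'.1)
        (Matrix.GeneralLinearGroup.map K.subtype p.2) :=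
      Matrix.GeneralLinearGroup.scalar_commute _ _
    simp only [Prod.fst_mul, Prod.snd_mul, map_mul]
    exact h.mul_mul_mul_comm _ _

theorem faPsi_apply (K : Subfield F) (n : ℕ) (a : Fˣ) (h : GL (Fin n) K) (i j : Fin n) :
    (faPsi K n (a, h) : Matrix (Fin n) (Fin n) F) i j
      = (a : F) * ((h : Matrix (Fin n) (Fin n) K) i j : F) := by
  show ((Matrix.GeneralLinearGroup.scalar (Fin n) a * Matrix.GeneralLinearGroup.map K.subtype h : GL (Fin n) F)
    : Matrix (Fin n) (Fin n) F) i j = _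
  rw [Units.val_mul, Matrix.GeneralLinearGroup.coe_scalar]
  simp

theorem fa_mem_range_psi_iff (σ : F ≃+* F) {n : ℕ} (hn : 1 ≤ n) (g : GL (Fin n) F) :
    (∃ c : F, c ≠ 0 ∧ (g : Matrix (Fin n) (Fin n) F).map σ = c • (g : Matrix (Fin n) (Fin n) F)) ↔
      g ∈ (faPsi (FixedPoints.subfield (Subgroup.zpowers σ) F) n).range := by
  constructor
  · rintro ⟨c, hc, hg⟩
    have hne : Nonempty (Fin n) := ⟨⟨0, hn⟩⟩
    obtain ⟨i, j, hij⟩ : ∃ i j, (g : Matrix (Fin n) (Fin n) F) i j ≠ 0 := by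
      by_contra hcon
      have h0 : (g : Matrix (Fin n) (Fin n) F) = 0 := by
        ext i j
        by_contra h
        exact hcon ⟨i, j, h⟩
      have := Matrix.GeneralLinearGroup.det_ne_zero g
      rw [h0, Matrix.det_zero] at this
      exact this rfl
    have hσ : ∀ k l, σ ((g : Matrix (Fin n) (Fin n) F) k l) = c * (g : Matrix (Fin n) (Fin n) F) k l := by
      intro k l
      have := congrFun (congrFun hg k) l
      simpa using this
    obtain ⟨a, ha⟩ : ∃ a : F, a = (g : Matrix (Fin n) (Fin n) F) i j := ⟨_, rfl⟩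
    rw [← ha] at hij
    have hσa : σ a = c * a := by rw [ha]; exact hσ i j
    have hfix : ∀ k l, σ (a⁻¹ * (g : Matrix (Fin n) (Fin n) F) k l)
        = a⁻¹ * (g : Matrix (Fin n) (Fin n) F) k l := by
      intro k l
      rw [map_mul, map_inv₀, hσ, hσa]
      field_simp
    let hK : Matrix (Fin n) (Fin n) (FixedPoints.subfield (Subgroup.zpowers σ) F) :=
      fun k l => ⟨a⁻¹ * (g : Matrix (Fin n) (Fin n) F) k l, (fa_mem_fixed_iff σ _).mpr (hfix k l)⟩
    have hmap : hK.map (FixedPoints.subfield (Subgroup.zpowers σ) F).subtype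
        = a⁻¹ • (g : Matrix (Fin n) (Fin n) F) := by
      ext k l
      rfl
    have hdet : hK.det ≠ 0 := by
      intro h0
      have h1 := RingHom.map_det (FixedPoints.subfield (Subgroup.zpowers σ) F).subtype hK
      rw [h0, map_zero] at h1
      have h2 : (hK.map (FixedPoints.subfield (Subgroup.zpowers σ) F).subtype).det = 0 := h1.symm
      rw [hmap, Matrix.det_smul] at h2
      have h3 := Matrix.GeneralLinearGroup.det_ne_zero g
      have h4 : a⁻¹ ^ Fintype.card (Fin n) ≠ 0 := pow_ne_zero _ (inv_ne_zero hij)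
      exact (mul_ne_zero h4 h3) h2
    refine ⟨(Units.mk0 a hij, Matrix.GeneralLinearGroup.mkOfDetNeZero hK hdet), ?_⟩
    apply Units.ext
    ext k l
    rw [faPsi_apply]
    show a * (a⁻¹ * (g : Matrix (Fin n) (Fin n) F) k l) = _
    rw [mul_inv_cancel_left₀ hij]
  · rintro ⟨⟨a, h⟩, rfl⟩
    refine ⟨σ (a : F) / (a : F), div_ne_zero ((map_ne_zero σ).mpr a.ne_zero) a.ne_zero, ?_⟩
    ext k l
    rw [Matrix.map_apply, Matrix.smul_apply, faPsi_apply, map_mul, smul_eq_mul,
      (fa_mem_fixed_iff σ _).mp (h.1 k l).2]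
    have := a.ne_zero
    field_simp

/-- Entrywise description of the isometries of the standard hermitian form. -/
theorem isIsom_iff_entries [Fintype F] {q : ℕ} (hF : Fintype.card F = q ^ 2) (n : ℕ)
    (M : Matrix (Fin n) (Fin n) F) :
    helper7.IsIsom n q M ↔ ∀ j k, ∑ i, M i j * (M i k) ^ q = if j = k then 1 else 0 := by
  classical
  have hq : q ≠ 0 := by
    have := helper7.two_le_of_card_sq hF
    omega
  constructor
  · intro h j k
    have h1 := h (Pi.single j 1) (Pi.single k 1)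
    rw [helper7.herm_single_right hq] at h1
    rw [Matrix.mulVec_single_one, Matrix.mulVec_single_one] at h1
    rw [Pi.single_apply] at h1
    unfold hermForm at h1
    simp only [Matrix.col_apply] at h1
    rw [h1]
    simp [eq_comm]
  · intro h u v
    obtain ⟨φ, hφ⟩ := helper17.exists_frob hF
    have key : ∀ i, (M *ᵥ u) i * ((M *ᵥ v) i) ^ q
        = ∑ j, ∑ k, (M i j * (M i k) ^ q) * (u j * (v k) ^ q) := by
      intro i
      simp only [Matrix.mulVec, dotProduct, ← hφ, map_sum, map_mul, Finset.sum_mul, Finset.mul_sum]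
      rw [Finset.sum_comm]
      refine Finset.sum_congr rfl fun j _ => Finset.sum_congr rfl fun k _ => by ring
    unfold hermForm
    simp only [key]
    rw [Finset.sum_comm]
    apply Finset.sum_congr rfl
    intro j _
    rw [Finset.sum_comm]
    simp only [← Finset.sum_mul, h]
    simp

end

section
variable {K : Type*} [Field K] [Fintype K] (K₀ : Subfield K) (q q₀ : ℕ)

/-- The homomorphism `(μ, h) ↦ μ h` from unitary scalars times `GU_n(q₀)` over the subfield. -/
noncomputable def faPhi (n : ℕ) : helper17.rootsUnity K q × GU n K₀ q₀ →* GL (Fin n) K :=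
  (faPsi K₀ n).comp (MonoidHom.prodMap (helper17.rootsUnity K q).subtype (GU n K₀ q₀).subtype)

theorem faPhi_eq (n : ℕ) (μ : helper17.rootsUnity K q) (h : GU n K₀ q₀) :
    faPhi K₀ q q₀ n (μ, h) = faPsi K₀ n ((μ : Kˣ), (h : GL (Fin n) K₀)) := rfl

theorem faPhi_apply (n : ℕ) (μ : helper17.rootsUnity K q) (h : GU n K₀ q₀) (i j : Fin n) :
    (faPhi K₀ q q₀ n (μ, h) : Matrix (Fin n) (Fin n) K) i j
      = ((μ : Kˣ) : K) * (((h : GL (Fin n) K₀) : Matrix (Fin n) (Fin n) K₀) i j : K) :=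
  faPsi_apply K₀ n _ _ i j

variable {q q₀}

theorem faPhi_mem_GU (hK : Fintype.card K = q ^ 2) (hK₀ : Nat.card K₀ = q₀ ^ 2)
    (hpow : ∀ x : K₀, (x : K) ^ q = (x : K) ^ q₀) (n : ℕ)
    (p : helper17.rootsUnity K q × GU n K₀ q₀) : faPhi K₀ q q₀ n p ∈ GU n K q := by
  classical
  haveI : Fintype K₀ := Fintype.ofFinite _
  have hK₀' : Fintype.card K₀ = q₀ ^ 2 := by rw [← Nat.card_eq_fintype_card]; exact hK₀
  obtain ⟨μ, h⟩ := p
  rw [helper7.mem_GU_iff, isIsom_iff_entries hK]
  intro j k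
  have hh := (isIsom_iff_entries hK₀' n _).mp ((helper7.mem_GU_iff n (h : GL (Fin n) K₀)).mp h.2) j k
  have hh' := congrArg (fun x : K₀ => (x : K)) hh
  simp only [AddSubmonoidClass.coe_finset_sum, Subfield.coe_mul, SubmonoidClass.coe_pow] at hh'
  simp only [faPhi_apply, mul_pow, hpow]
  have hμ := helper17.rootsUnity_pow q μ
  calc ∑ i, ((μ : Kˣ) : K) * (((h : GL (Fin n) K₀) : Matrix (Fin n) (Fin n) K₀) i j : K)
        * (((μ : Kˣ) : K) ^ q * (((h : GL (Fin n) K₀) : Matrix (Fin n) (Fin n) K₀) i k : K) ^ q₀)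
      = ((μ : Kˣ) : K) ^ (q + 1) * ∑ i, (((h : GL (Fin n) K₀) : Matrix (Fin n) (Fin n) K₀) i j : K)
        * (((h : GL (Fin n) K₀) : Matrix (Fin n) (Fin n) K₀) i k : K) ^ q₀ := by
        rw [Finset.mul_sum]
        refine Finset.sum_congr rfl fun i _ => by ring
    _ = _ := by
        rw [hμ, one_mul, hh']
        split_ifs <;> simp


theorem faPhi_range_of_psi (hK : Fintype.card K = q ^ 2) (hK₀ : Nat.card K₀ = q₀ ^ 2)
    (hpow : ∀ x : K₀, (x : K) ^ q = (x : K) ^ q₀) {n : ℕ} (hn : 1 ≤ n) (a : Kˣ)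
    (h' : GL (Fin n) K₀) (hg : faPsi K₀ n (a, h') ∈ GU n K q) :
    faPsi K₀ n (a, h') ∈ (faPhi K₀ q q₀ n).range := by
  classical
  haveI : Fintype K₀ := Fintype.ofFinite _
  have hK₀' : Fintype.card K₀ = q₀ ^ 2 := by rw [← Nat.card_eq_fintype_card]; exact hK₀
  have hq₀ : q₀ ≠ 0 := by
    have := helper7.two_le_of_card_sq hK₀'
    omega
  have hG := (isIsom_iff_entries hK n _).mp ((helper7.mem_GU_iff n _).mp hg)
  simp only [faPsi_apply, mul_pow, hpow] at hG
  obtain ⟨T, hT⟩ : ∃ T : Fin n → Fin n → K₀, ∀ j k, T j k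
      = ∑ i, (h' : Matrix (Fin n) (Fin n) K₀) i j * ((h' : Matrix (Fin n) (Fin n) K₀) i k) ^ q₀ :=
    ⟨_, fun _ _ => rfl⟩
  have hT' : ∀ j k, (a : K) ^ (q + 1) * (T j k : K) = if j = k then 1 else 0 := by
    intro j k
    rw [← hG j k, hT]
    simp only [AddSubmonoidClass.coe_finset_sum, Subfield.coe_mul, SubmonoidClass.coe_pow]
    rw [Finset.mul_sum]
    refine Finset.sum_congr rfl fun i _ => by ring
  let i₀ : Fin n := ⟨0, hn⟩
  have h00 := hT' i₀ i₀
  rw [if_pos rfl] at h00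
  obtain ⟨N, hN⟩ : ∃ N : K₀, N = T i₀ i₀ := ⟨_, rfl⟩
  rw [← hN] at h00
  have hN0 : N ≠ 0 := by
    rintro rfl
    simp at h00
  have hN0' : (N : K) ≠ 0 := by
    intro h0
    rw [h0, mul_zero] at h00
    exact zero_ne_one h00
  have hNq : N ^ q₀ = N := by
    apply Subtype.ext
    rw [SubmonoidClass.coe_pow, ← hpow]
    have hN1 : (N : K) = ((a : K) ^ (q + 1))⁻¹ := eq_inv_of_mul_eq_one_right h00
    rw [hN1, inv_pow]
    congr 1
    rw [← pow_mul]
    have h2 : (q + 1) * q = q ^ 2 + q := by ring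
    rw [h2, pow_add, ← hK, FiniteField.pow_card, pow_succ, mul_comm]
  have hfib := helper7.card_norm_fiber hK₀' N hN0 hNq
  obtain ⟨l, hl⟩ : ∃ l : K₀, l * l ^ q₀ = N := by
    have hne : (Finset.univ.filter (fun x : K₀ => x * x ^ q₀ = N)).Nonempty := by
      rw [← Finset.card_pos, hfib]
      omega
    obtain ⟨l, hl⟩ := hne
    exact ⟨l, (Finset.mem_filter.mp hl).2⟩
  have hl0 : l ≠ 0 := by
    rintro rfl
    rw [zero_mul] at hl
    exact hN0 hl.symm
  have hl0' : (l : K) ≠ 0 := by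
    intro h0
    apply hl0
    exact Subtype.ext h0
  have hlK : (l : K) * (l : K) ^ q₀ = (N : K) := by
    rw [← hl]
    simp
  have hμ : ((a : K) * (l : K)) ^ (q + 1) = 1 := by
    rw [mul_pow, pow_succ (l : K), hpow, mul_comm ((l : K) ^ q₀), hlK]
    exact h00
  have hTjk : ∀ j k, T j k = if j = k then N else 0 := by
    intro j k
    apply Subtype.ext
    have h1 := hT' j k
    have ha0 : (a : K) ^ (q + 1) ≠ 0 := pow_ne_zero _ a.ne_zero
    split_ifs with hjk
    · rw [if_pos hjk] at h1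
      exact mul_left_cancel₀ ha0 (h1.trans h00.symm)
    · rw [if_neg hjk] at h1
      rw [(mul_eq_zero.mp h1).resolve_left ha0]
      rfl
  have hmI : helper7.IsIsom n q₀ (l⁻¹ • (h' : Matrix (Fin n) (Fin n) K₀)) := by
    rw [isIsom_iff_entries hK₀']
    intro j k
    simp only [Matrix.smul_apply, smul_eq_mul, mul_pow]
    have h3 : ∑ i, l⁻¹ * (h' : Matrix (Fin n) (Fin n) K₀) i j
        * (l⁻¹ ^ q₀ * ((h' : Matrix (Fin n) (Fin n) K₀) i k) ^ q₀) = (l * l ^ q₀)⁻¹ * T j k := by
      rw [hT, Finset.mul_sum]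
      refine Finset.sum_congr rfl fun i _ => ?_
      rw [mul_inv, inv_pow]
      ring
    rw [h3, hl, hTjk]
    split_ifs
    · exact inv_mul_cancel₀ hN0
    · rw [mul_zero]
  refine ⟨(⟨Units.mk0 ((a : K) * (l : K)) (mul_ne_zero a.ne_zero hl0'),
    (helper17.mem_rootsUnity_iff q _).mpr (Units.ext hμ)⟩,
    (helper7.guEquiv hq₀ n).symm ⟨_, hmI⟩), ?_⟩
  apply Units.ext
  ext k m
  rw [faPhi_apply, faPsi_apply]
  have h4 : (((((helper7.guEquiv hq₀ n).symm ⟨_, hmI⟩ : GU n K₀ q₀) : GL (Fin n) K₀)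
      : Matrix (Fin n) (Fin n) K₀) k m : K) = (l : K)⁻¹ * ((h' : Matrix (Fin n) (Fin n) K₀) k m : K) := by
    have h5 : ((((helper7.guEquiv hq₀ n).symm ⟨_, hmI⟩ : GU n K₀ q₀) : GL (Fin n) K₀)
      : Matrix (Fin n) (Fin n) K₀) = l⁻¹ • (h' : Matrix (Fin n) (Fin n) K₀) := IsUnit.unit_spec _
    rw [h5]
    simp
  rw [h4]
  show (a : K) * (l : K) * ((l : K)⁻¹ * _) = _
  field_simp

theorem card_ker_faPhi (hK₀ : Nat.card K₀ = q₀ ^ 2)
    (hpow : ∀ x : K₀, (x : K) ^ q = (x : K) ^ q₀) {n : ℕ} (hn : 1 ≤ n) :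
    Nat.card (faPhi K₀ q q₀ n).ker = q₀ + 1 := by
  classical
  haveI : Fintype K₀ := Fintype.ofFinite _
  have hK₀' : Fintype.card K₀ = q₀ ^ 2 := by rw [← Nat.card_eq_fintype_card]; exact hK₀
  have hνK : ∀ ν : helper17.rootsUnity K₀ q₀, (((ν : K₀ˣ) : K₀) : K) ^ (q + 1) = 1 := by
    intro ν
    rw [pow_succ, hpow, ← pow_succ]
    have := helper17.rootsUnity_pow q₀ ν
    have h2 := congrArg (fun x : K₀ => (x : K)) this
    simpa using h2
  let κ : helper17.rootsUnity K₀ q₀ → helper17.rootsUnity K q × GU n K₀ q₀ := fun ν =>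
    (⟨Units.map (K₀.subtype : K₀ →* K) (ν : K₀ˣ)⁻¹, by
      rw [helper17.mem_rootsUnity_iff]
      apply Units.ext
      rw [Units.val_pow_eq_pow_val, Units.coe_map, Units.val_inv_eq_inv_val]
      simp only [MonoidHom.coe_coe, Subfield.coe_subtype, Subfield.coe_inv, inv_pow, Units.val_one]
      rw [hνK ν, inv_one]⟩, helper17.scalarGU n q₀ ν)
  have hκ : Function.Injective κ := by
    intro ν ν' h
    have h1 := congrArg (fun p : helper17.rootsUnity K q × GU n K₀ q₀ => (((p.1 : Kˣ) : K))) h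
    simp only [κ, Units.coe_map, MonoidHom.coe_coe, Subfield.coe_subtype, Units.val_inv_eq_inv_val,
      Subfield.coe_inv] at h1
    apply Subtype.ext
    apply Units.ext
    apply Subtype.ext
    exact inv_injective h1
  have hrange : Set.range κ = ((faPhi K₀ q q₀ n).ker : Set _) := by
    ext ⟨μ, h⟩
    constructor
    · rintro ⟨ν, hν⟩
      rw [SetLike.mem_coe, MonoidHom.mem_ker, ← hν]
      apply Units.ext
      ext k l
      rw [faPhi_apply]
      have h1 : (((helper17.scalarGU n q₀ ν : GU n K₀ q₀) : GL (Fin n) K₀) : Matrix (Fin n) (Fin n) K₀)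
          = Matrix.diagonal (fun _ => ((ν : K₀ˣ) : K₀)) := rfl
      rw [h1]
      simp only [Units.coe_map, MonoidHom.coe_coe, Subfield.coe_subtype, Units.val_inv_eq_inv_val,
        Subfield.coe_inv, Matrix.diagonal_apply, Units.val_one, Matrix.one_apply]
      have hν0 : (((ν : K₀ˣ) : K₀) : K) ≠ 0 := by
        intro h0
        have := hνK ν
        rw [h0, zero_pow (Nat.succ_ne_zero q)] at this
        exact zero_ne_one this
      by_cases hkl : k = l
      · simp [hkl, hν0]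
      · simp [hkl]
    · intro hmem
      rw [SetLike.mem_coe, MonoidHom.mem_ker] at hmem
      have hent : ∀ k l, ((μ : Kˣ) : K) * (((h : GL (Fin n) K₀) : Matrix (Fin n) (Fin n) K₀) k l : K)
          = (1 : Matrix (Fin n) (Fin n) K) k l := by
        intro k l
        rw [← faPhi_apply, hmem]
        rfl
      let i₀ : Fin n := ⟨0, hn⟩
      have h00 := hent i₀ i₀
      rw [Matrix.one_apply_eq] at h00
      have hμ0 : ((μ : Kˣ) : K) ≠ 0 := (μ : Kˣ).ne_zero
      have ht0 : ((h : GL (Fin n) K₀) : Matrix (Fin n) (Fin n) K₀) i₀ i₀ ≠ 0 := by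
        intro h0
        rw [h0] at h00
        simp at h00
      have hμinv : ((μ : Kˣ) : K)⁻¹ = (((h : GL (Fin n) K₀) : Matrix (Fin n) (Fin n) K₀) i₀ i₀ : K) :=
        (eq_inv_of_mul_eq_one_right h00).symm
      have hpw : (((h : GL (Fin n) K₀) : Matrix (Fin n) (Fin n) K₀) i₀ i₀) ^ (q₀ + 1) = 1 := by
        apply Subtype.ext
        rw [SubmonoidClass.coe_pow, pow_succ, ← hpow, ← pow_succ, ← hμinv, inv_pow,
          helper17.rootsUnity_pow q μ, inv_one]
        rfl
      refine ⟨⟨Units.mk0 _ ht0, (helper17.mem_rootsUnity_iff q₀ _).mpr (Units.ext hpw)⟩, ?_⟩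
      apply Prod.ext
      · apply Subtype.ext
        apply Units.ext
        simp only [κ, Units.coe_map, MonoidHom.coe_coe, Subfield.coe_subtype, Units.val_inv_eq_inv_val,
          Subfield.coe_inv, Units.val_mk0]
        rw [← hμinv, inv_inv]
      · apply Subtype.ext
        apply Units.ext
        ext k l
        have h1 : ∀ ν : helper17.rootsUnity K₀ q₀,
            (((helper17.scalarGU n q₀ ν : GU n K₀ q₀) : GL (Fin n) K₀) : Matrix (Fin n) (Fin n) K₀)
            = Matrix.diagonal (fun _ => ((ν : K₀ˣ) : K₀)) := fun ν => rfl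
        simp only [κ]
        rw [h1, Matrix.diagonal_apply]
        have hkl := hent k l
        by_cases hk : k = l
        · subst hk
          rw [if_pos rfl]
          rw [Matrix.one_apply_eq] at hkl
          exact mul_left_cancel₀ hμ0 (h00.trans hkl.symm)
        · rw [if_neg hk]
          rw [Matrix.one_apply_ne hk] at hkl
          have := (mul_eq_zero.mp hkl).resolve_left hμ0
          simpa using this.symm
  have h1 : Nat.card (faPhi K₀ q q₀ n).ker = Nat.card (Set.range κ) := by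
    rw [hrange]
    rfl
  rw [h1, Nat.card_congr (Equiv.ofInjective κ hκ).symm, helper17.card_rootsUnity hK₀']

/-- The count of the elements of `GU_n(q)` fixed up to a scalar by a field automorphism of odd prime order. -/
theorem card_GU_fixed_mul {q₀ r n : ℕ} (hr : r.Prime) (hr2 : r ≠ 2) (hn : 1 ≤ n) (hq : q = q₀ ^ r)
    (hK : Fintype.card K = q ^ 2) (σ : K ≃+* K) (hσ : orderOf σ = r) :
    Nat.card {g : ↥(Cfsg.GU n K q) // ∃ c : K, c ≠ 0 ∧
        ((g : GL (Fin n) K) : Matrix (Fin n) (Fin n) K).map σ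
          = c • ((g : GL (Fin n) K) : Matrix (Fin n) (Fin n) K)} * (q₀ + 1)
      = (q + 1) * (q₀ ^ (n * (n - 1) / 2)
        * ∏ i ∈ Finset.range n, (if Even i then q₀ ^ (i + 1) + 1 else q₀ ^ (i + 1) - 1)) := by
  classical
  obtain ⟨K₀, hK₀def⟩ : ∃ K₀ : Subfield K, K₀ = FixedPoints.subfield (Subgroup.zpowers σ) K := ⟨_, rfl⟩
  haveI : Fintype K₀ := Fintype.ofFinite _
  have hK₀ : Nat.card K₀ = q₀ ^ 2 := by
    rw [hK₀def]
    refine fa_card_fixed σ hr ?_ hσ
    rw [hK, hq, ← pow_mul, ← pow_mul, mul_comm]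
  have hK₀' : Fintype.card K₀ = q₀ ^ 2 := by rw [← Nat.card_eq_fintype_card]; exact hK₀
  have hodd : Odd r := hr.odd_of_ne_two hr2
  obtain ⟨m, hm⟩ := hodd
  have hpow : ∀ x : K₀, (x : K) ^ q = (x : K) ^ q₀ := by
    intro x
    have h1 : q = (q₀ ^ 2) ^ m * q₀ := by
      rw [hq, hm, ← pow_mul, ← pow_succ]
    rw [h1, pow_mul]
    congr 1
    have h2 : x ^ (Fintype.card K₀) ^ m = x := FiniteField.pow_card_pow m x
    rw [hK₀'] at h2
    have h3 := congrArg (fun y : K₀ => (y : K)) h2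
    simpa using h3
  have hS : Nat.card {g : ↥(Cfsg.GU n K q) // ∃ c : K, c ≠ 0 ∧
        ((g : GL (Fin n) K) : Matrix (Fin n) (Fin n) K).map σ
          = c • ((g : GL (Fin n) K) : Matrix (Fin n) (Fin n) K)}
      = Nat.card (faPhi K₀ q q₀ n).range := by
    refine Nat.card_congr ((Equiv.subtypeSubtypeEquivSubtypeInter (fun g : GL (Fin n) K => g ∈ GU n K q)
      (fun g : GL (Fin n) K => ∃ c : K, c ≠ 0 ∧ (g : Matrix (Fin n) (Fin n) K).map σ
          = c • (g : Matrix (Fin n) (Fin n) K))).trans (Equiv.subtypeEquivRight (fun g => ?_)))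
    constructor
    · rintro ⟨hgU, hgc⟩
      rw [fa_mem_range_psi_iff σ hn, ← hK₀def] at hgc
      obtain ⟨⟨a, h'⟩, rfl⟩ := hgc
      exact faPhi_range_of_psi K₀ hK hK₀ hpow hn a h' hgU
    · rintro ⟨p, rfl⟩
      refine ⟨faPhi_mem_GU K₀ hK hK₀ hpow n p, ?_⟩
      rw [fa_mem_range_psi_iff σ hn, ← hK₀def]
      exact ⟨_, rfl⟩
  have hcard1 := Subgroup.card_eq_card_quotient_mul_card_subgroup (faPhi K₀ q q₀ n).ker
  rw [Nat.card_congr (QuotientGroup.quotientKerEquivRange (faPhi K₀ q q₀ n)).toEquiv,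
    card_ker_faPhi K₀ hK₀ hpow hn, Nat.card_prod, helper17.card_rootsUnity hK,
    helper7.card_GU hK₀'] at hcard1
  rw [hS, ← hcard1]

end

end Cfsg.Agent.Lib.helper50
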