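import Mathlib
import Cfsg.Prelude.Def_LieTypeDatum
import Cfsg.Agent.Lib.helper50.PSLAut
import Cfsg.Agent.Lib.helper99.USimple
import Cfsg.Agent.Lib.helper48.UnitaryConj
import Cfsg.Agent.Lib.helper7.SUCenter

/-!
# Automorphisms of `PSU_n` induced by unitary matrices and by field automorphisms

`phiPSU : GU_n →* Aut(PSU_n)` (conjugation), `fieldPSU σ` (the standard field automorphism), their
relations, the range of `phiPSU` (`inndiagPSU`).
-/

set_option autoImplicit false

namespace Cfsg.Agent.Lib.helper50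

open Matrix Cfsg
open scoped MatrixGroups

universe u

section
variable {n q : ℕ} {F : Type u} [Field F]

theorem mem_GU_iff' (g : GL (Fin n) F) : g ∈ GU n F q ↔ ∀ u v : Fin n → F,
    hermForm n F q ((g : Matrix (Fin n) (Fin n) F) *ᵥ u) ((g : Matrix (Fin n) (Fin n) F) *ᵥ v)
      = hermForm n F q u v := Iff.rfl

theorem mem_SU_iff' (s : Matrix.SpecialLinearGroup (Fin n) F) : s ∈ SU n F q ↔ ∀ u v : Fin n → F,
    hermForm n F q ((s : Matrix (Fin n) (Fin n) F) *ᵥ u) ((s : Matrix (Fin n) (Fin n) F) *ᵥ v)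
      = hermForm n F q u v := Iff.rfl

/-- conjugation by `g ∈ GU_n` on `SU_n` -/
def conjSU (g : ↥(GU n F q)) : ↥(SU n F q) ≃* ↥(SU n F q) where
  toFun s := ⟨conjSL (g : GL (Fin n) F) (s : Matrix.SpecialLinearGroup (Fin n) F), by
    rw [mem_SU_iff']
    intro u v
    have h1 := (mem_GU_iff' _).mp (g⁻¹).2
    have h2 := (mem_SU_iff' _).mp s.2
    have h3 := (mem_GU_iff' _).mp g.2
    rw [conjSL_coe, ← Matrix.mulVec_mulVec, ← Matrix.mulVec_mulVec, ← Matrix.mulVec_mulVec,
      ← Matrix.mulVec_mulVec]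
    exact ((h3 _ _).trans (h2 _ _)).trans (h1 u v)⟩
  invFun s := ⟨(conjSL (g : GL (Fin n) F)).symm (s : Matrix.SpecialLinearGroup (Fin n) F), by
    rw [mem_SU_iff']
    intro u v
    have h1 := (mem_GU_iff' _).mp (g⁻¹).2
    have h2 := (mem_SU_iff' _).mp s.2
    have h3 := (mem_GU_iff' _).mp g.2
    show hermForm n F q ((((g⁻¹ : GL (Fin n) F) : Matrix (Fin n) (Fin n) F)
      * ((s : Matrix.SpecialLinearGroup (Fin n) F) : Matrix (Fin n) (Fin n) F)
      * ((g : GL (Fin n) F) : Matrix (Fin n) (Fin n) F)) *ᵥ u)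
      ((((g⁻¹ : GL (Fin n) F) : Matrix (Fin n) (Fin n) F)
      * ((s : Matrix.SpecialLinearGroup (Fin n) F) : Matrix (Fin n) (Fin n) F)
      * ((g : GL (Fin n) F) : Matrix (Fin n) (Fin n) F)) *ᵥ v) = _
    rw [← Matrix.mulVec_mulVec, ← Matrix.mulVec_mulVec, ← Matrix.mulVec_mulVec,
      ← Matrix.mulVec_mulVec]
    exact ((h1 _ _).trans (h2 _ _)).trans (h3 u v)⟩
  left_inv s := Subtype.ext ((conjSL (g : GL (Fin n) F)).symm_apply_apply _)
  right_inv s := Subtype.ext ((conjSL (g : GL (Fin n) F)).apply_symm_apply _)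
  map_mul' s t := Subtype.ext (map_mul (conjSL (g : GL (Fin n) F)) _ _)

theorem conjSU_coe (g : ↥(GU n F q)) (s : ↥(SU n F q)) :
    (((conjSU g s : ↥(SU n F q)) : Matrix.SpecialLinearGroup (Fin n) F) : Matrix (Fin n) (Fin n) F)
      = ((g : GL (Fin n) F) : Matrix (Fin n) (Fin n) F)
        * ((s : Matrix.SpecialLinearGroup (Fin n) F) : Matrix (Fin n) (Fin n) F)
        * (((g⁻¹ : ↥(GU n F q)) : GL (Fin n) F) : Matrix (Fin n) (Fin n) F) := rfl

/-- conjugation as a homomorphism `GU_n →* Aut(SU_n)` -/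
def conjSUHom : ↥(GU n F q) →* MulAut ↥(SU n F q) where
  toFun g := conjSU g
  map_one' := by
    refine MulEquiv.ext fun s => ?_
    apply Subtype.ext
    apply Subtype.ext
    rw [conjSU_coe]
    simp
  map_mul' g h := by
    refine MulEquiv.ext fun s => ?_
    apply Subtype.ext
    apply Subtype.ext
    rw [MulAut.mul_apply, conjSU_coe, conjSU_coe, conjSU_coe, _root_.mul_inv_rev]
    show ((g : GL (Fin n) F) : Matrix (Fin n) (Fin n) F) * ((h : GL (Fin n) F) : Matrix (Fin n) (Fin n) F)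
      * _ * ((((h⁻¹ : ↥(GU n F q)) : GL (Fin n) F) : Matrix (Fin n) (Fin n) F)
        * (((g⁻¹ : ↥(GU n F q)) : GL (Fin n) F) : Matrix (Fin n) (Fin n) F)) = _
    simp only [mul_assoc]

/-- `Φ : GU_n →* Aut(PSU_n)` -/
def phiPSU : ↥(GU n F q) →* MulAut (PSU n F q) :=
  (autQuotCenter ↥(SU n F q)).comp conjSUHom

theorem phiPSU_mk (g : ↥(GU n F q)) (s : ↥(SU n F q)) :
    phiPSU g (QuotientGroup.mk s) = QuotientGroup.mk (conjSU g s) := rfl

theorem isInnerDiagonalU_iff (β : MulAut (PSU n F q)) :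
    IsInnerDiagonalAutPSU β ↔ ∃ g : ↥(GU n F q), phiPSU g = β := by
  constructor
  · rintro ⟨g, hgU, hg⟩
    refine ⟨⟨g, hgU⟩, ?_⟩
    ext x
    induction x using QuotientGroup.induction_on with
    | H s =>
      rw [phiPSU_mk]
      exact (hg s (conjSU ⟨g, hgU⟩ s) rfl).symm
  · rintro ⟨g, rfl⟩
    refine ⟨g, g.2, fun s s' h => ?_⟩
    rw [phiPSU_mk]
    congr 1
    apply Subtype.ext
    apply Subtype.ext
    rw [h]
    rfl

theorem inndiagPSU_eq : inndiagPSU n F q = (phiPSU (n := n) (q := q) (F := F)).range := by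
  unfold inndiagPSU autSubgroupOf
  have h : {β : MulAut (PSU n F q) | IsInnerDiagonalAutPSU β}
      = ((phiPSU (n := n) (q := q) (F := F)).range : Set _) := by
    ext β
    rw [Set.mem_ofPred_eq, isInnerDiagonalU_iff]
    rfl
  rw [h, Subgroup.closure_eq]

theorem hermForm_map (σ : F ≃+* F) (u v : Fin n → F) :
    hermForm n F q (fun i => σ (u i)) (fun i => σ (v i)) = σ (hermForm n F q u v) := by
  unfold hermForm
  rw [map_sum]
  refine Finset.sum_congr rfl fun i _ => ?_
  rw [map_mul, map_pow]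

theorem map_mulVec' (σ : F ≃+* F) (M : Matrix (Fin n) (Fin n) F) (u : Fin n → F) :
    (M.map σ) *ᵥ u = fun i => σ ((M *ᵥ (fun j => σ.symm (u j))) i) := by
  funext i
  simp only [Matrix.mulVec, dotProduct, map_sum, map_mul, Matrix.map_apply, RingEquiv.apply_symm_apply]

theorem isIsom_map (σ : F ≃+* F) (M : Matrix (Fin n) (Fin n) F)
    (hM : ∀ u v : Fin n → F, hermForm n F q (M *ᵥ u) (M *ᵥ v) = hermForm n F q u v)
    (u v : Fin n → F) :
    hermForm n F q ((M.map σ) *ᵥ u) ((M.map σ) *ᵥ v) = hermForm n F q u v := by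
  rw [map_mulVec', map_mulVec', hermForm_map, hM, ← hermForm_map]
  simp

/-- the field automorphism `σ` on `SU_n` -/
def fieldSU (σ : F ≃+* F) : ↥(SU n F q) ≃* ↥(SU n F q) where
  toFun s := ⟨Matrix.SpecialLinearGroup.map (σ : F →+* F) (s : Matrix.SpecialLinearGroup (Fin n) F), by
    rw [mem_SU_iff']
    exact isIsom_map σ _ ((mem_SU_iff' _).mp s.2)⟩
  invFun s := ⟨Matrix.SpecialLinearGroup.map (σ.symm : F →+* F) (s : Matrix.SpecialLinearGroup (Fin n) F), by
    rw [mem_SU_iff']
    exact isIsom_map σ.symm _ ((mem_SU_iff' _).mp s.2)⟩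
  left_inv s := by
    apply Subtype.ext
    apply Subtype.ext
    ext i j
    simp
  right_inv s := by
    apply Subtype.ext
    apply Subtype.ext
    ext i j
    simp
  map_mul' s t := Subtype.ext (map_mul (Matrix.SpecialLinearGroup.map (σ : F →+* F)) _ _)

theorem fieldSU_coe (σ : F ≃+* F) (s : ↥(SU n F q)) :
    (((fieldSU σ s : ↥(SU n F q)) : Matrix.SpecialLinearGroup (Fin n) F) : Matrix (Fin n) (Fin n) F)
      = ((s : Matrix.SpecialLinearGroup (Fin n) F) : Matrix (Fin n) (Fin n) F).map σ := rfl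

/-- the standard field automorphism of `PSU_n` -/
def fieldPSU (σ : F ≃+* F) : MulAut (PSU n F q) :=
  autQuotCenter ↥(SU n F q) (fieldSU σ)

theorem fieldPSU_mk (σ : F ≃+* F) (s : ↥(SU n F q)) :
    fieldPSU σ (QuotientGroup.mk s) = QuotientGroup.mk (fieldSU σ s) := rfl

theorem isFieldAutPSUOf_iff (σ : F ≃+* F) (β : MulAut (PSU n F q)) :
    IsFieldAutPSUOf σ β ↔ β = fieldPSU σ := by
  constructor
  · intro h
    ext x
    induction x using QuotientGroup.induction_on with
    | H s =>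
      rw [fieldPSU_mk]
      exact h s (fieldSU σ s) rfl
  · rintro rfl s s' h
    rw [fieldPSU_mk]
    congr 1
    apply Subtype.ext
    apply Subtype.ext
    rw [h]
    rfl

theorem fieldPSU_mul (σ τ : F ≃+* F) :
    fieldPSU (n := n) (q := q) σ * fieldPSU τ = fieldPSU (σ * τ) := by
  ext x
  induction x using QuotientGroup.induction_on with
  | H s =>
    rw [MulAut.mul_apply, fieldPSU_mk, fieldPSU_mk, fieldPSU_mk]
    congr 1

theorem fieldPSU_one : fieldPSU (n := n) (q := q) (1 : F ≃+* F) = 1 := by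
  ext x
  induction x using QuotientGroup.induction_on with
  | H s =>
    rw [fieldPSU_mk]
    congr 1

/-- the field automorphism `σ` on `GU_n` -/
def mapGU (σ : F ≃+* F) : ↥(GU n F q) →* ↥(GU n F q) where
  toFun g := ⟨Matrix.GeneralLinearGroup.map (σ : F →+* F) (g : GL (Fin n) F), by
    rw [mem_GU_iff']
    exact isIsom_map σ _ ((mem_GU_iff' _).mp g.2)⟩
  map_one' := Subtype.ext (map_one _)
  map_mul' g h := Subtype.ext (map_mul _ _ _)

theorem mapGU_coe (σ : F ≃+* F) (g : ↥(GU n F q)) :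
    ((mapGU σ g : GL (Fin n) F) : Matrix (Fin n) (Fin n) F)
      = ((g : GL (Fin n) F) : Matrix (Fin n) (Fin n) F).map σ := rfl

theorem fieldPSU_phi (σ : F ≃+* F) (g : ↥(GU n F q)) :
    fieldPSU σ * phiPSU g = phiPSU (mapGU σ g) * fieldPSU σ := by
  ext x
  induction x using QuotientGroup.induction_on with
  | H s =>
    rw [MulAut.mul_apply, MulAut.mul_apply, phiPSU_mk, fieldPSU_mk, fieldPSU_mk, phiPSU_mk]
    congr 1
    apply Subtype.ext
    apply Subtype.ext
    rw [fieldSU_coe, conjSU_coe, conjSU_coe, fieldSU_coe, Matrix.map_mul, Matrix.map_mul, ← map_inv]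
    rfl

end

section K
variable {n q : ℕ} {F : Type u} [Field F] [Fintype F]

theorem herm_single_single (hq : q ≠ 0) (a b : Fin n) :
    hermForm n F q (Pi.single a 1) (Pi.single b 1) = if a = b then 1 else 0 := by
  unfold hermForm
  rw [Finset.sum_eq_single a]
  · by_cases hab : a = b
    · subst hab; simp
    · simp [Pi.single_apply, hab, zero_pow hq]
  · intro j _ hj
    simp [Pi.single_apply, hj]
  · intro h
    exact absurd (Finset.mem_univ a) h

theorem tau_vec2 (τ : F ≃+* F) (i j : Fin n) (c : F) :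
    (fun k => τ ((Pi.single i 1 + c • Pi.single j 1 : Fin n → F) k))
      = Pi.single i 1 + τ c • Pi.single j 1 := by
  funext k
  simp only [Pi.add_apply, Pi.smul_apply, Pi.single_apply, smul_eq_mul, map_add, map_mul]
  by_cases hki : k = i <;> by_cases hkj : k = j <;> simp [hki, hkj]

theorem tau_vec3 (τ : F ≃+* F) (i j k : Fin n) (x y : F) :
    (fun l => τ ((x • Pi.single i 1 + y • Pi.single j 1 + Pi.single k 1 : Fin n → F) l))
      = τ x • Pi.single i 1 + τ y • Pi.single j 1 + Pi.single k 1 := by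
  funext l
  simp only [Pi.add_apply, Pi.smul_apply, Pi.single_apply, smul_eq_mul, map_add, map_mul]
  by_cases hli : l = i <;> by_cases hlj : l = j <;> by_cases hlk : l = k <;> simp [hli, hlj, hlk]

theorem exists_third (hn : 3 ≤ n) (l j : Fin n) : ∃ i : Fin n, i ≠ l ∧ i ≠ j := by
  classical
  have h : ({l, j} : Finset (Fin n)).card < (Finset.univ : Finset (Fin n)).card := by
    rw [Finset.card_univ, Fintype.card_fin]
    exact lt_of_le_of_lt (Finset.card_insert_le _ _) (by rw [Finset.card_singleton]; omega)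
  obtain ⟨i, -, hi⟩ := Finset.exists_mem_notMem_of_card_lt_card h
  rw [Finset.mem_insert, Finset.mem_singleton, not_or] at hi
  exact ⟨i, hi.1, hi.2⟩

/-- A semilinear map `x ↦ M τ(x)` fixing every isotropic line of the standard Hermitian space of dimension
at least 3 is a scalar, and `τ = 1`. -/
theorem semilinear_fix_isotropic (hF : Fintype.card F = q ^ 2) (hn : 3 ≤ n)
    (M : Matrix (Fin n) (Fin n) F) (hM : M.det ≠ 0) (τ : F ≃+* F)
    (h : ∀ v : Fin n → F, hermForm n F q v v = 0 → ∃ μ : F, M *ᵥ (fun i => τ (v i)) = μ • v) :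
    τ = 1 ∧ ∃ ρ : F, M = ρ • (1 : Matrix (Fin n) (Fin n) F) := by
  classical
  have hq2 : 2 ≤ q := Cfsg.Agent.Lib.helper17.two_le_of_card_eq_sq hF
  have hq0 : q ≠ 0 := by omega
  obtain ⟨b, hb⟩ := Cfsg.Agent.Lib.helper99.exists_norm_eq hF (-1) (neg_ne_zero.mpr one_ne_zero)
    (by rw [Cfsg.Agent.Lib.helper17.neg_pow_q hF, one_pow])
  have hb0 : b ≠ 0 := by
    rintro rfl
    rw [zero_mul] at hb
    exact one_ne_zero (neg_eq_zero.mp hb.symm)
  obtain ⟨ζ, hζ, hζ1⟩ := Cfsg.Agent.Lib.helper7.exists_norm_one_ne_one hF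
  -- isotropy of the two-term vectors
  have hiso2 : ∀ (i j : Fin n), i ≠ j → ∀ c : F, c * c ^ q = -1 →
      hermForm n F q (Pi.single i 1 + c • Pi.single j 1) (Pi.single i 1 + c • Pi.single j 1) = 0 := by
    intro i j hij c hc
    rw [Cfsg.Agent.Lib.helper17.hermForm_add_left, Cfsg.Agent.Lib.helper17.hermForm_add_right hF,
      Cfsg.Agent.Lib.helper17.hermForm_add_right hF, Cfsg.Agent.Lib.helper17.hermForm_smul_left,
      Cfsg.Agent.Lib.helper17.hermForm_smul_left, Cfsg.Agent.Lib.helper17.hermForm_smul_right,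
      Cfsg.Agent.Lib.helper17.hermForm_smul_right, herm_single_single hq0, herm_single_single hq0,
      herm_single_single hq0, herm_single_single hq0, if_pos rfl, if_pos rfl, if_neg hij,
      if_neg (Ne.symm hij)]
    linear_combination hc
  -- off-diagonal entries vanish
  have hoff : ∀ l j : Fin n, l ≠ j → M l j = 0 := by
    intro l j hlj
    obtain ⟨i, hil, hij⟩ := exists_third hn l j
    have key : ∀ c : F, c * c ^ q = -1 → M l i + τ c * M l j = 0 := by
      intro c hc
      obtain ⟨μ, hμ⟩ := h _ (hiso2 i j hij c hc)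
      rw [tau_vec2, Matrix.mulVec_add, Matrix.mulVec_smul, Matrix.mulVec_single_one,
        Matrix.mulVec_single_one] at hμ
      have := congrFun hμ l
      simp only [Pi.add_apply, Pi.smul_apply, smul_eq_mul, Matrix.col_apply, Pi.single_apply,
        if_neg (Ne.symm hil), if_neg hlj, mul_zero, add_zero] at this
      exact this
    have h1 := key b hb
    have h2 := key (b * ζ) (by
      rw [mul_pow]
      linear_combination ζ * ζ ^ q * hb - hζ)
    have h3 : τ b * (1 - τ ζ) * M l j = 0 := by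
      rw [map_mul] at h2
      linear_combination h1 - h2
    have hτb : τ b ≠ 0 := by
      rw [Ne, map_eq_zero_iff τ τ.injective]
      exact hb0
    have hτζ : (1 : F) - τ ζ ≠ 0 := by
      intro h0
      apply hζ1
      apply τ.injective
      rw [map_one]
      exact (sub_eq_zero.mp h0).symm
    rcases mul_eq_zero.mp h3 with h4 | h4
    · rcases mul_eq_zero.mp h4 with h5 | h5
      · exact absurd h5 hτb
      · exact absurd h5 hτζ
    · exact h4
  -- relation between diagonal entries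
  have hdiag : ∀ i k : Fin n, i ≠ k → ∀ x : F, τ x * M i i = M k k * x := by
    intro i k hik x
    obtain ⟨j, hji, hjk⟩ := exists_third hn i k
    obtain ⟨y, hy⟩ : ∃ y : F, y * y ^ q = -1 - x * x ^ q := by
      by_cases h0 : -1 - x * x ^ q = 0
      · exact ⟨0, by rw [h0, zero_mul]⟩
      · exact Cfsg.Agent.Lib.helper99.exists_norm_eq hF _ h0 (by
          rw [Cfsg.Agent.Lib.helper17.sub_pow_q hF, Cfsg.Agent.Lib.helper17.neg_pow_q hF, one_pow, mul_pow,
            Cfsg.Agent.Lib.helper17.pow_q_pow_q hF]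
          ring)
    have hiso : hermForm n F q (x • Pi.single i 1 + y • Pi.single j 1 + Pi.single k 1)
        (x • Pi.single i 1 + y • Pi.single j 1 + Pi.single k 1) = 0 := by
      simp only [Cfsg.Agent.Lib.helper17.hermForm_add_left, Cfsg.Agent.Lib.helper17.hermForm_add_right hF,
        Cfsg.Agent.Lib.helper17.hermForm_smul_left, Cfsg.Agent.Lib.helper17.hermForm_smul_right,
        herm_single_single hq0, if_neg hik, if_neg (Ne.symm hik), if_neg hji,
        if_neg (Ne.symm hji), if_neg hjk, if_neg (Ne.symm hjk), if_true]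
      linear_combination hy
    obtain ⟨μ, hμ⟩ := h _ hiso
    rw [tau_vec3, Matrix.mulVec_add, Matrix.mulVec_add, Matrix.mulVec_smul, Matrix.mulVec_smul,
      Matrix.mulVec_single_one, Matrix.mulVec_single_one, Matrix.mulVec_single_one] at hμ
    have e1 := congrFun hμ k
    have e2 := congrFun hμ i
    simp only [Pi.add_apply, Pi.smul_apply, smul_eq_mul, Matrix.col_apply, Pi.single_apply,
      if_neg (Ne.symm hik), if_neg (Ne.symm hjk), if_true, mul_zero, zero_add, add_zero, mul_one,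
      hoff k i (Ne.symm hik), hoff k j (Ne.symm hjk)] at e1
    simp only [Pi.add_apply, Pi.smul_apply, smul_eq_mul, Matrix.col_apply, Pi.single_apply,
      if_neg hik, if_neg (Ne.symm hji), if_true, mul_zero, zero_add, add_zero, mul_one,
      hoff i j (Ne.symm hji), hoff i k hik] at e2
    linear_combination e2 - x * e1
  obtain ⟨i0, i1, h01⟩ : ∃ i0 i1 : Fin n, i0 ≠ i1 :=
    ⟨⟨0, by omega⟩, ⟨1, by omega⟩, by simp [Fin.ext_iff]⟩
  have hρ : ∀ k : Fin n, M k k = M i0 i0 := by
    intro k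
    by_cases hk : k = i0
    · rw [hk]
    · have := hdiag i0 k (Ne.symm hk) 1
      rw [map_one, one_mul, mul_one] at this
      exact this.symm
  have hMeq : M = M i0 i0 • (1 : Matrix (Fin n) (Fin n) F) := by
    ext a c
    by_cases hac : a = c
    · subst hac
      rw [Matrix.smul_apply, Matrix.one_apply_eq, smul_eq_mul, mul_one, hρ]
    · rw [hoff a c hac, Matrix.smul_apply, Matrix.one_apply_ne hac, smul_zero]
  have hρ0 : M i0 i0 ≠ 0 := by
    intro h0
    apply hM
    rw [hMeq, h0, zero_smul]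
    haveI : Nonempty (Fin n) := ⟨i0⟩
    exact Matrix.det_zero
  refine ⟨?_, M i0 i0, hMeq⟩
  apply RingEquiv.ext
  intro x
  have := hdiag i0 i1 h01 x
  rw [hρ i1] at this
  show τ x = x
  exact mul_right_cancel₀ hρ0 (by rw [this, mul_comm])

end K

section K1
variable {n q : ℕ} {F : Type u} [Field F] [Fintype F]

omit [Fintype F] in
theorem transv_map (τ : F ≃+* F) (v : Fin n → F) (c : F) :
    (unitaryTransvection n q v c).map τ = unitaryTransvection n q (fun i => τ (v i)) (τ c) := by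
  unfold unitaryTransvection
  ext i j
  simp only [Matrix.map_apply, Matrix.add_apply, Matrix.smul_apply, Matrix.vecMulVec_apply, smul_eq_mul,
    map_add, map_mul, map_pow, Matrix.one_apply]
  by_cases hij : i = j
  · simp [hij]
  · simp [hij]

omit [Fintype F] in
theorem transv_conj_isom (G : Matrix (Fin n) (Fin n) F)
    (hG : ∀ u v : Fin n → F, hermForm n F q (G *ᵥ u) (G *ᵥ v) = hermForm n F q u v)
    (w : Fin n → F) (c : F) :
    unitaryTransvection n q (G *ᵥ w) c * G = G * unitaryTransvection n q w c := by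
  rw [Matrix.ext_iff_mulVec]
  intro z
  rw [← Matrix.mulVec_mulVec, ← Matrix.mulVec_mulVec, Cfsg.Agent.Lib.helper17.unitaryTransvection_mulVec,
    Cfsg.Agent.Lib.helper17.unitaryTransvection_mulVec, hG, Matrix.mulVec_add, Matrix.mulVec_smul]

theorem central_scalar (hF : Fintype.card F = q ^ 2) (i0 : Fin n) (z : ↥(SU n F q))
    (hz : z ∈ Subgroup.center ↥(SU n F q)) :
    ∃ ζ : F, ((z : Matrix.SpecialLinearGroup (Fin n) F) : Matrix (Fin n) (Fin n) F)
      = ζ • (1 : Matrix (Fin n) (Fin n) F) := by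
  refine ⟨_, Cfsg.Agent.Lib.helper7.scalar_of_commute hF n _ ?_ i0⟩
  intro M hM hd
  have h1 := Subgroup.mem_center_iff.mp hz (Cfsg.Agent.Lib.helper99.mkSU M hd hM)
  exact (congrArg Cfsg.Agent.Lib.helper99.suMat h1).symm

theorem fix_isotropic_of_eq_one (hF : Fintype.card F = q ^ 2) (hn : 3 ≤ n) (g : ↥(GU n F q))
    (τ : F ≃+* F) (h : phiPSU g * fieldPSU τ = 1) (v : Fin n → F) (hv : hermForm n F q v v = 0) :
    ∃ μ : F, ((g : GL (Fin n) F) : Matrix (Fin n) (Fin n) F) *ᵥ (fun i => τ (v i)) = μ • v := by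
  classical
  by_cases hv0 : v = 0
  · refine ⟨0, ?_⟩
    subst hv0
    have : (fun i : Fin n => τ ((0 : Fin n → F) i)) = 0 := by
      funext i
      simp
    rw [this, Matrix.mulVec_zero, zero_smul]
  have hq0 : q ≠ 0 := by
    have := Cfsg.Agent.Lib.helper17.two_le_of_card_eq_sq hF
    omega
  have i0 : Fin n := ⟨0, by omega⟩
  obtain ⟨c, hc0, hc⟩ := Cfsg.Agent.Lib.helper99.exists_skew_ne_zero hF
  obtain ⟨s, -, hs⟩ := Cfsg.Agent.Lib.helper99.transv_InT hF n v c hv hc
  have h1 := congrArg (fun β : MulAut (PSU n F q) => β (QuotientGroup.mk s)) h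
  simp only [MulAut.mul_apply, MulAut.one_apply] at h1
  rw [fieldPSU_mk, phiPSU_mk, QuotientGroup.eq] at h1
  obtain ⟨ζ, hζ⟩ := central_scalar hF i0 _ h1
  obtain ⟨G, hG⟩ : ∃ G : Matrix (Fin n) (Fin n) F,
      G = ((g : GL (Fin n) F) : Matrix (Fin n) (Fin n) F) := ⟨_, rfl⟩
  obtain ⟨Gi, hGi⟩ : ∃ Gi : Matrix (Fin n) (Fin n) F,
      Gi = (((g⁻¹ : ↥(GU n F q)) : GL (Fin n) F) : Matrix (Fin n) (Fin n) F) := ⟨_, rfl⟩
  have hGGi : G * Gi = 1 := by
    rw [hG, hGi]
    exact Units.mul_inv (g : GL (Fin n) F)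
  have hGiso : ∀ u w : Fin n → F, hermForm n F q (G *ᵥ u) (G *ᵥ w) = hermForm n F q u w := by
    rw [hG]
    exact (mem_GU_iff' _).mp g.2
  obtain ⟨w, hw⟩ : ∃ w : Fin n → F, w = G *ᵥ (fun i => τ (v i)) := ⟨_, rfl⟩
  -- the matrix identity
  have hW : (((conjSU g (fieldSU τ s) : ↥(SU n F q)) : Matrix.SpecialLinearGroup (Fin n) F)
      : Matrix (Fin n) (Fin n) F) = unitaryTransvection n q w (τ c) := by
    rw [conjSU_coe, fieldSU_coe, ← hG, ← hGi]
    have e1 : ((s : Matrix.SpecialLinearGroup (Fin n) F) : Matrix (Fin n) (Fin n) F)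
        = unitaryTransvection n q v c := hs
    rw [e1, transv_map, ← transv_conj_isom G hGiso, ← hw, Matrix.mul_assoc, hGGi, Matrix.mul_one]
  have hmat : unitaryTransvection n q v c = ζ • unitaryTransvection n q w (τ c) := by
    have e2 : s = conjSU g (fieldSU τ s) * ((conjSU g (fieldSU τ s))⁻¹ * s) := by group
    have e3 := congrArg (fun t : ↥(SU n F q) =>
      ((t : Matrix.SpecialLinearGroup (Fin n) F) : Matrix (Fin n) (Fin n) F)) e2
    have e4 : ((s : Matrix.SpecialLinearGroup (Fin n) F) : Matrix (Fin n) (Fin n) F)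
        = (((conjSU g (fieldSU τ s) : ↥(SU n F q)) : Matrix.SpecialLinearGroup (Fin n) F)
          : Matrix (Fin n) (Fin n) F)
          * ((((conjSU g (fieldSU τ s))⁻¹ * s : ↥(SU n F q)) : Matrix.SpecialLinearGroup (Fin n) F)
          : Matrix (Fin n) (Fin n) F) := e3
    rw [hζ, hW, Matrix.mul_smul, Matrix.mul_one] at e4
    rw [← e4]
    exact hs.symm
  have hvec : ∀ x : Fin n → F, x + (c * hermForm n F q x v) • v
      = ζ • (x + (τ c * hermForm n F q x w) • w) := by
    intro x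
    have := congrArg (fun M : Matrix (Fin n) (Fin n) F => M *ᵥ x) hmat
    simp only [Matrix.smul_mulVec, Cfsg.Agent.Lib.helper17.unitaryTransvection_mulVec] at this
    exact this
  -- a nonzero vector orthogonal to `v` and `w`
  let L : (Fin n → F) →ₗ[F] (Fin 2 → F) :=
    { toFun := fun x => ![hermForm n F q x v, hermForm n F q x w]
      map_add' := fun x y => by
        rw [Cfsg.Agent.Lib.helper17.hermForm_add_left, Cfsg.Agent.Lib.helper17.hermForm_add_left]
        funext k
        fin_cases k <;> simp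
      map_smul' := fun a x => by
        rw [Cfsg.Agent.Lib.helper17.hermForm_smul_left, Cfsg.Agent.Lib.helper17.hermForm_smul_left]
        funext k
        fin_cases k <;> simp }
  have hker : LinearMap.ker L ≠ ⊥ := by
    apply LinearMap.ker_ne_bot_of_finrank_lt
    rw [Module.finrank_fin_fun, Module.finrank_fin_fun]
    omega
  obtain ⟨x₀, hx₀mem, hx₀⟩ := (Submodule.ne_bot_iff _).mp hker
  have hx₀v : hermForm n F q x₀ v = 0 := by
    have := congrFun (LinearMap.mem_ker.mp hx₀mem) 0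
    exact this
  have hx₀w : hermForm n F q x₀ w = 0 := by
    have := congrFun (LinearMap.mem_ker.mp hx₀mem) 1
    exact this
  have hζ1 : ζ = 1 := by
    have e5 := hvec x₀
    simp only [hx₀v, hx₀w, mul_zero, zero_smul, add_zero] at e5
    obtain ⟨k, hk⟩ : ∃ k, x₀ k ≠ 0 := by
      by_contra hcon
      apply hx₀
      funext k
      by_contra hk
      exact hcon ⟨k, hk⟩
    have e6 := congrFun e5 k
    rw [Pi.smul_apply, smul_eq_mul] at e6
    have e7 : (ζ - 1) * x₀ k = 0 := by linear_combination -e6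
    rcases mul_eq_zero.mp e7 with h7 | h7
    · exact sub_eq_zero.mp h7
    · exact absurd h7 hk
  have hvec' : ∀ x : Fin n → F, (c * hermForm n F q x v) • v = (τ c * hermForm n F q x w) • w := by
    intro x
    have := hvec x
    rw [hζ1, one_smul] at this
    exact add_left_cancel this
  obtain ⟨j, hj⟩ : ∃ j, v j ≠ 0 := by
    by_contra hcon
    apply hv0
    funext k
    by_contra hk
    exact hcon ⟨k, hk⟩
  have hx₁ : hermForm n F q (Pi.single j 1) v = v j ^ q := by
    unfold hermForm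
    rw [Finset.sum_eq_single j]
    · simp
    · intro k _ hk
      simp [Pi.single_apply, hk]
    · intro h
      exact absurd (Finset.mem_univ j) h
  have e8 := hvec' (Pi.single j 1)
  rw [hx₁] at e8
  obtain ⟨a, ha⟩ : ∃ a : F, a = c * v j ^ q := ⟨_, rfl⟩
  obtain ⟨b', hb'⟩ : ∃ b' : F, b' = τ c * hermForm n F q (Pi.single j 1) w := ⟨_, rfl⟩
  rw [← ha, ← hb'] at e8
  have ha0 : a ≠ 0 := by
    rw [ha]
    exact mul_ne_zero hc0 (pow_ne_zero _ hj)
  have hb0 : b' ≠ 0 := by
    intro h0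
    rw [h0, zero_smul] at e8
    have := congrFun e8 j
    rw [Pi.smul_apply, smul_eq_mul, Pi.zero_apply] at this
    rcases mul_eq_zero.mp this with h9 | h9
    · exact ha0 h9
    · exact hj h9
  refine ⟨b'⁻¹ * a, ?_⟩
  rw [← hG, ← hw, ← smul_smul, e8, smul_smul, inv_mul_cancel₀ hb0, one_smul]

/-- `Φ(g) φ_τ = 1` forces `τ = 1` and `g` scalar (`n ≥ 3`). -/
theorem phi_field_eq_one (hF : Fintype.card F = q ^ 2) (hn : 3 ≤ n) (g : ↥(GU n F q))
    (τ : F ≃+* F) (h : phiPSU g * fieldPSU τ = 1) :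
    τ = 1 ∧ ∃ ρ : F, ((g : GL (Fin n) F) : Matrix (Fin n) (Fin n) F)
      = ρ • (1 : Matrix (Fin n) (Fin n) F) :=
  semilinear_fix_isotropic hF hn _ (Matrix.GeneralLinearGroup.det_ne_zero _) τ
    (fix_isotropic_of_eq_one hF hn g τ h)

theorem phiPSU_eq_one_iff (hF : Fintype.card F = q ^ 2) (hn : 3 ≤ n) (g : ↥(GU n F q)) :
    phiPSU g = 1 ↔ (g : GL (Fin n) F) ∈ Geo.scalars (Fin n) F := by
  rw [Geo.mem_scalars_iff]
  constructor
  · intro h
    obtain ⟨-, ρ, hρ⟩ := phi_field_eq_one hF hn g 1 (by rw [fieldPSU_one, mul_one, h])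
    have hρ0 : ρ ≠ 0 := by
      rintro rfl
      have hdet := Matrix.GeneralLinearGroup.det_ne_zero (g : GL (Fin n) F)
      rw [hρ, zero_smul] at hdet
      haveI : Nonempty (Fin n) := ⟨⟨0, by omega⟩⟩
      exact hdet Matrix.det_zero
    exact ⟨Units.mk0 ρ hρ0, hρ⟩
  · rintro ⟨c, hc⟩
    ext x
    induction x using QuotientGroup.induction_on with
    | H s =>
      rw [phiPSU_mk, MulAut.one_apply]
      congr 1
      apply Subtype.ext
      apply Subtype.ext
      have h1 : ((g : GL (Fin n) F) : Matrix (Fin n) (Fin n) F)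
          * (((g⁻¹ : ↥(GU n F q)) : GL (Fin n) F) : Matrix (Fin n) (Fin n) F) = 1 :=
        Units.mul_inv (g : GL (Fin n) F)
      rw [conjSU_coe]
      rw [hc] at h1 ⊢
      rw [Matrix.smul_mul, Matrix.one_mul, Matrix.smul_mul, ← Matrix.mul_smul]
      rw [Matrix.smul_mul, Matrix.one_mul] at h1
      rw [h1, Matrix.mul_one]

/-- A standard field automorphism is inner-diagonal only when it is trivial (`n ≥ 3`). -/
theorem field_not_inner (hF : Fintype.card F = q ^ 2) (hn : 3 ≤ n) (g : ↥(GU n F q))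
    (τ : F ≃+* F) (h : phiPSU g = fieldPSU τ) : τ = 1 := by
  refine (phi_field_eq_one hF hn g⁻¹ τ ?_).1
  rw [map_inv, h, inv_mul_cancel]

end K1

end Cfsg.Agent.Lib.helper50
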