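import Mathlib
import Cfsg.Prelude.Def_LieTypeDatum
import Cfsg.Agent.Lib.helper50.PSUAut
import Cfsg.Agent.Lib.helper99.USimple
import Cfsg.Agent.Lib.helper99.UGen7
import Cfsg.Agent.Lib.helper17.UParab

/-!
# Automorphisms of `PSU_n`: basic objects

Total Eichler elements `Eu`, transvections `Tr`, hyperbolic pairs, the complement `W₀` of a hyperbolic
pair, and equality in the quotient `PSU_n`.
-/

set_option autoImplicit false

namespace Cfsg.Agent.Lib.helper50.PSUA

open Matrix Cfsg Cfsg.Agent.Lib.helper17 Cfsg.Agent.Lib.helper99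

universe u

section
variable {n q : ℕ} {F : Type u} [Field F] [Fintype F] (hF : Fintype.card F = q ^ 2)

/-- validity of the parameters of an Eichler element -/
def Val (q : ℕ) (u y : Fin n → F) (β : F) : Prop :=
  hermForm n F q u u = 0 ∧ hermForm n F q y u = 0 ∧ β + β ^ q + hermForm n F q y y = 0

include hF

/-- the Eichler element `x ↦ x + h(x,u) y − h(x,y) u + β h(x,u) u`, as a total function -/
noncomputable def Eu (u y : Fin n → F) (β : F) : ↥(SU n F q) := by
  classical
  exact if h : Val q u y β then eichSU hF n u y β h.1 h.2.1 h.2.2 else 1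

theorem suMat_Eu {u y : Fin n → F} {β : F} (hv : Val q u y β) :
    suMat (Eu hF u y β) = eichlerU n q u y β := by
  unfold Eu
  rw [dif_pos hv]
  rfl

theorem Eu_mulVec {u y : Fin n → F} {β : F} (hv : Val q u y β) (x : Fin n → F) :
    suMat (Eu hF u y β) *ᵥ x =
      x + hermForm n F q x u • y - hermForm n F q x y • u + (β * hermForm n F q x u) • u := by
  rw [suMat_Eu hF hv, eichlerU_mulVec]

theorem q_ne_zero : q ≠ 0 := by
  have := two_le_of_card_eq_sq hF
  omega

theorem isom_inv (g : ↥(SU n F q)) (x u : Fin n → F) :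
    hermForm n F q (suMat g⁻¹ *ᵥ x) u = hermForm n F q x (suMat g *ᵥ u) := by
  rw [← suMat_isIsom g (suMat g⁻¹ *ᵥ x) u, Matrix.mulVec_mulVec, suMat_mul_inv, Matrix.one_mulVec]

theorem val_conj (g : ↥(SU n F q)) {u y : Fin n → F} {β : F} (hv : Val q u y β) :
    Val q (suMat g *ᵥ u) (suMat g *ᵥ y) β := by
  obtain ⟨h1, h2, h3⟩ := hv
  refine ⟨?_, ?_, ?_⟩
  · rw [suMat_isIsom, h1]
  · rw [suMat_isIsom, h2]
  · rw [suMat_isIsom, h3]

/-- conjugating an Eichler element by an isometry -/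
theorem conj_Eu (g : ↥(SU n F q)) {u y : Fin n → F} {β : F} (hv : Val q u y β) :
    g * Eu hF u y β * g⁻¹ = Eu hF (suMat g *ᵥ u) (suMat g *ᵥ y) β := by
  apply suMat_inj
  rw [suMat_mul, suMat_mul, Matrix.ext_iff_mulVec]
  intro x
  rw [← Matrix.mulVec_mulVec, ← Matrix.mulVec_mulVec, Eu_mulVec hF hv, Eu_mulVec hF (val_conj hF g hv)]
  simp only [Matrix.mulVec_add, Matrix.mulVec_sub, Matrix.mulVec_smul, isom_inv hF]
  rw [Matrix.mulVec_mulVec, suMat_mul_inv, Matrix.one_mulVec]

theorem val_smul (c : F) {u y : Fin n → F} {β : F} (hv : Val q u y β) :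
    Val q (c • u) y β ∧ Val q u (c ^ q • y) (c * c ^ q * β) := by
  obtain ⟨h1, h2, h3⟩ := hv
  refine ⟨⟨?_, ?_, h3⟩, h1, ?_, ?_⟩
  · rw [hermForm_smul_left, hermForm_smul_right, h1, mul_zero, mul_zero]
  · rw [hermForm_smul_right, h2, mul_zero]
  · rw [hermForm_smul_left, h2, mul_zero]
  · rw [hermForm_smul_left, hermForm_smul_right, mul_pow, mul_pow, pow_q_pow_q hF]
    linear_combination (c * c ^ q) * h3

/-- rescaling the isotropic vector of an Eichler element -/
theorem Eu_smul (c : F) {u y : Fin n → F} {β : F} (hv : Val q u y β) :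
    Eu hF (c • u) y β = Eu hF u (c ^ q • y) (c * c ^ q * β) := by
  apply suMat_inj
  rw [Matrix.ext_iff_mulVec]
  intro x
  rw [Eu_mulVec hF (val_smul hF c hv).1, Eu_mulVec hF (val_smul hF c hv).2]
  simp only [hermForm_smul_right, pow_q_pow_q hF]
  ext i
  simp only [Pi.add_apply, Pi.sub_apply, Pi.smul_apply, smul_eq_mul]
  ring

theorem val_mul {u y y' : Fin n → F} {β β' : F} (hv : Val q u y β) (hv' : Val q u y' β') :
    Val q u (y + y') (β + β' - hermForm n F q y' y) := by
  obtain ⟨h1, h2, h3⟩ := hv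
  obtain ⟨-, h2', h3'⟩ := hv'
  refine ⟨h1, ?_, ?_⟩
  · rw [hermForm_add_left, h2, h2', add_zero]
  · simp only [hermForm_add_left, hermForm_add_right hF, sub_pow_q hF, add_pow_q hF, hermForm_conj hF]
    linear_combination h3 + h3'

theorem Eu_mul {u y y' : Fin n → F} {β β' : F} (hv : Val q u y β) (hv' : Val q u y' β') :
    Eu hF u y β * Eu hF u y' β' = Eu hF u (y + y') (β + β' - hermForm n F q y' y) := by
  apply suMat_inj
  rw [suMat_mul, suMat_Eu hF hv, suMat_Eu hF hv', suMat_Eu hF (val_mul hF hv hv'),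
    eichlerU_mul hF n u y y' β β' hv.1 hv.2.1 hv'.2.1]

theorem val_zero_zero {u : Fin n → F} (huu : hermForm n F q u u = 0) : Val q u 0 0 := by
  refine ⟨huu, hermForm_zero_left n q u, ?_⟩
  rw [hermForm_zero_left, zero_pow (q_ne_zero hF)]
  ring

theorem Eu_zero_zero {u : Fin n → F} (huu : hermForm n F q u u = 0) : Eu hF u 0 0 = 1 := by
  apply suMat_inj
  rw [suMat_Eu hF (val_zero_zero hF huu), eichlerU_zero hF, suMat_one]
  unfold unitaryTransvection
  simp

theorem val_inv {u y : Fin n → F} {β : F} (hv : Val q u y β) : Val q u (-y) (β ^ q) := by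
  obtain ⟨h1, h2, h3⟩ := hv
  refine ⟨h1, ?_, ?_⟩
  · rw [hermForm_neg_left, h2, neg_zero]
  · rw [hermForm_neg_left, hermForm_neg_right hF, pow_q_pow_q hF]
    linear_combination h3

theorem Eu_inv {u y : Fin n → F} {β : F} (hv : Val q u y β) :
    (Eu hF u y β)⁻¹ = Eu hF u (-y) (β ^ q) := by
  rw [inv_eq_iff_mul_eq_one, Eu_mul hF hv (val_inv hF hv)]
  have h0 : β + β ^ q - hermForm n F q (-y) y = 0 := by
    rw [hermForm_neg_left]
    linear_combination hv.2.2
  rw [h0, add_neg_cancel, Eu_zero_zero hF hv.1]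

theorem exists_val {u y : Fin n → F} (huu : hermForm n F q u u = 0)
    (hyu : hermForm n F q y u = 0) : ∃ β : F, Val q u y β := by
  obtain ⟨t, ht⟩ := exists_trace_eq hF (-(hermForm n F q y y))
    (by rw [neg_pow_q hF, hermForm_self_fixed hF])
  exact ⟨t, huu, hyu, by linear_combination ht⟩

/-! ### transvections -/

/-- the unitary transvection `x ↦ x + c h(x,v) v`, as a total function -/
noncomputable def Tr (v : Fin n → F) (c : F) : ↥(SU n F q) := Eu hF v 0 c

theorem val_tr {v : Fin n → F} {c : F} (hv : hermForm n F q v v = 0) (hc : c ^ q = -c) :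
    Val q v 0 c := by
  refine ⟨hv, hermForm_zero_left n q v, ?_⟩
  rw [hermForm_zero_left, hc]
  ring

theorem skew_of_val {v : Fin n → F} {c : F} (h : Val q v 0 c) : c ^ q = -c := by
  have := h.2.2
  rw [hermForm_zero_left] at this
  linear_combination this

theorem suMat_Tr {v : Fin n → F} {c : F} (hv : hermForm n F q v v = 0) (hc : c ^ q = -c) :
    suMat (Tr hF v c) = unitaryTransvection n q v c := by
  unfold Tr
  rw [suMat_Eu hF (val_tr hF hv hc), eichlerU_zero hF]

theorem Tr_mulVec {v : Fin n → F} {c : F} (hv : hermForm n F q v v = 0) (hc : c ^ q = -c)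
    (x : Fin n → F) : suMat (Tr hF v c) *ᵥ x = x + (c * hermForm n F q x v) • v := by
  rw [suMat_Tr hF hv hc, unitaryTransvection_mulVec]

theorem Tr_mul {v : Fin n → F} {c c' : F} (hv : hermForm n F q v v = 0) (hc : c ^ q = -c)
    (hc' : c' ^ q = -c') : Tr hF v c * Tr hF v c' = Tr hF v (c + c') := by
  unfold Tr
  rw [Eu_mul hF (val_tr hF hv hc) (val_tr hF hv hc'), add_zero, hermForm_zero_left, sub_zero]

theorem Tr_zero {v : Fin n → F} (hv : hermForm n F q v v = 0) : Tr hF v 0 = 1 :=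
  Eu_zero_zero hF hv

theorem Tr_inv {v : Fin n → F} {c : F} (hv : hermForm n F q v v = 0) (hc : c ^ q = -c) :
    (Tr hF v c)⁻¹ = Tr hF v (-c) := by
  unfold Tr
  rw [Eu_inv hF (val_tr hF hv hc), neg_zero, hc]

theorem Tr_conj (g : ↥(SU n F q)) {v : Fin n → F} {c : F} (hv : hermForm n F q v v = 0)
    (hc : c ^ q = -c) : g * Tr hF v c * g⁻¹ = Tr hF (suMat g *ᵥ v) c := by
  unfold Tr
  rw [conj_Eu hF g (val_tr hF hv hc), Matrix.mulVec_zero]

theorem Tr_smul (l : F) {v : Fin n → F} {c : F} (hv : hermForm n F q v v = 0) (hc : c ^ q = -c) :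
    Tr hF (l • v) c = Tr hF v (l * l ^ q * c) := by
  unfold Tr
  rw [Eu_smul hF l (val_tr hF hv hc), smul_zero]

theorem skew_smul_norm (l : F) {c : F} (hc : c ^ q = -c) : (l * l ^ q * c) ^ q = -(l * l ^ q * c) := by
  rw [mul_pow, mul_pow, pow_q_pow_q hF, hc]
  ring

theorem Tr_eq_one_iff {v : Fin n → F} {c : F} (hv0 : v ≠ 0) (hv : hermForm n F q v v = 0)
    (hc : c ^ q = -c) : Tr hF v c = 1 ↔ c = 0 := by
  constructor
  · intro h
    obtain ⟨x, hxv⟩ : ∃ x, hermForm n F q x v ≠ 0 := by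
      by_contra hcon
      push Not at hcon
      exact hv0 (herm_eq_zero_of_forall hF n v hcon)
    have h1 := Tr_mulVec hF hv hc x
    rw [h, suMat_one, Matrix.one_mulVec] at h1
    have h2 : (c * hermForm n F q x v) • v = 0 := by
      have := h1.symm
      rwa [add_eq_left] at this
    rcases smul_eq_zero.mp h2 with h3 | h3
    · rcases mul_eq_zero.mp h3 with h4 | h4
      · exact h4
      · exact absurd h4 hxv
    · exact absurd h3 hv0
  · rintro rfl
    exact Tr_zero hF hv

end

end Cfsg.Agent.Lib.helper50.PSUA
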