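import Mathlib
import Cfsg.Prelude.Def_LieTypeDatum
import Cfsg.Agent.Lib.helper50.PSUA0
import Cfsg.Agent.Lib.helper99.USyl3

/-!
# Automorphisms of `PSU_n`: hyperbolic pairs, the complement `W₀`, the unipotent radical `N_u`
-/

set_option autoImplicit false

namespace Cfsg.Agent.Lib.helper50.PSUA

open Matrix Cfsg Cfsg.Agent.Lib.helper17 Cfsg.Agent.Lib.helper99

universe u

section
variable {n q : ℕ} {F : Type u} [Field F] [Fintype F] (hF : Fintype.card F = q ^ 2)

/-- a hyperbolic pair -/
structure HP (q : ℕ) (u w : Fin n → F) : Prop where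
  uu : hermForm n F q u u = 0
  ww : hermForm n F q w w = 0
  uw : hermForm n F q u w = 1

/-- membership in the orthogonal complement of the pair `u, w` -/
def InW (q : ℕ) (u w y : Fin n → F) : Prop :=
  hermForm n F q y u = 0 ∧ hermForm n F q y w = 0

/-- the projection onto the orthogonal complement of a hyperbolic pair -/
def proj0 (q : ℕ) (u w x : Fin n → F) : Fin n → F :=
  x - hermForm n F q x w • u - hermForm n F q x u • w

omit [Fintype F] in
theorem decomp0 (u w x : Fin n → F) :
    x = hermForm n F q x w • u + hermForm n F q x u • w + proj0 q u w x := by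
  unfold proj0
  abel

omit [Fintype F] in
theorem InW.add {u w y y' : Fin n → F} (h : InW q u w y) (h' : InW q u w y') : InW q u w (y + y') :=
  ⟨by rw [hermForm_add_left, h.1, h'.1, add_zero], by rw [hermForm_add_left, h.2, h'.2, add_zero]⟩

omit [Fintype F] in
theorem InW.smul {u w y : Fin n → F} (c : F) (h : InW q u w y) : InW q u w (c • y) :=
  ⟨by rw [hermForm_smul_left, h.1, mul_zero], by rw [hermForm_smul_left, h.2, mul_zero]⟩

omit [Fintype F] in
theorem InW.zero {u w : Fin n → F} : InW q u w (0 : Fin n → F) :=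
  ⟨hermForm_zero_left n q u, hermForm_zero_left n q w⟩

omit [Fintype F] in
theorem InW.neg {u w y : Fin n → F} (h : InW q u w y) : InW q u w (-y) :=
  ⟨by rw [hermForm_neg_left, h.1, neg_zero], by rw [hermForm_neg_left, h.2, neg_zero]⟩

omit [Fintype F] in
theorem InW.sub {u w y y' : Fin n → F} (h : InW q u w y) (h' : InW q u w y') : InW q u w (y - y') :=
  ⟨by rw [hermForm_sub_left, h.1, h'.1, sub_zero], by rw [hermForm_sub_left, h.2, h'.2, sub_zero]⟩

include hF

theorem HP.wu {u w : Fin n → F} (H : HP q u w) : hermForm n F q w u = 1 :=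
  hermForm_eq_one_symm hF n u w H.uw

theorem HP.symm {u w : Fin n → F} (H : HP q u w) : HP q w u := ⟨H.ww, H.uu, H.wu hF⟩

omit [Fintype F] hF in
theorem HP.u_ne {u w : Fin n → F} (H : HP q u w) : u ≠ 0 := by
  rintro rfl
  have := H.uw
  rw [hermForm_zero_left] at this
  exact zero_ne_one this

theorem HP.w_ne {u w : Fin n → F} (H : HP q u w) : w ≠ 0 := (H.symm hF).u_ne

theorem InW.u {u w y : Fin n → F} (h : InW q u w y) : hermForm n F q u y = 0 :=
  hermForm_eq_zero_symm hF n y u h.1

theorem InW.w {u w y : Fin n → F} (h : InW q u w y) : hermForm n F q w y = 0 :=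
  hermForm_eq_zero_symm hF n y w h.2

theorem proj0_mem {u w : Fin n → F} (H : HP q u w) (x : Fin n → F) : InW q u w (proj0 q u w x) := by
  unfold proj0
  constructor
  · simp only [hermForm_sub_left, hermForm_smul_left, H.uu, H.wu hF]
    ring
  · simp only [hermForm_sub_left, hermForm_smul_left, H.uw, H.ww]
    ring

omit hF [Fintype F] in
theorem proj0_of_mem {u w y : Fin n → F} (h : InW q u w y) : proj0 q u w y = y := by
  unfold proj0
  rw [h.1, h.2, zero_smul, zero_smul, sub_zero, sub_zero]

/-- the form is non-degenerate on the complement of a hyperbolic pair -/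
theorem W_nondeg {u w : Fin n → F} (H : HP q u w) {y : Fin n → F} (hy : InW q u w y)
    (h0 : ∀ x, InW q u w x → hermForm n F q x y = 0) : y = 0 := by
  apply herm_eq_zero_of_forall hF n y
  intro x
  rw [decomp0 (q := q) u w x, hermForm_add_left, hermForm_add_left, hermForm_smul_left,
    hermForm_smul_left, hy.u hF, hy.w hF, h0 _ (proj0_mem hF H x)]
  ring

/-- a vector of prescribed norm orthogonal to a hyperbolic pair -/
theorem exists_norm_W (hn : 3 ≤ n) {u w : Fin n → F} (H : HP q u w) (γ : F) (hγ : γ ^ q = γ) :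
    ∃ z, InW q u w z ∧ hermForm n F q z z = γ := by
  classical
  obtain ⟨z, hz, hzz⟩ := exists_orth_norm hF n
    (Submodule.span F (({u, w} : Finset (Fin n → F)) : Set (Fin n → F)))
    (lt_of_le_of_lt (finrank_span_finset_le_card _)
      (lt_of_le_of_lt Finset.card_le_two (by omega)))
    (proj0 q u w)
    (fun x => by
      have : x - proj0 q u w x = (hermForm n F q x w) • u + (hermForm n F q x u) • w := by
        unfold proj0; abel
      rw [this]
      exact Submodule.add_mem _ (Submodule.smul_mem _ _ (Submodule.subset_span (by simp)))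
        (Submodule.smul_mem _ _ (Submodule.subset_span (by simp))))
    (fun x => orth_span hF n _ _ (by
      intro y hy
      simp only [Finset.coe_insert, Finset.coe_singleton, Set.mem_insert_iff,
        Set.mem_singleton_iff] at hy
      rcases hy with hy | hy
      · rw [hy]; exact (proj0_mem hF H x).1
      · rw [hy]; exact (proj0_mem hF H x).2)) γ hγ
  exact ⟨z, ⟨hz u (Submodule.subset_span (by simp)), hz w (Submodule.subset_span (by simp))⟩, hzz⟩

/-- a vector of prescribed norm orthogonal to a hyperbolic pair and to a non-isotropic vector of its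
complement -/
theorem exists_orth_W (hn : 4 ≤ n) {u w : Fin n → F} (H : HP q u w) {z : Fin n → F}
    (hz : InW q u w z) (hzz : hermForm n F q z z ≠ 0) (γ : F) (hγ : γ ^ q = γ) :
    ∃ z', InW q u w z' ∧ hermForm n F q z' z = 0 ∧ hermForm n F q z' z' = γ := by
  classical
  obtain ⟨π, hπ⟩ : ∃ π : (Fin n → F) → (Fin n → F), π = fun x =>
      proj0 q u w x - (hermForm n F q (proj0 q u w x) z / hermForm n F q z z) • z := ⟨_, rfl⟩
  have hπW : ∀ x, InW q u w (π x) := by
    intro x
    rw [hπ]
    exact (proj0_mem hF H x).sub (hz.smul _)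
  have hπz : ∀ x, hermForm n F q (π x) z = 0 := by
    intro x
    rw [hπ]
    simp only [hermForm_sub_left, hermForm_smul_left]
    field_simp
    ring
  obtain ⟨z', hz', hzz'⟩ := exists_orth_norm hF n
    (Submodule.span F (({u, w, z} : Finset (Fin n → F)) : Set (Fin n → F)))
    (lt_of_le_of_lt (finrank_span_finset_le_card _)
      (lt_of_le_of_lt Finset.card_le_three (by omega)))
    π
    (fun x => by
      have h0 := decomp0 (q := q) u w x
      have : x - π x = (hermForm n F q x w) • u + (hermForm n F q x u) • w +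
          (hermForm n F q (proj0 q u w x) z / hermForm n F q z z) • z := by
        rw [hπ]
        have h1 : x - proj0 q u w x = (hermForm n F q x w) • u + (hermForm n F q x u) • w := by
          rw [sub_eq_iff_eq_add]
          exact h0
        rw [← h1]
        module
      rw [this]
      exact Submodule.add_mem _ (Submodule.add_mem _
        (Submodule.smul_mem _ _ (Submodule.subset_span (by simp)))
        (Submodule.smul_mem _ _ (Submodule.subset_span (by simp))))
        (Submodule.smul_mem _ _ (Submodule.subset_span (by simp))))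
    (fun x => orth_span hF n _ _ (by
      intro y hy
      simp only [Finset.coe_insert, Finset.coe_singleton, Set.mem_insert_iff,
        Set.mem_singleton_iff] at hy
      rcases hy with hy | hy | hy
      · rw [hy]; exact (hπW x).1
      · rw [hy]; exact (hπW x).2
      · rw [hy]; exact hπz x)) γ hγ
  exact ⟨z', ⟨hz' u (Submodule.subset_span (by simp)), hz' w (Submodule.subset_span (by simp))⟩,
    hz' z (Submodule.subset_span (by simp)), hzz'⟩

/-- for `n ≥ 4` the complement of a hyperbolic pair contains a non-zero isotropic vector -/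
theorem exists_iso_W (hn : 4 ≤ n) {u w : Fin n → F} (H : HP q u w) :
    ∃ e, InW q u w e ∧ e ≠ 0 ∧ hermForm n F q e e = 0 := by
  obtain ⟨z₁, hz₁, hn₁⟩ := exists_norm_W hF (by omega) H 1 (one_pow q)
  obtain ⟨z₂, hz₂, ho, hn₂⟩ := exists_orth_W hF hn H hz₁ (by rw [hn₁]; exact one_ne_zero) (-1)
    (by rw [neg_pow_q hF, one_pow])
  have ho' := hermForm_eq_zero_symm hF n z₂ z₁ ho
  refine ⟨z₁ + z₂, hz₁.add hz₂, ?_, ?_⟩
  · intro h0
    have h1 : hermForm n F q (z₁ + z₂) z₁ = 1 := by
      rw [hermForm_add_left, hn₁, ho, add_zero]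
    rw [h0, hermForm_zero_left] at h1
    exact zero_ne_one h1
  · simp only [hermForm_add_left, hermForm_add_right hF, hn₁, hn₂, ho, ho']
    ring

/-- a non-isotropic vector of the complement is not orthogonal to some isotropic vector of it -/
theorem exists_iso_nonorth_W (hn : 4 ≤ n) {u w : Fin n → F} (H : HP q u w) {z : Fin n → F}
    (hz : InW q u w z) (hzz : hermForm n F q z z ≠ 0) :
    ∃ e, InW q u w e ∧ hermForm n F q e e = 0 ∧ hermForm n F q z e ≠ 0 := by
  obtain ⟨z', hz', ho, hn'⟩ := exists_orth_W hF hn H hz hzz (-(hermForm n F q z z))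
    (by rw [neg_pow_q hF, hermForm_self_fixed hF])
  have ho' := hermForm_eq_zero_symm hF n z' z ho
  refine ⟨z + z', hz.add hz', ?_, ?_⟩
  · simp only [hermForm_add_left, hermForm_add_right hF, hn', ho, ho']
    ring
  · rw [hermForm_add_right hF, ho', add_zero]
    exact hzz

/-- an isotropic partner inside the complement -/
theorem exists_partner_W {u w : Fin n → F} (H : HP q u w) {e : Fin n → F} (he : InW q u w e)
    (he0 : e ≠ 0) (hee : hermForm n F q e e = 0) :
    ∃ f, InW q u w f ∧ HP q e f := by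
  obtain ⟨f₀, -, hef₀⟩ := exists_partner hF n e he0 hee
  have h1 : hermForm n F q e (proj0 q u w f₀) = 1 := by
    unfold proj0
    simp only [hermForm_sub_right hF, hermForm_smul_right, he.1, he.2, hef₀]
    ring
  have h2 : hermForm n F q (proj0 q u w f₀) e = 1 := hermForm_eq_one_symm hF n _ _ h1
  obtain ⟨a, ha⟩ := exists_iso_shift hF n e (proj0 q u w f₀) hee h2
  refine ⟨proj0 q u w f₀ + a • e, (proj0_mem hF H f₀).add (he.smul a), hee, ha, ?_⟩
  rw [hermForm_add_right hF, hermForm_smul_right, h1, hee]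
  ring

/-- every vector of the complement is a combination of isotropic vectors of the complement -/
theorem span_iso_W {u w e f : Fin n → F} (he : InW q u w e) (hf : InW q u w f)
    (Hef : HP q e f) {x : Fin n → F} (hx : InW q u w x) :
    ∃ (e₂ : Fin n → F) (c : F), InW q u w e₂ ∧ hermForm n F q e₂ e₂ = 0 ∧
      x = hermForm n F q x f • e + hermForm n F q x e • f + e₂ - c • e - f := by
  have hx0 := proj0_mem hF Hef x
  obtain ⟨c, hc⟩ := exists_trace_eq hF (-(hermForm n F q (proj0 q e f x) (proj0 q e f x)))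
    (by rw [neg_pow_q hF, hermForm_self_fixed hF])
  refine ⟨proj0 q e f x + c • e + f, c, ?_, ?_, ?_⟩
  · refine InW.add (InW.add ?_ (he.smul c)) hf
    unfold proj0
    exact (hx.sub (he.smul _)).sub (hf.smul _)
  · simp only [hermForm_add_left, hermForm_add_right hF, hermForm_smul_left, hermForm_smul_right,
      hx0.1, hx0.2, hx0.u hF, hx0.w hF, Hef.uu, Hef.ww, Hef.uw, Hef.wu hF]
    linear_combination hc
  · unfold proj0
    abel

end

section three
variable {q : ℕ} {F : Type u} [Field F] [Fintype F] (hF : Fintype.card F = q ^ 2)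
include hF

/-- in dimension three the complement of a hyperbolic pair is a line -/
theorem W_line3 {u w : Fin 3 → F} (H : HP q u w) :
    ∃ z, InW q u w z ∧ hermForm 3 F q z z ≠ 0 ∧ ∀ x, InW q u w x → ∃ t : F, x = t • z := by
  obtain ⟨z, h1, h2, h3, h4⟩ := Cfsg.Agent.Lib.helper99.exists_third hF u w H.uu H.ww H.uw
  exact ⟨z, ⟨h1, h2⟩, h3, fun x hx => h4 x hx.1 hx.2⟩

end three

section
variable {n q : ℕ} {F : Type u} [Field F] [Fintype F] (hF : Fintype.card F = q ^ 2)
include hF

/-! ### equality in the quotient -/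

theorem mk_eq_scalar (hn : 0 < n) {g g' : ↥(SU n F q)}
    (h : (QuotientGroup.mk g : PSU n F q) = QuotientGroup.mk g') :
    ∃ ζ : F, suMat g' = ζ • suMat g := by
  have h1 : g⁻¹ * g' ∈ Subgroup.center ↥(SU n F q) := QuotientGroup.eq.mp h
  obtain ⟨ζ, hζ⟩ := central_scalar hF ⟨0, hn⟩ _ h1
  refine ⟨ζ, ?_⟩
  have h2 : suMat g' = suMat g * suMat (g⁻¹ * g') := by
    rw [← suMat_mul, mul_inv_cancel_left]
  have h3 : suMat (g⁻¹ * g') = ζ • (1 : Matrix (Fin n) (Fin n) F) := hζ
  rw [h2, h3, Matrix.mul_smul, Matrix.mul_one]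

omit [Fintype F] hF in
theorem mulVec_ne_zero (g : ↥(SU n F q)) {x : Fin n → F} (hx : x ≠ 0) : suMat g *ᵥ x ≠ 0 := by
  intro h0
  apply hx
  have := suMat_inv_apply n g x
  rw [h0, Matrix.mulVec_zero] at this
  exact this.symm

/-- two elements with the same class that agree on a non-zero vector are equal -/
theorem eq_of_mk_eq_of_fix (hn : 0 < n) {g g' : ↥(SU n F q)}
    (h : (QuotientGroup.mk g : PSU n F q) = QuotientGroup.mk g') (x : Fin n → F) (hx : x ≠ 0)
    (hgx : suMat g *ᵥ x = suMat g' *ᵥ x) : g = g' := by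
  obtain ⟨ζ, hζ⟩ := mk_eq_scalar hF hn h
  have hgx0 : suMat g *ᵥ x ≠ 0 := mulVec_ne_zero g hx
  rw [hζ, Matrix.smul_mulVec] at hgx
  have h1 : (1 - ζ) • (suMat g *ᵥ x) = 0 := by rw [sub_smul, one_smul, ← hgx, sub_self]
  rcases smul_eq_zero.mp h1 with h2 | h2
  · apply suMat_inj
    rw [hζ, ← sub_eq_zero.mp h2, one_smul]
  · exact absurd h2 hgx0

/-! ### the unipotent radical `N_u` -/

omit [Fintype F] hF in
theorem inv_fix (g : ↥(SU n F q)) {x : Fin n → F} (h : suMat g *ᵥ x = x) : suMat g⁻¹ *ᵥ x = x := by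
  have := suMat_inv_apply n g x
  rw [h] at this
  exact this

/-- the group of isometries fixing `u` and acting trivially on `u^⊥ / u` -/
def NU (q : ℕ) (u : Fin n → F) : Subgroup ↥(SU n F q) where
  carrier := {g | suMat g *ᵥ u = u ∧
    ∀ x, hermForm n F q x u = 0 → ∃ c : F, suMat g *ᵥ x = x + c • u}
  mul_mem' := by
    rintro a b ⟨ha, ha'⟩ ⟨hb, hb'⟩
    refine ⟨by rw [suMat_mul, ← Matrix.mulVec_mulVec, hb, ha], fun x hx => ?_⟩
    obtain ⟨c, hc⟩ := hb' x hx
    obtain ⟨d, hd⟩ := ha' x hx
    refine ⟨d + c, ?_⟩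
    rw [suMat_mul, ← Matrix.mulVec_mulVec, hc, Matrix.mulVec_add, Matrix.mulVec_smul, ha, hd, add_smul]
    abel
  one_mem' := ⟨by rw [suMat_one, Matrix.one_mulVec], fun x _ => ⟨0, by
    rw [suMat_one, Matrix.one_mulVec, zero_smul, add_zero]⟩⟩
  inv_mem' := by
    rintro a ⟨ha, ha'⟩
    refine ⟨inv_fix a ha, fun x hx => ?_⟩
    obtain ⟨c, hc⟩ := ha' x hx
    refine ⟨-c, ?_⟩
    have h1 : suMat a⁻¹ *ᵥ (suMat a *ᵥ x) = x := suMat_inv_apply n a x
    rw [hc, Matrix.mulVec_add, Matrix.mulVec_smul, inv_fix a ha] at h1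
    rw [neg_smul]
    exact eq_add_neg_of_add_eq h1

omit [Fintype F] hF in
theorem mem_NU {u : Fin n → F} {g : ↥(SU n F q)} : g ∈ NU q u ↔ suMat g *ᵥ u = u ∧
    ∀ x, hermForm n F q x u = 0 → ∃ c : F, suMat g *ᵥ x = x + c • u := Iff.rfl

theorem Eu_fix {u y : Fin n → F} {β : F} (hv : Val q u y β) : suMat (Eu hF u y β) *ᵥ u = u := by
  rw [Eu_mulVec hF hv, hv.1, hermForm_eq_zero_symm hF n y u hv.2.1]
  simp

theorem Eu_mem_NU {u y : Fin n → F} {β : F} (hv : Val q u y β) : Eu hF u y β ∈ NU q u := by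
  refine ⟨Eu_fix hF hv, fun x hx => ⟨-hermForm n F q x y, ?_⟩⟩
  rw [Eu_mulVec hF hv, hx]
  simp only [zero_smul, mul_zero, add_zero, neg_smul]
  abel

theorem Eu_w {u w y : Fin n → F} {β : F} (H : HP q u w) (hy : InW q u w y) (hv : Val q u y β) :
    suMat (Eu hF u y β) *ᵥ w = w + y + β • u := by
  rw [Eu_mulVec hF hv, H.wu hF, hy.w hF]
  simp

theorem Eu_W {u w y x : Fin n → F} {β : F} (hx : InW q u w x) (hv : Val q u y β) :
    suMat (Eu hF u y β) *ᵥ x = x - hermForm n F q x y • u := by
  rw [Eu_mulVec hF hv, hx.1]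
  simp

/-- the elements of `N_u` are the Eichler elements with `y` in the complement -/
theorem mem_NU_iff_Eu {u w : Fin n → F} (H : HP q u w) (g : ↥(SU n F q)) :
    g ∈ NU q u ↔ ∃ y β, InW q u w y ∧ Val q u y β ∧ g = Eu hF u y β := by
  constructor
  · rintro ⟨hgu, hg⟩
    obtain ⟨x, hx⟩ : ∃ x, x = suMat g *ᵥ w - w := ⟨_, rfl⟩
    have hxu : hermForm n F q x u = 0 := by
      have h5 := suMat_isIsom g w u
      rw [hgu] at h5
      rw [hx, hermForm_sub_left, h5, sub_self]
    have hgw : suMat g *ᵥ w = w + proj0 q u w x + hermForm n F q x w • u := by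
      have h1 := decomp0 (q := q) u w x
      rw [hxu, zero_smul, add_zero] at h1
      have h2 : suMat g *ᵥ w = w + x := by rw [hx]; abel
      rw [h2]
      nth_rewrite 1 [h1]
      abel
    have hyW := proj0_mem hF H x
    have hval : Val q u (proj0 q u w x) (hermForm n F q x w) := by
      refine ⟨H.uu, hyW.1, ?_⟩
      have h3 := suMat_isIsom g w w
      rw [hgw, H.ww] at h3
      simp only [hermForm_add_left, hermForm_add_right hF, hermForm_smul_left, hermForm_smul_right,
        H.uu, H.ww, H.uw, H.wu hF, hyW.1, hyW.2, hyW.u hF, hyW.w hF] at h3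
      linear_combination h3
    refine ⟨proj0 q u w x, hermForm n F q x w, hyW, hval, ?_⟩
    apply suMat_inj
    apply mat_ext_hyp hF n u w H.uu H.ww H.uw
    · rw [hgu, Eu_fix hF hval]
    · rw [hgw, Eu_w hF H hyW hval]
    · intro z hzu hzw
      obtain ⟨c, hc⟩ := hg z hzu
      rw [Eu_W hF (⟨hzu, hzw⟩ : InW q u w z) hval, hc]
      have h3 := suMat_isIsom g z w
      rw [hc, hgw, hzw] at h3
      simp only [hermForm_add_left, hermForm_add_right hF, hermForm_smul_left, hermForm_smul_right,
        H.uu, H.uw, hzu, hzw, hyW.u hF] at h3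
      have h4 : c = -hermForm n F q z (proj0 q u w x) := by linear_combination h3
      rw [h4, neg_smul, sub_eq_add_neg]
  · rintro ⟨y, β, -, hv, rfl⟩
    exact Eu_mem_NU hF hv

theorem Eu_inj {u w y y' : Fin n → F} {β β' : F} (H : HP q u w) (hy : InW q u w y)
    (hy' : InW q u w y') (hv : Val q u y β) (hv' : Val q u y' β')
    (h : Eu hF u y β = Eu hF u y' β') : y = y' ∧ β = β' := by
  have h1 := congrArg (fun g => suMat g *ᵥ w) h
  simp only [Eu_w hF H hy hv, Eu_w hF H hy' hv'] at h1
  have h2 := congrArg (fun z => hermForm n F q z w) h1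
  simp only [hermForm_add_left, hermForm_smul_left, H.ww, H.uw, hy.2, hy'.2] at h2
  have hβ : β = β' := by linear_combination h2
  refine ⟨?_, hβ⟩
  rw [hβ] at h1
  exact add_left_cancel (add_right_cancel h1)

theorem mk_Eu_inj (hn : 0 < n) {u w y y' : Fin n → F} {β β' : F} (H : HP q u w)
    (hy : InW q u w y) (hy' : InW q u w y') (hv : Val q u y β) (hv' : Val q u y' β')
    (h : (QuotientGroup.mk (Eu hF u y β) : PSU n F q) = QuotientGroup.mk (Eu hF u y' β')) :
    y = y' ∧ β = β' :=
  Eu_inj hF H hy hy' hv hv' (eq_of_mk_eq_of_fix hF hn h u H.u_ne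
    (by rw [Eu_fix hF hv, Eu_fix hF hv']))

end

end Cfsg.Agent.Lib.helper50.PSUA
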