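import Mathlib
import Cfsg.Prelude.Def_LieTypeDatum
import Cfsg.Agent.Lib.helper50.PSUA1
import Cfsg.Agent.Lib.helper45.PGroupFixed
import Cfsg.Agent.Lib.helper47.PSLnSylow

/-!
# Automorphisms of `PSU_n`: the centre of a Sylow `p`-subgroup is a root group

Consequently every automorphism of `PSU_n` permutes the (images of the) root groups.
-/

set_option autoImplicit false

namespace Cfsg.Agent.Lib.helper50.PSUA

open Matrix Cfsg Cfsg.Agent.Lib.helper17 Cfsg.Agent.Lib.helper99

universe u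

section
variable {n q : ℕ} {F : Type u} [Field F] [Fintype F] (hF : Fintype.card F = q ^ 2)

omit [Fintype F] in
theorem finite_SU [Finite F] : Finite ↥(SU n F q) := by
  have : Finite (Matrix.SpecialLinearGroup (Fin n) F) :=
    Finite.of_injective (fun g => g.1) Subtype.val_injective
  exact Finite.of_injective (fun g => g.1) Subtype.val_injective

omit [Fintype F] in
theorem finite_PSU [Finite F] : Finite (PSU n F q) := by
  have := finite_SU (n := n) (q := q) (F := F)
  exact Finite.of_surjective _ (QuotientGroup.mk_surjective (s := Subgroup.center ↥(SU n F q)))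

include hF

theorem charP_of_card {p f : ℕ} [Fact p.Prime] (hq : q = p ^ f) (hf : 1 ≤ f) : CharP F p := by
  obtain ⟨r, hr⟩ := CharP.exists F
  haveI := hr
  obtain ⟨k, hrp, hk⟩ := FiniteField.card F r
  have h1 : p ∣ r ^ (k : ℕ) := by
    rw [← hk, hF, hq, ← pow_mul]
    exact dvd_pow_self p (by positivity)
  have h2 := (Nat.prime_dvd_prime_iff_eq Fact.out hrp).mp ((Fact.out : p.Prime).dvd_of_dvd_pow h1)
  rw [h2]
  exact hr

/-- a `p`-subgroup of `SU_n` fixes a non-zero vector of every non-zero invariant subspace -/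
theorem exists_fixed_in {p : ℕ} [Fact p.Prime] [CharP F p] (S : Subgroup ↥(SU n F q))
    (hS : IsPGroup p S) (M : Submodule F (Fin n → F))
    (hM : ∀ g ∈ S, ∀ x ∈ M, suMat g *ᵥ x ∈ M) (hne : ∃ x ∈ M, x ≠ 0) :
    ∃ x ∈ M, x ≠ 0 ∧ ∀ g ∈ S, suMat g *ᵥ x = x := by
  classical
  obtain ⟨x0, hx0M, hx0⟩ := hne
  haveI : Nontrivial M := ⟨⟨⟨x0, hx0M⟩, 0, fun h => hx0 (congrArg Subtype.val h)⟩⟩
  let φ : S →* Module.End F M :=
    { toFun := fun g => (Matrix.toLin' (suMat (g : ↥(SU n F q)))).restrict (hM g g.2)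
      map_one' := by
        apply LinearMap.ext
        intro x
        apply Subtype.ext
        show suMat (1 : ↥(SU n F q)) *ᵥ (x : Fin n → F) = x
        rw [suMat_one, Matrix.one_mulVec]
      map_mul' := by
        intro a b
        apply LinearMap.ext
        intro x
        apply Subtype.ext
        show suMat ((a : ↥(SU n F q)) * (b : ↥(SU n F q))) *ᵥ (x : Fin n → F) =
          suMat (a : ↥(SU n F q)) *ᵥ (suMat (b : ↥(SU n F q)) *ᵥ (x : Fin n → F))
        rw [Matrix.mulVec_mulVec, suMat_mul] }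
  obtain ⟨b, hb0, hb⟩ := Cfsg.Agent.Lib.helper45.exists_ne_zero_fixed_of_isPGroup p hS φ
  refine ⟨b.1, b.2, fun h => hb0 (Subtype.ext h), fun g hg => ?_⟩
  exact congrArg Subtype.val (hb ⟨g, hg⟩)

/-- a `p`-subgroup of `SU_n` fixes a non-zero isotropic vector -/
theorem exists_iso_fixed_of_pgroup (hn : 2 ≤ n) {p : ℕ} [Fact p.Prime] [CharP F p]
    (S : Subgroup ↥(SU n F q)) (hS : IsPGroup p S) :
    ∃ v : Fin n → F, v ≠ 0 ∧ hermForm n F q v v = 0 ∧ ∀ g ∈ S, suMat g *ᵥ v = v := by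
  classical
  obtain ⟨b, -, hb0, hb⟩ := exists_fixed_in hF S hS ⊤ (fun _ _ _ _ => Submodule.mem_top)
    ⟨Pi.single (⟨0, by omega⟩ : Fin n) 1, Submodule.mem_top, by
      intro h
      have := congrFun h (⟨0, by omega⟩ : Fin n)
      simp at this⟩
  by_cases hbb : hermForm n F q b b = 0
  · exact ⟨b, hb0, hbb, hb⟩
  let L : (Fin n → F) →ₗ[F] F :=
    { toFun := fun x => hermForm n F q x b
      map_add' := fun x y => hermForm_add_left n q x y b
      map_smul' := fun a x => hermForm_smul_left n q a x b }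
  have hL : ∀ x, x ∈ LinearMap.ker L ↔ hermForm n F q x b = 0 := fun x => LinearMap.mem_ker
  obtain ⟨s₀, hs₀, hs₀n⟩ := exists_orth_norm hF n
    (Submodule.span F (({b} : Finset (Fin n → F)) : Set (Fin n → F)))
    (lt_of_le_of_lt (finrank_span_finset_le_card _) (by rw [Finset.card_singleton]; omega))
    (fun x => x - (hermForm n F q x b / hermForm n F q b b) • b)
    (fun x => by
      have : x - (x - (hermForm n F q x b / hermForm n F q b b) • b) =
          (hermForm n F q x b / hermForm n F q b b) • b := by abel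
      rw [this]
      exact Submodule.smul_mem _ _ (Submodule.subset_span (by simp)))
    (fun x => orth_span hF n _ _ (by
      intro y hy
      simp only [Finset.coe_singleton, Set.mem_singleton_iff] at hy
      rw [hy, hermForm_sub_left, hermForm_smul_left]
      field_simp
      ring)) 1 (one_pow q)
  obtain ⟨b₂, hb₂M, hb₂0, hb₂⟩ := exists_fixed_in hF S hS (LinearMap.ker L)
    (fun g hg x hx => by
      rw [hL] at hx ⊢
      have := suMat_isIsom g x b
      rw [hb g hg] at this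
      rw [this, hx])
    ⟨s₀, (hL s₀).mpr (hs₀ b (Submodule.subset_span (by simp))), by
      rintro rfl
      rw [hermForm_zero_left] at hs₀n
      exact zero_ne_one hs₀n⟩
  rw [hL] at hb₂M
  have hbb₂ := hermForm_eq_zero_symm hF n b₂ b hb₂M
  by_cases hb₂b₂ : hermForm n F q b₂ b₂ = 0
  · exact ⟨b₂, hb₂0, hb₂b₂, hb₂⟩
  obtain ⟨c, hc⟩ := exists_norm_eq hF (-(hermForm n F q b b) / hermForm n F q b₂ b₂)
    (div_ne_zero (neg_ne_zero.mpr hbb) hb₂b₂)
    (by rw [div_pow, neg_pow_q hF, hermForm_self_fixed hF, hermForm_self_fixed hF])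
  refine ⟨b + c • b₂, ?_, ?_, ?_⟩
  · intro h0
    have h1 : hermForm n F q (b + c • b₂) b = hermForm n F q b b := by
      rw [hermForm_add_left, hermForm_smul_left, hb₂M]
      ring
    rw [h0, hermForm_zero_left] at h1
    exact hbb h1.symm
  · simp only [hermForm_add_left, hermForm_add_right hF, hermForm_smul_left, hermForm_smul_right,
      hb₂M, hbb₂]
    have : c * (c ^ q * hermForm n F q b₂ b₂) = -(hermForm n F q b b) := by
      rw [← mul_assoc, hc]
      field_simp
    linear_combination this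
  · intro g hg
    rw [Matrix.mulVec_add, Matrix.mulVec_smul, hb g hg, hb₂ g hg]

/-- `N_u` is a `p`-group -/
theorem NU_isPGroup (hn : 1 ≤ n) {p : ℕ} [Fact p.Prime] [CharP F p] (u : Fin n → F) :
    IsPGroup p (NU q u) := by
  haveI : Nonempty (Fin n) := ⟨⟨0, by omega⟩⟩
  rintro ⟨g, hgu, hg⟩
  refine ⟨2, ?_⟩
  apply Subtype.ext
  apply suMat_inj
  show suMat (g ^ p ^ 2) = 1
  rw [suMat_pow]
  have hN : (suMat g - 1) ^ 3 = 0 := by
    rw [Matrix.ext_iff_mulVec]
    intro x
    have h1 : hermForm n F q ((suMat g - 1) *ᵥ x) u = 0 := by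
      rw [Matrix.sub_mulVec, Matrix.one_mulVec, hermForm_sub_left]
      have := suMat_isIsom g x u
      rw [hgu] at this
      rw [this, sub_self]
    obtain ⟨c, hc⟩ := hg _ h1
    have h2 : (suMat g - 1) *ᵥ ((suMat g - 1) *ᵥ x) = c • u := by
      rw [Matrix.sub_mulVec (suMat g) 1 ((suMat g - 1) *ᵥ x), hc, Matrix.one_mulVec]
      abel
    have h3 : (suMat g - 1) *ᵥ u = 0 := by
      rw [Matrix.sub_mulVec, hgu, Matrix.one_mulVec, sub_self]
    rw [pow_succ, pow_succ, pow_one, ← Matrix.mulVec_mulVec, ← Matrix.mulVec_mulVec, h2,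
      Matrix.mulVec_smul, h3, smul_zero, Matrix.zero_mulVec]
  have h4 : (suMat g - 1) ^ p ^ 2 = 0 := by
    have hp2 : 3 ≤ p ^ 2 := by
      have := (Fact.out : p.Prime).two_le
      nlinarith
    obtain ⟨k, hk⟩ := Nat.exists_eq_add_of_le hp2
    rw [hk, pow_add, hN, zero_mul]
  rw [sub_pow_char_pow_of_commute p 2 (Commute.one_right _), one_pow, sub_eq_zero] at h4
  exact h4

omit [Fintype F] hF in
theorem inv_smul_fix (g : ↥(SU n F q)) {u : Fin n → F} {c : F} (hc : c ≠ 0)
    (hg : suMat g *ᵥ u = c • u) : suMat g⁻¹ *ᵥ u = c⁻¹ • u := by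
  have h1 := suMat_inv_apply n g u
  rw [hg, Matrix.mulVec_smul] at h1
  have h2 := congrArg (fun z => c⁻¹ • z) h1
  simp only [smul_smul, inv_mul_cancel₀ hc, one_smul] at h2
  exact h2

/-- the stabiliser of the line `⟨u⟩` normalises `N_u` -/
theorem NU_conj {u : Fin n → F} (g : ↥(SU n F q)) {c : F} (hc : c ≠ 0)
    (hg : suMat g *ᵥ u = c • u) {k : ↥(SU n F q)} (hk : k ∈ NU q u) : g * k * g⁻¹ ∈ NU q u := by
  obtain ⟨hku, hk'⟩ := hk
  have hgi := inv_smul_fix g hc hg
  refine ⟨?_, fun x hx => ?_⟩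
  · rw [suMat_mul, suMat_mul, ← Matrix.mulVec_mulVec, ← Matrix.mulVec_mulVec, hgi,
      Matrix.mulVec_smul, hku, Matrix.mulVec_smul, hg, smul_smul, inv_mul_cancel₀ hc, one_smul]
  · have h1 : hermForm n F q (suMat g⁻¹ *ᵥ x) u = 0 := by
      rw [isom_inv hF, hg, hermForm_smul_right, hx, mul_zero]
    obtain ⟨d, hd⟩ := hk' _ h1
    refine ⟨d * c, ?_⟩
    rw [suMat_mul, suMat_mul, ← Matrix.mulVec_mulVec, ← Matrix.mulVec_mulVec, hd, Matrix.mulVec_add,
      Matrix.mulVec_smul, hg, smul_smul, Matrix.mulVec_mulVec, suMat_mul_inv, Matrix.one_mulVec]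

theorem NU_conj_iff {u : Fin n → F} (g : ↥(SU n F q)) {c : F} (hc : c ≠ 0)
    (hg : suMat g *ᵥ u = c • u) (k : ↥(SU n F q)) : k ∈ NU q u ↔ g * k * g⁻¹ ∈ NU q u := by
  refine ⟨NU_conj hF g hc hg, fun h => ?_⟩
  have := NU_conj hF g⁻¹ (inv_ne_zero hc) (inv_smul_fix g hc hg) h
  rwa [inv_inv, ← mul_assoc, ← mul_assoc, inv_mul_cancel, one_mul, mul_assoc, inv_mul_cancel,
    mul_one] at this

/-- a Sylow `p`-subgroup fixing the isotropic vector `u` contains `N_u` -/
theorem NU_le_sylow (hn : 1 ≤ n) {p : ℕ} [Fact p.Prime] [CharP F p] (S : Sylow p ↥(SU n F q))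
    {u : Fin n → F} (hS : ∀ g ∈ S, suMat g *ᵥ u = u) : NU q u ≤ S := by
  have h1 : (S : Subgroup ↥(SU n F q)) ≤ Subgroup.normalizer (NU q u) := by
    intro g hg
    rw [Subgroup.mem_normalizer_iff]
    intro k
    exact NU_conj_iff hF g one_ne_zero (by rw [hS g hg, one_smul]) k
  have h2 : IsPGroup p ((S : Subgroup ↥(SU n F q)) ⊔ NU q u : Subgroup ↥(SU n F q)) :=
    IsPGroup.to_sup_of_normal_right' S.isPGroup' (NU_isPGroup hF hn u) h1
  have h3 := S.is_maximal' h2 le_sup_left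
  exact le_sup_right.trans (le_of_eq h3)

/-! ### root groups -/

theorem Tr_not_iso {v : Fin n → F} (c : F) (hv : ¬ hermForm n F q v v = 0) : Tr hF v c = 1 := by
  unfold Tr Eu
  rw [dif_neg]
  exact fun h => hv h.1

/-- the root group of `v` -/
def RX (v : Fin n → F) : Subgroup ↥(SU n F q) where
  carrier := {g | ∃ c : F, c ^ q = -c ∧ g = Tr hF v c}
  mul_mem' := by
    rintro _ _ ⟨c, hc, rfl⟩ ⟨c', hc', rfl⟩
    by_cases hv : hermForm n F q v v = 0
    · exact ⟨c + c', by rw [add_pow_q hF, hc, hc']; ring, Tr_mul hF hv hc hc'⟩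
    · exact ⟨c, hc, by rw [Tr_not_iso hF c hv, Tr_not_iso hF c' hv, mul_one]⟩
  one_mem' := by
    refine ⟨0, by rw [zero_pow (q_ne_zero hF), neg_zero], ?_⟩
    by_cases hv : hermForm n F q v v = 0
    · exact (Tr_zero hF hv).symm
    · exact (Tr_not_iso hF 0 hv).symm
  inv_mem' := by
    rintro _ ⟨c, hc, rfl⟩
    by_cases hv : hermForm n F q v v = 0
    · exact ⟨-c, by rw [neg_pow_q hF, hc], Tr_inv hF hv hc⟩
    · exact ⟨c, hc, by rw [Tr_not_iso hF c hv, inv_one]⟩

theorem mem_RX {v : Fin n → F} {g : ↥(SU n F q)} :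
    g ∈ RX hF v ↔ ∃ c : F, c ^ q = -c ∧ g = Tr hF v c := Iff.rfl

theorem Tr_mem_NU {v : Fin n → F} {c : F} (hv : hermForm n F q v v = 0) (hc : c ^ q = -c) :
    Tr hF v c ∈ NU q v := Eu_mem_NU hF (val_tr hF hv hc)

/-- the centre of a Sylow `p`-subgroup fixing the isotropic vector `v` is the root group of `v` -/
theorem ZS_sylow (hn : 3 ≤ n) {p : ℕ} [Fact p.Prime] [CharP F p] (S : Sylow p ↥(SU n F q))
    {v : Fin n → F} (hv0 : v ≠ 0) (hvv : hermForm n F q v v = 0)
    (hS : ∀ g ∈ S, suMat g *ᵥ v = v) :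
    Cfsg.Agent.Lib.helper47.PSLn.ZS (S : Subgroup ↥(SU n F q)) = RX hF v := by
  have hNS := NU_le_sylow hF (by omega) S hS
  obtain ⟨w, hww, hvw⟩ := exists_partner hF n v hv0 hvv
  have H : HP q v w := ⟨hvv, hww, hvw⟩
  ext z
  rw [Cfsg.Agent.Lib.helper47.PSLn.mem_ZS, mem_RX]
  constructor
  · rintro ⟨hzS, hzc⟩
    have hzv := hS z hzS
    -- action of `z` on the complement
    have hzW : ∀ y, InW q v w y → suMat z *ᵥ y = y + hermForm n F q w (suMat z *ᵥ y) • v := by
      intro y hy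
      obtain ⟨β, hβ⟩ := exists_val hF hvv hy.1
      have h1 := hzc _ (hNS (Eu_mem_NU hF hβ))
      have h2 : z * Eu hF v y β * z⁻¹ = Eu hF v y β := by
        rw [← h1, mul_inv_cancel_right]
      rw [conj_Eu hF z hβ, hzv] at h2
      have hβ' : Val q v (suMat z *ᵥ y) β := by
        have := val_conj hF z hβ
        rwa [hzv] at this
      have h3 := congrArg (fun g => suMat g *ᵥ w) h2
      simp only [Eu_mulVec hF hβ', Eu_mulVec hF hβ, H.wu hF, hy.w hF] at h3
      obtain ⟨zy, hzy⟩ : ∃ zy, zy = suMat z *ᵥ y := ⟨_, rfl⟩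
      rw [← hzy] at h3 ⊢
      linear_combination (norm := module) h3
    have hzN : z ∈ NU q v := by
      refine ⟨hzv, fun x hx => ?_⟩
      have h1 := decomp0 (q := q) v w x
      rw [hx, zero_smul, add_zero] at h1
      have h2 := hzW _ (proj0_mem hF H x)
      refine ⟨hermForm n F q w (suMat z *ᵥ proj0 q v w x), ?_⟩
      calc suMat z *ᵥ x = suMat z *ᵥ (hermForm n F q x w • v + proj0 q v w x) :=
            congrArg (fun t => suMat z *ᵥ t) h1
        _ = hermForm n F q x w • v + (proj0 q v w x +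
              hermForm n F q w (suMat z *ᵥ proj0 q v w x) • v) := by
            rw [Matrix.mulVec_add, Matrix.mulVec_smul, hzv, ← h2]
        _ = (hermForm n F q x w • v + proj0 q v w x) +
              hermForm n F q w (suMat z *ᵥ proj0 q v w x) • v := by abel
        _ = x + hermForm n F q w (suMat z *ᵥ proj0 q v w x) • v := by rw [← h1]
    obtain ⟨y₀, β₀, hy₀, hv₀, rfl⟩ := (mem_NU_iff_Eu hF H z).mp hzN
    have hsym : ∀ y, InW q v w y → hermForm n F q y y₀ = hermForm n F q y₀ y := by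
      intro y hy
      obtain ⟨β, hβ⟩ := exists_val hF hvv hy.1
      have h1 := hzc _ (hNS (Eu_mem_NU hF hβ))
      rw [Eu_mul hF hβ hv₀, Eu_mul hF hv₀ hβ] at h1
      have h2 := (Eu_inj hF H (hy.add hy₀) (hy₀.add hy) (val_mul hF hβ hv₀) (val_mul hF hv₀ hβ) h1).2
      linear_combination h2
    have hy₀0 : y₀ = 0 := by
      apply W_nondeg hF H hy₀
      intro y hy
      obtain ⟨a, ha⟩ := exists_pow_q_ne hF
      have h1 := hsym y hy
      have h2 := hsym (a • y) (hy.smul a)
      rw [hermForm_smul_left, hermForm_smul_right, ← h1] at h2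
      have h3 : (a - a ^ q) * hermForm n F q y y₀ = 0 := by linear_combination h2
      rcases mul_eq_zero.mp h3 with h4 | h4
      · exact absurd (sub_eq_zero.mp h4).symm ha
      · exact h4
    subst hy₀0
    exact ⟨β₀, skew_of_val hF hv₀, rfl⟩
  · rintro ⟨c, hc, rfl⟩
    refine ⟨hNS (Tr_mem_NU hF hvv hc), fun y hy => ?_⟩
    have h1 := Tr_conj hF y hvv hc
    rw [hS y hy] at h1
    calc y * Tr hF v c = y * Tr hF v c * y⁻¹ * y := by rw [inv_mul_cancel_right]
      _ = Tr hF v c * y := by rw [h1]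

end

end Cfsg.Agent.Lib.helper50.PSUA
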