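import Mathlib
import Cfsg.Prelude.Def_LieTypeDatum
import Cfsg.Agent.Lib.helper50.PSUA2

/-!
# Automorphisms of `PSU_n`: automorphisms permute the root groups; normalisation

Every automorphism maps the image of a root group to the image of a root group.  Commuting of
root groups is orthogonality.  After composing with an inner automorphism, an automorphism fixes
the root groups of a given hyperbolic pair.
-/

set_option autoImplicit false

namespace Cfsg.Agent.Lib.helper50.PSUA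

open Matrix Cfsg Cfsg.Agent.Lib.helper17 Cfsg.Agent.Lib.helper99

universe u

section
variable {n q : ℕ} {F : Type u} [Field F] [Fintype F] (hF : Fintype.card F = q ^ 2)

theorem map_mul_aut' {G : Type*} [Group G] (H : Subgroup G) (α β : MulAut G) :
    H.map (α * β).toMonoidHom = (H.map β.toMonoidHom).map α.toMonoidHom := by
  rw [Subgroup.map_map]
  rfl

include hF

/-- the image of the root group of `v` in `PSU_n` -/
def Xb (v : Fin n → F) : Subgroup (PSU n F q) :=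
  (RX hF v).map (QuotientGroup.mk' (Subgroup.center ↥(SU n F q)))

theorem mem_Xb {v : Fin n → F} {x : PSU n F q} :
    x ∈ Xb hF v ↔ ∃ c : F, c ^ q = -c ∧ x = QuotientGroup.mk (Tr hF v c) := by
  unfold Xb
  rw [Subgroup.mem_map]
  constructor
  · rintro ⟨g, ⟨c, hc, rfl⟩, rfl⟩
    exact ⟨c, hc, rfl⟩
  · rintro ⟨c, hc, rfl⟩
    exact ⟨_, ⟨c, hc, rfl⟩, rfl⟩

theorem conj_mk_Tr (g : ↥(SU n F q)) {v : Fin n → F} {c : F} (hvv : hermForm n F q v v = 0)
    (hc : c ^ q = -c) :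
    (QuotientGroup.mk g : PSU n F q) * QuotientGroup.mk (Tr hF v c) * (QuotientGroup.mk g)⁻¹ =
      QuotientGroup.mk (Tr hF (suMat g *ᵥ v) c) := by
  rw [← Tr_conj hF g hvv hc]
  rfl

theorem Xb_conj (g : ↥(SU n F q)) {v : Fin n → F} (hvv : hermForm n F q v v = 0) :
    (Xb hF v).map (MulAut.conj (QuotientGroup.mk g : PSU n F q)).toMonoidHom =
      Xb hF (suMat g *ᵥ v) := by
  ext x
  rw [Subgroup.mem_map, mem_Xb]
  constructor
  · rintro ⟨y, hy, rfl⟩
    obtain ⟨c, hc, rfl⟩ := (mem_Xb hF).mp hy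
    exact ⟨c, hc, conj_mk_Tr hF g hvv hc⟩
  · rintro ⟨c, hc, rfl⟩
    exact ⟨_, (mem_Xb hF).mpr ⟨c, hc, rfl⟩, conj_mk_Tr hF g hvv hc⟩

theorem Xb_smul {v : Fin n → F} (hvv : hermForm n F q v v = 0) {l : F} (hl : l ≠ 0) :
    Xb hF (l • v) = Xb hF v := by
  ext x
  rw [mem_Xb, mem_Xb]
  constructor
  · rintro ⟨c, hc, rfl⟩
    exact ⟨l * l ^ q * c, skew_smul_norm hF l hc, by rw [Tr_smul hF l hvv hc]⟩
  · rintro ⟨c, hc, rfl⟩
    have hN : l * l ^ q ≠ 0 := mul_ne_zero hl (pow_ne_zero _ hl)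
    have hc' : ((l * l ^ q)⁻¹ * c) ^ q = -((l * l ^ q)⁻¹ * c) := by
      rw [mul_pow, inv_pow, mul_pow, pow_q_pow_q hF, hc, mul_comm (l ^ q) l]
      ring
    refine ⟨(l * l ^ q)⁻¹ * c, hc', ?_⟩
    rw [Tr_smul hF l hvv hc', ← mul_assoc, mul_inv_cancel₀ hN, one_mul]

/-- the centre of the image of a Sylow `p`-subgroup is the image of a root group -/
theorem ZS_map_mk (hn : 3 ≤ n) {p : ℕ} [Fact p.Prime] [CharP F p] (S : Sylow p ↥(SU n F q))
    {v : Fin n → F} (hv0 : v ≠ 0) (hvv : hermForm n F q v v = 0)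
    (hS : ∀ g ∈ S, suMat g *ᵥ v = v) :
    Cfsg.Agent.Lib.helper47.PSLn.ZS
      ((S : Subgroup ↥(SU n F q)).map (QuotientGroup.mk' (Subgroup.center ↥(SU n F q)))) =
      Xb hF v := by
  ext x
  rw [Cfsg.Agent.Lib.helper47.PSLn.mem_ZS]
  constructor
  · rintro ⟨⟨s, hs, rfl⟩, hc⟩
    have h1 : s ∈ Cfsg.Agent.Lib.helper47.PSLn.ZS (S : Subgroup ↥(SU n F q)) := by
      rw [Cfsg.Agent.Lib.helper47.PSLn.mem_ZS]
      refine ⟨hs, fun y hy => ?_⟩
      have h2 := hc (QuotientGroup.mk' _ y) ⟨y, hy, rfl⟩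
      have h3 : (QuotientGroup.mk (y * s) : PSU n F q) = QuotientGroup.mk (s * y) := h2
      apply eq_of_mk_eq_of_fix hF (by omega) h3 v hv0
      rw [suMat_mul, suMat_mul, ← Matrix.mulVec_mulVec, ← Matrix.mulVec_mulVec, hS s hs, hS y hy,
        hS s hs]
    rw [ZS_sylow hF hn S hv0 hvv hS] at h1
    exact ⟨s, h1, rfl⟩
  · rintro ⟨g, hg, rfl⟩
    have hg' : g ∈ Cfsg.Agent.Lib.helper47.PSLn.ZS (S : Subgroup ↥(SU n F q)) := by
      rw [ZS_sylow hF hn S hv0 hvv hS]
      exact hg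
    rw [Cfsg.Agent.Lib.helper47.PSLn.mem_ZS] at hg'
    obtain ⟨hgS, hgc⟩ := hg'
    refine ⟨⟨g, hgS, rfl⟩, ?_⟩
    rintro _ ⟨y, hy, rfl⟩
    rw [← map_mul, ← map_mul, hgc y hy]

theorem eichIn (hn : 3 ≤ n) (h32 : ¬ (n = 3 ∧ q = 2)) : EichIn n F q := by
  apply eichIn_of hF n
  have := two_le_of_card_eq_sq hF
  by_cases h4 : 4 ≤ n
  · exact Or.inl h4
  · right
    have h3 : n = 3 := by omega
    by_contra hq
    exact h32 ⟨h3, by omega⟩

/-- **Every automorphism of `PSU_n` maps root groups to root groups.** -/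
theorem exists_root_image (hn : 3 ≤ n) (h32 : ¬ (n = 3 ∧ q = 2)) {p f : ℕ} [Fact p.Prime]
    (hq : q = p ^ f) (hf : 1 ≤ f) (α : MulAut (PSU n F q)) {v : Fin n → F} (hv0 : v ≠ 0)
    (hvv : hermForm n F q v v = 0) :
    ∃ v', v' ≠ 0 ∧ hermForm n F q v' v' = 0 ∧ (Xb hF v).map α.toMonoidHom = Xb hF v' := by
  haveI := charP_of_card hF hq hf
  haveI := finite_SU (n := n) (q := q) (F := F)
  haveI := finite_PSU (n := n) (q := q) (F := F)
  obtain ⟨S⟩ : Nonempty (Sylow p ↥(SU n F q)) := inferInstance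
  obtain ⟨v₀, hv₀0, hv₀v₀, hSv₀⟩ := exists_iso_fixed_of_pgroup hF (show 2 ≤ n by omega)
    (S : Subgroup ↥(SU n F q)) S.isPGroup'
  obtain ⟨Sb, hSb⟩ : ∃ Sb, Sb = (S : Subgroup ↥(SU n F q)).map
    (QuotientGroup.mk' (Subgroup.center ↥(SU n F q))) := ⟨_, rfl⟩
  have hZ : Cfsg.Agent.Lib.helper47.PSLn.ZS Sb = Xb hF v₀ := by
    rw [hSb]
    exact ZS_map_mk hF hn S hv₀0 hv₀v₀ hSv₀
  have hP : IsPGroup p Sb := by
    rw [hSb]
    exact S.isPGroup'.map _
  have hI : ¬ p ∣ Sb.index := by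
    rw [hSb]
    exact fun h => S.not_dvd_index (h.trans (Subgroup.index_map_dvd _ (QuotientGroup.mk'_surjective _)))
  have key : ∀ α' : MulAut (PSU n F q), ∃ g : ↥(SU n F q),
      (Xb hF v₀).map α'.toMonoidHom = Xb hF (suMat g *ᵥ v₀) := by
    intro α'
    have hP' : IsPGroup p (Sb.map α'.toMonoidHom) := hP.map _
    have hI' : ¬ p ∣ (Sb.map α'.toMonoidHom).index := by
      have := Subgroup.index_map_equiv Sb α'
      intro h
      apply hI
      rw [← this]
      exact h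
    obtain ⟨gb, hgb⟩ := Cfsg.Agent.Lib.helper47.PSLn.exists_conj_eq_of_index _ _ hP hP' hI hI'
    obtain ⟨g, rfl⟩ := QuotientGroup.mk_surjective gb
    refine ⟨g, ?_⟩
    rw [← hZ, ← Cfsg.Agent.Lib.helper47.PSLn.ZS_map, hgb, Cfsg.Agent.Lib.helper47.PSLn.ZS_map, hZ,
      Xb_conj hF g hv₀v₀]
  obtain ⟨M, ⟨k, -, rfl⟩, hM⟩ := iso_trans hF n hn (eichIn hF hn h32) v₀ v hv₀0 hv0 hv₀v₀ hvv
  obtain ⟨g, hg⟩ := key (α * MulAut.conj (QuotientGroup.mk k))
  refine ⟨suMat g *ᵥ v₀, mulVec_ne_zero g hv₀0, by rw [suMat_isIsom, hv₀v₀], ?_⟩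
  rw [← hM, ← Xb_conj hF k hv₀v₀, ← map_mul_aut', hg]

/-! ### equality and commuting of root groups -/

theorem mk_Tr_ne_one (hn : 0 < n) {v : Fin n → F} {c : F} (hv0 : v ≠ 0)
    (hvv : hermForm n F q v v = 0) (hc : c ^ q = -c) (hc0 : c ≠ 0) :
    (QuotientGroup.mk (Tr hF v c) : PSU n F q) ≠ 1 := by
  intro h
  have h1 : (QuotientGroup.mk (Tr hF v c) : PSU n F q) = QuotientGroup.mk (1 : ↥(SU n F q)) := h
  have h2 := eq_of_mk_eq_of_fix hF hn h1 v hv0 (by
    rw [Tr_mulVec hF hvv hc, hvv, suMat_one, Matrix.one_mulVec]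
    simp)
  exact hc0 ((Tr_eq_one_iff hF hv0 hvv hc).mp h2)

/-- equal non-trivial root elements have proportional vectors -/
theorem span_of_mk_Tr_eq (hn : 0 < n) {v v' : Fin n → F} (hv0 : v ≠ 0)
    (hvv : hermForm n F q v v = 0) (hv'v' : hermForm n F q v' v' = 0) {c c' : F}
    (hc : c ^ q = -c) (hc' : c' ^ q = -c') (hc0 : c ≠ 0)
    (h : (QuotientGroup.mk (Tr hF v c) : PSU n F q) = QuotientGroup.mk (Tr hF v' c')) :
    ∃ a : F, v = a • v' := by
  obtain ⟨ζ, hζ⟩ := mk_eq_scalar hF hn h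
  have h1 := congrArg (fun M => M *ᵥ v) hζ
  simp only [Matrix.smul_mulVec, Tr_mulVec hF hvv hc, Tr_mulVec hF hv'v' hc', hvv, mul_zero,
    zero_smul, add_zero] at h1
  by_cases h0 : c' * hermForm n F q v v' = 0
  · rw [h0, zero_smul, add_zero] at h1
    have hζ1 : ζ = 1 := by
      have h2 : (1 - ζ) • v = 0 := by rw [sub_smul, one_smul, ← h1, sub_self]
      rcases smul_eq_zero.mp h2 with h3 | h3
      · linear_combination -h3
      · exact absurd h3 hv0
    rw [hζ1, one_smul] at hζ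
    obtain ⟨x, hxv⟩ : ∃ x, hermForm n F q x v ≠ 0 := by
      by_contra hcon
      push Not at hcon
      exact hv0 (herm_eq_zero_of_forall hF n v hcon)
    have h4 := congrArg (fun M => M *ᵥ x) hζ
    simp only [Tr_mulVec hF hvv hc, Tr_mulVec hF hv'v' hc'] at h4
    have h5 : (c' * hermForm n F q x v') • v' = (c * hermForm n F q x v) • v := add_left_cancel h4
    refine ⟨(c * hermForm n F q x v)⁻¹ * (c' * hermForm n F q x v'), ?_⟩
    rw [← smul_smul, h5, smul_smul, inv_mul_cancel₀ (mul_ne_zero hc0 hxv), one_smul]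
  · have h2 : (c' * hermForm n F q v v') • v' = (ζ - 1) • v := by
      rw [sub_smul, one_smul, ← h1]
      abel
    have hζ1 : ζ - 1 ≠ 0 := by
      intro h3
      rw [h3, zero_smul] at h2
      rcases smul_eq_zero.mp h2 with h4 | h4
      · exact h0 h4
      · rw [h4, hermForm_zero_right hF, mul_zero] at h0
        exact h0 rfl
    refine ⟨(ζ - 1)⁻¹ * (c' * hermForm n F q v v'), ?_⟩
    rw [← smul_smul, h2, smul_smul, inv_mul_cancel₀ hζ1, one_smul]

theorem Tr_comm_of_orth {v v' : Fin n → F} (hvv : hermForm n F q v v = 0)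
    (hv'v' : hermForm n F q v' v' = 0) {c c' : F} (hc : c ^ q = -c) (hc' : c' ^ q = -c')
    (h0 : hermForm n F q v v' = 0) : Tr hF v c * Tr hF v' c' = Tr hF v' c' * Tr hF v c := by
  have h0' := hermForm_eq_zero_symm hF n v v' h0
  apply suMat_inj
  rw [suMat_mul, suMat_mul, Matrix.ext_iff_mulVec]
  intro x
  rw [← Matrix.mulVec_mulVec, ← Matrix.mulVec_mulVec]
  simp only [Tr_mulVec hF hvv hc, Tr_mulVec hF hv'v' hc', hermForm_add_left, hermForm_smul_left,
    h0, h0', mul_zero, add_zero]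
  abel

/-- non-trivial root elements commute in `PSU_n` exactly when their vectors are orthogonal -/
theorem comm_iff_orth (hn : 0 < n) {v v' : Fin n → F} (hv0 : v ≠ 0)
    (hvv : hermForm n F q v v = 0) (hv'v' : hermForm n F q v' v' = 0) {c c' : F}
    (hc : c ^ q = -c) (hc' : c' ^ q = -c') (hc0 : c ≠ 0) (hc'0 : c' ≠ 0) :
    (QuotientGroup.mk (Tr hF v c) : PSU n F q) * QuotientGroup.mk (Tr hF v' c') =
      QuotientGroup.mk (Tr hF v' c') * QuotientGroup.mk (Tr hF v c) ↔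
    hermForm n F q v v' = 0 := by
  constructor
  · intro h
    by_contra h0
    have h0' : hermForm n F q v' v ≠ 0 := fun h1 => h0 (hermForm_eq_zero_symm hF n v' v h1)
    have h1 : (QuotientGroup.mk (Tr hF v c * Tr hF v' c') : PSU n F q) =
        QuotientGroup.mk (Tr hF v' c' * Tr hF v c) := h
    obtain ⟨ζ, hζ⟩ := mk_eq_scalar hF hn h1
    have h2 := congrArg (fun M => M *ᵥ v) hζ
    simp only [suMat_mul, Matrix.smul_mulVec] at h2
    rw [← Matrix.mulVec_mulVec, ← Matrix.mulVec_mulVec] at h2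
    simp only [Tr_mulVec hF hvv hc, Tr_mulVec hF hv'v' hc', hermForm_add_left, hermForm_smul_left,
      hvv, mul_zero, zero_smul, add_zero, zero_add] at h2
    have h3 := congrArg (fun z => hermForm n F q z v) h2
    simp only [hermForm_add_left, hermForm_smul_left, hvv, mul_zero, zero_add, add_zero] at h3
    have hζ1 : ζ = 1 := by
      have h4 : (c' * hermForm n F q v v' * hermForm n F q v' v) * (1 - ζ) = 0 := by
        linear_combination h3
      rcases mul_eq_zero.mp h4 with h5 | h5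
      · exact absurd h5 (mul_ne_zero (mul_ne_zero hc'0 h0) h0')
      · linear_combination -h5
    rw [hζ1, one_smul] at h2
    have h6 : (c * (c' * hermForm n F q v v' * hermForm n F q v' v)) • v = 0 := by
      have := h2.symm
      rwa [add_eq_left] at this
    rcases smul_eq_zero.mp h6 with h7 | h7
    · exact absurd h7 (mul_ne_zero hc0 (mul_ne_zero (mul_ne_zero hc'0 h0) h0'))
    · exact hv0 h7
  · intro h0
    show (QuotientGroup.mk (Tr hF v c * Tr hF v' c') : PSU n F q) =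
        QuotientGroup.mk (Tr hF v' c' * Tr hF v c)
    rw [Tr_comm_of_orth hF hvv hv'v' hc hc' h0]

end

end Cfsg.Agent.Lib.helper50.PSUA
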