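import Mathlib
import Cfsg.Prelude.Def_LieTypeDatum
import Cfsg.Agent.Lib.helper50.PSUA3

/-!
# Automorphisms of `PSU_n`: normalisation and invariance of the unipotent radical

* `exists_normalize`: after an inner automorphism, an automorphism fixes the root groups of a
  hyperbolic pair;
* `Op_le_NU`: a `p`-subgroup fixing `u` and normalised by the stabiliser of `u` lies in `N_u`;
* `NU_image`: an automorphism fixing the root group of `u` maps (the image of) `N_u` into itself.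
-/

set_option autoImplicit false

namespace Cfsg.Agent.Lib.helper50.PSUA

open Matrix Cfsg Cfsg.Agent.Lib.helper17 Cfsg.Agent.Lib.helper99

universe u

section
variable {n q : ℕ} {F : Type u} [Field F] [Fintype F] (hF : Fintype.card F = q ^ 2)
include hF

/-- the automorphism `α` maps the root group of `v` onto itself -/
def FixX (α : MulAut (PSU n F q)) (v : Fin n → F) : Prop :=
  (Xb hF v).map α.toMonoidHom = Xb hF v

theorem FixX.inv {α : MulAut (PSU n F q)} {v : Fin n → F} (h : FixX hF α v) : FixX hF α⁻¹ v := by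
  unfold FixX at h ⊢
  have h1 := map_mul_aut' (Xb hF v) α⁻¹ α
  rw [inv_mul_cancel, h] at h1
  rw [← h1]
  exact Subgroup.map_id _

theorem FixX.mul {α β : MulAut (PSU n F q)} {v : Fin n → F} (h : FixX hF α v) (h' : FixX hF β v) :
    FixX hF (α * β) v := by
  unfold FixX at h h' ⊢
  rw [map_mul_aut', h', h]

theorem FixX.apply {α : MulAut (PSU n F q)} {v : Fin n → F} (h : FixX hF α v) {c : F}
    (hc : c ^ q = -c) :
    ∃ c' : F, c' ^ q = -c' ∧ α (QuotientGroup.mk (Tr hF v c)) = QuotientGroup.mk (Tr hF v c') := by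
  have h1 : α (QuotientGroup.mk (Tr hF v c)) ∈ (Xb hF v).map α.toMonoidHom :=
    ⟨_, (mem_Xb hF).mpr ⟨c, hc, rfl⟩, rfl⟩
  rw [h] at h1
  exact (mem_Xb hF).mp h1

theorem FixX.surj {α : MulAut (PSU n F q)} {v : Fin n → F} (h : FixX hF α v) {c : F}
    (hc : c ^ q = -c) :
    ∃ c' : F, c' ^ q = -c' ∧ α (QuotientGroup.mk (Tr hF v c')) = QuotientGroup.mk (Tr hF v c) := by
  have h1 : (QuotientGroup.mk (Tr hF v c) : PSU n F q) ∈ Xb hF v := (mem_Xb hF).mpr ⟨c, hc, rfl⟩
  rw [← h] at h1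
  obtain ⟨y, hy, hy'⟩ := h1
  obtain ⟨c', hc', rfl⟩ := (mem_Xb hF).mp hy
  exact ⟨c', hc', hy'⟩

/-- the element `x` of `PSU_n` normalises the root group of `v` -/
def NormX (x : PSU n F q) (v : Fin n → F) : Prop :=
  ∀ c : F, c ^ q = -c → ∃ c' : F, c' ^ q = -c' ∧
    x * QuotientGroup.mk (Tr hF v c) * x⁻¹ = QuotientGroup.mk (Tr hF v c')

theorem normX_of_smul {g : ↥(SU n F q)} {v : Fin n → F} (hvv : hermForm n F q v v = 0) {a : F}
    (hg : suMat g *ᵥ v = a • v) : NormX hF (QuotientGroup.mk g : PSU n F q) v := by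
  intro c hc
  refine ⟨a * a ^ q * c, skew_smul_norm hF a hc, ?_⟩
  rw [conj_mk_Tr hF g hvv hc, hg, Tr_smul hF a hvv hc]

theorem smul_of_normX (hn : 0 < n) {g : ↥(SU n F q)} {v : Fin n → F} (hv0 : v ≠ 0)
    (hvv : hermForm n F q v v = 0) (h : NormX hF (QuotientGroup.mk g : PSU n F q) v) :
    ∃ a : F, a ≠ 0 ∧ suMat g *ᵥ v = a • v := by
  obtain ⟨κ, hκ0, hκ⟩ := exists_skew_ne_zero hF
  obtain ⟨c', hc', h1⟩ := h κ hκ
  rw [conj_mk_Tr hF g hvv hκ] at h1
  have hgv0 := mulVec_ne_zero g hv0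
  obtain ⟨a, ha⟩ := span_of_mk_Tr_eq hF hn hgv0 (by rw [suMat_isIsom, hvv]) hvv hκ hc' hκ0 h1
  refine ⟨a, ?_, ha⟩
  rintro rfl
  rw [zero_smul] at ha
  exact hgv0 ha

theorem NormX.map {α : MulAut (PSU n F q)} {v : Fin n → F} (hα : FixX hF α v) {x : PSU n F q}
    (h : NormX hF x v) : NormX hF (α x) v := by
  intro c hc
  obtain ⟨c₀, hc₀, h0⟩ := hα.surj hF hc
  obtain ⟨c₁, hc₁, h1⟩ := h c₀ hc₀
  obtain ⟨c₂, hc₂, h2⟩ := hα.apply hF hc₁
  refine ⟨c₂, hc₂, ?_⟩
  rw [← h0, ← map_inv, ← map_mul, ← map_mul, h1, h2]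

/-- **Normalisation**: after composing with an inner automorphism, an automorphism fixes the root
groups of a given hyperbolic pair. -/
theorem exists_normalize (hn : 3 ≤ n) (h32 : ¬ (n = 3 ∧ q = 2)) {p f : ℕ} [Fact p.Prime]
    (hq : q = p ^ f) (hf : 1 ≤ f) (β : MulAut (PSU n F q)) {u w : Fin n → F} (H : HP q u w) :
    ∃ k : ↥(SU n F q),
      FixX hF (MulAut.conj (QuotientGroup.mk k : PSU n F q) * β) u ∧
      FixX hF (MulAut.conj (QuotientGroup.mk k : PSU n F q) * β) w := by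
  obtain ⟨u', hu'0, hu'u', hu'⟩ := exists_root_image hF hn h32 hq hf β H.u_ne H.uu
  obtain ⟨w', hw'0, hw'w', hw'⟩ := exists_root_image hF hn h32 hq hf β (H.w_ne hF) H.ww
  obtain ⟨κ, hκ0, hκ⟩ := exists_skew_ne_zero hF
  have hne : hermForm n F q u' w' ≠ 0 := by
    intro h0
    have h1 : β (QuotientGroup.mk (Tr hF u κ)) ∈ (Xb hF u).map β.toMonoidHom :=
      ⟨_, (mem_Xb hF).mpr ⟨κ, hκ, rfl⟩, rfl⟩
    have h2 : β (QuotientGroup.mk (Tr hF w κ)) ∈ (Xb hF w).map β.toMonoidHom :=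
      ⟨_, (mem_Xb hF).mpr ⟨κ, hκ, rfl⟩, rfl⟩
    rw [hu'] at h1
    rw [hw'] at h2
    obtain ⟨c₁, hc₁, e1⟩ := (mem_Xb hF).mp h1
    obtain ⟨c₂, hc₂, e2⟩ := (mem_Xb hF).mp h2
    have hcomm : β (QuotientGroup.mk (Tr hF u κ)) * β (QuotientGroup.mk (Tr hF w κ)) =
        β (QuotientGroup.mk (Tr hF w κ)) * β (QuotientGroup.mk (Tr hF u κ)) := by
      rw [e1, e2]
      show (QuotientGroup.mk (Tr hF u' c₁ * Tr hF w' c₂) : PSU n F q) =
        QuotientGroup.mk (Tr hF w' c₂ * Tr hF u' c₁)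
      rw [Tr_comm_of_orth hF hu'u' hw'w' hc₁ hc₂ h0]
    rw [← map_mul, ← map_mul] at hcomm
    have h3 := (comm_iff_orth hF (by omega) H.u_ne H.uu H.ww hκ hκ hκ0 hκ0).mp (β.injective hcomm)
    rw [H.uw] at h3
    exact one_ne_zero h3
  obtain ⟨c, hc⟩ : ∃ c : F, c = ((hermForm n F q u' w')⁻¹) ^ q := ⟨_, rfl⟩
  have hc0 : c ≠ 0 := by
    rw [hc]
    exact pow_ne_zero _ (inv_ne_zero hne)
  have H' : HP q u' (c • w') := by
    refine ⟨hu'u', ?_, ?_⟩
    · rw [hermForm_smul_left, hermForm_smul_right, hw'w', mul_zero, mul_zero]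
    · rw [hermForm_smul_right, hc, pow_q_pow_q hF, inv_mul_cancel₀ hne]
  obtain ⟨M, ⟨k, -, rfl⟩, hMu, hMw⟩ := hyp_trans hF n hn (eichIn hF hn h32) u' (c • w') u w
    H'.uu H'.ww H'.uw H.uu H.ww H.uw
  refine ⟨k, ?_, ?_⟩
  · unfold FixX
    rw [map_mul_aut', hu', Xb_conj hF k hu'u', hMu]
  · unfold FixX
    rw [map_mul_aut', hw', Xb_conj hF k hw'w']
    have h1 : suMat k *ᵥ w' = c⁻¹ • w := by
      rw [← hMw, Matrix.mulVec_smul, smul_smul, inv_mul_cancel₀ hc0, one_smul]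
    rw [h1, Xb_smul hF H.ww (inv_ne_zero hc0)]

/-! ### `N_u` is the largest normal `p`-subgroup of the stabiliser -/

omit [Fintype F] hF in
/-- the stabiliser of a vector -/
def FixV (q : ℕ) (u : Fin n → F) : Subgroup ↥(SU n F q) where
  carrier := {g | suMat g *ᵥ u = u}
  mul_mem' := by
    intro a b ha hb
    show suMat (a * b) *ᵥ u = u
    rw [suMat_mul, ← Matrix.mulVec_mulVec, hb, ha]
  one_mem' := by
    show suMat (1 : ↥(SU n F q)) *ᵥ u = u
    rw [suMat_one, Matrix.one_mulVec]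
  inv_mem' := fun {a} ha => inv_fix a ha

omit [Fintype F] hF in
theorem mem_FixV {u : Fin n → F} {g : ↥(SU n F q)} : g ∈ FixV q u ↔ suMat g *ᵥ u = u := Iff.rfl

omit [Fintype F] hF in
/-- the complement of a hyperbolic pair, as a subspace -/
def Wsub (q : ℕ) (u w : Fin n → F) : Submodule F (Fin n → F) where
  carrier := {y | InW q u w y}
  add_mem' := fun h h' => h.add h'
  zero_mem' := InW.zero
  smul_mem' := fun c _ h => h.smul c

omit [Fintype F] hF in
theorem mem_Wsub {u w y : Fin n → F} : y ∈ Wsub q u w ↔ InW q u w y := Iff.rfl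

/-- an Eichler element at `u` moving `w` to a prescribed isotropic vector -/
theorem exists_Eu_to {u w : Fin n → F} (H : HP q u w) {x : Fin n → F}
    (hxx : hermForm n F q x x = 0) (hxu : hermForm n F q x u = 1) :
    ∃ y β, InW q u w y ∧ Val q u y β ∧ suMat (Eu hF u y β) *ᵥ w = x := by
  obtain ⟨d, hd⟩ : ∃ d, d = x - w := ⟨_, rfl⟩
  have hdu : hermForm n F q d u = 0 := by
    rw [hd, hermForm_sub_left, H.wu hF, hxu, sub_self]
  have hx : x = w + proj0 q u w d + hermForm n F q d w • u := by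
    have h1 := decomp0 (q := q) u w d
    rw [hdu, zero_smul, add_zero] at h1
    have h2 : x = w + d := by rw [hd]; abel
    rw [h2]
    nth_rewrite 1 [h1]
    abel
  have hyW := proj0_mem hF H d
  have hval : Val q u (proj0 q u w d) (hermForm n F q d w) := by
    refine ⟨H.uu, hyW.1, ?_⟩
    have h3 := hxx
    rw [hx] at h3
    simp only [hermForm_add_left, hermForm_add_right hF, hermForm_smul_left, hermForm_smul_right,
      H.uu, H.ww, H.uw, H.wu hF, hyW.1, hyW.2, hyW.u hF, hyW.w hF] at h3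
    linear_combination h3
  refine ⟨proj0 q u w d, hermForm n F q d w, hyW, hval, ?_⟩
  rw [Eu_w hF H hyW hval, ← hx]

theorem exists_Eu_w {u w : Fin n → F} (H : HP q u w) (g : ↥(SU n F q))
    (hgu : suMat g *ᵥ u = u) :
    ∃ y β, InW q u w y ∧ Val q u y β ∧ suMat (Eu hF u y β) *ᵥ w = suMat g *ᵥ w := by
  apply exists_Eu_to hF H
  · rw [suMat_isIsom, H.ww]
  · have := suMat_isIsom g w u
    rw [hgu] at this
    rw [this, H.wu hF]

/-- a `p`-subgroup of `SU_n` fixing `u` and normalised by the stabiliser of `u` lies in `N_u` -/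
theorem Op_le_NU (hn : 3 ≤ n) {p : ℕ} [Fact p.Prime] [CharP F p] {u w : Fin n → F}
    (H : HP q u w) (Q : Subgroup ↥(SU n F q)) (hQ : IsPGroup p Q) (hQu : Q ≤ FixV q u)
    (hQn : ∀ k ∈ FixV q u, ∀ g ∈ Q, k * g * k⁻¹ ∈ Q) : Q ≤ NU q u := by
  have hNF : NU q u ≤ FixV q u := fun g hg => hg.1
  have h1 : Q ≤ Subgroup.normalizer (NU q u) := by
    intro g hg
    rw [Subgroup.mem_normalizer_iff]
    intro k
    exact NU_conj_iff hF g one_ne_zero (by rw [mem_FixV.mp (hQu hg), one_smul]) k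
  obtain ⟨Q', hQ'⟩ : ∃ Q', Q' = Q ⊔ NU q u := ⟨_, rfl⟩
  have hQ'p : IsPGroup p Q' := by
    rw [hQ']
    exact IsPGroup.to_sup_of_normal_right' hQ (NU_isPGroup hF (by omega) u) h1
  have hQ'u : Q' ≤ FixV q u := by
    rw [hQ']
    exact sup_le hQu hNF
  have hQ'n : ∀ k ∈ FixV q u, ∀ g ∈ Q', k * g * k⁻¹ ∈ Q' := by
    intro k hk g hg
    have h2 : Q'.map (MulAut.conj k).toMonoidHom ≤ Q' := by
      rw [hQ', Subgroup.map_sup]
      apply sup_le_sup
      · rintro _ ⟨x, hx, rfl⟩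
        exact hQn k hk x hx
      · rintro _ ⟨x, hx, rfl⟩
        exact NU_conj hF k one_ne_zero (by rw [mem_FixV.mp hk, one_smul]) hx
    exact h2 ⟨g, hg, rfl⟩
  obtain ⟨Q₀, hQ₀⟩ : ∃ Q₀, Q₀ = Q' ⊓ FixV q w := ⟨_, rfl⟩
  have hQ₀p : IsPGroup p Q₀ := by
    rw [hQ₀]
    exact hQ'p.to_le inf_le_left
  have hQ₀u : ∀ g ∈ Q₀, suMat g *ᵥ u = u := by
    intro g hg
    rw [hQ₀] at hg
    exact hQ'u hg.1
  have hQ₀w : ∀ g ∈ Q₀, suMat g *ᵥ w = w := by
    intro g hg
    rw [hQ₀] at hg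
    exact hg.2
  have hQ₀n : ∀ k : ↥(SU n F q), suMat k *ᵥ u = u → suMat k *ᵥ w = w →
      ∀ g ∈ Q₀, k⁻¹ * g * k ∈ Q₀ := by
    intro k hku hkw g hg
    have hg' := hg
    rw [hQ₀] at hg' ⊢
    refine ⟨?_, ?_⟩
    · have := hQ'n k⁻¹ (inv_fix k hku) g hg'.1
      rwa [inv_inv] at this
    · show suMat (k⁻¹ * g * k) *ᵥ w = w
      rw [suMat_mul, suMat_mul, ← Matrix.mulVec_mulVec, ← Matrix.mulVec_mulVec, hkw, hQ₀w g hg,
        inv_fix k hkw]
  -- the fixed vectors of `Q₀` in the complement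
  have hfix : ∀ x, InW q u w x → ∀ g ∈ Q₀, suMat g *ᵥ x = x := by
    have hinv : ∀ g ∈ Q₀, ∀ x ∈ Wsub q u w, suMat g *ᵥ x ∈ Wsub q u w := by
      intro g hg x hx
      refine ⟨?_, ?_⟩
      · have := suMat_isIsom g x u
        rw [hQ₀u g hg] at this
        rw [this]
        exact hx.1
      · have := suMat_isIsom g x w
        rw [hQ₀w g hg] at this
        rw [this]
        exact hx.2
    obtain ⟨z₁, hz₁, hz₁n⟩ := exists_norm_W hF hn H 1 (one_pow q)
    obtain ⟨z, hzW, hz0, hzfix⟩ := exists_fixed_in hF Q₀ hQ₀p (Wsub q u w) hinv ⟨z₁, hz₁, by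
      rintro rfl
      rw [hermForm_zero_left] at hz₁n
      exact zero_ne_one hz₁n⟩
    obtain ⟨Fixd, hFixd⟩ : ∃ Fixd : (Fin n → F) → Prop,
      Fixd = fun x => ∀ g ∈ Q₀, suMat g *ᵥ x = x := ⟨_, rfl⟩
    have hadd : ∀ x y, Fixd x → Fixd y → Fixd (x + y) := by
      intro x y hx hy
      rw [hFixd] at hx hy ⊢
      intro g hg
      rw [Matrix.mulVec_add, hx g hg, hy g hg]
    have hsmul : ∀ (c : F) x, Fixd x → Fixd (c • x) := by
      intro c x hx
      rw [hFixd] at hx ⊢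
      intro g hg
      rw [Matrix.mulVec_smul, hx g hg]
    have hsub : ∀ x y, Fixd x → Fixd y → Fixd (x - y) := by
      intro x y hx hy
      rw [hFixd] at hx hy ⊢
      intro g hg
      rw [Matrix.mulVec_sub, hx g hg, hy g hg]
    have hL : ∀ k : ↥(SU n F q), suMat k *ᵥ u = u → suMat k *ᵥ w = w →
        ∀ x, Fixd x → Fixd (suMat k *ᵥ x) := by
      intro k hku hkw x hx
      rw [hFixd] at hx ⊢
      intro g hg
      have h1 := hx _ (hQ₀n k hku hkw g hg)
      rw [suMat_mul, suMat_mul, ← Matrix.mulVec_mulVec, ← Matrix.mulVec_mulVec] at h1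
      have h2 : suMat k *ᵥ (suMat k⁻¹ *ᵥ (suMat g *ᵥ (suMat k *ᵥ x))) = suMat k *ᵥ x :=
        congrArg (fun t => suMat k *ᵥ t) h1
      rw [Matrix.mulVec_mulVec, suMat_mul_inv, Matrix.one_mulVec] at h2
      exact h2
    have hstep : ∀ e₁ e, Fixd e₁ → InW q u w e → hermForm n F q e e = 0 →
        hermForm n F q e₁ e ≠ 0 → Fixd e := by
      intro e₁ e h1 heW hee hne
      obtain ⟨κ, hκ0, hκ⟩ := exists_skew_ne_zero hF
      have h2 := hL (Tr hF e κ) (by rw [Tr_mulVec hF hee hκ, heW.u hF]; simp)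
        (by rw [Tr_mulVec hF hee hκ, heW.w hF]; simp) e₁ h1
      rw [Tr_mulVec hF hee hκ] at h2
      have h3 := hsub _ _ h2 h1
      rw [add_sub_cancel_left] at h3
      have h4 := hsmul (κ * hermForm n F q e₁ e)⁻¹ _ h3
      rwa [smul_smul, inv_mul_cancel₀ (mul_ne_zero hκ0 hne), one_smul] at h4
    have hzF : Fixd z := by
      rw [hFixd]
      exact hzfix
    intro x hx
    have hgoal : Fixd x := by
      by_cases hn4 : 4 ≤ n
      · obtain ⟨e₁, he₁W, he₁0, he₁e₁, hF1⟩ : ∃ e₁, InW q u w e₁ ∧ e₁ ≠ 0 ∧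
            hermForm n F q e₁ e₁ = 0 ∧ Fixd e₁ := by
          by_cases hzz : hermForm n F q z z = 0
          · exact ⟨z, hzW, hz0, hzz, hzF⟩
          · obtain ⟨e, heW, hee, hze⟩ := exists_iso_nonorth_W hF hn4 H hzW hzz
            refine ⟨e, heW, ?_, hee, hstep z e hzF heW hee hze⟩
            rintro rfl
            exact hze (hermForm_zero_right hF n z)
        obtain ⟨f₁, hf₁W, Hef⟩ := exists_partner_W hF H he₁W he₁0 he₁e₁
        have hF2 : Fixd f₁ := hstep e₁ f₁ hF1 hf₁W Hef.ww (by rw [Hef.uw]; exact one_ne_zero)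
        have hiso : ∀ e, InW q u w e → hermForm n F q e e = 0 → Fixd e := by
          intro e heW hee
          by_cases h1 : hermForm n F q e₁ e = 0
          · by_cases h2 : hermForm n F q f₁ e = 0
            · have h3 : Fixd (e + e₁) := by
                apply hstep f₁ (e + e₁) hF2 (heW.add he₁W)
                · simp only [hermForm_add_left, hermForm_add_right hF, hee, he₁e₁, h1,
                    hermForm_eq_zero_symm hF n e₁ e h1]
                  ring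
                · rw [hermForm_add_right hF, h2, Hef.wu hF, zero_add]
                  exact one_ne_zero
              have := hsub _ _ h3 hF1
              rwa [add_sub_cancel_right] at this
            · exact hstep f₁ e hF2 heW hee h2
          · exact hstep e₁ e hF1 heW hee h1
        obtain ⟨e₂, c, he₂W, he₂e₂, hxe⟩ := span_iso_W hF he₁W hf₁W Hef hx
        have h5 := hsub _ _ (hsub _ _ (hadd _ _ (hadd _ _ (hsmul (hermForm n F q x f₁) _ hF1)
          (hsmul (hermForm n F q x e₁) _ hF2)) (hiso e₂ he₂W he₂e₂)) (hsmul c _ hF1)) hF2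
        rw [← hxe] at h5
        exact h5
      · have h3 : n = 3 := by omega
        subst h3
        obtain ⟨z₃, hz₃W, -, hline⟩ := W_line3 hF H
        obtain ⟨t₀, ht₀⟩ := hline z hzW
        obtain ⟨t, ht⟩ := hline x hx
        have ht₀0 : t₀ ≠ 0 := by
          rintro rfl
          rw [zero_smul] at ht₀
          exact hz0 ht₀
        have hxz : x = (t * t₀⁻¹) • z := by
          rw [ht, ht₀, smul_smul, mul_assoc, inv_mul_cancel₀ ht₀0, mul_one]
        rw [hxz]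
        exact hsmul _ _ hzF
    rw [hFixd] at hgoal
    exact hgoal
  intro g hg
  obtain ⟨y, β, hy, hv, hw⟩ := exists_Eu_w hF H g (hQu hg)
  have hk : (Eu hF u y β)⁻¹ * g ∈ Q₀ := by
    rw [hQ₀]
    refine ⟨?_, ?_⟩
    · rw [hQ']
      exact Subgroup.mul_mem _ (Subgroup.inv_mem _ (Subgroup.mem_sup_right (Eu_mem_NU hF hv)))
        (Subgroup.mem_sup_left hg)
    · show suMat ((Eu hF u y β)⁻¹ * g) *ᵥ w = w
      rw [suMat_mul, ← Matrix.mulVec_mulVec, ← hw, suMat_inv_apply]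
  have h1 : (Eu hF u y β)⁻¹ * g = 1 := by
    apply suMat_inj
    rw [suMat_one]
    apply mat_ext_hyp hF n u w H.uu H.ww H.uw
    · rw [hQ₀u _ hk, Matrix.one_mulVec]
    · rw [hQ₀w _ hk, Matrix.one_mulVec]
    · intro x hxu hxw
      rw [hfix x ⟨hxu, hxw⟩ _ hk, Matrix.one_mulVec]
  have h2 : g = Eu hF u y β := by
    rw [← mul_one (Eu hF u y β), ← h1, mul_inv_cancel_left]
  rw [h2]
  exact Eu_mem_NU hF hv

end

end Cfsg.Agent.Lib.helper50.PSUA
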