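import Mathlib
import Cfsg.Prelude.Def_LieTypeDatum
import Cfsg.Agent.Lib.helper50.PSUA4

/-!
# Automorphisms of `PSU_n`: an automorphism fixing the root group of `u` preserves `N_u`
-/

set_option autoImplicit false

namespace Cfsg.Agent.Lib.helper50.PSUA

open Matrix Cfsg Cfsg.Agent.Lib.helper17 Cfsg.Agent.Lib.helper99

universe u

section
variable {n q : ℕ} {F : Type u} [Field F] [Fintype F] (hF : Fintype.card F = q ^ 2)

omit [Fintype F] in
theorem pow_smul_fix (M : Matrix (Fin n) (Fin n) F) {u : Fin n → F} {a : F} (h : M *ᵥ u = a • u)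
    (k : ℕ) : (M ^ k) *ᵥ u = a ^ k • u := by
  induction k with
  | zero => simp
  | succ k ih =>
    rw [pow_succ, ← Matrix.mulVec_mulVec, h, Matrix.mulVec_smul, ih, smul_smul, pow_succ, mul_comm]

/-- a scalar matrix in `SU_n` -/
noncomputable def scalSU (a : F) (ha : a ^ n = 1) (hN : a * a ^ q = 1) : ↥(SU n F q) :=
  mkSU (a • (1 : Matrix (Fin n) (Fin n) F))
    (by rw [Matrix.det_smul, Matrix.det_one, Fintype.card_fin, mul_one, ha])
    (fun x y => by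
      rw [Matrix.smul_mulVec, Matrix.one_mulVec, Matrix.smul_mulVec, Matrix.one_mulVec,
        hermForm_smul_left, hermForm_smul_right, ← mul_assoc, hN, one_mul])

omit [Fintype F] in
theorem suMat_scalSU (a : F) (ha : a ^ n = 1) (hN : a * a ^ q = 1) :
    suMat (scalSU (q := q) a ha hN) = a • (1 : Matrix (Fin n) (Fin n) F) := rfl

omit [Fintype F] in
theorem mk_scalSU_mul (a : F) (ha : a ^ n = 1) (hN : a * a ^ q = 1) (k : ↥(SU n F q)) :
    (QuotientGroup.mk (scalSU a ha hN * k) : PSU n F q) = QuotientGroup.mk k := by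
  have h1 : scalSU (q := q) a ha hN ∈ Subgroup.center ↥(SU n F q) := by
    rw [Subgroup.mem_center_iff]
    intro g
    apply suMat_inj
    rw [suMat_mul, suMat_mul, suMat_scalSU, Matrix.mul_smul, Matrix.smul_mul, Matrix.mul_one,
      Matrix.one_mul]
  have h2 : (QuotientGroup.mk (scalSU (q := q) a ha hN) : PSU n F q) = 1 :=
    (QuotientGroup.eq_one_iff _).mpr h1
  rw [QuotientGroup.mk_mul, h2, one_mul]

include hF

/-- **An automorphism fixing the root group of `u` maps the image of `N_u` into itself.** -/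
theorem NU_image (hn : 3 ≤ n) {p f : ℕ} [Fact p.Prime] (hq : q = p ^ f) (hf : 1 ≤ f)
    (α : MulAut (PSU n F q)) {u w : Fin n → F} (H : HP q u w) (hα : FixX hF α u) :
    ∀ g ∈ NU q u, ∃ g' ∈ NU q u, α (QuotientGroup.mk g) = QuotientGroup.mk g' := by
  haveI := charP_of_card hF hq hf
  obtain ⟨Qb, hQb⟩ : ∃ Qb : Subgroup (PSU n F q), Qb = ((NU q u).map
    (QuotientGroup.mk' (Subgroup.center ↥(SU n F q)))).map α.toMonoidHom := ⟨_, rfl⟩
  have hQbp : IsPGroup p Qb := by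
    rw [hQb]
    exact ((NU_isPGroup hF (by omega) u).map _).map _
  have hQbmem : ∀ x : PSU n F q, x ∈ Qb ↔ ∃ g ∈ NU q u, α (QuotientGroup.mk g) = x := by
    intro x
    rw [hQb]
    constructor
    · rintro ⟨_, ⟨g, hg, rfl⟩, rfl⟩
      exact ⟨g, hg, rfl⟩
    · rintro ⟨g, hg, rfl⟩
      exact ⟨_, ⟨g, hg, rfl⟩, rfl⟩
  obtain ⟨Q₁, hQ₁⟩ : ∃ Q₁ : Subgroup ↥(SU n F q), Q₁ = FixV q u ⊓
    Qb.comap (QuotientGroup.mk' (Subgroup.center ↥(SU n F q))) := ⟨_, rfl⟩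
  have hmem : ∀ k, k ∈ Q₁ ↔ suMat k *ᵥ u = u ∧ (QuotientGroup.mk k : PSU n F q) ∈ Qb := by
    intro k
    rw [hQ₁]
    rfl
  have hQ₁p : IsPGroup p Q₁ := by
    rintro ⟨k, hk⟩
    obtain ⟨hku, hkQ⟩ := (hmem k).mp hk
    obtain ⟨m, hm⟩ := hQbp ⟨_, hkQ⟩
    refine ⟨m, Subtype.ext ?_⟩
    have h1 : (QuotientGroup.mk (k ^ p ^ m) : PSU n F q) = QuotientGroup.mk (1 : ↥(SU n F q)) :=
      congrArg Subtype.val hm
    have h2 : suMat k *ᵥ u = (1 : F) • u := by rw [hku, one_smul]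
    show k ^ p ^ m = 1
    exact eq_of_mk_eq_of_fix hF (by omega) h1 u H.u_ne (by
      rw [suMat_pow, pow_smul_fix _ h2, one_pow, one_smul, suMat_one, Matrix.one_mulVec])
  have hQn : ∀ k ∈ FixV q u, ∀ g ∈ Q₁, k * g * k⁻¹ ∈ Q₁ := by
    intro k hk g hg
    obtain ⟨hgu, hgQ⟩ := (hmem g).mp hg
    rw [hmem]
    refine ⟨?_, ?_⟩
    · rw [suMat_mul, suMat_mul, ← Matrix.mulVec_mulVec, ← Matrix.mulVec_mulVec,
        inv_fix k (mem_FixV.mp hk), hgu, mem_FixV.mp hk]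
    · have hN : NormX hF (QuotientGroup.mk k : PSU n F q) u :=
        normX_of_smul hF H.uu (a := 1) (by rw [mem_FixV.mp hk, one_smul])
      have hN' := NormX.map hF (hα.inv hF) hN
      obtain ⟨k', hk'⟩ := QuotientGroup.mk_surjective (α⁻¹ (QuotientGroup.mk k))
      rw [← hk'] at hN'
      obtain ⟨a, ha0, hak⟩ := smul_of_normX hF (by omega) H.u_ne H.uu hN'
      obtain ⟨g₀, hg₀, hg₀'⟩ := (hQbmem _).mp hgQ
      rw [hQbmem]
      refine ⟨k' * g₀ * k'⁻¹, NU_conj hF k' ha0 hak hg₀, ?_⟩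
      have h1 : α (QuotientGroup.mk k') = QuotientGroup.mk k := by
        rw [hk']
        exact MulAut.apply_inv_self _ α _
      rw [QuotientGroup.mk_mul, QuotientGroup.mk_mul, QuotientGroup.mk_inv, map_mul, map_mul,
        map_inv, h1, hg₀']
      rfl
  have hle : Q₁ ≤ NU q u := Op_le_NU hF hn H Q₁ hQ₁p (fun k hk => ((hmem k).mp hk).1) hQn
  intro g hg
  have hx : α (QuotientGroup.mk g) ∈ Qb := (hQbmem _).mpr ⟨g, hg, rfl⟩
  have hN : NormX hF (QuotientGroup.mk g : PSU n F q) u :=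
    normX_of_smul hF H.uu (a := 1) (by rw [hg.1, one_smul])
  have hN' := NormX.map hF hα hN
  obtain ⟨k₀, hk₀⟩ := QuotientGroup.mk_surjective (α (QuotientGroup.mk g))
  rw [← hk₀] at hN' hx
  obtain ⟨a, ha0, hak⟩ := smul_of_normX hF (by omega) H.u_ne H.uu hN'
  obtain ⟨m, hm⟩ := hQbp ⟨_, hx⟩
  have h1 : (QuotientGroup.mk (k₀ ^ p ^ m) : PSU n F q) = QuotientGroup.mk (1 : ↥(SU n F q)) :=
    congrArg Subtype.val hm
  obtain ⟨ζ, hζ⟩ := mk_eq_scalar hF (by omega) h1.symm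
  rw [suMat_one] at hζ
  have h2 : a ^ p ^ m = ζ := by
    have h3 := congrArg (fun M => M *ᵥ u) hζ
    simp only [suMat_pow, Matrix.smul_mulVec, Matrix.one_mulVec] at h3
    rw [pow_smul_fix _ hak] at h3
    have h4 : (a ^ p ^ m - ζ) • u = 0 := by rw [sub_smul, h3, sub_self]
    rcases smul_eq_zero.mp h4 with h5 | h5
    · exact sub_eq_zero.mp h5
    · exact absurd h5 H.u_ne
  have h3 : ζ ^ n = 1 := by
    have := suMat_det (k₀ ^ p ^ m)
    rw [hζ, Matrix.det_smul, Matrix.det_one, Fintype.card_fin, mul_one] at this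
    exact this
  have h4 : ζ * ζ ^ q = 1 := by
    obtain ⟨z₁, -, hz₁⟩ := exists_norm_W hF hn H 1 (one_pow q)
    have := suMat_isIsom (k₀ ^ p ^ m) z₁ z₁
    rw [hζ, Matrix.smul_mulVec, Matrix.one_mulVec, hermForm_smul_left, hermForm_smul_right, hz₁] at this
    linear_combination this
  have hfrob : ∀ x : F, x ^ p ^ m = 1 → x = 1 := by
    intro x hx
    have h5 : (x - 1) ^ p ^ m = 0 := by
      rw [sub_pow_char_pow, hx, one_pow, sub_self]
    exact sub_eq_zero.mp (pow_eq_zero_iff (pow_ne_zero _ (Fact.out : p.Prime).ne_zero) |>.mp h5)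
  have h5 : a ^ n = 1 := hfrob _ (by rw [← pow_mul, mul_comm, pow_mul, h2, h3])
  have h6 : a * a ^ q = 1 := hfrob _ (by
    rw [mul_pow, ← pow_mul, mul_comm q, pow_mul, h2, h4])
  have h5' : a⁻¹ ^ n = 1 := by rw [inv_pow, h5, inv_one]
  have h6' : a⁻¹ * a⁻¹ ^ q = 1 := by rw [inv_pow, ← mul_inv, h6, inv_one]
  have hk₁ : scalSU a⁻¹ h5' h6' * k₀ ∈ Q₁ := by
    rw [hmem]
    refine ⟨?_, ?_⟩
    · rw [suMat_mul, suMat_scalSU, ← Matrix.mulVec_mulVec, hak, Matrix.smul_mulVec,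
        Matrix.one_mulVec, smul_smul, inv_mul_cancel₀ ha0, one_smul]
    · rw [mk_scalSU_mul]
      exact hx
  exact ⟨_, hle hk₁, by rw [← hk₀, mk_scalSU_mul]⟩

/-- the induced correspondence on Eichler elements -/
theorem Eu_image (hn : 3 ≤ n) {p f : ℕ} [Fact p.Prime] (hq : q = p ^ f) (hf : 1 ≤ f)
    (α : MulAut (PSU n F q)) {u w : Fin n → F} (H : HP q u w) (hα : FixX hF α u)
    (y : Fin n → F) (β : F) :
    ∃ (y' : Fin n → F) (β' : F), InW q u w y → Val q u y β →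
      (InW q u w y' ∧ Val q u y' β' ∧
        α (QuotientGroup.mk (Eu hF u y β)) = QuotientGroup.mk (Eu hF u y' β')) := by
  by_cases h : InW q u w y ∧ Val q u y β
  · obtain ⟨g', hg', hg⟩ := NU_image hF hn hq hf α H hα _ (Eu_mem_NU hF h.2)
    obtain ⟨y', β', hy', hv', rfl⟩ := (mem_NU_iff_Eu hF H g').mp hg'
    exact ⟨y', β', fun _ _ => ⟨hy', hv', hg⟩⟩
  · exact ⟨0, 0, fun h1 h2 => absurd ⟨h1, h2⟩ h⟩

end

end Cfsg.Agent.Lib.helper50.PSUA
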