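import Mathlib
import Cfsg.Prelude.Def_LieTypeDatum
import Cfsg.Agent.Lib.helper50.PSUA5

/-!
# Automorphisms of `PSU_n`: the action on the unipotent radical

`NS α u w A B` records that `α` maps the class of the Eichler element `E_u(y, β)` to that of
`E_u(A y, B y β)`.  We derive additivity of `A`, the function `a` on the centre, compatibility
with the commutator form and with the Levi elements, and a criterion for semilinearity on a line.
-/

set_option autoImplicit false

namespace Cfsg.Agent.Lib.helper50.PSUA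

open Matrix Cfsg Cfsg.Agent.Lib.helper17 Cfsg.Agent.Lib.helper99

universe u

section
variable {n q : ℕ} {F : Type u} [Field F] [Fintype F] (hF : Fintype.card F = q ^ 2)
include hF

/-- `α` maps the class of `E_u(y, β)` to the class of `E_u(A y, B y β)` -/
def NS (α : MulAut (PSU n F q)) (u w : Fin n → F) (A : (Fin n → F) → (Fin n → F))
    (B : (Fin n → F) → F → F) : Prop :=
  ∀ y β, InW q u w y → Val q u y β →
    (InW q u w (A y) ∧ Val q u (A y) (B y β) ∧
      α (QuotientGroup.mk (Eu hF u y β)) = QuotientGroup.mk (Eu hF u (A y) (B y β)))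

theorem Eu_mul_Tr {u y : Fin n → F} {β c : F} (hv : Val q u y β) (hc : c ^ q = -c) :
    Eu hF u y β * Tr hF u c = Eu hF u y (β + c) := by
  unfold Tr
  rw [Eu_mul hF hv (val_tr hF hv.1 hc), add_zero, hermForm_zero_left, sub_zero]

theorem val_add_skew {u y : Fin n → F} {β c : F} (hv : Val q u y β) (hc : c ^ q = -c) :
    Val q u y (β + c) := by
  refine ⟨hv.1, hv.2.1, ?_⟩
  rw [add_pow_q hF, hc]
  linear_combination hv.2.2

theorem skew_of_val_val {u y : Fin n → F} {β β' : F} (hv : Val q u y β) (hv' : Val q u y β') :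
    (β - β') ^ q = -(β - β') := by
  rw [sub_pow_q hF]
  linear_combination hv.2.2 - hv'.2.2

theorem exists_NS (hn : 3 ≤ n) {p f : ℕ} [Fact p.Prime] (hq : q = p ^ f) (hf : 1 ≤ f)
    (α : MulAut (PSU n F q)) {u w : Fin n → F} (H : HP q u w) (hα : FixX hF α u) :
    ∃ A B, NS hF α u w A B := by
  choose A' B' hAB using Eu_image hF hn hq hf α H hα
  choose β₀ hβ₀ using fun y : Fin n → F => exists_trace_eq hF (-(hermForm n F q y y))
    (by rw [neg_pow_q hF, hermForm_self_fixed hF])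
  have hval₀ : ∀ y, InW q u w y → Val q u y (β₀ y) := fun y hy =>
    ⟨H.uu, hy.1, by linear_combination hβ₀ y⟩
  refine ⟨fun y => A' y (β₀ y), B', ?_⟩
  intro y β hy hv
  obtain ⟨h1, h2, h3⟩ := hAB y β hy hv
  obtain ⟨h1', h2', h3'⟩ := hAB y (β₀ y) hy (hval₀ y hy)
  have hc := skew_of_val_val hF hv (hval₀ y hy)
  obtain ⟨c', hc', h4⟩ := hα.apply hF hc
  have h5 : Eu hF u y β = Eu hF u y (β₀ y) * Tr hF u (β - β₀ y) := by
    rw [Eu_mul_Tr hF (hval₀ y hy) hc]
    congr 1
    ring
  have h6 : (QuotientGroup.mk (Eu hF u (A' y β) (B' y β)) : PSU n F q) =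
      QuotientGroup.mk (Eu hF u (A' y (β₀ y)) (B' y (β₀ y) + c')) := by
    rw [← h3, h5, QuotientGroup.mk_mul, map_mul, h3', h4, ← QuotientGroup.mk_mul,
      Eu_mul_Tr hF h2' hc']
  have h7 := (mk_Eu_inj hF (by omega) H h1 h1' h2 (val_add_skew hF h2' hc') h6).1
  have h8 : A' y (β₀ y) = A' y β := h7.symm
  simp only
  rw [h8]
  exact ⟨h1, h2, h3⟩

variable {α : MulAut (PSU n F q)} {u w : Fin n → F} {A : (Fin n → F) → (Fin n → F)}
  {B : (Fin n → F) → F → F}

theorem NS.mul (hn : 0 < n) (hNS : NS hF α u w A B) (H : HP q u w) {y y' : Fin n → F} {β β' : F}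
    (hy : InW q u w y) (hy' : InW q u w y') (hv : Val q u y β) (hv' : Val q u y' β') :
    A (y + y') = A y + A y' ∧
      B (y + y') (β + β' - hermForm n F q y' y) =
        B y β + B y' β' - hermForm n F q (A y') (A y) := by
  obtain ⟨h1, h2, h3⟩ := hNS y β hy hv
  obtain ⟨h1', h2', h3'⟩ := hNS y' β' hy' hv'
  obtain ⟨h1'', h2'', h3''⟩ := hNS (y + y') _ (hy.add hy') (val_mul hF hv hv')
  have h4 : (QuotientGroup.mk (Eu hF u (A (y + y')) (B (y + y') (β + β' - hermForm n F q y' y))) :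
      PSU n F q) = QuotientGroup.mk (Eu hF u (A y + A y')
        (B y β + B y' β' - hermForm n F q (A y') (A y))) := by
    rw [← h3'', ← Eu_mul hF hv hv', QuotientGroup.mk_mul, map_mul, h3, h3', ← QuotientGroup.mk_mul,
      Eu_mul hF h2 h2']
  exact mk_Eu_inj hF hn H h1'' (h1.add h1') h2'' (val_mul hF h2 h2') h4

theorem NS.add (hn : 0 < n) (hNS : NS hF α u w A B) (H : HP q u w) {y y' : Fin n → F}
    (hy : InW q u w y) (hy' : InW q u w y') : A (y + y') = A y + A y' := by
  obtain ⟨β, hv⟩ := exists_val hF H.uu hy.1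
  obtain ⟨β', hv'⟩ := exists_val hF H.uu hy'.1
  exact (hNS.mul hF hn H hy hy' hv hv').1

theorem NS.zero (hn : 0 < n) (hNS : NS hF α u w A B) (H : HP q u w) : A 0 = 0 := by
  have := hNS.add hF hn H (InW.zero (q := q) (u := u) (w := w)) InW.zero
  rw [add_zero] at this
  exact left_eq_add.mp this

theorem NS.neg (hn : 0 < n) (hNS : NS hF α u w A B) (H : HP q u w) {y : Fin n → F}
    (hy : InW q u w y) : A (-y) = -A y := by
  have := hNS.add hF hn H hy hy.neg
  rw [add_neg_cancel, hNS.zero hF hn H] at this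
  exact (neg_eq_of_add_eq_zero_right this.symm).symm

theorem NS.sub (hn : 0 < n) (hNS : NS hF α u w A B) (H : HP q u w) {y y' : Fin n → F}
    (hy : InW q u w y) (hy' : InW q u w y') : A (y - y') = A y - A y' := by
  rw [sub_eq_add_neg, hNS.add hF hn H hy hy'.neg, hNS.neg hF hn H hy', ← sub_eq_add_neg]

theorem NS.mem (hNS : NS hF α u w A B) (H : HP q u w) {y : Fin n → F} (hy : InW q u w y) :
    InW q u w (A y) := by
  obtain ⟨β, hv⟩ := exists_val hF H.uu hy.1
  exact (hNS y β hy hv).1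

/-- the action on the centre -/
theorem NS.tr (hn : 0 < n) (hNS : NS hF α u w A B) (H : HP q u w) {c : F} (hc : c ^ q = -c) :
    (B 0 c) ^ q = -(B 0 c) ∧
      α (QuotientGroup.mk (Tr hF u c)) = QuotientGroup.mk (Tr hF u (B 0 c)) := by
  obtain ⟨-, h2, h3⟩ := hNS 0 c InW.zero (val_tr hF H.uu hc)
  rw [hNS.zero hF hn H] at h2 h3
  exact ⟨skew_of_val hF h2, h3⟩

theorem NS.add_skew (hn : 0 < n) (hNS : NS hF α u w A B) (H : HP q u w) {y : Fin n → F} {β c : F}
    (hy : InW q u w y) (hv : Val q u y β) (hc : c ^ q = -c) : B y (β + c) = B y β + B 0 c := by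
  have := (hNS.mul hF hn H hy InW.zero hv (val_tr hF H.uu hc)).2
  rw [add_zero, hermForm_zero_left, sub_zero, hNS.zero hF hn H, hermForm_zero_left, sub_zero] at this
  exact this

theorem NS.a_add (hn : 0 < n) (hNS : NS hF α u w A B) (H : HP q u w) {c c' : F} (hc : c ^ q = -c)
    (hc' : c' ^ q = -c') : B 0 (c + c') = B 0 c + B 0 c' :=
  hNS.add_skew hF hn H InW.zero (val_tr hF H.uu hc) hc'

theorem NS.a_inj (hn : 0 < n) (hNS : NS hF α u w A B) (H : HP q u w) {c : F} (hc : c ^ q = -c)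
    (h0 : B 0 c = 0) : c = 0 := by
  by_contra hc0
  have h1 := (hNS.tr hF hn H hc).2
  rw [h0, Tr_zero hF H.uu] at h1
  have h2 : α (QuotientGroup.mk (Tr hF u c)) = 1 := h1
  rw [map_eq_one_iff α α.injective] at h2
  exact mk_Tr_ne_one hF hn H.u_ne H.uu hc hc0 h2

/-- injectivity of `A` on the complement -/
theorem NS.inj (hn : 0 < n) (hNS : NS hF α u w A B) (H : HP q u w) (hα : FixX hF α u)
    {y : Fin n → F} (hy : InW q u w y) (h0 : A y = 0) : y = 0 := by
  obtain ⟨β, hv⟩ := exists_val hF H.uu hy.1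
  obtain ⟨-, h2, h3⟩ := hNS y β hy hv
  rw [h0] at h2 h3
  obtain ⟨c₀, hc₀, h4⟩ := hα.surj hF (skew_of_val hF h2)
  have h5 : α (QuotientGroup.mk (Eu hF u y β)) = α (QuotientGroup.mk (Tr hF u c₀)) := by
    rw [h3, h4]
    rfl
  have h6 := α.injective h5
  exact (mk_Eu_inj hF hn H hy InW.zero hv (val_tr hF H.uu hc₀) h6).1

/-- compatibility with the commutator form -/
theorem NS.omega (hn : 0 < n) (hNS : NS hF α u w A B) (H : HP q u w) {y y' : Fin n → F}
    (hy : InW q u w y) (hy' : InW q u w y') :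
    hermForm n F q (A y) (A y') - hermForm n F q (A y') (A y) =
      B 0 (hermForm n F q y y' - hermForm n F q y' y) := by
  obtain ⟨β, hv⟩ := exists_val hF H.uu hy.1
  obtain ⟨β', hv'⟩ := exists_val hF H.uu hy'.1
  have h1 := (hNS.mul hF hn H hy hy' hv hv').2
  have h2 := (hNS.mul hF hn H hy' hy hv' hv).2
  have hc : (hermForm n F q y y' - hermForm n F q y' y) ^ q =
      -(hermForm n F q y y' - hermForm n F q y' y) := by
    rw [sub_pow_q hF, hermForm_conj hF, hermForm_conj hF]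
    ring
  have h3 := hNS.add_skew hF hn H (hy'.add hy) (val_mul hF hv' hv) hc
  have h4 : β' + β - hermForm n F q y y' + (hermForm n F q y y' - hermForm n F q y' y) =
      β + β' - hermForm n F q y' y := by ring
  rw [h4, add_comm y' y] at h3
  rw [add_comm y' y] at h2
  linear_combination h2 - h1 + h3

/-! ### Levi elements -/

omit [Fintype F] hF in
/-- `t` scales `u` by `l` and `w` by `m` -/
def Lev (q : ℕ) (u w : Fin n → F) (t : ↥(SU n F q)) (l m : F) : Prop :=
  suMat t *ᵥ u = l • u ∧ suMat t *ᵥ w = m • w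

omit [Fintype F] hF in
theorem Lev.rel {t : ↥(SU n F q)} {l m : F} (H : HP q u w) (ht : Lev q u w t l m) :
    l * m ^ q = 1 := by
  have := suMat_isIsom t u w
  rw [ht.1, ht.2, hermForm_smul_left, hermForm_smul_right, H.uw] at this
  linear_combination this

omit [Fintype F] hF in
theorem Lev.l_ne {t : ↥(SU n F q)} {l m : F} (H : HP q u w) (ht : Lev q u w t l m) : l ≠ 0 := by
  rintro rfl
  have := ht.rel H
  rw [zero_mul] at this
  exact zero_ne_one this

omit [Fintype F] hF in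
theorem Lev.m_ne {t : ↥(SU n F q)} {l m : F} (H : HP q u w) (ht : Lev q u w t l m) : m ≠ 0 := by
  rintro rfl
  have hl := ht.rel H
  by_cases hq : q = 0
  · have h1 := H.uu
    have h2 := H.uw
    unfold hermForm at h1 h2
    rw [hq] at h1 h2
    simp only [pow_zero, mul_one] at h1 h2
    rw [h1] at h2
    exact zero_ne_one h2
  · rw [zero_pow hq, mul_zero] at hl
    exact zero_ne_one hl

theorem Lev.mem {t : ↥(SU n F q)} {l m : F} (H : HP q u w) (ht : Lev q u w t l m) {y : Fin n → F}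
    (hy : InW q u w y) : InW q u w (suMat t *ᵥ y) := by
  have hl := ht.l_ne H
  have hm := ht.m_ne H
  have h1 := suMat_isIsom t y u
  have h2 := suMat_isIsom t y w
  rw [ht.1, hermForm_smul_right, hy.1] at h1
  rw [ht.2, hermForm_smul_right, hy.2] at h2
  refine ⟨?_, ?_⟩
  · rcases mul_eq_zero.mp h1 with h3 | h3
    · exact absurd h3 (pow_ne_zero _ hl)
    · exact h3
  · rcases mul_eq_zero.mp h2 with h3 | h3
    · exact absurd h3 (pow_ne_zero _ hm)
    · exact h3

/-- conjugating an Eichler element at `u` by a Levi element -/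
theorem Lev.conj {t : ↥(SU n F q)} {l m : F} (H : HP q u w) (ht : Lev q u w t l m)
    {y : Fin n → F} {β : F} (hy : InW q u w y) (hv : Val q u y β) :
    InW q u w (l ^ q • (suMat t *ᵥ y)) ∧ Val q u (l ^ q • (suMat t *ᵥ y)) (l * l ^ q * β) ∧
      t * Eu hF u y β * t⁻¹ = Eu hF u (l ^ q • (suMat t *ᵥ y)) (l * l ^ q * β) := by
  have h1 := val_conj hF t hv
  rw [ht.1] at h1
  have h2 : Val q u (suMat t *ᵥ y) β := ⟨hv.1, (ht.mem hF H hy).1, h1.2.2⟩
  refine ⟨(ht.mem hF H hy).smul _, (val_smul hF l h2).2, ?_⟩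
  rw [conj_Eu hF t hv, ht.1, Eu_smul hF l h2]

/-- the image of a Levi element under an automorphism fixing both root groups is a Levi element -/
theorem exists_lev_image (hn : 0 < n) (H : HP q u w) (hαu : FixX hF α u) (hαw : FixX hF α w)
    {t : ↥(SU n F q)} {l m : F} (ht : Lev q u w t l m) :
    ∃ (t' : ↥(SU n F q)) (l' m' : F), α (QuotientGroup.mk t) = QuotientGroup.mk t' ∧
      Lev q u w t' l' m' := by
  obtain ⟨t', ht'⟩ := QuotientGroup.mk_surjective (α (QuotientGroup.mk t))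
  have h1 := NormX.map hF hαu (normX_of_smul hF H.uu ht.1)
  have h2 := NormX.map hF hαw (normX_of_smul hF H.ww ht.2)
  rw [← ht'] at h1 h2
  obtain ⟨l', -, hl'⟩ := smul_of_normX hF hn H.u_ne H.uu h1
  obtain ⟨m', -, hm'⟩ := smul_of_normX hF hn (H.w_ne hF) H.ww h2
  exact ⟨t', l', m', ht'.symm, hl', hm'⟩

/-- compatibility of `A`, `B` with Levi elements -/
theorem NS.torus (hn : 0 < n) (hNS : NS hF α u w A B) (H : HP q u w) {t t' : ↥(SU n F q)}
    {l m l' m' : F} (ht : Lev q u w t l m) (ht' : Lev q u w t' l' m')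
    (hα : α (QuotientGroup.mk t) = QuotientGroup.mk t') {y : Fin n → F} {β : F}
    (hy : InW q u w y) (hv : Val q u y β) :
    A (l ^ q • (suMat t *ᵥ y)) = l' ^ q • (suMat t' *ᵥ A y) ∧
      B (l ^ q • (suMat t *ᵥ y)) (l * l ^ q * β) = l' * l' ^ q * B y β := by
  obtain ⟨h1, h2, h3⟩ := hNS y β hy hv
  obtain ⟨c1, c2, c3⟩ := ht.conj hF H hy hv
  obtain ⟨d1, d2, d3⟩ := ht'.conj hF H h1 h2
  obtain ⟨e1, e2, e3⟩ := hNS _ _ c1 c2
  have h4 : (QuotientGroup.mk (Eu hF u (A (l ^ q • (suMat t *ᵥ y)))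
      (B (l ^ q • (suMat t *ᵥ y)) (l * l ^ q * β))) : PSU n F q) =
      QuotientGroup.mk (Eu hF u (l' ^ q • (suMat t' *ᵥ A y)) (l' * l' ^ q * B y β)) := by
    rw [← e3, ← c3, ← d3, QuotientGroup.mk_mul, QuotientGroup.mk_mul, QuotientGroup.mk_inv, map_mul,
      map_mul, map_inv, hα, h3]
    rfl
  exact mk_Eu_inj hF hn H e1 d1 e2 d2 h4

omit hF in
/-- an additive map that is multiplicative against an additively generating set is a ring
automorphism (up to normalisation) -/
theorem exists_ringEquiv_of_mul (φ : F → F) (hadd : ∀ a b, φ (a + b) = φ a + φ b)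
    (hinj : ∀ a, φ a = 0 → a = 0) (S : Set F) (hS : ∀ x : F, x ∈ AddSubgroup.closure S)
    (hmul : ∀ s ∈ S, ∀ c, φ (s * c) * φ 1 = φ s * φ c) :
    ∃ σ : F ≃+* F, ∀ c, φ c = σ c * φ 1 := by
  have h1 : φ 1 ≠ 0 := fun h => one_ne_zero (hinj 1 h)
  have h0 : φ 0 = 0 := by
    have := hadd 0 0
    rw [add_zero] at this
    exact left_eq_add.mp this
  have hneg : ∀ a, φ (-a) = -φ a := by
    intro a
    have := hadd a (-a)
    rw [add_neg_cancel, h0] at this
    exact (neg_eq_of_add_eq_zero_right this.symm).symm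
  have hall : ∀ a c, φ (a * c) * φ 1 = φ a * φ c := by
    intro a
    refine AddSubgroup.closure_induction (p := fun a _ => ∀ c, φ (a * c) * φ 1 = φ a * φ c)
      (fun s hs => hmul s hs) ?_ ?_ ?_ (hS a)
    · intro c
      rw [zero_mul, h0, zero_mul, zero_mul]
    · intro a b _ _ ha hb c
      rw [add_mul, hadd, hadd, add_mul, add_mul, ha c, hb c]
    · intro a _ ha c
      rw [neg_mul, hneg, hneg, neg_mul, neg_mul, ha c]
  let ψ : F →+* F :=
    { toFun := fun c => φ c / φ 1
      map_one' := div_self h1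
      map_mul' := by
        intro a b
        show φ (a * b) / φ 1 = φ a / φ 1 * (φ b / φ 1)
        rw [div_mul_div_comm, ← hall a b, mul_div_mul_right _ _ h1]
      map_zero' := by
        show φ 0 / φ 1 = 0
        rw [h0, zero_div]
      map_add' := by
        intro a b
        show φ (a + b) / φ 1 = φ a / φ 1 + φ b / φ 1
        rw [hadd, add_div] }
  have hbij : Function.Bijective ψ :=
    (Finite.injective_iff_bijective).mp ψ.injective
  refine ⟨RingEquiv.ofBijective ψ hbij, fun c => ?_⟩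
  show φ c = φ c / φ 1 * φ 1
  rw [div_mul_cancel₀ _ h1]

/-- semilinearity of `A` on a line, from a family of Levi elements acting on the line by scalars
that additively generate the field -/
theorem NS.line_semilinear (hn : 0 < n) (hNS : NS hF α u w A B) (H : HP q u w)
    (hαu : FixX hF α u) {y₁ y₁' : Fin n → F} (hy₁ : InW q u w y₁) (hy₁0 : y₁ ≠ 0)
    (hline : ∀ c : F, ∃ d : F, A (c • y₁) = d • y₁')
    (S : Set F) (hS : ∀ x : F, x ∈ AddSubgroup.closure S)
    (htor : ∀ s ∈ S, ∃ (t t' : ↥(SU n F q)) (l m l' m' ν' : F), Lev q u w t l m ∧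
      Lev q u w t' l' m' ∧ α (QuotientGroup.mk t) = QuotientGroup.mk t' ∧
      l ^ q • (suMat t *ᵥ y₁) = s • y₁ ∧ suMat t' *ᵥ y₁' = ν' • y₁') :
    ∃ σ : F ≃+* F, ∀ c : F, A (c • y₁) = σ c • A y₁ := by
  choose φ hφ using hline
  have hy₁'0 : y₁' ≠ 0 := by
    rintro rfl
    have h1 := hφ 1
    rw [one_smul, smul_zero] at h1
    exact hy₁0 (hNS.inj hF hn H hαu hy₁ h1)
  have hadd : ∀ a b, φ (a + b) = φ a + φ b := by
    intro a b
    have h1 := hNS.add hF hn H (hy₁.smul a) (hy₁.smul b)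
    rw [← add_smul, hφ, hφ, hφ, ← add_smul] at h1
    exact smul_left_injective F hy₁'0 h1
  have hinj : ∀ a, φ a = 0 → a = 0 := by
    intro a ha
    have h1 := hφ a
    rw [ha, zero_smul] at h1
    have h2 := hNS.inj hF hn H hαu (hy₁.smul a) h1
    rcases smul_eq_zero.mp h2 with h3 | h3
    · exact h3
    · exact absurd h3 hy₁0
  have hmul : ∀ s ∈ S, ∀ c, φ (s * c) * φ 1 = φ s * φ c := by
    intro s hs c
    obtain ⟨t, t', l, m, l', m', ν', ht, ht', hα, hs1, hν'⟩ := htor s hs
    have key : ∀ c, φ (s * c) = l' ^ q * ν' * φ c := by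
      intro c
      obtain ⟨β, hv⟩ := exists_val hF H.uu (hy₁.smul c).1
      have h1 := (hNS.torus hF hn H ht ht' hα (hy₁.smul c) hv).1
      rw [Matrix.mulVec_smul, smul_comm, hs1, smul_smul, mul_comm c s, hφ, hφ, Matrix.mulVec_smul,
        hν', smul_smul, smul_smul] at h1
      have h2 := smul_left_injective F hy₁'0 h1
      rw [h2]
      ring
    rw [key c]
    have h3 := key 1
    rw [mul_one] at h3
    rw [h3]
    ring
  obtain ⟨σ, hσ⟩ := exists_ringEquiv_of_mul φ hadd hinj S hS hmul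
  refine ⟨σ, fun c => ?_⟩
  have h1 := hφ 1
  rw [one_smul] at h1
  rw [hφ, h1, hσ c, smul_smul]

end

end Cfsg.Agent.Lib.helper50.PSUA
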