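import Mathlib
import Cfsg.Prelude.Def_LieTypeDatum
import Cfsg.Agent.Lib.helper50.PSUA6
import Cfsg.Agent.Lib.helper17.GUdet
import Cfsg.Agent.Lib.helper17.UTransv

/-!
# Automorphisms of `PSU_n`: torus elements and additive generation of the field
-/

set_option autoImplicit false

namespace Cfsg.Agent.Lib.helper50.PSUA

open Matrix Cfsg Cfsg.Agent.Lib.helper17 Cfsg.Agent.Lib.helper99

universe u

section
variable {n q : ℕ} {F : Type u} [Field F] [Fintype F] (hF : Fintype.card F = q ^ 2)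
include hF

/-- the torus matrix of a hyperbolic pair: `x ↦ l x`, `y ↦ (l^q)⁻¹ y` -/
def torM (q : ℕ) (x y : Fin n → F) (l : F) : Matrix (Fin n) (Fin n) F :=
  hypScale n q x y (l - 1) ((l ^ q)⁻¹ - 1)

omit [Fintype F] hF in
theorem torM_mulVec (x y : Fin n → F) (l : F) (v : Fin n → F) :
    torM q x y l *ᵥ v = v + ((l - 1) * hermForm n F q v y) • x +
      (((l ^ q)⁻¹ - 1) * hermForm n F q v x) • y := hypScale_mulVec n q x y _ _ v

theorem torM_det {x y : Fin n → F} (H : HP q x y) (l : F) :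
    (torM q x y l).det = l * (l ^ q)⁻¹ := by
  unfold torM
  rw [hypScale_det n q x y _ _ H.ww H.uw (H.wu hF)]
  ring

theorem torM_preserves {x y : Fin n → F} (H : HP q x y) {l : F} (hl : l ≠ 0) (v v' : Fin n → F) :
    hermForm n F q (torM q x y l *ᵥ v) (torM q x y l *ᵥ v') = hermForm n F q v v' := by
  have hlq : l ^ q ≠ 0 := pow_ne_zero _ hl
  apply hypScale_preserves hF n x y _ _ H.uu H.ww H.uw
  · rw [sub_pow_q hF, one_pow]
    field_simp
    ring
  · rw [sub_pow_q hF, one_pow, inv_pow, pow_q_pow_q hF]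
    field_simp
    ring

/-- the torus element for `n ≥ 4`: `u ↦ l u`, `w ↦ (l^q)⁻¹ w`, `e ↦ l^q e`, `f ↦ l⁻¹ f` -/
noncomputable def tor4 {u w e f : Fin n → F} (H : HP q u w) (Hef : HP q e f) {l : F}
    (hl : l ≠ 0) : ↥(SU n F q) :=
  mkSU (torM q u w l * torM q e f (l ^ q))
    (by
      rw [Matrix.det_mul, torM_det hF H, torM_det hF Hef, pow_q_pow_q hF]
      have hlq : l ^ q ≠ 0 := pow_ne_zero _ hl
      field_simp)
    (fun v v' => by
      rw [← Matrix.mulVec_mulVec, ← Matrix.mulVec_mulVec, torM_preserves hF H hl,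
        torM_preserves hF Hef (pow_ne_zero _ hl)])

theorem tor4_lev {u w e f : Fin n → F} (H : HP q u w) (Hef : HP q e f) (he : InW q u w e)
    (hf : InW q u w f) {l : F} (hl : l ≠ 0) :
    Lev q u w (tor4 hF H Hef hl) l (l ^ q)⁻¹ ∧
      suMat (tor4 hF H Hef hl) *ᵥ e = l ^ q • e := by
  have hM : suMat (tor4 hF H Hef hl) = torM q u w l * torM q e f (l ^ q) := rfl
  refine ⟨⟨?_, ?_⟩, ?_⟩
  · rw [hM, ← Matrix.mulVec_mulVec, torM_mulVec e f, hf.u hF, he.u hF, mul_zero, mul_zero, zero_smul,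
      zero_smul, add_zero, add_zero, torM_mulVec u w, H.uw, H.uu]
    module
  · rw [hM, ← Matrix.mulVec_mulVec, torM_mulVec e f, hf.w hF, he.w hF, mul_zero, mul_zero, zero_smul,
      zero_smul, add_zero, add_zero, torM_mulVec u w, H.ww, H.wu hF]
    module
  · rw [hM, ← Matrix.mulVec_mulVec, torM_mulVec e f, Hef.uw, Hef.uu, mul_zero, zero_smul, add_zero,
      mul_one]
    have h1 : e + (l ^ q - 1) • e = l ^ q • e := by module
    rw [h1, Matrix.mulVec_smul, torM_mulVec u w, he.2, he.1]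
    simp

/-- the torus element for `n = 3`: `u ↦ l u`, `w ↦ (l^q)⁻¹ w`, `z ↦ (l^q / l) z` -/
noncomputable def tor3 {u w z : Fin n → F} (H : HP q u w) (hzz : hermForm n F q z z ≠ 0) {l : F}
    (hl : l ≠ 0) : ↥(SU n F q) :=
  mkSU (torM q u w l * unitaryTransvection n q z ((l ^ q / l - 1) / hermForm n F q z z))
    (by
      rw [Matrix.det_mul, torM_det hF H, unitaryTransvection_det]
      have hlq : l ^ q ≠ 0 := pow_ne_zero _ hl
      field_simp
      ring)
    (fun v v' => by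
      rw [← Matrix.mulVec_mulVec, ← Matrix.mulVec_mulVec, torM_preserves hF H hl,
        hermForm_unitaryTransvection_gen hF]
      have hlq : l ^ q ≠ 0 := pow_ne_zero _ hl
      have hγ : (hermForm n F q z z) ^ q = hermForm n F q z z := hermForm_self_fixed hF n z
      have h0 : ((l ^ q / l - 1) / hermForm n F q z z) ^ q +
          (l ^ q / l - 1) / hermForm n F q z z +
          (l ^ q / l - 1) / hermForm n F q z z * ((l ^ q / l - 1) / hermForm n F q z z) ^ q *
            hermForm n F q z z = 0 := by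
        rw [div_pow, sub_pow_q hF, div_pow, pow_q_pow_q hF, one_pow, hγ]
        field_simp
        ring
      rw [h0, zero_mul, add_zero])

theorem tor3_lev {u w z : Fin n → F} (H : HP q u w) (hz : InW q u w z)
    (hzz : hermForm n F q z z ≠ 0) {l : F} (hl : l ≠ 0) :
    Lev q u w (tor3 hF H hzz hl) l (l ^ q)⁻¹ ∧
      suMat (tor3 hF H hzz hl) *ᵥ z = (l ^ q / l) • z := by
  have hM : suMat (tor3 hF H hzz hl) =
    torM q u w l * unitaryTransvection n q z ((l ^ q / l - 1) / hermForm n F q z z) := rfl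
  refine ⟨⟨?_, ?_⟩, ?_⟩
  · rw [hM, ← Matrix.mulVec_mulVec, unitaryTransvection_mulVec, hz.u hF, mul_zero, zero_smul,
      add_zero, torM_mulVec u w, H.uw, H.uu]
    module
  · rw [hM, ← Matrix.mulVec_mulVec, unitaryTransvection_mulVec, hz.w hF, mul_zero, zero_smul,
      add_zero, torM_mulVec u w, H.ww, H.wu hF]
    module
  · rw [hM, ← Matrix.mulVec_mulVec, unitaryTransvection_mulVec, div_mul_cancel₀ _ hzz]
    have h1 : z + (l ^ q / l - 1) • z = (l ^ q / l) • z := by module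
    rw [h1, Matrix.mulVec_smul, torM_mulVec u w, hz.2, hz.1]
    simp

/-! ### additive generation -/

/-- the squares generate the field additively -/
theorem closure_squares (x : F) :
    x ∈ AddSubgroup.closure {s : F | ∃ l : F, l ≠ 0 ∧ s = l ^ q * l ^ q} := by
  have hsq : ∀ m : F, m * m ∈ AddSubgroup.closure {s : F | ∃ l : F, l ≠ 0 ∧ s = l ^ q * l ^ q} := by
    intro m
    by_cases hm : m = 0
    · rw [hm, mul_zero]
      exact AddSubgroup.zero_mem _
    · apply AddSubgroup.subset_closure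
      exact ⟨m ^ q, pow_ne_zero _ hm, by rw [pow_q_pow_q hF]⟩
  by_cases h2 : (2 : F) = 0
  · have hch : ringChar F = 2 := CharP.ringChar_of_prime_eq_zero Nat.prime_two (by exact_mod_cast h2)
    obtain ⟨m, hm⟩ := FiniteField.isSquare_of_char_two hch x
    rw [hm]
    exact hsq m
  · have h3 : x = ((x + 1) / 2) * ((x + 1) / 2) - ((x - 1) / 2) * ((x - 1) / 2) := by
      field_simp
      ring
    rw [h3]
    exact AddSubgroup.sub_mem _ (hsq _) (hsq _)

/-- for `q ≥ 3` there is a norm-one element that is not a cube root of unity -/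
theorem exists_norm_one_not_cube (hq3 : 3 ≤ q) : ∃ μ : F, μ * μ ^ q = 1 ∧ μ ^ 3 ≠ 1 := by
  by_contra hcon
  push Not at hcon
  have hle : rootsUnity F q ≤ rootsOfUnity 3 F := by
    intro a ha
    rw [mem_rootsOfUnity']
    have h1 : ((a : Fˣ) : F) ^ (q + 1) = 1 := by
      have := (mem_rootsUnity_iff q a).mp ha
      have h := congrArg Units.val this
      simpa using h
    exact hcon _ (by rw [← pow_succ']; exact h1)
  have h1 := Subgroup.card_le_of_le hle
  have h2 := card_rootsUnity hF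
  have h3 : Nat.card (rootsOfUnity 3 F) ≤ 3 := card_rootsOfUnity F 3
  omega

/-- the elements `l^q (l^q / l)` generate the field additively when `q ≥ 3` -/
theorem closure_three (hq3 : 3 ≤ q) (x : F) :
    x ∈ AddSubgroup.closure {s : F | ∃ l : F, l ≠ 0 ∧ s = l ^ q * (l ^ q / l)} := by
  obtain ⟨S, hSdef⟩ : ∃ S : Set F, S = {s : F | ∃ l : F, l ≠ 0 ∧ s = l ^ q * (l ^ q / l)} :=
    ⟨_, rfl⟩
  rw [← hSdef]
  have hfix : ∀ a : F, a ≠ 0 → a ^ q = a → a ∈ S := by
    intro a ha0 ha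
    rw [hSdef]
    exact ⟨a, ha0, by rw [ha, div_self ha0, mul_one]⟩
  have hmulS : ∀ a b : F, a ∈ S → b ∈ S → a * b ∈ S := by
    intro a b ha hb
    rw [hSdef] at ha hb ⊢
    obtain ⟨l, hl, rfl⟩ := ha
    obtain ⟨l', hl', rfl⟩ := hb
    refine ⟨l * l', mul_ne_zero hl hl', ?_⟩
    rw [mul_pow]
    field_simp
  obtain ⟨θ, hθS, hθ⟩ : ∃ θ ∈ S, θ ^ q ≠ θ := by
    obtain ⟨μ, hμ, hμ3⟩ := exists_norm_one_not_cube hF hq3
    obtain ⟨l, hl0, hl⟩ := exists_div_pow_q hF μ hμ
    have hlq : l ^ q ≠ 0 := pow_ne_zero _ hl0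
    have hμ0 : μ ≠ 0 := by
      rintro rfl
      rw [zero_mul] at hμ
      exact zero_ne_one hμ
    refine ⟨l ^ q * (l ^ q / l), by rw [hSdef]; exact ⟨l, hl0, rfl⟩, ?_⟩
    intro h1
    apply hμ3
    rw [mul_pow, div_pow, pow_q_pow_q hF] at h1
    have h2 : l ^ 3 = (l ^ q) ^ 3 := by
      field_simp at h1
      linear_combination h1
    have h3 : (μ ^ 3 - 1) * (l ^ q) ^ 3 = 0 := by
      have : l ^ 3 = μ ^ 3 * (l ^ q) ^ 3 := by
        rw [← mul_pow, ← hl]
      linear_combination h2 - this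
    rcases mul_eq_zero.mp h3 with h4 | h4
    · linear_combination h4
    · exact absurd h4 (pow_ne_zero _ hlq)
  have hd : θ - θ ^ q ≠ 0 := sub_ne_zero.mpr (Ne.symm hθ)
  have hmem0 : ∀ a : F, a ^ q = a → a ∈ AddSubgroup.closure S := by
    intro a ha
    by_cases ha0 : a = 0
    · rw [ha0]
      exact AddSubgroup.zero_mem _
    · exact AddSubgroup.subset_closure (hfix a ha0 ha)
  obtain ⟨b, hb⟩ : ∃ b : F, b = (x - x ^ q) / (θ - θ ^ q) := ⟨_, rfl⟩
  have hbq : b ^ q = b := by
    rw [hb, div_pow, sub_pow_q hF, sub_pow_q hF, pow_q_pow_q hF, pow_q_pow_q hF]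
    have hd' : θ ^ q - θ ≠ 0 := sub_ne_zero.mpr hθ
    field_simp
    ring
  have haq : (x - b * θ) ^ q = x - b * θ := by
    rw [sub_pow_q hF, mul_pow, hbq, hb]
    field_simp
    ring
  have hx : x = (x - b * θ) + b * θ := by ring
  rw [hx]
  apply AddSubgroup.add_mem _ (hmem0 _ haq)
  by_cases hb0 : b = 0
  · rw [hb0, zero_mul]
    exact AddSubgroup.zero_mem _
  · exact AddSubgroup.subset_closure (hmulS b θ (hfix b hb0 hbq) hθS)

end

end Cfsg.Agent.Lib.helper50.PSUA
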