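import Mathlib
import Cfsg.Prelude.Def_LieTypeDatum
import Cfsg.Agent.Lib.helper50.PSUA7

/-!
# Automorphisms of `PSU_n`: the action on `N_u / X_u` is a semilinear similitude
-/

set_option autoImplicit false

namespace Cfsg.Agent.Lib.helper50.PSUA

open Matrix Cfsg Cfsg.Agent.Lib.helper17 Cfsg.Agent.Lib.helper99

universe u

section
variable {n q : ℕ} {F : Type u} [Field F] [Fintype F] (hF : Fintype.card F = q ^ 2)
include hF

theorem NormX.map' {α : MulAut (PSU n F q)} {v v' : Fin n → F}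
    (h : (Xb hF v).map α.toMonoidHom = Xb hF v') {x : PSU n F q} (hx : NormX hF x v) :
    NormX hF (α x) v' := by
  intro c hc
  have h1 : (QuotientGroup.mk (Tr hF v' c) : PSU n F q) ∈ Xb hF v' := (mem_Xb hF).mpr ⟨c, hc, rfl⟩
  rw [← h] at h1
  obtain ⟨y, hy, hy'⟩ := h1
  obtain ⟨c₀, hc₀, rfl⟩ := (mem_Xb hF).mp hy
  obtain ⟨c₁, hc₁, h2⟩ := hx c₀ hc₀
  have h3 : α (QuotientGroup.mk (Tr hF v c₁)) ∈ (Xb hF v).map α.toMonoidHom :=
    ⟨_, (mem_Xb hF).mpr ⟨c₁, hc₁, rfl⟩, rfl⟩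
  rw [h] at h3
  obtain ⟨c₂, hc₂, h4⟩ := (mem_Xb hF).mp h3
  refine ⟨c₂, hc₂, ?_⟩
  have hy'' : α (QuotientGroup.mk (Tr hF v c₀)) = QuotientGroup.mk (Tr hF v' c) := hy'
  rw [← hy'', ← map_inv, ← map_mul, ← map_mul, h2, h4]

/-- orthogonality of root groups is preserved by automorphisms -/
theorem orth_image (hn : 0 < n) {α : MulAut (PSU n F q)} {v v' v₁ v₁' : Fin n → F} (hv0 : v ≠ 0)
    (hvv : hermForm n F q v v = 0) (hv'0 : v' ≠ 0) (hv'v' : hermForm n F q v' v' = 0)
    (hv₁0 : v₁ ≠ 0) (hv₁v₁ : hermForm n F q v₁ v₁ = 0) (hv₁'v₁' : hermForm n F q v₁' v₁' = 0)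
    (h : (Xb hF v).map α.toMonoidHom = Xb hF v₁) (h' : (Xb hF v').map α.toMonoidHom = Xb hF v₁')
    (ho : hermForm n F q v v' = 0) : hermForm n F q v₁ v₁' = 0 := by
  obtain ⟨κ, hκ0, hκ⟩ := exists_skew_ne_zero hF
  have h1 : α (QuotientGroup.mk (Tr hF v κ)) ∈ (Xb hF v).map α.toMonoidHom :=
    ⟨_, (mem_Xb hF).mpr ⟨κ, hκ, rfl⟩, rfl⟩
  have h2 : α (QuotientGroup.mk (Tr hF v' κ)) ∈ (Xb hF v').map α.toMonoidHom :=
    ⟨_, (mem_Xb hF).mpr ⟨κ, hκ, rfl⟩, rfl⟩
  rw [h] at h1
  rw [h'] at h2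
  obtain ⟨c₁, hc₁, e1⟩ := (mem_Xb hF).mp h1
  obtain ⟨c₂, hc₂, e2⟩ := (mem_Xb hF).mp h2
  have hc₁0 : c₁ ≠ 0 := by
    rintro rfl
    rw [Tr_zero hF hv₁v₁] at e1
    have h3 : α (QuotientGroup.mk (Tr hF v κ)) = 1 := e1
    rw [map_eq_one_iff α α.injective] at h3
    exact mk_Tr_ne_one hF hn hv0 hvv hκ hκ0 h3
  have hc₂0 : c₂ ≠ 0 := by
    rintro rfl
    rw [Tr_zero hF hv₁'v₁'] at e2
    have h3 : α (QuotientGroup.mk (Tr hF v' κ)) = 1 := e2
    rw [map_eq_one_iff α α.injective] at h3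
    exact mk_Tr_ne_one hF hn hv'0 hv'v' hκ hκ0 h3
  have hcomm := (comm_iff_orth hF hn hv0 hvv hv'v' hκ hκ hκ0 hκ0).mpr ho
  have hcomm' := congrArg α hcomm
  rw [map_mul, map_mul, e1, e2] at hcomm'
  exact (comm_iff_orth hF hn hv₁0 hv₁v₁ hv₁'v₁' hc₁ hc₂ hc₁0 hc₂0).mp hcomm'

variable {α : MulAut (PSU n F q)} {u w : Fin n → F} {A : (Fin n → F) → (Fin n → F)}
  {B : (Fin n → F) → F → F}

/-- the image of the root group of an isotropic vector of the complement -/
theorem iso_image_W (hn : 3 ≤ n) (h32 : ¬ (n = 3 ∧ q = 2)) {p f : ℕ} [Fact p.Prime]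
    (hq : q = p ^ f) (hf : 1 ≤ f) (H : HP q u w) (hαu : FixX hF α u) (hαw : FixX hF α w)
    {e : Fin n → F} (he : InW q u w e) (he0 : e ≠ 0) (hee : hermForm n F q e e = 0) :
    ∃ e', InW q u w e' ∧ e' ≠ 0 ∧ hermForm n F q e' e' = 0 ∧
      (Xb hF e).map α.toMonoidHom = Xb hF e' := by
  obtain ⟨e', he'0, he'e', hmap⟩ := exists_root_image hF hn h32 hq hf α he0 hee
  refine ⟨e', ⟨?_, ?_⟩, he'0, he'e', hmap⟩
  · exact orth_image hF (by omega) he0 hee H.u_ne H.uu he'0 he'e' H.uu hmap hαu he.1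
  · exact orth_image hF (by omega) he0 hee (H.w_ne hF) H.ww he'0 he'e' H.ww hmap hαw he.2

theorem Tr_lev (H : HP q u w) {e : Fin n → F} (he : InW q u w e)
    (hee : hermForm n F q e e = 0) {κ : F} (hκ : κ ^ q = -κ) : Lev q u w (Tr hF e κ) 1 1 := by
  refine ⟨?_, ?_⟩
  · rw [Tr_mulVec hF hee hκ, he.u hF]
    simp
  · rw [Tr_mulVec hF hee hκ, he.w hF]
    simp

/-- `A` maps an isotropic line of the complement into a line -/
theorem NS.line_iso (hn : 0 < n) (hNS : NS hF α u w A B) (H : HP q u w) {e e' f : Fin n → F}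
    (he : InW q u w e) (hf : InW q u w f) (Hef : HP q e f) (he'W : InW q u w e')
    (he'e' : hermForm n F q e' e' = 0) (hmap : (Xb hF e).map α.toMonoidHom = Xb hF e') (c : F) :
    ∃ d : F, A (c • e) = d • e' := by
  obtain ⟨κ, hκ0, hκ⟩ := exists_skew_ne_zero hF
  have h1 : α (QuotientGroup.mk (Tr hF e κ)) ∈ (Xb hF e).map α.toMonoidHom :=
    ⟨_, (mem_Xb hF).mpr ⟨κ, hκ, rfl⟩, rfl⟩
  rw [hmap] at h1
  obtain ⟨κ', hκ', e1⟩ := (mem_Xb hF).mp h1
  have hy : InW q u w ((c / κ) • f) := hf.smul _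
  obtain ⟨β, hv⟩ := exists_val hF H.uu hy.1
  have h2 := (hNS.torus hF hn H (Tr_lev hF H he Hef.uu hκ) (Tr_lev hF H he'W he'e' hκ') e1 hy hv).1
  rw [one_pow, one_smul, one_smul, Tr_mulVec hF Hef.uu hκ, Tr_mulVec hF he'e' hκ',
    hermForm_smul_left, Hef.wu hF, mul_one, mul_div_cancel₀ _ hκ0,
    hNS.add hF hn H hy (he.smul c)] at h2
  exact ⟨_, add_left_cancel h2⟩

/-- semilinearity on an isotropic line of the complement -/
theorem NS.sigma_iso (hn : 3 ≤ n) (h32 : ¬ (n = 3 ∧ q = 2)) {p f : ℕ} [Fact p.Prime]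
    (hq : q = p ^ f) (hf : 1 ≤ f) (hNS : NS hF α u w A B) (H : HP q u w) (hαu : FixX hF α u)
    (hαw : FixX hF α w) {e : Fin n → F} (he : InW q u w e) (he0 : e ≠ 0)
    (hee : hermForm n F q e e = 0) : ∃ σ : F ≃+* F, ∀ c : F, A (c • e) = σ c • A e := by
  obtain ⟨f₁, hf₁W, Hef⟩ := exists_partner_W hF H he he0 hee
  obtain ⟨e', he'W, he'0, he'e', hmap⟩ := iso_image_W hF hn h32 hq hf H hαu hαw he he0 hee
  apply hNS.line_semilinear hF (by omega) H hαu he he0
    (hNS.line_iso hF (by omega) H he hf₁W Hef he'W he'e' hmap)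
    {s : F | ∃ l : F, l ≠ 0 ∧ s = l ^ q * l ^ q} (closure_squares hF)
  rintro s ⟨l, hl, rfl⟩
  obtain ⟨ht, hte⟩ := tor4_lev hF H Hef he hf₁W hl
  obtain ⟨t', l', m', hα', ht'⟩ := exists_lev_image hF (by omega) H hαu hαw ht
  have h1 := NormX.map' hF hmap (normX_of_smul hF hee hte)
  rw [hα'] at h1
  obtain ⟨ν', -, hν'⟩ := smul_of_normX hF (by omega) he'0 he'e' h1
  exact ⟨_, t', l, _, l', m', ν', ht, ht', hα', by rw [hte, smul_smul], hν'⟩

/-- semilinearity when the complement is a line -/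
theorem NS.sigma_three (hn : 0 < n) (hq3 : 3 ≤ q) (hNS : NS hF α u w A B) (H : HP q u w)
    (hαu : FixX hF α u) (hαw : FixX hF α w) {z : Fin n → F} (hz : InW q u w z)
    (hzz : hermForm n F q z z ≠ 0) (hline : ∀ x, InW q u w x → ∃ t : F, x = t • z) :
    ∃ σ : F ≃+* F, ∀ c : F, A (c • z) = σ c • A z := by
  have hz0 : z ≠ 0 := by
    rintro rfl
    exact hzz (hermForm_zero_left n q 0)
  apply hNS.line_semilinear hF hn H hαu hz hz0
    (fun c => hline _ (hNS.mem hF H (hz.smul c)))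
    {s : F | ∃ l : F, l ≠ 0 ∧ s = l ^ q * (l ^ q / l)} (closure_three hF hq3)
  rintro s ⟨l, hl, rfl⟩
  obtain ⟨ht, htz⟩ := tor3_lev hF H hz hzz hl
  obtain ⟨t', l', m', hα', ht'⟩ := exists_lev_image hF hn H hαu hαw ht
  obtain ⟨ν', hν'⟩ := hline _ (ht'.mem hF H hz)
  exact ⟨_, t', l, _, l', m', ν', ht, ht', hα', by rw [htz, smul_smul], hν'⟩

/-- **`A` is semilinear on the complement.** -/
theorem NS.exists_sigma (hn : 3 ≤ n) (h32 : ¬ (n = 3 ∧ q = 2)) {p f : ℕ} [Fact p.Prime]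
    (hq : q = p ^ f) (hf : 1 ≤ f) (hNS : NS hF α u w A B) (H : HP q u w) (hαu : FixX hF α u)
    (hαw : FixX hF α w) :
    ∃ σ : F ≃+* F, ∀ y, InW q u w y → ∀ c : F, A (c • y) = σ c • A y := by
  have hn0 : 0 < n := by omega
  by_cases hn4 : 4 ≤ n
  · obtain ⟨e₁, he₁W, he₁0, he₁e₁⟩ := exists_iso_W hF hn4 H
    obtain ⟨f₁, hf₁W, Hef⟩ := exists_partner_W hF H he₁W he₁0 he₁e₁
    obtain ⟨σ, hσ⟩ := hNS.sigma_iso hF hn h32 hq hf H hαu hαw he₁W he₁0 he₁e₁
    refine ⟨σ, ?_⟩
    obtain ⟨P, hP⟩ : ∃ P : (Fin n → F) → Prop, P = fun y => ∀ c : F, A (c • y) = σ c • A y :=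
      ⟨_, rfl⟩
    have hPadd : ∀ y y', InW q u w y → InW q u w y' → P y → P y' → P (y + y') := by
      intro y y' hy hy' h1 h2
      rw [hP] at h1 h2 ⊢
      intro c
      rw [smul_add, hNS.add hF hn0 H (hy.smul c) (hy'.smul c), h1, h2, hNS.add hF hn0 H hy hy',
        smul_add]
    have hPsub : ∀ y y', InW q u w y → InW q u w y' → P y → P y' → P (y - y') := by
      intro y y' hy hy' h1 h2
      rw [hP] at h1 h2 ⊢
      intro c
      rw [smul_sub, hNS.sub hF hn0 H (hy.smul c) (hy'.smul c), h1, h2, hNS.sub hF hn0 H hy hy',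
        smul_sub]
    have hPsmul : ∀ (a : F) y, P y → P (a • y) := by
      intro a y h1
      rw [hP] at h1 ⊢
      intro c
      rw [smul_smul, h1, h1, map_mul, smul_smul]
    have hP1 : P e₁ := by
      rw [hP]
      exact hσ
    -- a hyperbolic partner inherits the property
    have hpair : ∀ e g, InW q u w e → InW q u w g → HP q e g → P e → P g := by
      intro e g he hg Hef' hPe
      have hf0 : g ≠ 0 := Hef'.w_ne hF
      obtain ⟨σf, hσf⟩ := hNS.sigma_iso hF hn h32 hq hf H hαu hαw hg hf0 Hef'.ww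
      obtain ⟨κ, hκ0, hκ⟩ := exists_skew_ne_zero hF
      have hgW : InW q u w (e + κ • g) := he.add (hg.smul κ)
      have hgg : hermForm n F q (e + κ • g) (e + κ • g) = 0 := by
        simp only [hermForm_add_left, hermForm_add_right hF, hermForm_smul_left, hermForm_smul_right,
          Hef'.uu, Hef'.ww, Hef'.uw, Hef'.wu hF, hκ]
        ring
      have hg0 : e + κ • g ≠ 0 := by
        intro h0
        have h1 : hermForm n F q (e + κ • g) g = 1 := by
          rw [hermForm_add_left, hermForm_smul_left, Hef'.uw, Hef'.ww]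
          ring
        rw [h0, hermForm_zero_left] at h1
        exact zero_ne_one h1
      obtain ⟨σg, hσg⟩ := hNS.sigma_iso hF hn h32 hq hf H hαu hαw hgW hg0 hgg
      rw [hP] at hPe
      -- independence of `A e`, `A f`
      have hind : ∀ x y : F, x • A e + y • A g = 0 → x = 0 ∧ y = 0 := by
        intro x y hxy
        have h1 : A (σ.symm x • e + σf.symm y • g) = 0 := by
          rw [hNS.add hF hn0 H (he.smul _) (hg.smul _), hPe, hσf, RingEquiv.apply_symm_apply,
            RingEquiv.apply_symm_apply]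
          exact hxy
        have h2 := hNS.inj hF hn0 H hαu ((he.smul _).add (hg.smul _)) h1
        have h3 := congrArg (fun t => hermForm n F q t g) h2
        have h4 := congrArg (fun t => hermForm n F q t e) h2
        simp only [hermForm_add_left, hermForm_smul_left, Hef'.uu, Hef'.ww, Hef'.uw, Hef'.wu hF,
          hermForm_zero_left, mul_one, mul_zero, add_zero, zero_add] at h3 h4
        constructor
        · have := congrArg σ h3
          rwa [RingEquiv.apply_symm_apply, map_zero] at this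
        · have := congrArg σf h4
          rwa [RingEquiv.apply_symm_apply, map_zero] at this
      have hκf : σf κ ≠ 0 := by
        intro h0
        exact hκ0 (by rwa [map_eq_zero_iff σf σf.injective] at h0)
      have heq : ∀ a : F, σf a = σ a := by
        intro a
        have h1 := hσg a
        rw [smul_add, smul_smul, hNS.add hF hn0 H (he.smul a) (hg.smul (a * κ)), hPe, hσf,
          hNS.add hF hn0 H he (hg.smul κ), hσf κ, map_mul] at h1
        have h2 : (σ a - σg a) • A e + ((σf a - σg a) * σf κ) • A g = 0 := by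
          linear_combination (norm := module) h1
        obtain ⟨h3, h4⟩ := hind _ _ h2
        rcases mul_eq_zero.mp h4 with h5 | h5
        · linear_combination h5 - h3
        · exact absurd h5 hκf
      rw [hP]
      intro c
      rw [hσf, heq]
    have hnonorth : ∀ e e', InW q u w e → InW q u w e' → hermForm n F q e e = 0 →
        hermForm n F q e' e' = 0 → hermForm n F q e e' ≠ 0 → P e → P e' := by
      intro e e' he he' hee he'e' hne hPe
      obtain ⟨c₀, hc₀⟩ : ∃ c₀ : F, c₀ = ((hermForm n F q e e')⁻¹) ^ q := ⟨_, rfl⟩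
      have hc₀0 : c₀ ≠ 0 := by
        rw [hc₀]
        exact pow_ne_zero _ (inv_ne_zero hne)
      have Hef' : HP q e (c₀ • e') := by
        refine ⟨hee, ?_, ?_⟩
        · rw [hermForm_smul_left, hermForm_smul_right, he'e', mul_zero, mul_zero]
        · rw [hermForm_smul_right, hc₀, pow_q_pow_q hF, inv_mul_cancel₀ hne]
      have h1 := hpair e (c₀ • e') he (he'.smul c₀) Hef' hPe
      have h2 := hPsmul c₀⁻¹ _ h1
      rwa [smul_smul, inv_mul_cancel₀ hc₀0, one_smul] at h2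
    have hPf1 : P f₁ := hpair e₁ f₁ he₁W hf₁W Hef hP1
    have hiso : ∀ e, InW q u w e → hermForm n F q e e = 0 → P e := by
      intro e heW hee
      by_cases h1 : hermForm n F q e₁ e = 0
      · by_cases h2 : hermForm n F q f₁ e = 0
        · have h3 : P (e + e₁) := by
            apply hnonorth f₁ (e + e₁) hf₁W (heW.add he₁W) Hef.ww _ _ hPf1
            · simp only [hermForm_add_left, hermForm_add_right hF, hee, he₁e₁, h1,
                hermForm_eq_zero_symm hF n e₁ e h1]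
              ring
            · rw [hermForm_add_right hF, h2, Hef.wu hF, zero_add]
              exact one_ne_zero
          have := hPsub _ _ (heW.add he₁W) he₁W h3 hP1
          rwa [add_sub_cancel_right] at this
        · exact hnonorth f₁ e hf₁W heW Hef.ww hee h2 hPf1
      · exact hnonorth e₁ e he₁W heW he₁e₁ hee h1 hP1
    intro y hy
    obtain ⟨e₂, c, he₂W, he₂e₂, hxe⟩ := span_iso_W hF he₁W hf₁W Hef hy
    have h5 := hPsub _ _ ((((he₁W.smul (hermForm n F q y f₁)).add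
        (hf₁W.smul (hermForm n F q y e₁))).add he₂W).sub (he₁W.smul c)) hf₁W
      (hPsub _ _ (((he₁W.smul (hermForm n F q y f₁)).add (hf₁W.smul (hermForm n F q y e₁))).add he₂W)
        (he₁W.smul c)
        (hPadd _ _ ((he₁W.smul (hermForm n F q y f₁)).add (hf₁W.smul (hermForm n F q y e₁))) he₂W
          (hPadd _ _ (he₁W.smul _) (hf₁W.smul _) (hPsmul _ _ hP1) (hPsmul _ _ hPf1))
          (hiso e₂ he₂W he₂e₂))
        (hPsmul c _ hP1)) hPf1
    rw [← hxe, hP] at h5
    exact h5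
  · have h3 : n = 3 := by omega
    subst h3
    have hq3 : 3 ≤ q := by
      have := two_le_of_card_eq_sq hF
      by_contra hcon
      exact h32 ⟨rfl, by omega⟩
    obtain ⟨z, hzW, hzz, hline⟩ := W_line3 hF H
    obtain ⟨σ, hσ⟩ := hNS.sigma_three hF hn0 hq3 H hαu hαw hzW hzz hline
    refine ⟨σ, fun y hy c => ?_⟩
    obtain ⟨t, rfl⟩ := hline y hy
    rw [smul_smul, hσ, hσ, map_mul, smul_smul]

/-- **`A` is a semilinear similitude**, and the action on the centre is the corresponding twisted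
scalar. -/
theorem NS.similitude (hn : 3 ≤ n) (hNS : NS hF α u w A B) (H : HP q u w) (σ : F ≃+* F)
    (hσ : ∀ y, InW q u w y → ∀ c : F, A (c • y) = σ c • A y) :
    ∃ c₀ : F, c₀ ≠ 0 ∧ c₀ ^ q = c₀ ∧ (∀ b : F, b ^ q = -b → B 0 b = c₀ * σ b) ∧
      ∀ y y', InW q u w y → InW q u w y' →
        hermForm n F q (A y) (A y') = c₀ * σ (hermForm n F q y y') := by
  have hn0 : 0 < n := by omega
  obtain ⟨z, hzW, hzz⟩ := exists_norm_W hF hn H 1 (one_pow q)
  obtain ⟨γ, hγ⟩ : ∃ γ : F, γ = hermForm n F q (A z) (A z) := ⟨_, rfl⟩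
  have hγq : γ ^ q = γ := by rw [hγ, hermForm_self_fixed hF]
  have ha : ∀ b : F, b ^ q = -b → B 0 b = γ * σ b := by
    intro b hb
    obtain ⟨r, hr⟩ := exists_pow_q_sub_eq hF b hb
    have h1 := hNS.omega hF hn0 H (hzW.smul (-r)) hzW
    rw [hσ z hzW, hermForm_smul_left, hermForm_smul_right, hermForm_smul_left, hermForm_smul_right,
      hzz, ← hγ, mul_one, mul_one] at h1
    have h2 : -r - (-r) ^ q = b := by
      rw [neg_pow_q hF]
      linear_combination hr
    rw [h2] at h1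
    rw [← h1, ← h2, map_sub, map_pow]
    ring
  obtain ⟨κ, hκ0, hκ⟩ := exists_skew_ne_zero hF
  have hγ0 : γ ≠ 0 := by
    rintro rfl
    have h1 := ha κ hκ
    rw [zero_mul] at h1
    exact hκ0 (hNS.a_inj hF hn0 H hκ h1)
  refine ⟨γ, hγ0, hγq, ha, ?_⟩
  intro y y' hy hy'
  obtain ⟨D, hD⟩ : ∃ D : F, D = hermForm n F q (A y) (A y') - γ * σ (hermForm n F q y y') :=
    ⟨_, rfl⟩
  have key : ∀ r : F, σ r * D - (σ r) ^ q * D ^ q = 0 := by
    intro r
    have h1 := hNS.omega hF hn0 H (hy.smul r) hy'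
    have hsk : (hermForm n F q (r • y) y' - hermForm n F q y' (r • y)) ^ q =
        -(hermForm n F q (r • y) y' - hermForm n F q y' (r • y)) := by
      rw [sub_pow_q hF, hermForm_conj hF, hermForm_conj hF]
      ring
    rw [ha _ hsk, hσ y hy, hermForm_smul_left, hermForm_smul_right, hermForm_smul_left,
      hermForm_smul_right, map_sub, map_mul, map_mul, map_pow] at h1
    have hDq : D ^ q = hermForm n F q (A y') (A y) - γ * σ (hermForm n F q y' y) := by
      rw [hD, sub_pow_q hF, mul_pow, hγq, hermForm_conj hF, ← map_pow, hermForm_conj hF]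
    rw [hDq, hD]
    linear_combination h1
  have h1 := key 1
  rw [map_one, one_pow, one_mul, one_mul] at h1
  obtain ⟨a, ha'⟩ := exists_pow_q_ne hF
  have h2 := key (σ.symm a)
  rw [RingEquiv.apply_symm_apply] at h2
  have h3 : (a - a ^ q) * D = 0 := by
    have h4 : D ^ q = D := by linear_combination -h1
    rw [h4] at h2
    linear_combination h2
  rcases mul_eq_zero.mp h3 with h4 | h4
  · exact absurd (sub_eq_zero.mp h4).symm ha'
  · rw [hD] at h4
    exact sub_eq_zero.mp h4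

end

end Cfsg.Agent.Lib.helper50.PSUA
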