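import Mathlib
import Cfsg.Prelude.Def_LieTypeDatum
import Cfsg.Agent.Lib.helper50.PSUA8

/-!
# Automorphisms of `PSU_n`: rational hyperbolic pairs and the action of field automorphisms and of
`GU_n` on Eichler elements
-/

set_option autoImplicit false

namespace Cfsg.Agent.Lib.helper50.PSUA

open Matrix Cfsg Cfsg.Agent.Lib.helper17 Cfsg.Agent.Lib.helper99

universe u

section
variable {n q : ℕ} {F : Type u} [Field F] [Fintype F] (hF : Fintype.card F = q ^ 2)

/-- a scalar fixed by every ring endomorphism of the field -/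
def RatS (x : F) : Prop := ∀ σ : F →+* F, σ x = x

omit [Fintype F] in
theorem ratS_natCast (a : ℕ) : RatS (a : F) := fun σ => map_natCast σ a

omit [Fintype F] in
theorem ratS_one : RatS (1 : F) := fun σ => map_one σ

omit [Fintype F] in
theorem ratS_zero : RatS (0 : F) := fun σ => map_zero σ

omit [Fintype F] in
theorem RatS.mul {x y : F} (hx : RatS x) (hy : RatS y) : RatS (x * y) :=
  fun σ => by rw [map_mul, hx σ, hy σ]

omit [Fintype F] in
theorem RatS.neg {x : F} (hx : RatS x) : RatS (-x) :=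
  fun σ => by rw [map_neg, hx σ]

omit [Fintype F] in
theorem RatS.inv {x : F} (hx : RatS x) : RatS (x⁻¹) :=
  fun σ => by rw [map_inv₀, hx σ]

include hF in
theorem RatS.pow_q {x : F} (hx : RatS x) : x ^ q = x := by
  obtain ⟨σ₀, hσ₀, -, -⟩ := exists_frob' hF
  rw [← hσ₀, hx σ₀]

/-- the vector with coordinates `x₀, x₁, x₂` at three given places -/
def vec3 (i0 i1 i2 : Fin n) (x0 x1 x2 : F) : Fin n → F :=
  x0 • Pi.single i0 (1 : F) + x1 • Pi.single i1 (1 : F) + x2 • Pi.single i2 (1 : F)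

include hF in
theorem herm_vec3 {i0 i1 i2 : Fin n} (h01 : i0 ≠ i1) (h02 : i0 ≠ i2) (h12 : i1 ≠ i2)
    (x0 x1 x2 y0 y1 y2 : F) :
    hermForm n F q (vec3 i0 i1 i2 x0 x1 x2) (vec3 i0 i1 i2 y0 y1 y2) =
      x0 * y0 ^ q + x1 * y1 ^ q + x2 * y2 ^ q := by
  unfold vec3
  simp only [hermForm_add_left, hermForm_add_right hF, hermForm_smul_left, hermForm_smul_right,
    hermForm_single_single n (q_ne_zero hF), if_pos, if_neg h01, if_neg h02, if_neg h12,
    if_neg h01.symm, if_neg h02.symm, if_neg h12.symm]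
  ring

omit [Fintype F] in
theorem map_vec3 (σ : F ≃+* F) (i0 i1 i2 : Fin n) (x0 x1 x2 : F) :
    (fun i => σ (vec3 i0 i1 i2 x0 x1 x2 i)) = vec3 i0 i1 i2 (σ x0) (σ x1) (σ x2) := by
  funext i
  unfold vec3
  simp only [Pi.add_apply, Pi.smul_apply, Pi.single_apply, smul_eq_mul, map_add, map_mul,
    apply_ite σ, map_one, map_zero]

include hF in
/-- **a hyperbolic pair fixed by all field automorphisms** -/
theorem exists_rational_pair (hn : 3 ≤ n) {p f : ℕ} [Fact p.Prime] (hq : q = p ^ f) (hf : 1 ≤ f) :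
    ∃ u w : Fin n → F, HP q u w ∧
      ∀ σ : F ≃+* F, (fun i => σ (u i)) = u ∧ (fun i => σ (w i)) = w := by
  haveI : CharP F p := charP_of_card hF hq hf
  haveI : NeZero p := ⟨(Fact.out : p.Prime).ne_zero⟩
  obtain ⟨i0, hi0⟩ : ∃ i : Fin n, i = ⟨0, by omega⟩ := ⟨_, rfl⟩
  obtain ⟨i1, hi1⟩ : ∃ i : Fin n, i = ⟨1, by omega⟩ := ⟨_, rfl⟩
  obtain ⟨i2, hi2⟩ : ∃ i : Fin n, i = ⟨2, by omega⟩ := ⟨_, rfl⟩
  have h01 : i0 ≠ i1 := by rw [hi0, hi1]; simp
  have h02 : i0 ≠ i2 := by rw [hi0, hi2]; simp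
  have h12 : i1 ≠ i2 := by rw [hi1, hi2]; simp
  -- rational coordinates
  obtain ⟨x0, x1, x2, y0, y1, y2, hx0, hx1, hx2, hy0, hy1, hy2, hxx, hyy, hxy⟩ :
      ∃ x0 x1 x2 y0 y1 y2 : F, RatS x0 ∧ RatS x1 ∧ RatS x2 ∧ RatS y0 ∧ RatS y1 ∧ RatS y2 ∧
        x0 * x0 + x1 * x1 + x2 * x2 = 0 ∧ y0 * y0 + y1 * y1 + y2 * y2 = 0 ∧
        x0 * y0 + x1 * y1 + x2 * y2 = 1 := by
    by_cases h2 : (2 : F) = 0
    · refine ⟨1, 1, 0, 1, 0, 1, ratS_one, ratS_one, ratS_zero, ratS_one, ratS_zero, ratS_one,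
        ?_, ?_, ?_⟩
      · linear_combination h2
      · linear_combination h2
      · ring
    · obtain ⟨a, b, hab⟩ := CharP.sq_add_sq F p (-1)
      have hab' : (a : F) ^ 2 + (b : F) ^ 2 = -1 := by
        rw [hab]
        push_cast
        ring
      have hc : RatS (-(2 : F)⁻¹) := by
        have : RatS ((2 : ℕ) : F) := ratS_natCast 2
        have h2' : ((2 : ℕ) : F) = 2 := by norm_num
        rw [h2'] at this
        exact this.inv.neg
      refine ⟨a, b, 1, -(2 : F)⁻¹ * a, -(2 : F)⁻¹ * b, -(-(2 : F)⁻¹),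
        ratS_natCast a, ratS_natCast b, ratS_one, hc.mul (ratS_natCast a), hc.mul (ratS_natCast b),
        hc.neg, ?_, ?_, ?_⟩
      · linear_combination hab'
      · linear_combination (2 : F)⁻¹ * (2 : F)⁻¹ * hab'
      · field_simp
        linear_combination -hab'
  have hfix : ∀ {x : F}, RatS x → ∀ σ : F ≃+* F, σ x = x := fun hx σ => hx (σ : F →+* F)
  refine ⟨vec3 i0 i1 i2 x0 x1 x2, vec3 i0 i1 i2 y0 y1 y2, ⟨?_, ?_, ?_⟩, fun σ => ⟨?_, ?_⟩⟩
  · rw [herm_vec3 hF h01 h02 h12, hx0.pow_q hF, hx1.pow_q hF, hx2.pow_q hF, hxx]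
  · rw [herm_vec3 hF h01 h02 h12, hy0.pow_q hF, hy1.pow_q hF, hy2.pow_q hF, hyy]
  · rw [herm_vec3 hF h01 h02 h12, hy0.pow_q hF, hy1.pow_q hF, hy2.pow_q hF, hxy]
  · rw [map_vec3, hfix hx0, hfix hx1, hfix hx2]
  · rw [map_vec3, hfix hy0, hfix hy1, hfix hy2]

end

/-! ### field automorphisms and Eichler elements -/

section
variable {n q : ℕ} {F : Type u} [Field F] [Fintype F] (hF : Fintype.card F = q ^ 2)

omit [Fintype F] in
theorem val_map (σ : F ≃+* F) {u y : Fin n → F} {β : F} (hv : Val q u y β) :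
    Val q (fun i => σ (u i)) (fun i => σ (y i)) (σ β) := by
  obtain ⟨h1, h2, h3⟩ := hv
  refine ⟨by rw [hermForm_map, h1, map_zero], by rw [hermForm_map, h2, map_zero], ?_⟩
  rw [hermForm_map, ← map_pow, ← map_add, ← map_add, h3, map_zero]

omit [Fintype F] in
theorem eichlerU_map (σ : F ≃+* F) (u y : Fin n → F) (β : F) :
    (eichlerU n q u y β).map σ = eichlerU n q (fun i => σ (u i)) (fun i => σ (y i)) (σ β) := by
  unfold eichlerU
  ext i j
  simp only [Matrix.map_apply, Matrix.add_apply, Matrix.sub_apply, Matrix.smul_apply,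
    Matrix.vecMulVec_apply, smul_eq_mul, map_add, map_sub, map_mul, map_pow, Matrix.one_apply]
  by_cases hij : i = j
  · simp [hij]
  · simp [hij]

include hF

theorem fieldSU_Eu (σ : F ≃+* F) {u y : Fin n → F} {β : F} (hv : Val q u y β) :
    fieldSU σ (Eu hF u y β) = Eu hF (fun i => σ (u i)) (fun i => σ (y i)) (σ β) := by
  apply suMat_inj
  rw [suMat_Eu hF (val_map σ hv), ← eichlerU_map, ← suMat_Eu hF hv]
  rfl

theorem fieldPSU_Eu (σ : F ≃+* F) {u y : Fin n → F} {β : F} (hv : Val q u y β) :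
    fieldPSU σ (QuotientGroup.mk (Eu hF u y β) : PSU n F q) =
      QuotientGroup.mk (Eu hF (fun i => σ (u i)) (fun i => σ (y i)) (σ β)) := by
  rw [fieldPSU_mk, fieldSU_Eu hF σ hv]

theorem fieldPSU_Tr (σ : F ≃+* F) {v : Fin n → F} {c : F} (hvv : hermForm n F q v v = 0)
    (hc : c ^ q = -c) :
    fieldPSU σ (QuotientGroup.mk (Tr hF v c) : PSU n F q) =
      QuotientGroup.mk (Tr hF (fun i => σ (v i)) (σ c)) := by
  unfold Tr
  rw [fieldPSU_Eu hF σ (val_tr hF hvv hc)]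
  have h0 : (fun i => σ ((0 : Fin n → F) i)) = 0 := by
    funext i
    simp
  rw [h0]

omit hF [Fintype F] in
theorem skew_map (σ : F ≃+* F) {c : F} (hc : c ^ q = -c) : (σ c) ^ q = -σ c := by
  rw [← map_pow, hc, map_neg]

/-- a field automorphism fixes the root group of a rational isotropic vector -/
theorem fixX_field (σ : F ≃+* F) {v : Fin n → F} (hvv : hermForm n F q v v = 0)
    (hv : (fun i => σ (v i)) = v) : FixX hF (fieldPSU σ) v := by
  unfold FixX
  ext x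
  rw [Subgroup.mem_map, mem_Xb]
  constructor
  · rintro ⟨y, hy, rfl⟩
    obtain ⟨c, hc, rfl⟩ := (mem_Xb hF).mp hy
    refine ⟨σ c, skew_map σ hc, ?_⟩
    show fieldPSU σ _ = _
    rw [fieldPSU_Tr hF σ hvv hc, hv]
  · rintro ⟨c, hc, rfl⟩
    refine ⟨QuotientGroup.mk (Tr hF v (σ.symm c)), (mem_Xb hF).mpr ⟨_, skew_map σ.symm hc, rfl⟩, ?_⟩
    show fieldPSU σ _ = _
    rw [fieldPSU_Tr hF σ hvv (skew_map σ.symm hc), hv, RingEquiv.apply_symm_apply]

/-- twisting the normal-form data by a field automorphism -/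
theorem NS.field {α : MulAut (PSU n F q)} {u w : Fin n → F} {A : (Fin n → F) → (Fin n → F)}
    {B : (Fin n → F) → F → F} (σ : F ≃+* F) (hNS : NS hF α u w A B)
    (hu : (fun i => σ (u i)) = u) (hw : (fun i => σ (w i)) = w) :
    NS hF (fieldPSU σ * α) u w (fun y i => σ (A y i)) (fun y β => σ (B y β)) := by
  intro y β hy hv
  obtain ⟨h1, h2, h3⟩ := hNS y β hy hv
  have h2' := val_map σ h2
  rw [hu] at h2'
  refine ⟨⟨?_, ?_⟩, h2', ?_⟩
  · have := hermForm_map (q := q) σ (A y) u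
    rw [hu, h1.1, map_zero] at this
    exact this
  · have := hermForm_map (q := q) σ (A y) w
    rw [hw, h1.2, map_zero] at this
    exact this
  · rw [MulAut.mul_apply, h3, fieldPSU_Eu hF σ h2, hu]

/-! ### the action of `GU_n` on Eichler elements -/

omit hF in
theorem gu_isom_inv (g : ↥(GU n F q)) (x u : Fin n → F) :
    hermForm n F q (guToMat n F q g⁻¹ *ᵥ x) u = hermForm n F q x (guToMat n F q g *ᵥ u) := by
  rw [← guToMat_preserves n g (guToMat n F q g⁻¹ *ᵥ x) u, Matrix.mulVec_mulVec, ← map_mul,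
    mul_inv_cancel, map_one, Matrix.one_mulVec]

omit hF in
theorem val_gu (g : ↥(GU n F q)) {u y : Fin n → F} {β : F} (hv : Val q u y β) :
    Val q (guToMat n F q g *ᵥ u) (guToMat n F q g *ᵥ y) β := by
  obtain ⟨h1, h2, h3⟩ := hv
  refine ⟨?_, ?_, ?_⟩
  · rw [guToMat_preserves, h1]
  · rw [guToMat_preserves, h2]
  · rw [guToMat_preserves, h3]

theorem conjSU_Eu (g : ↥(GU n F q)) {u y : Fin n → F} {β : F} (hv : Val q u y β) :
    conjSU g (Eu hF u y β) = Eu hF (guToMat n F q g *ᵥ u) (guToMat n F q g *ᵥ y) β := by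
  apply suMat_inj
  have h1 : suMat (conjSU g (Eu hF u y β)) =
      guToMat n F q g * suMat (Eu hF u y β) * guToMat n F q g⁻¹ := conjSU_coe g _
  rw [h1, Matrix.ext_iff_mulVec]
  intro x
  rw [← Matrix.mulVec_mulVec, ← Matrix.mulVec_mulVec, Eu_mulVec hF hv,
    Eu_mulVec hF (val_gu g hv)]
  simp only [Matrix.mulVec_add, Matrix.mulVec_sub, Matrix.mulVec_smul, gu_isom_inv]
  rw [Matrix.mulVec_mulVec, ← map_mul, mul_inv_cancel, map_one, Matrix.one_mulVec]

theorem phiPSU_Eu (g : ↥(GU n F q)) {u y : Fin n → F} {β : F} (hv : Val q u y β) :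
    phiPSU g (QuotientGroup.mk (Eu hF u y β) : PSU n F q) =
      QuotientGroup.mk (Eu hF (guToMat n F q g *ᵥ u) (guToMat n F q g *ᵥ y) β) := by
  rw [phiPSU_mk, conjSU_Eu hF g hv]

theorem phiPSU_Tr (g : ↥(GU n F q)) {v : Fin n → F} {c : F} (hvv : hermForm n F q v v = 0)
    (hc : c ^ q = -c) :
    phiPSU g (QuotientGroup.mk (Tr hF v c) : PSU n F q) =
      QuotientGroup.mk (Tr hF (guToMat n F q g *ᵥ v) c) := by
  unfold Tr
  rw [phiPSU_Eu hF g (val_tr hF hvv hc), Matrix.mulVec_zero]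

theorem Xb_phi (g : ↥(GU n F q)) {v : Fin n → F} (hvv : hermForm n F q v v = 0) :
    (Xb hF v).map (phiPSU g).toMonoidHom = Xb hF (guToMat n F q g *ᵥ v) := by
  ext x
  rw [Subgroup.mem_map, mem_Xb]
  constructor
  · rintro ⟨y, hy, rfl⟩
    obtain ⟨c, hc, rfl⟩ := (mem_Xb hF).mp hy
    exact ⟨c, hc, phiPSU_Tr hF g hvv hc⟩
  · rintro ⟨c, hc, rfl⟩
    exact ⟨_, (mem_Xb hF).mpr ⟨c, hc, rfl⟩, phiPSU_Tr hF g hvv hc⟩

/-- an element of `GU_n` scaling `v` fixes the root group of `v` -/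
theorem fixX_phi (g : ↥(GU n F q)) {v : Fin n → F} (hvv : hermForm n F q v v = 0) {a : F}
    (ha : a ≠ 0) (hg : guToMat n F q g *ᵥ v = a • v) : FixX hF (phiPSU g) v := by
  unfold FixX
  rw [Xb_phi hF g hvv, hg, Xb_smul hF hvv ha]

/-- inner automorphisms are induced by `GU_n` -/
theorem conj_eq_phi (k : ↥(SU n F q)) :
    ∃ g : ↥(GU n F q), MulAut.conj (QuotientGroup.mk k : PSU n F q) = phiPSU g := by
  obtain ⟨g, hg⟩ := exists_gu_of_preserves hF n (suMat k) (suMat_isIsom k)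
  refine ⟨g, ?_⟩
  have h2 : guToMat n F q g⁻¹ = suMat k⁻¹ := by
    have h3 : guToMat n F q g⁻¹ * guToMat n F q g = 1 := by
      rw [← map_mul, inv_mul_cancel, map_one]
    have h4 : suMat k * suMat k⁻¹ = 1 := suMat_mul_inv k
    calc guToMat n F q g⁻¹ = guToMat n F q g⁻¹ * (suMat k * suMat k⁻¹) := by rw [h4, mul_one]
      _ = (guToMat n F q g⁻¹ * guToMat n F q g) * suMat k⁻¹ := by rw [hg, mul_assoc]
      _ = suMat k⁻¹ := by rw [h3, one_mul]
  ext x
  induction x using QuotientGroup.induction_on with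
  | H s =>
    rw [phiPSU_mk]
    show (QuotientGroup.mk (k * s * k⁻¹) : PSU n F q) = _
    congr 1
    apply suMat_inj
    have h1 : suMat (conjSU g s) = guToMat n F q g * suMat s * guToMat n F q g⁻¹ := conjSU_coe g _
    rw [h1, hg, h2, suMat_mul, suMat_mul]

end

end Cfsg.Agent.Lib.helper50.PSUA
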