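import Mathlib
import Cfsg.Prelude.Def_LieTypeDatum
import Cfsg.Agent.Lib.helper50.PSUA9

/-!
# Automorphisms of `PSU_n`: every automorphism is induced by a semilinear unitary map

The correction by an element of `GU_n`, the vanishing of the remaining cocycle, rigidity, and the
final description `Aut(PSU_n) = PΓU_n`.
-/

set_option autoImplicit false

namespace Cfsg.Agent.Lib.helper50.PSUA

open Matrix Cfsg Cfsg.Agent.Lib.helper17 Cfsg.Agent.Lib.helper99

universe u

section
variable {n q : ℕ} {F : Type u} [Field F] [Fintype F] (hF : Fintype.card F = q ^ 2)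
include hF

theorem herm_decomp {u w : Fin n → F} (H : HP q u w) {y y' : Fin n → F} (hy : InW q u w y)
    (hy' : InW q u w y') (a b a' b' : F) :
    hermForm n F q (a • u + b • w + y) (a' • u + b' • w + y') =
      a * b' ^ q + b * a' ^ q + hermForm n F q y y' := by
  simp only [hermForm_add_left, hermForm_add_right hF, hermForm_smul_left, hermForm_smul_right,
    H.uu, H.ww, H.uw, H.wu hF, hy.1, hy.2, hy'.u hF, hy'.w hF]
  ring

omit hF [Fintype F] in
theorem proj0_add (u w x x' : Fin n → F) :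
    proj0 q u w (x + x') = proj0 q u w x + proj0 q u w x' := by
  unfold proj0
  rw [hermForm_add_left, hermForm_add_left]
  module

omit hF [Fintype F] in
theorem proj0_smul (u w : Fin n → F) (c : F) (x : Fin n → F) :
    proj0 q u w (c • x) = c • proj0 q u w x := by
  unfold proj0
  rw [hermForm_smul_left, hermForm_smul_left]
  module

variable {α : MulAut (PSU n F q)} {u w : Fin n → F} {A : (Fin n → F) → (Fin n → F)}
  {B : (Fin n → F) → F → F}

/-- **correction by `GU_n`**: if `A` is a linear similitude on the complement, then after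
composing with an element of `GU_n` the map `A` becomes the identity. -/
theorem exists_gu_correct (hn : 3 ≤ n) (hNS : NS hF α u w A B) (H : HP q u w)
    (hlin : ∀ y, InW q u w y → ∀ c : F, A (c • y) = c • A y)
    {c₀ : F} (hc₀ : c₀ ≠ 0) (hc₀q : c₀ ^ q = c₀)
    (hsim : ∀ y y', InW q u w y → InW q u w y' →
      hermForm n F q (A y) (A y') = c₀ * hermForm n F q y y') :
    ∃ g : ↥(GU n F q), FixX hF (phiPSU g) u ∧ FixX hF (phiPSU g) w ∧
      NS hF ((phiPSU g)⁻¹ * α) u w (fun y => y) (fun y β => c₀⁻¹ * B y β) := by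
  have hn0 : 0 < n := by omega
  obtain ⟨ρ, hρ⟩ := exists_norm_eq hF c₀ hc₀ hc₀q
  have hρ0 : ρ ≠ 0 := by
    rintro rfl
    rw [zero_mul] at hρ
    exact hc₀ hρ.symm
  have hρq : ρ ^ q ≠ 0 := pow_ne_zero _ hρ0
  obtain ⟨L, hL⟩ : ∃ L : (Fin n → F) →ₗ[F] (Fin n → F), ∀ x, L x =
      (ρ ^ q * hermForm n F q x w) • u + (ρ⁻¹ * hermForm n F q x u) • w +
        ρ⁻¹ • A (proj0 q u w x) := by
    refine ⟨{ toFun := fun x => (ρ ^ q * hermForm n F q x w) • u +
        (ρ⁻¹ * hermForm n F q x u) • w + ρ⁻¹ • A (proj0 q u w x)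
              map_add' := ?_
              map_smul' := ?_ }, fun x => rfl⟩
    · intro x x'
      rw [hermForm_add_left, hermForm_add_left, proj0_add,
        hNS.add hF hn0 H (proj0_mem hF H x) (proj0_mem hF H x')]
      module
    · intro c x
      simp only [RingHom.id_apply]
      rw [hermForm_smul_left, hermForm_smul_left, proj0_smul, hlin _ (proj0_mem hF H x) c]
      module
  obtain ⟨M, hM⟩ : ∃ M : Matrix (Fin n) (Fin n) F, ∀ x, M *ᵥ x = L x :=
    ⟨LinearMap.toMatrix' L, fun x => by rw [← Matrix.toLin'_apply, Matrix.toLin'_toMatrix']⟩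
  have hpres : ∀ x x', hermForm n F q (M *ᵥ x) (M *ᵥ x') = hermForm n F q x x' := by
    intro x x'
    have key : hermForm n F q x x' = hermForm n F q x w * hermForm n F q x' u ^ q +
        hermForm n F q x u * hermForm n F q x' w ^ q +
        hermForm n F q (proj0 q u w x) (proj0 q u w x') := by
      calc hermForm n F q x x' = hermForm n F q
            (hermForm n F q x w • u + hermForm n F q x u • w + proj0 q u w x)
            (hermForm n F q x' w • u + hermForm n F q x' u • w + proj0 q u w x') := by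
              rw [← decomp0, ← decomp0]
        _ = _ := herm_decomp hF H (proj0_mem hF H x) (proj0_mem hF H x') _ _ _ _
    rw [hM, hM, hL, hL, herm_decomp hF H ((hNS.mem hF H (proj0_mem hF H x)).smul _)
      ((hNS.mem hF H (proj0_mem hF H x')).smul _), hermForm_smul_left, hermForm_smul_right,
      hsim _ _ (proj0_mem hF H x) (proj0_mem hF H x'), key, mul_pow, mul_pow, inv_pow,
      pow_q_pow_q hF, ← hρ]
    field_simp
  obtain ⟨g, hg⟩ := exists_gu_of_preserves hF n M hpres
  have hp0u : proj0 q u w u = 0 := by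
    unfold proj0
    rw [H.uw, H.uu]
    module
  have hp0w : proj0 q u w w = 0 := by
    unfold proj0
    rw [H.ww, H.wu hF]
    module
  have hA0 := hNS.zero hF hn0 H
  have hgu : guToMat n F q g *ᵥ u = ρ ^ q • u := by
    rw [hg, hM, hL, H.uw, H.uu, hp0u, hA0]
    simp
  have hgw : guToMat n F q g *ᵥ w = ρ⁻¹ • w := by
    rw [hg, hM, hL, H.ww, H.wu hF, hp0w, hA0]
    simp
  have hgy : ∀ y, InW q u w y → guToMat n F q g *ᵥ y = ρ⁻¹ • A y := by
    intro y hy
    rw [hg, hM, hL, hy.1, hy.2, proj0_of_mem hy]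
    simp
  refine ⟨g, fixX_phi hF g H.uu hρq hgu, fixX_phi hF g H.ww (inv_ne_zero hρ0) hgw, ?_⟩
  intro y β hy hv
  obtain ⟨h1, h2, h3⟩ := hNS y β hy hv
  have hc₀inv : c₀⁻¹ * c₀ = 1 := inv_mul_cancel₀ hc₀
  have hv2 : Val q u y (c₀⁻¹ * B y β) := by
    refine ⟨H.uu, hy.1, ?_⟩
    have h4 := h2.2.2
    rw [hsim y y hy hy] at h4
    rw [mul_pow, inv_pow, hc₀q]
    linear_combination c₀⁻¹ * h4 - hermForm n F q y y * hc₀inv
  have hvg := val_gu g hv2
  rw [hgu, hgy y hy] at hvg
  have hv3 : Val q u (ρ⁻¹ • A y) (c₀⁻¹ * B y β) :=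
    ⟨H.uu, by rw [hermForm_smul_left, h1.1, mul_zero], hvg.2.2⟩
  have h6 : phiPSU g (QuotientGroup.mk (Eu hF u y (c₀⁻¹ * B y β)) : PSU n F q) =
      QuotientGroup.mk (Eu hF u (A y) (B y β)) := by
    rw [phiPSU_Eu hF g hv2, hgu, hgy y hy, Eu_smul hF (ρ ^ q) hv3, pow_q_pow_q hF, smul_smul,
      mul_inv_cancel₀ hρ0, one_smul]
    have h7 : ρ ^ q * ρ * (c₀⁻¹ * B y β) = B y β := by
      rw [← hρ]
      field_simp
    rw [h7]
  refine ⟨hy, hv2, ?_⟩
  rw [MulAut.mul_apply, h3, ← h6, MulAut.inv_apply_self]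

/-! ### the remaining cocycle vanishes -/

/-- a norm-one element that is not a square root of unity -/
theorem exists_norm_one_not_sq : ∃ μ : F, μ * μ ^ q = 1 ∧ μ ^ 2 ≠ 1 := by
  have hq2 := two_le_of_card_eq_sq hF
  by_contra hcon
  push Not at hcon
  have hle : rootsUnity F q ≤ rootsOfUnity 2 F := by
    intro a ha
    rw [mem_rootsOfUnity']
    have h1 : ((a : Fˣ) : F) ^ (q + 1) = 1 := by
      have := (mem_rootsUnity_iff q a).mp ha
      have h := congrArg Units.val this
      simpa using h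
    exact hcon _ (by rw [← pow_succ']; exact h1)
  have h1 := Subgroup.card_le_of_le hle
  have h2 := card_rootsUnity hF
  have h3 : Nat.card (rootsOfUnity 2 F) ≤ 2 := card_rootsOfUnity F 2
  omega

/-- a norm-one Levi element does not change `B` -/
theorem NS.torus_one (hn : 0 < n) (hNS : NS hF α u w (fun y => y) B) (H : HP q u w)
    (hαu : FixX hF α u) (hαw : FixX hF α w) (hB0 : ∀ b : F, b ^ q = -b → B 0 b = b)
    {t : ↥(SU n F q)} {l m : F} (ht : Lev q u w t l m) (hl : l * l ^ q = 1)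
    {y : Fin n → F} {β : F} (hy : InW q u w y) (hv : Val q u y β) :
    B (l ^ q • (suMat t *ᵥ y)) β = B y β := by
  obtain ⟨t', l', m', hα', ht'⟩ := exists_lev_image hF hn H hαu hαw ht
  obtain ⟨κ, hκ0, hκ⟩ := exists_skew_ne_zero hF
  have h0 := (hNS.torus hF hn H ht ht' hα' InW.zero (val_tr hF H.uu hκ)).2
  rw [Matrix.mulVec_zero, smul_zero, hl, one_mul, hB0 κ hκ] at h0
  have hl' : l' * l' ^ q = 1 := by
    have h1 : (l' * l' ^ q - 1) * κ = 0 := by linear_combination -h0
    rcases mul_eq_zero.mp h1 with h2 | h2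
    · linear_combination h2
    · exact absurd h2 hκ0
  have h3 := (hNS.torus hF hn H ht ht' hα' hy hv).2
  rw [hl, one_mul, hl', one_mul] at h3
  exact h3

/-- **the cocycle vanishes**: if `A` is the identity and `α` fixes the root group of `u`
elementwise, then `α` fixes the whole unipotent radical elementwise. -/
theorem NS.B_eq (hn : 3 ≤ n) (h32 : ¬ (n = 3 ∧ q = 2)) (hNS : NS hF α u w (fun y => y) B)
    (H : HP q u w) (hαu : FixX hF α u) (hαw : FixX hF α w)
    (hB0 : ∀ b : F, b ^ q = -b → B 0 b = b) :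
    ∀ y β, InW q u w y → Val q u y β → B y β = β := by
  have hn0 : 0 < n := by omega
  have hq2 := two_le_of_card_eq_sq hF
  have hex : ∀ y : Fin n → F, ∃ β : F, InW q u w y → Val q u y β := by
    intro y
    by_cases hy : InW q u w y
    · obtain ⟨β, hβ⟩ := exists_val hF H.uu hy.1
      exact ⟨β, fun _ => hβ⟩
    · exact ⟨0, fun h => absurd h hy⟩
  choose β₀ hβ₀ using hex
  obtain ⟨D, hDdef⟩ : ∃ D : (Fin n → F) → F, D = fun y => B y (β₀ y) - β₀ y := ⟨_, rfl⟩
  have hD : ∀ y β, InW q u w y → Val q u y β → B y β = β + D y := by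
    intro y β hy hv
    have hc := skew_of_val_val hF hv (hβ₀ y hy)
    have h1 := hNS.add_skew hF hn0 H hy (hβ₀ y hy) hc
    rw [hB0 _ hc] at h1
    have h2 : β₀ y + (β - β₀ y) = β := by ring
    rw [h2] at h1
    rw [h1, hDdef]
    ring
  have hDadd : ∀ y y', InW q u w y → InW q u w y' → D (y + y') = D y + D y' := by
    intro y y' hy hy'
    have hv := hβ₀ y hy
    have hv' := hβ₀ y' hy'
    have h1 := (hNS.mul hF hn0 H hy hy' hv hv').2
    rw [hD _ _ (hy.add hy') (val_mul hF hv hv'), hD _ _ hy hv, hD _ _ hy' hv'] at h1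
    linear_combination h1
  have hD0 : D 0 = 0 := by
    have := hDadd 0 0 InW.zero InW.zero
    rw [add_zero] at this
    linear_combination -this
  have hDneg : ∀ y, InW q u w y → D (-y) = -D y := by
    intro y hy
    have := hDadd y (-y) hy hy.neg
    rw [add_neg_cancel, hD0] at this
    linear_combination -this
  have hDsub : ∀ y y', InW q u w y → InW q u w y' → D (y - y') = D y - D y' := by
    intro y y' hy hy'
    rw [sub_eq_add_neg, hDadd y (-y') hy hy'.neg, hDneg y' hy']
    ring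
  have hvan : ∀ (y : Fin n → F) (s : F), InW q u w y → s ≠ 1 →
      (∀ c : F, D (s • (c • y)) = D (c • y)) → D y = 0 := by
    intro y s hy hs hinv
    have hs1 : s - 1 ≠ 0 := sub_ne_zero.mpr hs
    have h1 : y = s • ((s - 1)⁻¹ • y) - (s - 1)⁻¹ • y := by
      rw [smul_smul, ← sub_smul]
      have : s * (s - 1)⁻¹ - (s - 1)⁻¹ = 1 := by
        field_simp
      rw [this, one_smul]
    rw [h1, hDsub _ _ ((hy.smul _).smul _) (hy.smul _), hinv, sub_self]
  have hDtor : ∀ (t : ↥(SU n F q)) (l m : F), Lev q u w t l m → l * l ^ q = 1 →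
      ∀ y, InW q u w y → D (l ^ q • (suMat t *ᵥ y)) = D y := by
    intro t l m ht hl y hy
    have hv := hβ₀ y hy
    have h1 := hNS.torus_one hF hn0 H hαu hαw hB0 ht hl hy hv
    have hc := ht.conj hF H hy hv
    have hv' : Val q u (l ^ q • (suMat t *ᵥ y)) (β₀ y) := by
      have := hc.2.1
      rwa [hl, one_mul] at this
    rw [hD _ _ hc.1 hv', hD _ _ hy hv] at h1
    linear_combination h1
  intro y β hy hv
  rw [hD y β hy hv]
  suffices hDy : D y = 0 by rw [hDy, add_zero]
  by_cases hn4 : 4 ≤ n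
  · obtain ⟨μ, hμ, hμ2⟩ := exists_norm_one_not_sq hF
    have hμ0 : μ ≠ 0 := by
      rintro rfl
      rw [zero_mul] at hμ
      exact zero_ne_one hμ
    have hiso : ∀ e, InW q u w e → hermForm n F q e e = 0 → D e = 0 := by
      intro e he hee
      by_cases he0 : e = 0
      · rw [he0, hD0]
      obtain ⟨f', hf'W, Hef⟩ := exists_partner_W hF H he he0 hee
      obtain ⟨ht, hte⟩ := tor4_lev hF H Hef he hf'W hμ0
      apply hvan e (μ ^ q * μ ^ q) he ?_ ?_
      · intro h1
        apply hμ2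
        calc μ ^ 2 = μ ^ 2 * (μ ^ q * μ ^ q) := by rw [h1, mul_one]
          _ = (μ * μ ^ q) ^ 2 := by ring
          _ = 1 := by rw [hμ, one_pow]
      · intro c
        have h2 := hDtor _ _ _ ht hμ (c • e) (he.smul c)
        rw [Matrix.mulVec_smul, hte] at h2
        rw [← h2]
        congr 1
        module
    obtain ⟨e₁, he₁W, he₁0, he₁e₁⟩ := exists_iso_W hF hn4 H
    obtain ⟨f₁, hf₁W, Hef⟩ := exists_partner_W hF H he₁W he₁0 he₁e₁
    obtain ⟨e₂, c, he₂W, he₂e₂, hx⟩ := span_iso_W hF he₁W hf₁W Hef hy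
    have hsm : ∀ (a : F) (e : Fin n → F), hermForm n F q e e = 0 →
        hermForm n F q (a • e) (a • e) = 0 := by
      intro a e h
      rw [hermForm_smul_left, hermForm_smul_right, h, mul_zero, mul_zero]
    rw [hx, hDsub _ _ ((((he₁W.smul _).add (hf₁W.smul _)).add he₂W).sub (he₁W.smul c)) hf₁W,
      hDsub _ _ (((he₁W.smul _).add (hf₁W.smul _)).add he₂W) (he₁W.smul c),
      hDadd _ _ ((he₁W.smul _).add (hf₁W.smul _)) he₂W, hDadd _ _ (he₁W.smul _) (hf₁W.smul _),
      hiso _ (he₁W.smul _) (hsm _ _ he₁e₁), hiso _ (hf₁W.smul _) (hsm _ _ Hef.ww),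
      hiso _ he₂W he₂e₂, hiso _ (he₁W.smul c) (hsm _ _ he₁e₁), hiso _ hf₁W Hef.ww]
    ring
  · have hn3 : n = 3 := by omega
    subst hn3
    have hq3 : 3 ≤ q := by
      by_contra hc
      exact h32 ⟨rfl, by omega⟩
    obtain ⟨μ, hμ, hμ3⟩ := exists_norm_one_not_cube hF hq3
    have hμ0 : μ ≠ 0 := by
      rintro rfl
      rw [zero_mul] at hμ
      exact zero_ne_one hμ
    obtain ⟨z, hzW, hzz, hline⟩ := W_line3 hF H
    obtain ⟨ht, htz⟩ := tor3_lev hF H hzW hzz hμ0
    apply hvan y (μ ^ q * (μ ^ q / μ)) hy ?_ ?_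
    · intro h1
      apply hμ3
      have h2 : μ ^ q * μ ^ q = μ := by
        calc μ ^ q * μ ^ q = μ ^ q * (μ ^ q / μ) * μ := by field_simp
          _ = μ := by rw [h1, one_mul]
      calc μ ^ 3 = μ ^ 2 * (μ ^ q * μ ^ q) := by rw [h2]; ring
        _ = (μ * μ ^ q) ^ 2 := by ring
        _ = 1 := by rw [hμ, one_pow]
    · intro c
      obtain ⟨t₀, ht₀⟩ := hline y hy
      have h2 := hDtor _ _ _ ht hμ (c • y) (hy.smul c)
      rw [ht₀, Matrix.mulVec_smul, Matrix.mulVec_smul, htz] at h2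
      rw [ht₀, ← h2]
      congr 1
      module

/-! ### rigidity -/

/-- **rigidity**: an automorphism fixing the unipotent radical of `u` elementwise and the root
group of `w` is trivial. -/
theorem rigid (hn : 3 ≤ n) (h32 : ¬ (n = 3 ∧ q = 2)) (α : MulAut (PSU n F q)) {u w : Fin n → F}
    (H : HP q u w) (hαw : FixX hF α w)
    (hfix : ∀ y β, InW q u w y → Val q u y β →
      α (QuotientGroup.mk (Eu hF u y β)) = QuotientGroup.mk (Eu hF u y β)) : α = 1 := by
  have hn0 : 0 < n := by omega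
  obtain ⟨κ, hκ0, hκ⟩ := exists_skew_ne_zero hF
  have hu : ∀ c : F, c ^ q = -c →
      α (QuotientGroup.mk (Tr hF u c)) = QuotientGroup.mk (Tr hF u c) :=
    fun c hc => hfix 0 c InW.zero (val_tr hF H.uu hc)
  have hw : ∀ b : F, b ^ q = -b →
      α (QuotientGroup.mk (Tr hF w b)) = QuotientGroup.mk (Tr hF w b) := by
    intro b hb
    by_cases hb0 : b = 0
    · rw [hb0, Tr_zero hF H.ww]
      exact map_one α
    obtain ⟨b', hb', hαb⟩ := hαw.apply hF hb
    have binv : (b⁻¹) ^ q = -b⁻¹ := by rw [inv_pow, hb, inv_neg]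
    have e1 : suMat (Tr hF w b) *ᵥ u = u + b • w := by
      rw [Tr_mulVec hF H.ww hb, H.uw, mul_one]
    have e1' : suMat (Tr hF w b') *ᵥ u = u + b' • w := by
      rw [Tr_mulVec hF H.ww hb', H.uw, mul_one]
    have e2 : suMat (Tr hF u b⁻¹) *ᵥ w = w + b⁻¹ • u := by
      rw [Tr_mulVec hF H.uu binv, H.wu hF, mul_one]
    have e3 : u + b • w = b • (w + b⁻¹ • u) := by
      rw [smul_add, smul_smul, mul_inv_cancel₀ hb0, one_smul, add_comm]
    have iso1 : hermForm n F q (u + b' • w) (u + b' • w) = 0 := by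
      rw [← e1', suMat_isIsom, H.uu]
    have iso2 : hermForm n F q (w + b⁻¹ • u) (w + b⁻¹ • u) = 0 := by
      rw [← e2, suMat_isIsom, H.ww]
    have hne : u + b' • w ≠ 0 := by
      rw [← e1']
      exact mulVec_ne_zero _ H.u_ne
    have x1 := conj_mk_Tr hF (Tr hF w b) H.uu hκ
    rw [e1, e3, Tr_smul hF b iso2 hκ] at x1
    have x2 := conj_mk_Tr hF (Tr hF u b⁻¹) H.ww (skew_smul_norm hF b hκ)
    rw [e2] at x2
    have x3 := x1.trans x2.symm
    have x4 := congrArg α x3
    obtain ⟨c'', hc'', hαc⟩ := hαw.apply hF (skew_smul_norm hF b hκ)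
    rw [map_mul, map_mul, map_inv, map_mul, map_mul, map_inv, hαb, hu κ hκ, hu b⁻¹ binv, hαc,
      conj_mk_Tr hF (Tr hF w b') H.uu hκ, e1', conj_mk_Tr hF (Tr hF u b⁻¹) H.ww hc'', e2] at x4
    obtain ⟨a, ha⟩ := span_of_mk_Tr_eq hF hn0 hne iso1 iso2 hκ hc'' hκ0 x4
    have h1 := congrArg (fun z => hermForm n F q z w) ha
    have h2 := congrArg (fun z => hermForm n F q z u) ha
    simp only [hermForm_add_left, hermForm_smul_left, H.uu, H.ww, H.uw, H.wu hF] at h1 h2
    have hab : a = b := by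
      have h3 : a * b⁻¹ = 1 := by linear_combination -h1
      calc a = a * b⁻¹ * b := by rw [mul_assoc, inv_mul_cancel₀ hb0, mul_one]
        _ = b := by rw [h3, one_mul]
    have hb'b : b' = b := by
      rw [← hab]
      linear_combination h2
    rw [hαb, hb'b]
  -- good vectors
  have good1 : ∀ x : Fin n → F, hermForm n F q x x = 0 → hermForm n F q x u = 1 →
      ∀ c : F, c ^ q = -c → α (QuotientGroup.mk (Tr hF x c)) = QuotientGroup.mk (Tr hF x c) := by
    intro x hxx hxu c hc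
    obtain ⟨y, β, hy, hv, hx⟩ := exists_Eu_to hF H hxx hxu
    have h1 := conj_mk_Tr hF (Eu hF u y β) H.ww hc
    rw [hx] at h1
    rw [← h1, map_mul, map_mul, map_inv, hfix y β hy hv, hw c hc]
  have good2 : ∀ v : Fin n → F, hermForm n F q v v = 0 → hermForm n F q v u ≠ 0 →
      ∀ c : F, c ^ q = -c → α (QuotientGroup.mk (Tr hF v c)) = QuotientGroup.mk (Tr hF v c) := by
    intro v hvv hvu c hc
    obtain ⟨a, ha⟩ : ∃ a : F, a = hermForm n F q v u := ⟨_, rfl⟩
    rw [← ha] at hvu
    obtain ⟨x, hx⟩ : ∃ x : Fin n → F, x = a⁻¹ • v := ⟨_, rfl⟩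
    have hxx : hermForm n F q x x = 0 := by
      rw [hx, hermForm_smul_left, hermForm_smul_right, hvv, mul_zero, mul_zero]
    have hxu : hermForm n F q x u = 1 := by
      rw [hx, hermForm_smul_left, ← ha, inv_mul_cancel₀ hvu]
    have hv' : v = a • x := by
      rw [hx, smul_smul, mul_inv_cancel₀ hvu, one_smul]
    rw [hv', Tr_smul hF a hxx hc]
    exact good1 x hxx hxu _ (skew_smul_norm hF a hc)
  have good3 : ∀ v : Fin n → F, hermForm n F q v v = 0 →
      ∀ c : F, c ^ q = -c → α (QuotientGroup.mk (Tr hF v c)) = QuotientGroup.mk (Tr hF v c) := by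
    intro v hvv c hc
    by_cases hvu : hermForm n F q v u = 0
    · by_cases hv0 : v = 0
      · have h1 : Tr hF v c = 1 := by
          apply suMat_inj
          rw [suMat_Tr hF hvv hc, hv0, suMat_one]
          unfold unitaryTransvection
          simp
        rw [h1]
        exact map_one α
      obtain ⟨x, hxx, hux, hvx⟩ := exists_common_nonorth hF n u v H.u_ne hv0 H.uu
        (hermForm_eq_zero_symm hF n v u hvu)
      have hxu : hermForm n F q x u ≠ 0 := fun h => hux (hermForm_eq_zero_symm hF n x u h)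
      have hgx := good2 x hxx hxu κ hκ
      have hv'v' : hermForm n F q (suMat (Tr hF x κ) *ᵥ v) (suMat (Tr hF x κ) *ᵥ v) = 0 := by
        rw [suMat_isIsom, hvv]
      have hv'u : hermForm n F q (suMat (Tr hF x κ) *ᵥ v) u ≠ 0 := by
        rw [Tr_mulVec hF hxx hκ, hermForm_add_left, hermForm_smul_left, hvu, zero_add]
        exact mul_ne_zero (mul_ne_zero hκ0 hvx) hxu
      have hgv' := good2 _ hv'v' hv'u c hc
      have e := conj_mk_Tr hF (Tr hF x κ) hvv hc
      have e' : (QuotientGroup.mk (Tr hF v c) : PSU n F q) =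
          (QuotientGroup.mk (Tr hF x κ))⁻¹ * QuotientGroup.mk (Tr hF (suMat (Tr hF x κ) *ᵥ v) c) *
            QuotientGroup.mk (Tr hF x κ) := by
        rw [← e]
        group
      rw [e', map_mul, map_mul, map_inv, hgx, hgv']
    · exact good2 v hvv hvu c hc
  -- generators
  have hall : ∀ g : ↥(SU n F q), α (QuotientGroup.mk g) = QuotientGroup.mk g := by
    intro g
    have hg : g ∈ TU n F q := by
      rw [TU_eq_top hF n hn h32]
      exact Subgroup.mem_top g
    unfold TU at hg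
    induction hg using Subgroup.closure_induction with
    | mem A hA =>
      obtain ⟨v, c, hvv, hA⟩ := hA
      by_cases hv0 : v = 0
      · have h1 : A = 1 := by
          apply suMat_inj
          rw [suMat_one]
          show ((A : Matrix.SpecialLinearGroup (Fin n) F) : Matrix (Fin n) (Fin n) F) = 1
          rw [hA, hv0]
          unfold unitaryTransvection
          simp
        rw [h1]
        exact map_one α
      · have hc := skew_of_transv_mem hF n v c hv0 hvv A hA
        have h1 : A = Tr hF v c := by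
          apply suMat_inj
          rw [suMat_Tr hF hvv hc]
          exact hA
        rw [h1]
        exact good3 v hvv c hc
    | one => exact map_one α
    | mul a b _ _ iha ihb =>
      rw [QuotientGroup.mk_mul, map_mul, iha, ihb]
    | inv a _ iha =>
      rw [QuotientGroup.mk_inv, map_inv, iha]
  ext x
  induction x using QuotientGroup.induction_on with
  | H s => exact hall s

/-! ### the automorphism group -/

/-- **`Aut(PSU_n(q)) = PΓU_n(q)`**: every automorphism of `PSU_n(q)` is the composite of a field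
automorphism and conjugation by an element of `GU_n(q)`. -/
theorem aut_PSU (hn : 3 ≤ n) (h32 : ¬ (n = 3 ∧ q = 2)) {p f : ℕ} [Fact p.Prime] (hq : q = p ^ f)
    (hf : 1 ≤ f) (β : MulAut (PSU n F q)) :
    ∃ (g : ↥(GU n F q)) (σ : F ≃+* F), β = phiPSU g * fieldPSU σ := by
  have hn0 : 0 < n := by omega
  obtain ⟨u, w, H, hrat⟩ := exists_rational_pair hF hn hq hf
  obtain ⟨k, hku, hkw⟩ := exists_normalize hF hn h32 hq hf β H
  obtain ⟨g₀, hg₀⟩ := conj_eq_phi hF k
  obtain ⟨α, hα⟩ : ∃ α, α = MulAut.conj (QuotientGroup.mk k : PSU n F q) * β := ⟨_, rfl⟩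
  rw [← hα] at hku hkw
  obtain ⟨A, B, hNS⟩ := exists_NS hF hn hq hf α H hku
  obtain ⟨σ, hσ⟩ := hNS.exists_sigma hF hn h32 hq hf H hku hkw
  obtain ⟨A₁, hA₁⟩ : ∃ A₁ : (Fin n → F) → (Fin n → F), A₁ = fun y i => σ.symm (A y i) :=
    ⟨_, rfl⟩
  obtain ⟨B₁, hB₁⟩ : ∃ B₁ : (Fin n → F) → F → F, B₁ = fun y β => σ.symm (B y β) := ⟨_, rfl⟩
  have hNS₁ : NS hF (fieldPSU σ.symm * α) u w A₁ B₁ := by
    rw [hA₁, hB₁]
    exact hNS.field hF σ.symm (hrat σ.symm).1 (hrat σ.symm).2
  have hu₁ : FixX hF (fieldPSU σ.symm * α) u :=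
    (fixX_field hF σ.symm H.uu (hrat σ.symm).1).mul hF hku
  have hw₁ : FixX hF (fieldPSU σ.symm * α) w :=
    (fixX_field hF σ.symm H.ww (hrat σ.symm).2).mul hF hkw
  have hlin : ∀ y, InW q u w y → ∀ c : F, A₁ (c • y) = c • A₁ y := by
    intro y hy c
    rw [hA₁]
    funext i
    simp only [hσ y hy c, Pi.smul_apply, smul_eq_mul, map_mul, RingEquiv.symm_apply_apply]
  obtain ⟨c₀, hc₀, hc₀q, hB0, hsim⟩ := hNS₁.similitude hF hn H (RingEquiv.refl F)
    (fun y hy c => hlin y hy c)
  obtain ⟨g, hgu, hgw, hNS₂⟩ := exists_gu_correct hF hn hNS₁ H hlin hc₀ hc₀q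
    (fun y y' hy hy' => hsim y y' hy hy')
  have hu₂ : FixX hF ((phiPSU g)⁻¹ * (fieldPSU σ.symm * α)) u := (hgu.inv hF).mul hF hu₁
  have hw₂ : FixX hF ((phiPSU g)⁻¹ * (fieldPSU σ.symm * α)) w := (hgw.inv hF).mul hF hw₁
  have hB : ∀ b : F, b ^ q = -b → c₀⁻¹ * B₁ 0 b = b := by
    intro b hb
    rw [hB0 b hb]
    show c₀⁻¹ * (c₀ * b) = b
    rw [← mul_assoc, inv_mul_cancel₀ hc₀, one_mul]
  have hBeq := hNS₂.B_eq hF hn h32 H hu₂ hw₂ hB
  have h1 : (phiPSU g)⁻¹ * (fieldPSU σ.symm * α) = 1 :=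
    rigid hF hn h32 _ H hw₂ (fun y β hy hv => by
      obtain ⟨-, -, h3⟩ := hNS₂ y β hy hv
      rw [h3]
      show (QuotientGroup.mk (Eu hF u y (c₀⁻¹ * B₁ y β)) : PSU n F q) = _
      rw [hBeq y β hy hv])
  have h2 : phiPSU g = fieldPSU σ.symm * α := inv_mul_eq_one.mp h1
  have h3 : fieldPSU (n := n) (q := q) σ * fieldPSU σ.symm = 1 := by
    rw [fieldPSU_mul]
    have : σ * σ.symm = 1 := by
      ext x
      simp [RingAut.mul_apply]
    rw [this, fieldPSU_one]
  have h4 : α = fieldPSU σ * phiPSU g := by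
    rw [h2, ← mul_assoc, h3, one_mul]
  refine ⟨g₀⁻¹ * mapGU σ g, σ, ?_⟩
  rw [map_mul, mul_assoc, ← fieldPSU_phi, ← h4, hα, map_inv, ← hg₀, inv_mul_cancel_left]

end

end Cfsg.Agent.Lib.helper50.PSUA
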