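import Mathlib
import Cfsg.Prelude.Def_LieTypeDatum
import Cfsg.Agent.Lib.helper50.PSUA10
import Cfsg.Agent.Lib.helper48.SplitClass

/-!
# Field automorphisms of `PSU_n`: generalities

The standard field automorphisms as a homomorphism, normality of `Inndiag` in the automorphism group,
and the twisted norms computing powers of elements of a coset `Inndiag · φ_σ`.
-/

set_option autoImplicit false

namespace Cfsg.Agent.Lib.helper50.PSUF

open Matrix Cfsg Cfsg.Agent.Lib.helper17 Cfsg.Agent.Lib.helper99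
open Cfsg.Agent.Lib.helper47.PSLn

universe u

section
variable {n q : ℕ} {F : Type u} [Field F]

/-- the standard field automorphisms as a homomorphism -/
def fieldPSUHom : (F ≃+* F) →* MulAut (PSU n F q) where
  toFun := fieldPSU
  map_one' := fieldPSU_one
  map_mul' σ τ := (fieldPSU_mul σ τ).symm

theorem fieldPSUHom_apply (σ : F ≃+* F) : fieldPSUHom (n := n) (q := q) σ = fieldPSU σ := rfl

theorem fieldPSU_pow (σ : F ≃+* F) (k : ℕ) :
    (fieldPSU σ : MulAut (PSU n F q)) ^ k = fieldPSU (σ ^ k) :=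
  (map_pow (fieldPSUHom (n := n) (q := q)) σ k).symm

theorem fieldPSU_inv (σ : F ≃+* F) :
    (fieldPSU σ : MulAut (PSU n F q))⁻¹ = fieldPSU σ⁻¹ :=
  (map_inv (fieldPSUHom (n := n) (q := q)) σ).symm

/-- the twisted partial norms in `GU_n` -/
def NkGU (σ : F ≃+* F) (g : ↥(GU n F q)) : ℕ → ↥(GU n F q)
  | 0 => 1
  | k + 1 => g * mapGU σ (NkGU σ g k)

theorem NkGU_coe (σ : F ≃+* F) (g : ↥(GU n F q)) (k : ℕ) :
    ((NkGU σ g k : GL (Fin n) F) : Matrix (Fin n) (Fin n) F) =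
      Nk σ ((g : GL (Fin n) F) : Matrix (Fin n) (Fin n) F) k := by
  induction k with
  | zero => rfl
  | succ k ih =>
    show ((g : GL (Fin n) F) : Matrix (Fin n) (Fin n) F) *
      (((NkGU σ g k : GL (Fin n) F) : Matrix (Fin n) (Fin n) F).map σ) = _
    rw [ih]
    rfl

theorem pow_phi_field (σ : F ≃+* F) (g : ↥(GU n F q)) (k : ℕ) :
    (phiPSU g * fieldPSU σ : MulAut (PSU n F q)) ^ k = phiPSU (NkGU σ g k) * fieldPSU (σ ^ k) := by
  induction k with
  | zero =>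
    rw [pow_zero, pow_zero, fieldPSU_one, mul_one]
    show 1 = phiPSU 1
    rw [map_one]
  | succ k ih =>
    rw [pow_succ', ih]
    show _ = phiPSU (g * mapGU σ (NkGU σ g k)) * fieldPSU (σ ^ (k + 1))
    rw [map_mul, pow_succ', ← fieldPSU_mul, mul_assoc, ← mul_assoc (fieldPSU σ), fieldPSU_phi]
    simp only [mul_assoc]

end

section
variable {n q : ℕ} {F : Type u} [Field F] [Fintype F] (hF : Fintype.card F = q ^ 2)
include hF

theorem fieldPSUHom_injective (hn : 3 ≤ n) :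
    Function.Injective (fieldPSUHom (n := n) (q := q) (F := F)) := by
  rw [injective_iff_map_eq_one]
  intro τ h
  exact field_not_inner hF hn 1 τ (by rw [map_one]; exact h.symm)

theorem orderOf_fieldPSU (hn : 3 ≤ n) (σ : F ≃+* F) :
    orderOf (fieldPSU σ : MulAut (PSU n F q)) = orderOf σ :=
  orderOf_injective fieldPSUHom (fieldPSUHom_injective hF hn) σ

/-- `Inndiag(PSU_n)` is normalised by every automorphism -/
theorem conj_phi (hn : 3 ≤ n) (h32 : ¬ (n = 3 ∧ q = 2)) {p f : ℕ} [Fact p.Prime] (hq : q = p ^ f)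
    (hf : 1 ≤ f) (α : MulAut (PSU n F q)) (g : ↥(GU n F q)) :
    ∃ g' : ↥(GU n F q), α * phiPSU g * α⁻¹ = phiPSU g' := by
  obtain ⟨a, τ, rfl⟩ := PSUA.aut_PSU hF hn h32 hq hf α
  refine ⟨a * mapGU τ g * a⁻¹, ?_⟩
  rw [map_mul, map_mul, map_inv]
  calc phiPSU a * fieldPSU τ * phiPSU g * (phiPSU a * fieldPSU τ)⁻¹
      = phiPSU a * (fieldPSU τ * phiPSU g) * (fieldPSU τ)⁻¹ * (phiPSU a)⁻¹ := by group
    _ = phiPSU a * phiPSU (mapGU τ g) * (phiPSU a)⁻¹ := by
        rw [fieldPSU_phi]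
        group

/-- an `Aut`-conjugate of a standard field automorphism is an `Inndiag`-conjugate -/
theorem exists_phi_conj (hn : 3 ≤ n) (h32 : ¬ (n = 3 ∧ q = 2)) {p f : ℕ} [Fact p.Prime]
    (hq : q = p ^ f) (hf : 1 ≤ f) (α : MulAut (PSU n F q)) (σ : F ≃+* F) :
    ∃ g : ↥(GU n F q), α * fieldPSU σ * α⁻¹ = phiPSU g * fieldPSU σ * (phiPSU g)⁻¹ := by
  obtain ⟨a, τ, rfl⟩ := PSUA.aut_PSU hF hn h32 hq hf α
  refine ⟨a, ?_⟩
  have hff : (fieldPSU τ : MulAut (PSU n F q)) * fieldPSU σ = fieldPSU σ * fieldPSU τ := by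
    rw [fieldPSU_mul, fieldPSU_mul, Cfsg.Agent.Lib.helper48.Split.ringAut_comm]
  calc phiPSU a * fieldPSU τ * fieldPSU σ * (phiPSU a * fieldPSU τ)⁻¹
      = phiPSU a * (fieldPSU τ * fieldPSU σ) * (fieldPSU τ)⁻¹ * (phiPSU a)⁻¹ := by group
    _ = phiPSU a * fieldPSU σ * (phiPSU a)⁻¹ := by
        rw [hff]
        group

theorem inndiag_conj_iff (g : ↥(GU n F q)) (a : MulAut (PSU n F q)) :
    a ∈ inndiagPSU n F q ↔ phiPSU g * a * (phiPSU g)⁻¹ ∈ inndiagPSU n F q := by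
  have hg : phiPSU g ∈ inndiagPSU n F q := by
    rw [inndiagPSU_eq]
    exact ⟨g, rfl⟩
  constructor
  · intro ha
    exact (inndiagPSU n F q).mul_mem ((inndiagPSU n F q).mul_mem hg ha)
      ((inndiagPSU n F q).inv_mem hg)
  · intro ha
    have h1 : a = (phiPSU g)⁻¹ * (phiPSU g * a * (phiPSU g)⁻¹) * phiPSU g := by group
    rw [h1]
    exact (inndiagPSU n F q).mul_mem ((inndiagPSU n F q).mul_mem ((inndiagPSU n F q).inv_mem hg) ha)
      hg

theorem inn_conj_iff (α t : MulAut (PSU n F q)) :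
    t ∈ Cfsg.Inn (PSU n F q) ↔ α * t * α⁻¹ ∈ Cfsg.Inn (PSU n F q) := by
  constructor
  · intro ht
    exact (Cfsg.innNormal _).conj_mem t ht α
  · intro ht
    have h1 : t = α⁻¹ * (α * t * α⁻¹) * α⁻¹⁻¹ := by group
    rw [h1]
    exact (Cfsg.innNormal _).conj_mem _ ht α⁻¹

end

end Cfsg.Agent.Lib.helper50.PSUF
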