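import Mathlib
import Cfsg.Prelude.Def_LieTypeDatum
import Cfsg.Agent.Lib.helper50.PSUF1
import Cfsg.Agent.Lib.helper50.FieldAutGU
import Cfsg.Agent.Lib.helper48.UnitaryConj

/-!
# Lang's theorem for `GU_n` and a field automorphism of odd prime order

If `σ` is a field automorphism of odd prime order `r` and `(Φ(g) φ_σ)^r = 1` for some `g ∈ GU_n`, then
`Φ(g) φ_σ` is conjugate to `φ_σ` under `Φ(GU_n)`.
-/

set_option autoImplicit false

namespace Cfsg.Agent.Lib.helper50.PSUF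

open Matrix Cfsg Cfsg.Agent.Lib.helper17 Cfsg.Agent.Lib.helper99
open Cfsg.Agent.Lib.helper47.PSLn Cfsg.Agent.Lib.helper48

universe u

section
variable {n q : ℕ} {F : Type u} [Field F] [Fintype F] (hF : Fintype.card F = q ^ 2)
include hF

/-- the fixed field of a field automorphism of odd prime order `r` of the field with `q² = q₀^{2r}`
elements has `q₀²` elements, and on it the `q`-th power map is the `q₀`-th power map -/
theorem fixed_data {q₀ r : ℕ} (hr : r.Prime) (hr2 : r ≠ 2) (hq : q = q₀ ^ r) (σ : F ≃+* F)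
    (hσ : orderOf σ = r) :
    Nat.card (FixedPoints.subfield (Subgroup.zpowers σ) F) = q₀ ^ 2 ∧
      ∀ x : FixedPoints.subfield (Subgroup.zpowers σ) F, (x : F) ^ q = (x : F) ^ q₀ := by
  classical
  obtain ⟨K₀, hK₀def⟩ : ∃ K₀ : Subfield F, K₀ = FixedPoints.subfield (Subgroup.zpowers σ) F :=
    ⟨_, rfl⟩
  rw [← hK₀def]
  haveI : Fintype K₀ := Fintype.ofFinite _
  have hK₀ : Nat.card K₀ = q₀ ^ 2 := by
    rw [hK₀def]
    refine fa_card_fixed σ hr ?_ hσ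
    rw [hF, hq, ← pow_mul, ← pow_mul, mul_comm]
  have hK₀' : Fintype.card K₀ = q₀ ^ 2 := by rw [← Nat.card_eq_fintype_card]; exact hK₀
  refine ⟨hK₀, ?_⟩
  have hodd : Odd r := hr.odd_of_ne_two hr2
  obtain ⟨m, hm⟩ := hodd
  intro x
  have h1 : q = (q₀ ^ 2) ^ m * q₀ := by
    rw [hq, hm, ← pow_mul, ← pow_succ]
  rw [h1, pow_mul]
  congr 1
  have h2 : x ^ (Fintype.card K₀) ^ m = x := FiniteField.pow_card_pow m x
  rw [hK₀'] at h2
  have h3 := congrArg (fun y : K₀ => (y : F)) h2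
  simpa using h3

/-- a fixed norm-one scalar is the `σ`-norm of a norm-one scalar -/
theorem exists_unitary_norm {q₀ r : ℕ} (hr : r.Prime) (hr2 : r ≠ 2) (hq : q = q₀ ^ r)
    (σ : F ≃+* F) (hσ : orderOf σ = r) (l : F) (hfix : σ l = l) (hl : l * l ^ q = 1) :
    ∃ μ : F, μ * μ ^ q = 1 ∧ ∏ i ∈ Finset.range r, (σ ^ i) μ = l := by
  classical
  obtain ⟨hK₀, hpow⟩ := fixed_data hF hr hr2 hq σ hσ
  obtain ⟨K₀, hK₀def⟩ : ∃ K₀ : Subfield F, K₀ = FixedPoints.subfield (Subgroup.zpowers σ) F :=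
    ⟨_, rfl⟩
  rw [← hK₀def] at hK₀ hpow
  haveI : Fintype K₀ := Fintype.ofFinite _
  have hK₀' : Fintype.card K₀ = q₀ ^ 2 := by rw [← Nat.card_eq_fintype_card]; exact hK₀
  have hlK : l ∈ K₀ := by
    rw [hK₀def]
    exact (fa_mem_fixed_iff σ l).mpr hfix
  have hl₀ : (⟨l, hlK⟩ : K₀) * (⟨l, hlK⟩ : K₀) ^ q₀ = 1 := by
    apply Subtype.ext
    have h1 := hpow ⟨l, hlK⟩
    show l * l ^ q₀ = 1
    rw [← hl]
    congr 1
    exact h1.symm
  obtain ⟨b, hb0, hb⟩ := exists_div_pow_q hK₀' _ hl₀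
  have hbF : (b : F) = l * (b : F) ^ q₀ := by
    have := congrArg (fun y : K₀ => (y : F)) hb
    simpa using this
  have hbfix : σ (b : F) = b := by
    have hb' : (b : F) ∈ FixedPoints.subfield (Subgroup.zpowers σ) F := by
      rw [← hK₀def]
      exact b.2
    exact (fa_mem_fixed_iff σ _).mp hb'
  obtain ⟨β, hβ⟩ := Cfsg.Agent.Lib.helper47.PSLn.exists_norm_eq σ (b : F) hbfix
  rw [hσ] at hβ
  have hb0' : (b : F) ≠ 0 := fun h => hb0 (Subtype.ext h)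
  have hβ0 : β ≠ 0 := by
    rintro rfl
    rw [Finset.prod_eq_zero (Finset.mem_range.mpr hr.pos) (by simp)] at hβ
    exact hb0' hβ.symm
  have hβq : β ^ q ≠ 0 := pow_ne_zero _ hβ0
  refine ⟨β / β ^ q, ?_, ?_⟩
  · rw [div_pow, pow_q_pow_q hF]
    field_simp
  · have h1 : ∀ i : ℕ, (σ ^ i) (β / β ^ q) = (σ ^ i) β / ((σ ^ i) β) ^ q := fun i => by
      rw [map_div₀, map_pow]
    simp only [h1]
    rw [Finset.prod_div_distrib, Finset.prod_pow, hβ, hpow b]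
    have hbq : (b : F) ^ q₀ ≠ 0 := pow_ne_zero _ hb0'
    rw [div_eq_iff hbq]
    exact hbF

/-- **Lang's theorem for `GU_n`** and a field automorphism of odd prime order. -/
theorem lang_GU (hn : 3 ≤ n) {q₀ r : ℕ} (hr : r.Prime) (hr2 : r ≠ 2) (hq : q = q₀ ^ r)
    (σ : F ≃+* F) (hσ : orderOf σ = r) (g : ↥(GU n F q))
    (hpow : (phiPSU g * fieldPSU σ : MulAut (PSU n F q)) ^ r = 1) :
    ∃ h : ↥(GU n F q), phiPSU g * fieldPSU σ = phiPSU h * fieldPSU σ * (phiPSU h)⁻¹ := by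
  classical
  have hq0 : q ≠ 0 := PSUA.q_ne_zero hF
  have hσr : σ ^ r = 1 := by rw [← hσ]; exact pow_orderOf_eq_one σ
  rw [pow_phi_field, hσr, fieldPSU_one, mul_one, phiPSU_eq_one_iff hF hn, Geo.mem_scalars_iff,
    NkGU_coe] at hpow
  obtain ⟨l, hl⟩ := hpow
  obtain ⟨gm, hgm⟩ : ∃ gm : Matrix (Fin n) (Fin n) F,
      gm = ((g : GL (Fin n) F) : Matrix (Fin n) (Fin n) F) := ⟨_, rfl⟩
  rw [← hgm] at hl
  have hfix : σ (l : F) = l := by
    have h1 : Nk σ gm (r + 1) = σ (l : F) • gm := by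
      rw [Nk_succ, hl, Cfsg.Agent.Lib.helper47.PSLn.map_smul', Cfsg.Agent.Lib.helper47.PSLn.map_one',
        Matrix.mul_smul, Matrix.mul_one]
    have h2 : Nk σ gm (r + 1) = (l : F) • gm := by
      rw [Nk_succ', hl, hσr, Matrix.smul_mul, Matrix.one_mul]
      congr 1
    exact scalar_eq_of_smul_eq (by omega : 2 ≤ n) (g : GL (Fin n) F) _ _
      (by rw [← hgm]; exact h1.symm.trans h2)
  have hlq : (l : F) * (l : F) ^ q = 1 := by
    have hmem := (mem_GU_iff' _).mp (NkGU σ g r).2 (Pi.single ⟨0, by omega⟩ 1)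
      (Pi.single ⟨0, by omega⟩ 1)
    have h2 : ((NkGU σ g r : GL (Fin n) F) : Matrix (Fin n) (Fin n) F) = (l : F) • 1 := by
      rw [NkGU_coe, ← hgm]
      exact hl
    rw [h2, Matrix.smul_mulVec, Matrix.one_mulVec, hermForm_smul_left, hermForm_smul_right,
      hermForm_single_single n hq0, if_pos rfl] at hmem
    linear_combination hmem
  obtain ⟨μ, hμ, hNμ⟩ := exists_unitary_norm hF hr hr2 hq σ hσ (l : F) hfix hlq
  have hμ0 : μ ≠ 0 := by
    rintro rfl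
    rw [zero_mul] at hμ
    exact zero_ne_one hμ
  have hl0 : (l : F) ≠ 0 := l.ne_zero
  have hN' : Nk σ (μ⁻¹ • gm) r = 1 := by
    rw [Nk_smul, hl, smul_smul]
    have : (∏ i ∈ Finset.range r, (σ ^ i) μ⁻¹) = (l : F)⁻¹ := by
      rw [← hNμ, ← Finset.prod_inv_distrib]
      exact Finset.prod_congr rfl (fun i _ => map_inv₀ _ _)
    rw [this, inv_mul_cancel₀ hl0, one_smul]
  obtain ⟨h, hu, hh⟩ := hilbert90_GL σ (μ⁻¹ • gm) r hr.pos hσ hN'
  obtain ⟨τ, hτ, hτne, hτinv⟩ := exists_frob' hF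
  have hgU : cstar τ gm * gm = 1 := by
    rw [hgm]
    exact (mem_GU_iff_cstar τ hτ (g : GL (Fin n) F)).mp g.2
  have hMU : cstar τ (μ⁻¹ • gm) * (μ⁻¹ • gm) = 1 := by
    have h1 : cstar τ (μ⁻¹ • gm) = (μ⁻¹) ^ q • cstar τ gm := by
      ext i j
      simp only [cstar_apply, Matrix.smul_apply, smul_eq_mul, hτ]
      rw [mul_pow]
    rw [h1, Matrix.smul_mul, Matrix.mul_smul, smul_smul, hgU]
    have : μ⁻¹ ^ q * μ⁻¹ = 1 := by
      rw [inv_pow, ← mul_inv, mul_comm, hμ, inv_one]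
    rw [this, one_smul]
  obtain ⟨Φ, hΦ⟩ : ∃ Φ : Matrix (Fin n) (Fin n) F, Φ = cstar τ h * h := ⟨_, rfl⟩
  have hcomm : ∀ X : Matrix (Fin n) (Fin n) F, (cstar τ X).map σ = cstar τ (X.map σ) := by
    intro X
    ext i j
    simp only [cstar_apply, Matrix.map_apply, hτ, map_pow]
  have hΦσ : Φ.map σ = Φ := by
    rw [hΦ, Cfsg.Agent.Lib.helper47.PSLn.map_mul', hcomm]
    conv_rhs => rw [← hh]
    rw [cstar_mul, Matrix.mul_assoc, ← Matrix.mul_assoc (cstar τ (μ⁻¹ • gm)), hMU, Matrix.one_mul]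
  -- the fixed field
  obtain ⟨hK₀, hpowK⟩ := fixed_data hF hr hr2 hq σ hσ
  obtain ⟨K₀, hK₀def⟩ : ∃ K₀ : Subfield F, K₀ = FixedPoints.subfield (Subgroup.zpowers σ) F :=
    ⟨_, rfl⟩
  rw [← hK₀def] at hK₀ hpowK
  haveI : Fintype K₀ := Fintype.ofFinite _
  have hK₀' : Fintype.card K₀ = q₀ ^ 2 := by rw [← Nat.card_eq_fintype_card]; exact hK₀
  have hmemK : ∀ x : F, σ x = x → x ∈ K₀ := fun x hx => by
    rw [hK₀def]
    exact (fa_mem_fixed_iff σ x).mpr hx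
  have hfixK : ∀ x : K₀, σ (x : F) = x := fun x => by
    have hx : (x : F) ∈ FixedPoints.subfield (Subgroup.zpowers σ) F := by
      rw [← hK₀def]
      exact x.2
    exact (fa_mem_fixed_iff σ _).mp hx
  obtain ⟨τ₀, hτ₀, hτ₀ne, hτ₀inv⟩ := exists_frob' hK₀'
  obtain ⟨Φ₀, hΦ₀⟩ : ∃ Φ₀ : Matrix (Fin n) (Fin n) K₀, Φ₀.map K₀.subtype = Φ :=
    ⟨fun i j => ⟨Φ i j, hmemK _ (by
      have := congrFun (congrFun hΦσ i) j
      rwa [Matrix.map_apply] at this)⟩, by ext i j; rfl⟩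
  have hcs : ∀ X : Matrix (Fin n) (Fin n) K₀,
      (cstar τ₀ X).map K₀.subtype = cstar τ (X.map K₀.subtype) := by
    intro X
    ext i j
    simp only [cstar_apply, Matrix.map_apply, Subfield.coe_subtype, hτ, hτ₀]
    rw [hpowK]
    rfl
  have hinjK : ∀ X Y : Matrix (Fin n) (Fin n) K₀, X.map K₀.subtype = Y.map K₀.subtype → X = Y :=
    fun X Y h => Matrix.map_injective Subtype.val_injective h
  have hΦherm : cstar τ Φ = Φ := by rw [hΦ, cstar_mul, cstar_cstar τ hτinv]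
  have hΦ₀herm : cstar τ₀ Φ₀ = Φ₀ := by
    apply hinjK
    rw [hcs, hΦ₀, hΦherm]
  have hΦdet : Φ.det ≠ 0 := by
    rw [hΦ, Matrix.det_mul]
    have h1 : h.det ≠ 0 := ((Matrix.isUnit_iff_isUnit_det h).mp hu).ne_zero
    have h2 : (cstar τ h).det ≠ 0 :=
      ((Matrix.isUnit_iff_isUnit_det _).mp (isUnit_cstar τ hu)).ne_zero
    exact mul_ne_zero h2 h1
  have hdetmap : ∀ X : Matrix (Fin n) (Fin n) K₀, (X.map K₀.subtype).det = (X.det : F) :=
    fun X => (RingHom.map_det K₀.subtype X).symm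
  have hΦ₀u : IsUnit Φ₀ := by
    rw [Matrix.isUnit_iff_isUnit_det, isUnit_iff_ne_zero]
    intro h0
    apply hΦdet
    rw [← hΦ₀, hdetmap, h0]
    rfl
  obtain ⟨S₀, hS₀u, hS₀⟩ := exists_cstar_mul_self τ₀ hτ₀ne hτ₀inv Φ₀ hΦ₀herm hΦ₀u
  obtain ⟨S, hS⟩ : ∃ S : Matrix (Fin n) (Fin n) F, S = S₀.map K₀.subtype := ⟨_, rfl⟩
  have hSS : cstar τ S * S = Φ := by
    rw [hS, ← hcs, ← hΦ₀, ← hS₀, Matrix.map_mul]
  have hSσ : S.map σ = S := by
    rw [hS]
    ext i j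
    exact hfixK _
  have hSdet : S.det ≠ 0 := by
    rw [hS, hdetmap]
    have h1 : S₀.det ≠ 0 := ((Matrix.isUnit_iff_isUnit_det S₀).mp hS₀u).ne_zero
    intro h0
    exact h1 (Subtype.ext h0)
  obtain ⟨Si, hSi⟩ : ∃ Si : Matrix (Fin n) (Fin n) F, Si = S⁻¹ := ⟨_, rfl⟩
  have hS1 : S * Si = 1 := by
    rw [hSi]
    exact Matrix.mul_nonsing_inv S (isUnit_iff_ne_zero.mpr hSdet)
  have hS2 : Si * S = 1 := by
    rw [hSi]
    exact Matrix.nonsing_inv_mul S (isUnit_iff_ne_zero.mpr hSdet)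
  have hSiσ : Si.map σ = Si := by
    have h1 : Si.map σ * S = 1 := by
      calc Si.map σ * S = Si.map σ * S.map σ := by rw [hSσ]
        _ = (Si * S).map σ := (Cfsg.Agent.Lib.helper47.PSLn.map_mul' σ Si S).symm
        _ = 1 := by rw [hS2, Cfsg.Agent.Lib.helper47.PSLn.map_one']
    calc Si.map σ = Si.map σ * (S * Si) := by rw [hS1, Matrix.mul_one]
      _ = (Si.map σ * S) * Si := by rw [Matrix.mul_assoc]
      _ = Si := by rw [h1, Matrix.one_mul]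
  obtain ⟨h', hh'⟩ : ∃ h' : Matrix (Fin n) (Fin n) F, h' = h * Si := ⟨_, rfl⟩
  have hh'U : cstar τ h' * h' = 1 := by
    rw [hh', cstar_mul, Matrix.mul_assoc, ← Matrix.mul_assoc (cstar τ h), ← hΦ, ← hSS,
      Matrix.mul_assoc, hS1, Matrix.mul_one, ← cstar_mul, hS1, cstar_one]
  have hh'σ : (μ⁻¹ • gm) * h'.map σ = h' := by
    rw [hh', Cfsg.Agent.Lib.helper47.PSLn.map_mul', hSiσ, ← Matrix.mul_assoc, hh]
  have hh'det : h'.det ≠ 0 := by
    intro h0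
    have := congrArg Matrix.det hh'U
    rw [Matrix.det_mul, h0, mul_zero, Matrix.det_one] at this
    exact zero_ne_one this
  obtain ⟨hG', hhG'⟩ : ∃ hG' : GL (Fin n) F, (hG' : Matrix (Fin n) (Fin n) F) = h' :=
    ⟨Matrix.GeneralLinearGroup.mkOfDetNeZero h' hh'det, rfl⟩
  have hG'mem : hG' ∈ GU n F q := by
    rw [mem_GU_iff_cstar τ hτ hG', hhG']
    exact hh'U
  obtain ⟨hG, hhG⟩ : ∃ hG : ↥(GU n F q), (hG : GL (Fin n) F) = hG' := ⟨⟨hG', hG'mem⟩, rfl⟩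
  refine ⟨hG, ?_⟩
  have e1 : gm * h'.map σ = μ • h' := by
    have := congrArg (fun X => μ • X) hh'σ
    simp only [Matrix.smul_mul, smul_smul, mul_inv_cancel₀ hμ0, one_smul] at this
    exact this
  have hA : phiPSU (g * mapGU σ hG * hG⁻¹) = 1 := by
    rw [phiPSU_eq_one_iff hF hn, Geo.mem_scalars_iff]
    refine ⟨Units.mk0 μ hμ0, ?_⟩
    show ((g : GL (Fin n) F) : Matrix (Fin n) (Fin n) F) *
      (((hG : GL (Fin n) F) : Matrix (Fin n) (Fin n) F).map σ) *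
      (((hG : GL (Fin n) F)⁻¹ : GL (Fin n) F) : Matrix (Fin n) (Fin n) F) = μ • 1
    rw [← hgm, hhG, hhG', e1, Matrix.smul_mul]
    congr 1
    rw [← hhG']
    exact Units.mul_inv hG'
  rw [map_mul, map_mul, map_inv, mul_inv_eq_one] at hA
  have hB := fieldPSU_phi σ hG⁻¹
  simp only [map_inv] at hB
  calc phiPSU g * fieldPSU σ = phiPSU hG * (phiPSU (mapGU σ hG))⁻¹ * fieldPSU σ := by
        rw [← hA, mul_inv_cancel_right]
    _ = phiPSU hG * (fieldPSU σ * (phiPSU hG)⁻¹) := by rw [hB, mul_assoc]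
    _ = phiPSU hG * fieldPSU σ * (phiPSU hG)⁻¹ := by rw [mul_assoc]

/-- the order of a field automorphism of odd prime order divides `f` -/
theorem prime_dvd_f {p f : ℕ} [Fact p.Prime] (hq : q = p ^ f) (σ : F ≃+* F) {r : ℕ}
    (hr : r.Prime) (hr2 : r ≠ 2) (hσ : orderOf σ = r) : r ∣ f := by
  have hF' : Fintype.card F = p ^ (2 * f) := by rw [hF, hq, ← pow_mul, mul_comm]
  obtain ⟨h1, -⟩ := Cfsg.Agent.Lib.helper48.Split.card_fixK hF' σ hσ
  rcases (Nat.Prime.dvd_mul hr).mp h1 with h2 | h2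
  · exact absurd ((Nat.prime_dvd_prime_iff_eq hr Nat.prime_two).mp h2) hr2
  · exact h2

/-- data of a field automorphism class of prime order -/
theorem field_class_data (hn : 3 ≤ n) (h32 : ¬ (n = 3 ∧ q = 2)) {p f : ℕ} [Fact p.Prime]
    (hq : q = p ^ f) (hf : 1 ≤ f) (x : MulAut (PSU n F q)) (hx : IsFieldAutClassPSU x) {r : ℕ}
    (hr : r.Prime) (hxr : orderOf x = r) :
    ∃ (σ : F ≃+* F) (g : ↥(GU n F q)), orderOf σ = r ∧ r ≠ 2 ∧ r ∣ f ∧
      x = phiPSU g * fieldPSU σ * (phiPSU g)⁻¹ := by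
  obtain ⟨α, φ, σ, hσne, hσodd, hφ, hαx⟩ := hx
  have hφ' : φ = fieldPSU σ := (isFieldAutPSUOf_iff σ φ).mp hφ
  subst hφ'
  have hσr : orderOf σ = r := by
    rw [← orderOf_fieldPSU hF hn σ, ← hαx, orderOf_conj', hxr]
  have hr2 : r ≠ 2 := by
    rintro rfl
    rw [hσr] at hσodd
    exact (by decide : ¬ Odd 2) hσodd
  obtain ⟨g, hg⟩ := exists_phi_conj hF hn h32 hq hf α⁻¹ σ
  refine ⟨σ, g, hσr, hr2, prime_dvd_f hF hq σ hr hr2 hσr, ?_⟩
  rw [← hg, ← hαx]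
  group

/-- **Conjugacy in the coset**: for `x` a field automorphism of `PSU_n(q)` of prime order `r` and
`δ` inner-diagonal, `δ x` has order `r` iff it is `Inndiag`-conjugate to `x`. -/
theorem field_conj_iff (hn : 3 ≤ n) (h32 : ¬ (n = 3 ∧ q = 2)) {p f : ℕ} [Fact p.Prime]
    (hq : q = p ^ f) (hf : 1 ≤ f) (x δ : MulAut (PSU n F q)) (hx : IsFieldAutClassPSU x) {r : ℕ}
    (hr : r.Prime) (hxr : orderOf x = r) (hδ : δ ∈ inndiagPSU n F q) :
    orderOf (δ * x) = r ↔ IsConjUnder (inndiagPSU n F q) x (δ * x) := by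
  constructor
  · intro hord
    rw [inndiagPSU_eq] at hδ ⊢
    obtain ⟨g, rfl⟩ := hδ
    obtain ⟨σ, a, hσr, hr2, hrf, hxa⟩ := field_class_data hF hn h32 hq hf x hx hr hxr
    have hq₀ : q = (p ^ (f / r)) ^ r := by rw [hq, ← pow_mul, Nat.div_mul_cancel hrf]
    -- move to the standard automorphism
    have h1 : (phiPSU a)⁻¹ * (phiPSU g * x) * phiPSU a = phiPSU (a⁻¹ * g * a) * fieldPSU σ := by
      rw [hxa, map_mul, map_mul, map_inv]
      group
    have hord' : orderOf (phiPSU (a⁻¹ * g * a) * fieldPSU σ : MulAut (PSU n F q)) = r := by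
      rw [← h1]
      have := orderOf_conj' (phiPSU a)⁻¹ (phiPSU g * x)
      rw [inv_inv] at this
      rw [this, hord]
    obtain ⟨h, hh⟩ := lang_GU hF hn hr hr2 hq₀ σ hσr (a⁻¹ * g * a)
      (by rw [← hord']; exact pow_orderOf_eq_one _)
    refine ⟨phiPSU (a * h * a⁻¹), ⟨_, rfl⟩, ?_⟩
    have h5 : phiPSU g * x = phiPSU a * ((phiPSU a)⁻¹ * (phiPSU g * x) * phiPSU a) * (phiPSU a)⁻¹ := by
      group
    rw [h5, h1, hh, hxa, map_mul, map_mul, map_inv]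
    group
  · rintro ⟨h, -, e⟩
    rw [e, ← hxr]
    exact orderOf_conj' h x

end

end Cfsg.Agent.Lib.helper50.PSUF
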