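import Mathlib
import Cfsg.Prelude.Def_LieTypeDatum
import Cfsg.Agent.Lib.helper50.PSUF2

/-!
# Field automorphisms of `PSU_n`: commuting elements and class splitting as an index

* `comm_field_iff`: `Φ(w)` commutes with `φ_σ` iff `σ(w)` is a scalar multiple of `w`.
* `fixed_structure`: such `w ∈ GU_n(q)` are the products of a unitary scalar and an element of
  `GU_n(q₀)` over the fixed field.
* `splitClassCount_eq_index_U`: the number of `Inn`-classes in an `Inndiag`-class as the index of a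
  group of determinants.
-/

set_option autoImplicit false

namespace Cfsg.Agent.Lib.helper50.PSUF

open Matrix Cfsg Cfsg.Agent.Lib.helper17 Cfsg.Agent.Lib.helper99
open Cfsg.Agent.Lib.helper47.PSLn Cfsg.Agent.Lib.helper48 Cfsg.Agent.Lib.helper48.Split

universe u

section
variable {n q : ℕ} {F : Type u} [Field F] [Fintype F] (hF : Fintype.card F = q ^ 2)
include hF

/-- `Φ(w)` commutes with the field automorphism `φ_σ` iff `σ(w)` is a scalar multiple of `w` -/
theorem comm_field_iff (hn : 3 ≤ n) (σ : F ≃+* F) (w : ↥(GU n F q)) :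
    (phiPSU w * fieldPSU σ : MulAut (PSU n F q)) = fieldPSU σ * phiPSU w ↔
      ∃ c : F, c ≠ 0 ∧ ((w : GL (Fin n) F) : Matrix (Fin n) (Fin n) F).map σ =
        c • ((w : GL (Fin n) F) : Matrix (Fin n) (Fin n) F) := by
  constructor
  · intro h
    rw [fieldPSU_phi, mul_left_inj] at h
    have h1 : phiPSU (w⁻¹ * mapGU σ w) = 1 := by
      rw [map_mul, map_inv, ← h, inv_mul_cancel]
    rw [phiPSU_eq_one_iff hF hn, Geo.mem_scalars_iff] at h1
    obtain ⟨c, hc⟩ := h1
    refine ⟨c, c.ne_zero, ?_⟩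
    have h3 : ((w : GL (Fin n) F) : Matrix (Fin n) (Fin n) F) *
        (((w⁻¹ * mapGU σ w : ↥(GU n F q)) : GL (Fin n) F) : Matrix (Fin n) (Fin n) F) =
        ((w : GL (Fin n) F) : Matrix (Fin n) (Fin n) F).map σ := by
      show ((w : GL (Fin n) F) : Matrix (Fin n) (Fin n) F) *
        (((w : GL (Fin n) F)⁻¹ * (mapGU σ w : GL (Fin n) F) : GL (Fin n) F) :
          Matrix (Fin n) (Fin n) F) = _
      rw [← Units.val_mul, mul_inv_cancel_left]
      rfl
    rw [← h3, hc, Matrix.mul_smul, Matrix.mul_one]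
  · rintro ⟨c, hc0, hc⟩
    rw [fieldPSU_phi, mul_left_inj]
    have h1 : phiPSU (w⁻¹ * mapGU σ w) = 1 := by
      rw [phiPSU_eq_one_iff hF hn, Geo.mem_scalars_iff]
      refine ⟨Units.mk0 c hc0, ?_⟩
      show (((w : GL (Fin n) F)⁻¹ : GL (Fin n) F) : Matrix (Fin n) (Fin n) F) *
        (((w : GL (Fin n) F) : Matrix (Fin n) (Fin n) F).map σ) = c • 1
      rw [hc, Matrix.mul_smul]
      congr 1
      exact Units.inv_mul (w : GL (Fin n) F)
    rw [map_mul, map_inv, inv_mul_eq_one] at h1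
    exact h1

/-- the elements of `GU_n(q)` fixed up to a scalar by a field automorphism of odd prime order are
the products of a unitary scalar and an element of `GU_n(q₀)` over the fixed field -/
theorem fixed_structure (hn : 1 ≤ n) {q₀ r : ℕ} (hr : r.Prime) (hr2 : r ≠ 2) (hq : q = q₀ ^ r)
    (σ : F ≃+* F) (hσ : orderOf σ = r) (g : GL (Fin n) F) :
    (g ∈ GU n F q ∧ ∃ c : F, c ≠ 0 ∧ (g : Matrix (Fin n) (Fin n) F).map σ =
        c • (g : Matrix (Fin n) (Fin n) F)) ↔
      g ∈ (faPhi (FixedPoints.subfield (Subgroup.zpowers σ) F) q q₀ n).range := by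
  obtain ⟨hK₀, hpow⟩ := fixed_data hF hr hr2 hq σ hσ
  constructor
  · rintro ⟨hgU, hgc⟩
    rw [fa_mem_range_psi_iff σ hn] at hgc
    obtain ⟨⟨a, h'⟩, rfl⟩ := hgc
    exact faPhi_range_of_psi _ hF hK₀ hpow hn a h' hgU
  · rintro ⟨p, rfl⟩
    refine ⟨faPhi_mem_GU _ hF hK₀ hpow n p, ?_⟩
    rw [fa_mem_range_psi_iff σ hn]
    exact ⟨_, rfl⟩

/-- conjugation by the class of `k ∈ SU_n` is induced by any element of `GU_n` with the same
matrix -/
theorem conj_eq_phi' (k : ↥(SU n F q)) (g : ↥(GU n F q)) (hg : guToMat n F q g = suMat k) :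
    MulAut.conj (QuotientGroup.mk k : PSU n F q) = phiPSU g := by
  have h2 : guToMat n F q g⁻¹ = suMat k⁻¹ := by
    have h3 : guToMat n F q g⁻¹ * guToMat n F q g = 1 := by
      rw [← map_mul, inv_mul_cancel, map_one]
    have h4 : suMat k * suMat k⁻¹ = 1 := suMat_mul_inv k
    calc guToMat n F q g⁻¹ = guToMat n F q g⁻¹ * (suMat k * suMat k⁻¹) := by rw [h4, mul_one]
      _ = (guToMat n F q g⁻¹ * guToMat n F q g) * suMat k⁻¹ := by rw [hg, mul_assoc]
      _ = suMat k⁻¹ := by rw [h3, one_mul]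
  ext x
  induction x using QuotientGroup.induction_on with
  | H s =>
    rw [phiPSU_mk]
    show (QuotientGroup.mk (k * s * k⁻¹) : PSU n F q) = _
    congr 1
    apply suMat_inj
    have h1 : suMat (conjSU g s) = guToMat n F q g * suMat s * guToMat n F q g⁻¹ := conjSU_coe g _
    rw [h1, hg, h2, suMat_mul, suMat_mul]

/-- an element of `GU_n` of determinant one induces an inner automorphism -/
theorem phi_mem_inn (w : ↥(GU n F q)) (hdet : detGU hF n w = 1) :
    phiPSU w ∈ Cfsg.Inn (PSU n F q) := by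
  have hd : (guToMat n F q w).det = 1 := by
    have := congrArg (fun a : rootsUnity F q => ((a : Fˣ) : F)) hdet
    simpa [detGU_coe] using this
  rw [← conj_eq_phi' hF (mkSU (guToMat n F q w) hd (guToMat_preserves n w)) w rfl]
  exact ⟨_, rfl⟩

/-- an inner automorphism is induced by an element of `GU_n` of determinant one -/
theorem exists_of_mem_inn (t : MulAut (PSU n F q)) (ht : t ∈ Cfsg.Inn (PSU n F q)) :
    ∃ w : ↥(GU n F q), detGU hF n w = 1 ∧ t = phiPSU w := by
  obtain ⟨x, rfl⟩ := ht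
  obtain ⟨s, rfl⟩ := QuotientGroup.mk_surjective x
  obtain ⟨w, hw⟩ := exists_gu_of_preserves hF n (suMat s) (suMat_isIsom s)
  refine ⟨w, ?_, conj_eq_phi' hF s w hw⟩
  apply Subtype.ext
  apply Units.ext
  rw [detGU_coe]
  have h1 : ((w : GL (Fin n) F) : Matrix (Fin n) (Fin n) F) = suMat s := hw
  rw [h1, suMat_det]
  rfl

/-- the subgroup of the unitary scalars of determinants of the elements `w ∈ GU_n` with `Φ(w)`
centralizing `x₀` -/
noncomputable def detCentU (x₀ : MulAut (PSU n F q)) : Subgroup (rootsUnity F q) :=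
  Subgroup.map (detGU hF n) (Subgroup.comap (phiPSU (n := n) (q := q) (F := F))
    (Subgroup.centralizer {x₀}))

theorem mem_detCentU (x₀ : MulAut (PSU n F q)) (c : rootsUnity F q) :
    c ∈ detCentU hF x₀ ↔ ∃ w : ↥(GU n F q), phiPSU w * x₀ = x₀ * phiPSU w ∧ detGU hF n w = c := by
  unfold detCentU
  rw [Subgroup.mem_map]
  constructor
  · rintro ⟨w, hw, rfl⟩
    rw [Subgroup.mem_comap, Subgroup.mem_centralizer_singleton_iff] at hw
    exact ⟨w, hw, rfl⟩
  · rintro ⟨w, hw, rfl⟩
    refine ⟨w, ?_, rfl⟩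
    rw [Subgroup.mem_comap, Subgroup.mem_centralizer_singleton_iff]
    exact hw

/-- **Class splitting as an index.** The number of `Inn`-classes in the `Inndiag`-class of `x₀` is
the index of `detCentU x₀` in the group of unitary scalars. -/
theorem splitClassCount_eq_index_U (hn : 0 < n) (x₀ : MulAut (PSU n F q)) :
    splitClassCount (inndiagPSU n F q) (Cfsg.Inn (PSU n F q)) x₀ = (detCentU hF x₀).index := by
  unfold splitClassCount
  rw [Subgroup.index]
  choose d hd using detGU_surjective hF n hn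
  have hθmem : ∀ c : rootsUnity F q, IsConjUnder (inndiagPSU n F q) x₀
      (phiPSU (d c) * x₀ * (phiPSU (d c))⁻¹) := fun c =>
    ⟨phiPSU (d c), by rw [inndiagPSU_eq]; exact ⟨_, rfl⟩, rfl⟩
  obtain ⟨θ, hθ⟩ : ∃ θ : rootsUnity F q → {y : MulAut (PSU n F q) //
      IsConjUnder (inndiagPSU n F q) x₀ y}, ∀ c, (θ c).1 = phiPSU (d c) * x₀ * (phiPSU (d c))⁻¹ :=
    ⟨fun c => ⟨_, hθmem c⟩, fun c => rfl⟩
  have hB : ∀ c c' : rootsUnity F q, IsConjUnder (Cfsg.Inn (PSU n F q))
      (θ c).1 (θ c').1 ↔ c'⁻¹ * c ∈ detCentU hF x₀ := by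
    intro c c'
    rw [mem_detCentU, hθ, hθ]
    constructor
    · rintro ⟨t, ht, h⟩
      obtain ⟨s, hs, rfl⟩ := exists_of_mem_inn hF t ht
      refine ⟨(d c')⁻¹ * s * d c, ?_, ?_⟩
      · rw [map_mul, map_mul, map_inv]
        have h1 : x₀ = (phiPSU (d c'))⁻¹ * (phiPSU (d c') * x₀ * (phiPSU (d c'))⁻¹)
            * phiPSU (d c') := by group
        rw [h] at h1
        calc (phiPSU (d c'))⁻¹ * phiPSU s * phiPSU (d c) * x₀
            = (phiPSU (d c'))⁻¹ * (phiPSU s * (phiPSU (d c) * x₀ * (phiPSU (d c))⁻¹) * (phiPSU s)⁻¹)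
                * phiPSU (d c') * ((phiPSU (d c'))⁻¹ * phiPSU s * phiPSU (d c)) := by group
          _ = x₀ * ((phiPSU (d c'))⁻¹ * phiPSU s * phiPSU (d c)) := by rw [← h1]
      · rw [map_mul, map_mul, map_inv, hd, hd, hs, mul_one]
    · rintro ⟨w, hw, hdet⟩
      refine ⟨phiPSU (d c' * w * (d c)⁻¹), ?_, ?_⟩
      · apply phi_mem_inn hF
        rw [map_mul, map_mul, map_inv, hd, hd, hdet]
        group
      · rw [map_mul, map_mul, map_inv]
        have h1 : phiPSU w * x₀ * (phiPSU w)⁻¹ = x₀ := by rw [hw]; group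
        calc phiPSU (d c') * x₀ * (phiPSU (d c'))⁻¹
            = phiPSU (d c') * (phiPSU w * x₀ * (phiPSU w)⁻¹) * (phiPSU (d c'))⁻¹ := by rw [h1]
          _ = _ := by group
  have hA : ∀ y : {y : MulAut (PSU n F q) // IsConjUnder (inndiagPSU n F q) x₀ y},
      ∃ c : rootsUnity F q, IsConjUnder (Cfsg.Inn (PSU n F q)) (θ c).1 y.1 := by
    rintro ⟨y, a, ha, rfl⟩
    rw [inndiagPSU_eq] at ha
    obtain ⟨h, rfl⟩ := ha
    refine ⟨detGU hF n h, phiPSU (h * (d (detGU hF n h))⁻¹), ?_, ?_⟩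
    · apply phi_mem_inn hF
      rw [map_mul, map_inv, hd, mul_inv_cancel]
    · rw [hθ, map_mul, map_inv]
      group
  have hequiv : ∀ a b : {y : MulAut (PSU n F q) // IsConjUnder (inndiagPSU n F q) x₀ y},
      Relation.EqvGen (fun y z : {y : MulAut (PSU n F q) //
        IsConjUnder (inndiagPSU n F q) x₀ y} =>
        IsConjUnder (Cfsg.Inn (PSU n F q)) y.1 z.1) a b →
      IsConjUnder (Cfsg.Inn (PSU n F q)) a.1 b.1 := by
    intro a b h
    induction h with
    | rel _ _ h => exact h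
    | refl _ => exact isConjUnder_refl _ _
    | symm _ _ _ ih => exact isConjUnder_symm _ ih
    | trans _ _ _ _ _ ih1 ih2 => exact isConjUnder_trans _ ih1 ih2
  symm
  apply Nat.card_congr
  refine Equiv.ofBijective (Quotient.lift (fun c => Quot.mk _ (θ c)) ?_) ⟨?_, ?_⟩
  · intro c c' hcc
    apply Quot.sound
    apply isConjUnder_symm
    rw [hB]
    exact QuotientGroup.leftRel_apply.mp hcc
  · intro a b
    induction a using Quotient.inductionOn with
    | h c =>
    induction b using Quotient.inductionOn with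
    | h c' =>
    intro h
    have h1 := hequiv _ _ (Quot.eqvGen_exact h)
    rw [hB] at h1
    apply Quotient.sound
    apply QuotientGroup.leftRel_apply.mpr
    have := (detCentU hF x₀).inv_mem h1
    rwa [_root_.mul_inv_rev, inv_inv] at this
  · intro y
    induction y using Quot.inductionOn with
    | h y =>
    obtain ⟨c, hc⟩ := hA y
    exact ⟨Quotient.mk _ c, Quot.sound hc⟩

end

end Cfsg.Agent.Lib.helper50.PSUF
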