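import Mathlib
import Cfsg.Prelude.Def_LieTypeDatum
import Cfsg.Agent.Lib.helper50.PSUAut
import Cfsg.Agent.Lib.helper50.FieldAutGU
import Cfsg.Agent.Lib.helper50.GraphAut

/-!
# Graph automorphisms of `PSU_n`

`graphU σ A = Φ(A) φ_σ` for the `q`-Frobenius `σ`; conjugation, equality, order two, centralisers.
-/

set_option autoImplicit false

namespace Cfsg.Agent.Lib.helper50

open Matrix Cfsg
open scoped MatrixGroups

universe u

section
variable {n q : ℕ} {F : Type u} [Field F]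

/-- the graph automorphism `Φ(A) φ_σ` of `PSU_n` -/
def graphU (σ : F ≃+* F) (A : ↥(GU n F q)) : MulAut (PSU n F q) := phiPSU A * fieldPSU σ

theorem graphU_conj (σ : F ≃+* F) (g A : ↥(GU n F q)) :
    phiPSU g * graphU σ A * (phiPSU g)⁻¹ = graphU σ (g * A * (mapGU σ g)⁻¹) := by
  unfold graphU
  rw [← map_inv, mul_assoc, mul_assoc, fieldPSU_phi, map_inv (mapGU σ), ← mul_assoc, ← mul_assoc,
    ← map_mul, ← map_mul]

theorem graphU_sq (σ : F ≃+* F) (hσ2 : σ * σ = 1) (A : ↥(GU n F q)) :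
    graphU σ A * graphU σ A = phiPSU (A * mapGU σ A) := by
  unfold graphU
  rw [mul_assoc, ← mul_assoc (fieldPSU σ), fieldPSU_phi, mul_assoc, fieldPSU_mul, hσ2, fieldPSU_one,
    mul_one, ← map_mul]

end

section Frob
variable {n q : ℕ} {F : Type u} [Field F] [Fintype F]

theorem frob_frob (hF : Fintype.card F = q ^ 2) (σ : F ≃+* F) (hσ : ∀ a, σ a = a ^ q) (a : F) :
    σ (σ a) = a := by
  rw [hσ, hσ, Cfsg.Agent.Lib.helper17.pow_q_pow_q hF]

theorem frob_mul_self (hF : Fintype.card F = q ^ 2) (σ : F ≃+* F) (hσ : ∀ a, σ a = a ^ q) :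
    σ * σ = 1 :=
  RingEquiv.ext (frob_frob hF σ hσ)

theorem frob_ne_one (hF : Fintype.card F = q ^ 2) (σ : F ≃+* F) (hσ : ∀ a, σ a = a ^ q) : σ ≠ 1 := by
  intro h
  obtain ⟨a, ha⟩ := Cfsg.Agent.Lib.helper17.exists_pow_q_ne hF
  apply ha
  rw [← hσ, h]
  rfl

theorem orderOf_frob (hF : Fintype.card F = q ^ 2) (σ : F ≃+* F) (hσ : ∀ a, σ a = a ^ q) :
    orderOf σ = 2 :=
  orderOf_eq_prime (by rw [pow_two]; exact frob_mul_self hF σ hσ) (frob_ne_one hF σ hσ)

omit [Fintype F] in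
theorem map_map_frob {κ κ' : Type*} (σ : F ≃+* F) (hσ2 : ∀ a, σ (σ a) = a) (X : Matrix κ κ' F) :
    (X.map σ).map σ = X := by
  ext i j
  exact hσ2 _

/-- an automorphism of order two of a field with `q²` elements is the `q`-th power map -/
theorem eq_frob_of_order_two (hF : Fintype.card F = q ^ 2) (τ : F ≃+* F) (hτ : orderOf τ = 2) (x : F) :
    τ x = x ^ q := by
  classical
  have hττ : ∀ y, τ (τ y) = y := by
    intro y
    have h1 : τ ^ 2 = 1 := by rw [← hτ]; exact pow_orderOf_eq_one τ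
    have h2 : (τ ^ 2) y = y := by rw [h1]; rfl
    rw [pow_two] at h2
    exact h2
  have hfix : ∀ y : F, τ y = y → y ^ q = y := by
    intro y hy
    have hcard := fa_card_fixed τ Nat.prime_two hF hτ
    have hy' : y ∈ FixedPoints.subfield (Subgroup.zpowers τ) F := (fa_mem_fixed_iff τ y).mpr hy
    haveI : Fintype (FixedPoints.subfield (Subgroup.zpowers τ) F) := Fintype.ofFinite _
    have h3 := FiniteField.pow_card (⟨y, hy'⟩ : FixedPoints.subfield (Subgroup.zpowers τ) F)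
    rw [← Nat.card_eq_fintype_card, hcard] at h3
    exact congrArg Subtype.val h3
  have hprod : ∀ y : F, (y ^ q - y) * (y ^ q - τ y) = 0 := by
    intro y
    have h1 := hfix (y + τ y) (by rw [map_add, hττ, add_comm])
    have h2 := hfix (y * τ y) (by rw [map_mul, hττ, mul_comm])
    rw [Cfsg.Agent.Lib.helper17.add_pow_q hF] at h1
    rw [mul_pow] at h2
    linear_combination (y ^ q) * h1 - h2
  by_cases hx : x ^ q = τ x
  · exact hx.symm
  · have hx1 : x ^ q = x := by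
      rcases mul_eq_zero.mp (hprod x) with h | h
      · exact sub_eq_zero.mp h
      · exact absurd (sub_eq_zero.mp h) hx
    obtain ⟨a, ha⟩ := Cfsg.Agent.Lib.helper17.exists_pow_q_ne hF
    have ha1 : a ^ q = τ a := by
      rcases mul_eq_zero.mp (hprod a) with h | h
      · exact absurd (sub_eq_zero.mp h) ha
      · exact sub_eq_zero.mp h
    have h3 : (a + x) ^ q = τ a + x := by
      rw [Cfsg.Agent.Lib.helper17.add_pow_q hF, ha1, hx1]
    rcases mul_eq_zero.mp (hprod (a + x)) with h | h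
    · exfalso
      apply ha
      rw [h3] at h
      rw [ha1]
      linear_combination h
    · rw [h3, map_add] at h
      rw [hx1]
      linear_combination -h

end Frob

section GUmat
variable {n q : ℕ} {F : Type u} [Field F]

theorem GU_transpose_mul_map (σ : F ≃+* F) (hσ : ∀ a, σ a = a ^ q) (g : ↥(GU n F q)) :
    ((g : GL (Fin n) F) : Matrix (Fin n) (Fin n) F)ᵀ
      * ((g : GL (Fin n) F) : Matrix (Fin n) (Fin n) F).map σ = 1 := by
  have h := (Cfsg.Agent.Lib.helper48.mem_GU_iff_cstar (σ : F →+* F) hσ (g : GL (Fin n) F)).mp g.2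
  have h2 := congrArg Matrix.transpose h
  rw [Matrix.transpose_mul, Matrix.transpose_one] at h2
  exact h2

theorem GU_map_mul_transpose (σ : F ≃+* F) (hσ : ∀ a, σ a = a ^ q) (g : ↥(GU n F q)) :
    ((g : GL (Fin n) F) : Matrix (Fin n) (Fin n) F).map σ
      * ((g : GL (Fin n) F) : Matrix (Fin n) (Fin n) F)ᵀ = 1 :=
  mul_eq_one_comm.mp (GU_transpose_mul_map σ hσ g)

theorem mem_GU_of_transpose_mul_map (σ : F ≃+* F) (hσ : ∀ a, σ a = a ^ q) (g : GL (Fin n) F)
    (h : (g : Matrix (Fin n) (Fin n) F)ᵀ * (g : Matrix (Fin n) (Fin n) F).map σ = 1) :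
    g ∈ GU n F q := by
  rw [Cfsg.Agent.Lib.helper48.mem_GU_iff_cstar (σ : F →+* F) hσ g]
  have h2 := congrArg Matrix.transpose h
  rw [Matrix.transpose_mul, Matrix.transpose_one] at h2
  exact h2

theorem mapGU_inv_coe (σ : F ≃+* F) (hσ : ∀ a, σ a = a ^ q) (g : ↥(GU n F q)) :
    ((((mapGU σ g)⁻¹ : ↥(GU n F q)) : GL (Fin n) F) : Matrix (Fin n) (Fin n) F)
      = ((g : GL (Fin n) F) : Matrix (Fin n) (Fin n) F)ᵀ := by
  have h := GU_transpose_mul_map σ hσ g
  have h2 : ((g : GL (Fin n) F) : Matrix (Fin n) (Fin n) F)ᵀ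
      * (((mapGU σ g : ↥(GU n F q)) : GL (Fin n) F) : Matrix (Fin n) (Fin n) F) = 1 := h
  exact (Units.eq_inv_of_mul_eq_one_right h2).symm

end GUmat

section Graph
variable {n q : ℕ} {F : Type u} [Field F] [Fintype F]

theorem graphU_eq_iff (hF : Fintype.card F = q ^ 2) (hn : 3 ≤ n) (σ : F ≃+* F) (A A' : ↥(GU n F q)) :
    graphU σ A = graphU σ A' ↔ ∃ c : Fˣ, ((A' : GL (Fin n) F) : Matrix (Fin n) (Fin n) F)
      = (c : F) • ((A : GL (Fin n) F) : Matrix (Fin n) (Fin n) F) := by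
  unfold graphU
  rw [mul_left_inj]
  have h3 : phiPSU A = phiPSU A' ↔ phiPSU (A⁻¹ * A') = 1 := by
    constructor
    · intro h
      rw [map_mul, map_inv, h, inv_mul_cancel]
    · intro h
      rw [map_mul, map_inv, inv_mul_eq_one] at h
      exact h
  rw [h3, phiPSU_eq_one_iff hF hn, Geo.mem_scalars_iff]
  have hA1 : ((A : GL (Fin n) F) : Matrix (Fin n) (Fin n) F)
      * (((A⁻¹ : ↥(GU n F q)) : GL (Fin n) F) : Matrix (Fin n) (Fin n) F) = 1 :=
    Units.mul_inv (A : GL (Fin n) F)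
  have hA2 : (((A⁻¹ : ↥(GU n F q)) : GL (Fin n) F) : Matrix (Fin n) (Fin n) F)
      * ((A : GL (Fin n) F) : Matrix (Fin n) (Fin n) F) = 1 :=
    Units.inv_mul (A : GL (Fin n) F)
  have hmul : (((A⁻¹ * A' : ↥(GU n F q)) : GL (Fin n) F) : Matrix (Fin n) (Fin n) F)
      = (((A⁻¹ : ↥(GU n F q)) : GL (Fin n) F) : Matrix (Fin n) (Fin n) F)
        * ((A' : GL (Fin n) F) : Matrix (Fin n) (Fin n) F) := rfl
  rw [hmul]
  constructor
  · rintro ⟨c, hc⟩
    refine ⟨c, ?_⟩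
    calc ((A' : GL (Fin n) F) : Matrix (Fin n) (Fin n) F)
        = ((A : GL (Fin n) F) : Matrix (Fin n) (Fin n) F)
          * ((((A⁻¹ : ↥(GU n F q)) : GL (Fin n) F) : Matrix (Fin n) (Fin n) F)
          * ((A' : GL (Fin n) F) : Matrix (Fin n) (Fin n) F)) := by
          rw [← Matrix.mul_assoc, hA1, Matrix.one_mul]
      _ = (c : F) • ((A : GL (Fin n) F) : Matrix (Fin n) (Fin n) F) := by
          rw [hc, Matrix.mul_smul, Matrix.mul_one]
  · rintro ⟨c, hc⟩
    refine ⟨c, ?_⟩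
    rw [hc, Matrix.mul_smul, hA2]

/-- Conjugacy of graph automorphisms under `Inndiag(PSU_n)`. -/
theorem isConjUnder_graphU_iff (hF : Fintype.card F = q ^ 2) (hn : 3 ≤ n) (σ : F ≃+* F)
    (hσ : ∀ a, σ a = a ^ q) (A A' : ↥(GU n F q)) :
    IsConjUnder (inndiagPSU n F q) (graphU σ A) (graphU σ A') ↔
      ∃ (g : ↥(GU n F q)) (c : Fˣ), ((A' : GL (Fin n) F) : Matrix (Fin n) (Fin n) F)
        = (c : F) • (((g : GL (Fin n) F) : Matrix (Fin n) (Fin n) F)
          * ((A : GL (Fin n) F) : Matrix (Fin n) (Fin n) F)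
          * ((g : GL (Fin n) F) : Matrix (Fin n) (Fin n) F)ᵀ) := by
  have hcoe : ∀ g : ↥(GU n F q),
      (((g * A * (mapGU σ g)⁻¹ : ↥(GU n F q)) : GL (Fin n) F) : Matrix (Fin n) (Fin n) F)
        = ((g : GL (Fin n) F) : Matrix (Fin n) (Fin n) F)
          * ((A : GL (Fin n) F) : Matrix (Fin n) (Fin n) F)
          * ((g : GL (Fin n) F) : Matrix (Fin n) (Fin n) F)ᵀ := by
    intro g
    rw [← mapGU_inv_coe σ hσ g]
    rfl
  constructor
  · rintro ⟨h, hh, hy⟩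
    rw [inndiagPSU_eq] at hh
    obtain ⟨g, rfl⟩ := hh
    rw [graphU_conj, eq_comm, graphU_eq_iff hF hn] at hy
    obtain ⟨c, hc⟩ := hy
    exact ⟨g, c, by rw [hc, hcoe]⟩
  · rintro ⟨g, c, hc⟩
    refine ⟨phiPSU g, ?_, ?_⟩
    · rw [inndiagPSU_eq]
      exact ⟨g, rfl⟩
    · rw [graphU_conj, eq_comm, graphU_eq_iff hF hn]
      exact ⟨c, by rw [hc, hcoe]⟩

theorem graphU_sq_eq_one_iff (hF : Fintype.card F = q ^ 2) (hn : 3 ≤ n) (σ : F ≃+* F)
    (hσ : ∀ a, σ a = a ^ q) (A : ↥(GU n F q)) :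
    graphU σ A * graphU σ A = 1 ↔ ∃ c : Fˣ, ((A : GL (Fin n) F) : Matrix (Fin n) (Fin n) F)
      = (c : F) • ((A : GL (Fin n) F) : Matrix (Fin n) (Fin n) F)ᵀ := by
  rw [graphU_sq σ (frob_mul_self hF σ hσ), phiPSU_eq_one_iff hF hn, Geo.mem_scalars_iff]
  have h4 := GU_transpose_mul_map σ hσ A
  have h5 := GU_map_mul_transpose σ hσ A
  have hmul : (((A * mapGU σ A : ↥(GU n F q)) : GL (Fin n) F) : Matrix (Fin n) (Fin n) F)
      = ((A : GL (Fin n) F) : Matrix (Fin n) (Fin n) F)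
        * ((A : GL (Fin n) F) : Matrix (Fin n) (Fin n) F).map σ := rfl
  rw [hmul]
  constructor
  · rintro ⟨c, hc⟩
    refine ⟨c, ?_⟩
    calc ((A : GL (Fin n) F) : Matrix (Fin n) (Fin n) F)
        = ((A : GL (Fin n) F) : Matrix (Fin n) (Fin n) F)
          * ((A : GL (Fin n) F) : Matrix (Fin n) (Fin n) F).map σ
          * ((A : GL (Fin n) F) : Matrix (Fin n) (Fin n) F)ᵀ := by rw [Matrix.mul_assoc, h5, Matrix.mul_one]
      _ = (c : F) • ((A : GL (Fin n) F) : Matrix (Fin n) (Fin n) F)ᵀ := by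
          rw [hc, Matrix.smul_mul, Matrix.one_mul]
  · rintro ⟨c, hc⟩
    refine ⟨c, ?_⟩
    calc ((A : GL (Fin n) F) : Matrix (Fin n) (Fin n) F)
          * ((A : GL (Fin n) F) : Matrix (Fin n) (Fin n) F).map σ
        = ((c : F) • ((A : GL (Fin n) F) : Matrix (Fin n) (Fin n) F)ᵀ)
          * ((A : GL (Fin n) F) : Matrix (Fin n) (Fin n) F).map σ := by rw [← hc]
      _ = (c : F) • (1 : Matrix (Fin n) (Fin n) F) := by rw [Matrix.smul_mul, h4]

theorem graphU_ne_one (hF : Fintype.card F = q ^ 2) (hn : 3 ≤ n) (σ : F ≃+* F)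
    (hσ : ∀ a, σ a = a ^ q) (A : ↥(GU n F q)) : graphU σ A ≠ 1 := by
  intro h
  exact frob_ne_one hF σ hσ (phi_field_eq_one hF hn A σ h).1

theorem orderOf_graphU_eq_two_iff (hF : Fintype.card F = q ^ 2) (hn : 3 ≤ n) (σ : F ≃+* F)
    (hσ : ∀ a, σ a = a ^ q) (A : ↥(GU n F q)) :
    orderOf (graphU σ A) = 2 ↔ ∃ c : Fˣ, ((A : GL (Fin n) F) : Matrix (Fin n) (Fin n) F)
      = (c : F) • ((A : GL (Fin n) F) : Matrix (Fin n) (Fin n) F)ᵀ := by
  rw [← graphU_sq_eq_one_iff hF hn σ hσ]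
  constructor
  · intro h
    have h1 := pow_orderOf_eq_one (graphU σ A)
    rw [h, pow_two] at h1
    exact h1
  · intro h
    exact orderOf_eq_prime (by rw [pow_two]; exact h) (graphU_ne_one hF hn σ hσ A)

theorem isGraphAutClassPSU_graphU (hF : Fintype.card F = q ^ 2) (hn : 3 ≤ n) (σ : F ≃+* F)
    (hσ : ∀ a, σ a = a ^ q) (A : ↥(GU n F q)) : IsGraphAutClassPSU (graphU σ A) :=
  ⟨hn, phiPSU A, fieldPSU σ, σ, by rw [orderOf_frob hF σ hσ]; exact even_two,
    (isInnerDiagonalU_iff _).mpr ⟨A, rfl⟩, (isFieldAutPSUOf_iff σ _).mpr rfl, rfl⟩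

/-- every involutory graph automorphism of `PSU_n` is `Φ(A) φ_σ` with `σ` the `q`-Frobenius -/
theorem exists_graphU_of_order_two (hF : Fintype.card F = q ^ 2) (hn : 3 ≤ n) (σ : F ≃+* F)
    (hσ : ∀ a, σ a = a ^ q) (γ : MulAut (PSU n F q)) (hγ : IsGraphAutClassPSU γ)
    (h2 : orderOf γ = 2) : ∃ A : ↥(GU n F q), γ = graphU σ A := by
  obtain ⟨-, δ, φ, τ, hτ, hδ, hφ, rfl⟩ := hγ
  obtain ⟨g, rfl⟩ := (isInnerDiagonalU_iff δ).mp hδ
  rw [(isFieldAutPSUOf_iff τ φ).mp hφ] at h2 ⊢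
  have h1 : (phiPSU g * fieldPSU τ) * (phiPSU g * fieldPSU τ) = 1 := by
    have := pow_orderOf_eq_one (phiPSU g * fieldPSU (n := n) (q := q) τ)
    rw [h2, pow_two] at this
    exact this
  have h3 : phiPSU (g * mapGU τ g) * fieldPSU (n := n) (q := q) (τ * τ) = 1 := by
    rw [← h1, map_mul, ← fieldPSU_mul, mul_assoc, ← mul_assoc (phiPSU (mapGU τ g)), ← fieldPSU_phi]
    simp only [mul_assoc]
  have h4 : τ * τ = 1 := (phi_field_eq_one hF hn _ _ h3).1
  have h5 : orderOf τ = 2 := by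
    have hdvd : orderOf τ ∣ 2 := orderOf_dvd_of_pow_eq_one (by rw [pow_two]; exact h4)
    rcases (Nat.dvd_prime Nat.prime_two).mp hdvd with h | h
    · rw [h] at hτ
      exact absurd hτ (by decide)
    · exact h
  have h6 : τ = σ := by
    apply RingEquiv.ext
    intro x
    rw [eq_frob_of_order_two hF τ h5, hσ]
  rw [h6]
  exact ⟨g, rfl⟩

theorem phi_mem_centralizer_graphU_iff (hF : Fintype.card F = q ^ 2) (hn : 3 ≤ n) (σ : F ≃+* F)
    (hσ : ∀ a, σ a = a ^ q) (A g : ↥(GU n F q)) :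
    phiPSU g ∈ Subgroup.centralizer {graphU σ A} ↔
      ∃ c : Fˣ, ((g : GL (Fin n) F) : Matrix (Fin n) (Fin n) F)
          * ((A : GL (Fin n) F) : Matrix (Fin n) (Fin n) F)
          * ((g : GL (Fin n) F) : Matrix (Fin n) (Fin n) F)ᵀ
        = (c : F) • ((A : GL (Fin n) F) : Matrix (Fin n) (Fin n) F) := by
  rw [Subgroup.mem_centralizer_singleton_iff]
  have h1 : phiPSU g * graphU σ A = graphU σ A * phiPSU g ↔
      graphU σ A = graphU σ (g * A * (mapGU σ g)⁻¹) := by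
    rw [← graphU_conj]
    constructor
    · intro h
      rw [h, mul_inv_cancel_right]
    · intro h
      conv_rhs => rw [h]
      rw [inv_mul_cancel_right]
  rw [h1, graphU_eq_iff hF hn]
  have hcoe : (((g * A * (mapGU σ g)⁻¹ : ↥(GU n F q)) : GL (Fin n) F) : Matrix (Fin n) (Fin n) F)
        = ((g : GL (Fin n) F) : Matrix (Fin n) (Fin n) F)
          * ((A : GL (Fin n) F) : Matrix (Fin n) (Fin n) F)
          * ((g : GL (Fin n) F) : Matrix (Fin n) (Fin n) F)ᵀ := by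
    rw [← mapGU_inv_coe σ hσ g]
    rfl
  rw [hcoe]

/-- The part of `Inndiag(PSU_n)` in a subgroup `C` of `Aut(PSU_n)`, as a projective quotient. -/
theorem inndiagU_inf_equiv (hF : Fintype.card F = q ^ 2) (hn : 3 ≤ n) (H : Subgroup (GL (Fin n) F))
    (hle : H ≤ GU n F q) (C : Subgroup (MulAut (PSU n F q)))
    (hH : ∀ g : ↥(GU n F q), (g : GL (Fin n) F) ∈ H ↔ phiPSU g ∈ C) :
    Nonempty (↥(inndiagPSU n F q ⊓ C) ≃* projQuot H) := by
  have hrange : ((phiPSU (n := n) (q := q) (F := F)).comp (Subgroup.inclusion hle)).range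
      = inndiagPSU n F q ⊓ C := by
    ext β
    rw [Subgroup.mem_inf, inndiagPSU_eq]
    constructor
    · rintro ⟨h, rfl⟩
      exact ⟨⟨_, rfl⟩, (hH _).mp h.2⟩
    · rintro ⟨⟨g, rfl⟩, hC⟩
      exact ⟨⟨(g : GL (Fin n) F), (hH g).mpr hC⟩, rfl⟩
  have hker : ((phiPSU (n := n) (q := q) (F := F)).comp (Subgroup.inclusion hle)).ker
      = (Geo.scalars (Fin n) F).subgroupOf H := by
    ext x
    rw [MonoidHom.mem_ker, Subgroup.mem_subgroupOf, MonoidHom.comp_apply, phiPSU_eq_one_iff hF hn]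
    rfl
  exact ⟨((QuotientGroup.quotientMulEquivOfEq hker).symm.trans
    ((QuotientGroup.quotientKerEquivRange _).trans (MulEquiv.subgroupCongr hrange))).symm⟩

/-- the matrices of `GU_n` inducing automorphisms centralising `Φ(A) φ_σ` -/
def centGU (σ : F ≃+* F) (A : ↥(GU n F q)) : Subgroup (GL (Fin n) F) :=
  ((Subgroup.centralizer {graphU σ A}).comap phiPSU).map (GU n F q).subtype

omit [Fintype F] in
theorem centGU_le (σ : F ≃+* F) (A : ↥(GU n F q)) : centGU σ A ≤ GU n F q := by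
  rintro h ⟨g, -, rfl⟩
  exact g.2

omit [Fintype F] in
theorem mem_centGU_iff (σ : F ≃+* F) (A g : ↥(GU n F q)) :
    (g : GL (Fin n) F) ∈ centGU σ A ↔ phiPSU g ∈ Subgroup.centralizer {graphU σ A} := by
  constructor
  · rintro ⟨g', hg', heq⟩
    have : g' = g := Subtype.ext heq
    rw [← this]
    exact hg'
  · intro h
    exact ⟨g, h, rfl⟩

theorem cent_graphU_equiv (hF : Fintype.card F = q ^ 2) (hn : 3 ≤ n) (σ : F ≃+* F)
    (A : ↥(GU n F q)) :
    Nonempty (↥(inndiagPSU n F q ⊓ Subgroup.centralizer {graphU σ A}) ≃* projQuot (centGU σ A)) :=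
  inndiagU_inf_equiv hF hn _ (centGU_le σ A) _ (mem_centGU_iff σ A)

end Graph

end Cfsg.Agent.Lib.helper50
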