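import Mathlib
import Cfsg.Prelude.Def_LieTypeDatum
import Cfsg.Agent.Lib.helper50.PSUGraph
import Cfsg.Agent.Lib.helper50.GraphCent2
import Cfsg.Agent.Lib.helper50.FiniteFieldEmb
import Cfsg.Agent.Lib.helper47.PSLnH90

/-!
# Descent for graph automorphisms of `PSU_n(q)`

An involutory graph automorphism `Φ(A) φ_σ` of `PSU_n(q)` corresponds (via a matrix `P` with
`A bar(P) = e P` and the Gram matrix `Pᵀ bar(P)`) to a graph automorphism of `PSL_n(F₀)`, `|F₀| = q`;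
the correspondence respects conjugacy under `Inndiag` and centralisers in `Inndiag`.
-/

set_option autoImplicit false

namespace Cfsg.Agent.Lib.helper50

open Matrix Cfsg
open scoped MatrixGroups

universe u v

section Emb
variable {q : ℕ} {F : Type u} [Field F] [Fintype F] {F₀ : Type v} [Field F₀] [Fintype F₀]

omit [Fintype F] in
theorem emb_fixed (hF₀ : Fintype.card F₀ = q) (σ : F ≃+* F) (hσ : ∀ a, σ a = a ^ q) (ι : F₀ →+* F)
    (y : F₀) : σ (ι y) = ι y := by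
  rw [hσ, ← map_pow, ← hF₀, FiniteField.pow_card]

theorem emb_surj (hF : Fintype.card F = q ^ 2) (hF₀ : Fintype.card F₀ = q) (σ : F ≃+* F)
    (hσ : ∀ a, σ a = a ^ q) (ι : F₀ →+* F) (x : F) (hx : σ x = x) : ∃ y, ι y = x := by
  classical
  have hcard := fa_card_fixed σ Nat.prime_two hF (orderOf_frob hF σ hσ)
  have hsub : Set.range ι ⊆ ((FixedPoints.subfield (Subgroup.zpowers σ) F : Subfield F) : Set F) := by
    rintro _ ⟨y, rfl⟩
    exact (fa_mem_fixed_iff σ _).mpr (emb_fixed hF₀ σ hσ ι y)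
  have h1 : (Set.range ι).ncard = q := by
    rw [Set.ncard_range_of_injective ι.injective, Nat.card_eq_fintype_card, hF₀]
  have h2 : ((FixedPoints.subfield (Subgroup.zpowers σ) F : Subfield F) : Set F).ncard = q := by
    rw [← Nat.card_coe_set_eq]
    exact hcard
  have h3 := Set.eq_of_subset_of_ncard_le hsub (by rw [h1, h2]) (Set.toFinite _)
  have h4 : x ∈ Set.range ι := by
    rw [h3]
    exact (fa_mem_fixed_iff σ x).mpr hx
  exact h4

end Emb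

section Bar
variable {F : Type u} [Field F] {F₀ : Type v} [Field F₀] {κ : Type*} [Fintype κ] [DecidableEq κ]

omit [DecidableEq κ] in
theorem bar_mul (σ : F ≃+* F) (X Y : Matrix κ κ F) : (X * Y).map σ = X.map σ * Y.map σ :=
  Matrix.map_mul

omit [Fintype κ] [DecidableEq κ] in
theorem bar_smul (σ : F ≃+* F) (c : F) (X : Matrix κ κ F) : (c • X).map σ = σ c • X.map σ := by
  ext i j
  simp

omit [Fintype κ] in
theorem bar_one (σ : F ≃+* F) : (1 : Matrix κ κ F).map σ = 1 :=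
  Matrix.map_one _ (map_zero σ) (map_one σ)

omit [DecidableEq κ] in
theorem emb_mul (ι : F₀ →+* F) (X Y : Matrix κ κ F₀) : (X * Y).map ι = X.map ι * Y.map ι :=
  Matrix.map_mul

omit [Fintype κ] [DecidableEq κ] in
theorem emb_smul (ι : F₀ →+* F) (c : F₀) (X : Matrix κ κ F₀) : (c • X).map ι = ι c • X.map ι := by
  ext i j
  simp

omit [Fintype κ] in
theorem emb_one (ι : F₀ →+* F) : (1 : Matrix κ κ F₀).map ι = 1 :=
  Matrix.map_one _ (map_zero ι) (map_one ι)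

omit [Fintype κ] [DecidableEq κ] in
theorem emb_inj (ι : F₀ →+* F) {X Y : Matrix κ κ F₀} (h : X.map ι = Y.map ι) : X = Y :=
  Matrix.map_injective ι.injective h

omit [Fintype κ] [DecidableEq κ] in
theorem emb_bar (σ : F ≃+* F) (ι : F₀ →+* F) (hι1 : ∀ y, σ (ι y) = ι y) (X : Matrix κ κ F₀) :
    (X.map ι).map σ = X.map ι := by
  ext i j
  exact hι1 _

omit [Fintype κ] [DecidableEq κ] in
theorem exists_map_of_fixed (σ : F ≃+* F) (ι : F₀ →+* F) (hι2 : ∀ x, σ x = x → ∃ y, ι y = x)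
    (X : Matrix κ κ F) (hX : X.map σ = X) : ∃ X₀ : Matrix κ κ F₀, X₀.map ι = X := by
  have h : ∀ i j, ∃ y, ι y = X i j := fun i j => hι2 _ (congrFun (congrFun hX i) j)
  choose f hf using h
  exact ⟨Matrix.of f, by ext i j; exact hf i j⟩

theorem det_emb (ι : F₀ →+* F) (X : Matrix κ κ F₀) : (X.map ι).det = ι X.det := by
  rw [RingHom.map_det]
  rfl

/-- a scalar matrix as an element of `GL` -/
def sclGL (κ : Type) [Fintype κ] [DecidableEq κ] {F : Type u} [Field F] (c : Fˣ) : GL κ F :=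
  Units.map (Matrix.scalar κ : F →+* Matrix κ κ F).toMonoidHom c

theorem sclGL_coe {κ : Type} [Fintype κ] [DecidableEq κ] (c : Fˣ) :
    ((sclGL κ c : GL κ F) : Matrix κ κ F) = (c : F) • (1 : Matrix κ κ F) := by
  simp [sclGL, Matrix.smul_one_eq_diagonal]

theorem sclGL_mem {κ : Type} [Fintype κ] [DecidableEq κ] (c : Fˣ) :
    (sclGL κ c : GL κ F) ∈ Geo.scalars κ F := ⟨c, rfl⟩

end Bar

section Transfer
variable {F : Type u} [Field F] {F₀ : Type v} [Field F₀]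
  {κ₀ κ : Type} [Fintype κ₀] [DecidableEq κ₀] [Fintype κ] [DecidableEq κ]

/-- Two matrix groups with the same image modulo scalars (under a homomorphism `j` detecting scalars) have
isomorphic projective quotients. -/
theorem proj_transfer (j : GL κ₀ F₀ →* GL κ F) (S : Subgroup (GL κ₀ F₀)) (H : Subgroup (GL κ F))
    (ha : ∀ s ∈ S, ∃ z ∈ Geo.scalars κ F, z * j s ∈ H)
    (hb : ∀ h ∈ H, ∃ s ∈ S, ∃ z ∈ Geo.scalars κ F, h = z * j s)
    (hc : ∀ s ∈ S, j s ∈ Geo.scalars κ F ↔ s ∈ Geo.scalars κ₀ F₀) :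
    Nonempty (projQuot S ≃* projQuot H) := by
  let π := QuotientGroup.mk' (Geo.scalars κ F)
  let f₁ : ↥S →* GL κ F ⧸ Geo.scalars κ F := π.comp (j.comp S.subtype)
  let f₂ : ↥H →* GL κ F ⧸ Geo.scalars κ F := π.comp H.subtype
  have hker₁ : f₁.ker = (Geo.scalars κ₀ F₀).subgroupOf S := by
    ext x
    rw [MonoidHom.mem_ker, Subgroup.mem_subgroupOf]
    show ((j x : GL κ F) : GL κ F ⧸ Geo.scalars κ F) = 1 ↔ _
    rw [QuotientGroup.eq_one_iff]
    exact hc x x.2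
  have hker₂ : f₂.ker = (Geo.scalars κ F).subgroupOf H := by
    ext x
    rw [MonoidHom.mem_ker, Subgroup.mem_subgroupOf]
    show (((x : GL κ F)) : GL κ F ⧸ Geo.scalars κ F) = 1 ↔ _
    rw [QuotientGroup.eq_one_iff]
  have hrange : f₁.range = f₂.range := by
    ext y
    constructor
    · rintro ⟨s, rfl⟩
      obtain ⟨z, hz, hzH⟩ := ha s s.2
      refine ⟨⟨z * j s, hzH⟩, ?_⟩
      show π (z * j s) = π (j s)
      rw [map_mul]
      have : π z = 1 := (QuotientGroup.eq_one_iff z).mpr hz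
      rw [this, one_mul]
    · rintro ⟨h, rfl⟩
      obtain ⟨s, hs, z, hz, heq⟩ := hb h h.2
      refine ⟨⟨s, hs⟩, ?_⟩
      show π (j s) = π h
      rw [heq, map_mul]
      have : π z = 1 := (QuotientGroup.eq_one_iff z).mpr hz
      rw [this, one_mul]
  exact ⟨((QuotientGroup.quotientMulEquivOfEq hker₁).symm.trans
    ((QuotientGroup.quotientKerEquivRange f₁).trans ((MulEquiv.subgroupCongr hrange).trans
      ((QuotientGroup.quotientKerEquivRange f₂).symm.trans (QuotientGroup.quotientMulEquivOfEq hker₂)))))⟩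

end Transfer

section Datum
variable {n : ℕ} {F : Type u} [Field F]

theorem datum_inv (σ : F ≃+* F) (Am Pm Pi : Matrix (Fin n) (Fin n) F) (e : F)
    (hPPi : Pm * Pi = 1) (hPiP : Pi * Pm = 1) (hP : Am * Pm.map σ = e • Pm) :
    Pi * Am = e • Pi.map σ := by
  have h1 : Pm.map σ * Pi.map σ = 1 := by rw [← bar_mul, hPPi, bar_one]
  calc Pi * Am = Pi * Am * (Pm.map σ * Pi.map σ) := by rw [h1, Matrix.mul_one]
    _ = Pi * (Am * Pm.map σ) * Pi.map σ := by simp only [Matrix.mul_assoc]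
    _ = e • Pi.map σ := by rw [hP, Matrix.mul_smul, hPiP, Matrix.smul_mul, Matrix.one_mul]

theorem descent_a (σ : F ≃+* F) (Am Pm Pi : Matrix (Fin n) (Fin n) F) (e : F)
    (hPPi : Pm * Pi = 1) (hPiP : Pi * Pm = 1) (hP : Am * Pm.map σ = e • Pm)
    (Sm : Matrix (Fin n) (Fin n) F) (hS : Sm.map σ = Sm) (d : F) (hd : d ≠ 0)
    (hSG : Smᵀ * (Pmᵀ * Pm.map σ) * Sm = (d * σ d) • (Pmᵀ * Pm.map σ)) :
    (d⁻¹ • (Pm * Sm * Pi))ᵀ * (d⁻¹ • (Pm * Sm * Pi)).map σ = 1 ∧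
    (d⁻¹ • (Pm * Sm * Pi)) * Am * (d⁻¹ • (Pm * Sm * Pi))ᵀ = (σ d * d⁻¹) • Am := by
  have hσd : σ d ≠ 0 := by
    rw [Ne, map_eq_zero_iff σ σ.injective]
    exact hd
  have hbar : (d⁻¹ • (Pm * Sm * Pi)).map σ = (σ d)⁻¹ • (Pm.map σ * Sm * Pi.map σ) := by
    rw [bar_smul, bar_mul, bar_mul, hS, map_inv₀]
  have hT : (d⁻¹ • (Pm * Sm * Pi))ᵀ = d⁻¹ • (Piᵀ * Smᵀ * Pmᵀ) := by
    rw [Matrix.transpose_smul, Matrix.transpose_mul, Matrix.transpose_mul, Matrix.mul_assoc]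
  have h1 : Pm.map σ * Pi.map σ = 1 := by rw [← bar_mul, hPPi, bar_one]
  have h1' : Piᵀ * Pmᵀ = 1 := by rw [← Matrix.transpose_mul, hPPi, Matrix.transpose_one]
  have part1 : (d⁻¹ • (Pm * Sm * Pi))ᵀ * (d⁻¹ • (Pm * Sm * Pi)).map σ = 1 := by
    rw [hT, hbar, Matrix.smul_mul, Matrix.mul_smul, smul_smul]
    calc (d⁻¹ * (σ d)⁻¹) • (Piᵀ * Smᵀ * Pmᵀ * (Pm.map σ * Sm * Pi.map σ))
        = (d⁻¹ * (σ d)⁻¹) • (Piᵀ * (Smᵀ * (Pmᵀ * Pm.map σ) * Sm) * Pi.map σ) := by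
          simp only [Matrix.mul_assoc]
      _ = ((d⁻¹ * (σ d)⁻¹) * (d * σ d)) • ((Piᵀ * Pmᵀ) * (Pm.map σ * Pi.map σ)) := by
          rw [hSG, Matrix.mul_smul, Matrix.smul_mul, smul_smul]
          simp only [Matrix.mul_assoc]
      _ = 1 := by
          rw [h1, h1', Matrix.mul_one]
          have : (d⁻¹ * (σ d)⁻¹) * (d * σ d) = 1 := by field_simp
          rw [this, one_smul]
  refine ⟨part1, ?_⟩
  obtain ⟨h, hh⟩ : ∃ h : Matrix (Fin n) (Fin n) F, h = d⁻¹ • (Pm * Sm * Pi) := ⟨_, rfl⟩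
  rw [← hh] at part1 hbar ⊢
  have hbh : h.map σ * hᵀ = 1 := mul_eq_one_comm.mp part1
  have key : h * Am = (σ d * d⁻¹) • (Am * h.map σ) := by
    rw [hbar, Matrix.mul_smul, smul_smul]
    calc h * Am = d⁻¹ • (Pm * Sm * (Pi * Am)) := by
          rw [hh, Matrix.smul_mul]
          simp only [Matrix.mul_assoc]
      _ = (d⁻¹ * e) • (Pm * Sm * Pi.map σ) := by
          rw [datum_inv σ Am Pm Pi e hPPi hPiP hP, Matrix.mul_smul, smul_smul]
      _ = (σ d * d⁻¹ * (σ d)⁻¹ * e) • (Pm * Sm * Pi.map σ) := by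
          congr 1
          field_simp
      _ = (σ d * d⁻¹ * (σ d)⁻¹) • (Am * (Pm.map σ * Sm * Pi.map σ)) := by
          rw [← Matrix.mul_assoc, ← Matrix.mul_assoc, hP, Matrix.smul_mul, Matrix.smul_mul, smul_smul]
  rw [key, Matrix.smul_mul, Matrix.mul_assoc, hbh, Matrix.mul_one]

theorem descent_b (σ : F ≃+* F) (Am Pm Pi : Matrix (Fin n) (Fin n) F) (e : F) (he : e ≠ 0)
    (hPPi : Pm * Pi = 1) (hPiP : Pi * Pm = 1) (hP : Am * Pm.map σ = e • Pm)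
    (hm : Matrix (Fin n) (Fin n) F) (hU : hmᵀ * hm.map σ = 1) (c : F)
    (hc : hm * Am * hmᵀ = c • Am) :
    Pi * hm * Pm = c • (Pi * hm * Pm).map σ := by
  have key : hm * Am = c • (Am * hm.map σ) := by
    calc hm * Am = hm * Am * (hmᵀ * hm.map σ) := by rw [hU, Matrix.mul_one]
      _ = (hm * Am * hmᵀ) * hm.map σ := by simp only [Matrix.mul_assoc]
      _ = c • (Am * hm.map σ) := by rw [hc, Matrix.smul_mul]
  calc Pi * hm * Pm = Pi * hm * (e⁻¹ • (Am * Pm.map σ)) := by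
        rw [hP, smul_smul, inv_mul_cancel₀ he, one_smul]
    _ = e⁻¹ • (Pi * (hm * Am) * Pm.map σ) := by
        rw [Matrix.mul_smul]
        simp only [Matrix.mul_assoc]
    _ = (e⁻¹ * c) • ((Pi * Am) * hm.map σ * Pm.map σ) := by
        rw [key, Matrix.mul_smul, Matrix.smul_mul, smul_smul]
        simp only [Matrix.mul_assoc]
    _ = c • (Pi * hm * Pm).map σ := by
        rw [datum_inv σ Am Pm Pi e hPPi hPiP hP, bar_mul, bar_mul, Matrix.smul_mul, Matrix.smul_mul,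
          smul_smul]
        congr 1
        field_simp

theorem norm_one_of_twist (σ : F ≃+* F) (hσ2 : ∀ a, σ (σ a) = a) (X : Matrix (Fin n) (Fin n) F)
    (hX : X ≠ 0) (c : F) (h : X = c • X.map σ) : c * σ c = 1 := by
  have h1 : X.map σ = σ c • X := by
    conv_lhs => rw [h]
    rw [bar_smul, map_map_frob σ hσ2]
  have h2 : X = (c * σ c) • X := by
    conv_lhs => rw [h, h1]
    rw [smul_smul]
  obtain ⟨i, j, hij⟩ : ∃ i j, X i j ≠ 0 := by
    by_contra hcon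
    apply hX
    ext i j
    by_contra h0
    exact hcon ⟨i, j, h0⟩
  have h3 := congrFun (congrFun h2 i) j
  rw [Matrix.smul_apply, smul_eq_mul] at h3
  have h4 : (c * σ c - 1) * X i j = 0 := by linear_combination -h3
  rcases mul_eq_zero.mp h4 with h5 | h5
  · linear_combination h5
  · exact absurd h5 hij

omit n in
theorem exists_twist (σ : F ≃+* F) (hσ2 : ∀ a, σ (σ a) = a) (hne : ∃ a, σ a ≠ a) (c : F)
    (hc : c * σ c = 1) : ∃ d : F, d ≠ 0 ∧ σ d = c * d := by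
  by_cases h : 1 + σ c = 0
  · have h1 : σ c = -1 := by linear_combination h
    have h2 : c = -1 := by
      have := congrArg σ h1
      rw [hσ2, map_neg, map_one] at this
      exact this
    obtain ⟨a, ha⟩ := hne
    refine ⟨a - σ a, sub_ne_zero.mpr (Ne.symm ha), ?_⟩
    rw [map_sub, hσ2, h2]
    ring
  · refine ⟨1 + σ c, h, ?_⟩
    rw [map_add, map_one, hσ2]
    linear_combination -hc

end Datum

section Cent
variable {n q : ℕ} {F : Type u} [Field F] [Fintype F] {F₀ : Type v} [Field F₀]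

/-- The centraliser of `Φ(A) φ_σ` in `GU_n` modulo scalars is the projective similarity group over `F₀` of
the Gram matrix of a descent datum. -/
theorem cent_descent (hF : Fintype.card F = q ^ 2) (hn : 3 ≤ n) (σ : F ≃+* F) (hσ : ∀ a, σ a = a ^ q)
    (ι : F₀ →+* F) (hι1 : ∀ y, σ (ι y) = ι y) (hι2 : ∀ x, σ x = x → ∃ y, ι y = x)
    (A : ↥(GU n F q)) (e : F) (he : e ≠ 0) (P : GL (Fin n) F)
    (hP : ((A : GL (Fin n) F) : Matrix (Fin n) (Fin n) F) * (P : Matrix (Fin n) (Fin n) F).map σ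
      = e • (P : Matrix (Fin n) (Fin n) F))
    (M₀ : Matrix (Fin n) (Fin n) F₀) (δ : F) (hδ : δ ≠ 0)
    (hG : (P : Matrix (Fin n) (Fin n) F)ᵀ * (P : Matrix (Fin n) (Fin n) F).map σ = δ • M₀.map ι) :
    Nonempty (projQuot (Geo.similarityGroup (fun u v : Fin n → F₀ => u ⬝ᵥ M₀ *ᵥ v))
      ≃* projQuot (centGU σ A)) := by
  classical
  have hσ2 := frob_frob hF σ hσ
  have hq0 : q ≠ 0 := by
    have := Cfsg.Agent.Lib.helper17.two_le_of_card_eq_sq hF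
    omega
  obtain ⟨Am, hAm⟩ : ∃ Am : Matrix (Fin n) (Fin n) F,
      Am = ((A : GL (Fin n) F) : Matrix (Fin n) (Fin n) F) := ⟨_, rfl⟩
  obtain ⟨Pm, hPm⟩ : ∃ Pm : Matrix (Fin n) (Fin n) F, Pm = (P : Matrix (Fin n) (Fin n) F) := ⟨_, rfl⟩
  obtain ⟨Pi, hPi⟩ : ∃ Pi : Matrix (Fin n) (Fin n) F,
      Pi = ((P⁻¹ : GL (Fin n) F) : Matrix (Fin n) (Fin n) F) := ⟨_, rfl⟩
  have hPPi : Pm * Pi = 1 := by rw [hPm, hPi]; exact Units.mul_inv P
  have hPiP : Pi * Pm = 1 := by rw [hPm, hPi]; exact Units.inv_mul P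
  rw [← hAm, ← hPm] at hP
  rw [← hPm] at hG
  have hbPP : Pm.map σ * Pi.map σ = 1 := by rw [← bar_mul, hPPi, bar_one]
  have hPPT : Piᵀ * Pmᵀ = 1 := by rw [← Matrix.transpose_mul, hPPi, Matrix.transpose_one]
  let i0 : Fin n := ⟨0, by omega⟩
  have hne : Nonempty (Fin n) := ⟨i0⟩
  let j : GL (Fin n) F₀ →* GL (Fin n) F :=
    (MulAut.conj P).toMonoidHom.comp (Matrix.GeneralLinearGroup.map ι)
  have hj : ∀ s : GL (Fin n) F₀, ((j s : GL (Fin n) F) : Matrix (Fin n) (Fin n) F)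
      = Pm * (s : Matrix (Fin n) (Fin n) F₀).map ι * Pi := by
    intro s
    rw [hPm, hPi]
    rfl
  apply proj_transfer j
  · -- (a)
    intro s hs
    obtain ⟨lam, hlam⟩ := (mem_simBil_iff M₀ s).mp hs
    have hlam0 : ι (lam : F₀) ≠ 0 := by
      rw [Ne, map_eq_zero_iff ι ι.injective]
      exact lam.ne_zero
    obtain ⟨d, hd⟩ := Cfsg.Agent.Lib.helper99.exists_norm_eq hF (ι lam) hlam0
      (by rw [← hσ]; exact hι1 _)
    have hd0 : d ≠ 0 := by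
      rintro rfl
      rw [zero_mul] at hd
      exact hlam0 hd.symm
    have hdσ : d * σ d = ι lam := by rw [hσ]; exact hd
    obtain ⟨Sm, hSm⟩ : ∃ Sm : Matrix (Fin n) (Fin n) F, Sm = (s : Matrix (Fin n) (Fin n) F₀).map ι :=
      ⟨_, rfl⟩
    have hSbar : Sm.map σ = Sm := by rw [hSm]; exact emb_bar σ ι hι1 _
    have hSG : Smᵀ * (Pmᵀ * Pm.map σ) * Sm = (d * σ d) • (Pmᵀ * Pm.map σ) := by
      have hST : Smᵀ = ((s : Matrix (Fin n) (Fin n) F₀)ᵀ).map ι := by rw [hSm]; rfl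
      rw [hG, hdσ, hST, hSm, Matrix.mul_smul, Matrix.smul_mul, ← emb_mul, ← emb_mul, hlam, emb_smul,
        smul_smul, smul_smul, mul_comm]
    obtain ⟨h1, h2⟩ := descent_a σ Am Pm Pi e hPPi hPiP hP Sm hSbar d hd0 hSG
    obtain ⟨z, hzdef⟩ : ∃ z : GL (Fin n) F, z = sclGL (Fin n) (Units.mk0 d⁻¹ (inv_ne_zero hd0)) :=
      ⟨_, rfl⟩
    have hz : ((z * j s : GL (Fin n) F) : Matrix (Fin n) (Fin n) F) = d⁻¹ • (Pm * Sm * Pi) := by
      rw [Units.val_mul, hzdef, sclGL_coe, hj, ← hSm, Matrix.smul_mul, Matrix.one_mul]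
      rfl
    have hzU : z * j s ∈ GU n F q := mem_GU_of_transpose_mul_map σ hσ _ (by rw [hz]; exact h1)
    refine ⟨z, by rw [hzdef]; exact sclGL_mem _, ?_⟩
    have hσd : σ d ≠ 0 := by
      rw [Ne, map_eq_zero_iff σ σ.injective]
      exact hd0
    have hmem := (mem_centGU_iff σ A ⟨z * j s, hzU⟩).mpr
      ((phi_mem_centralizer_graphU_iff hF hn σ hσ A ⟨z * j s, hzU⟩).mpr
        ⟨Units.mk0 (σ d * d⁻¹) (mul_ne_zero hσd (inv_ne_zero hd0)), by
          show ((z * j s : GL (Fin n) F) : Matrix (Fin n) (Fin n) F)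
            * ((A : GL (Fin n) F) : Matrix (Fin n) (Fin n) F)
            * ((z * j s : GL (Fin n) F) : Matrix (Fin n) (Fin n) F)ᵀ = _
          rw [hz, ← hAm]
          exact h2⟩)
    exact hmem
  · -- (b)
    rintro h ⟨g, hg, rfl⟩
    obtain ⟨c, hc⟩ := (phi_mem_centralizer_graphU_iff hF hn σ hσ A g).mp hg
    obtain ⟨hm, hhm⟩ : ∃ hm : Matrix (Fin n) (Fin n) F,
        hm = ((g : GL (Fin n) F) : Matrix (Fin n) (Fin n) F) := ⟨_, rfl⟩
    have hU : hmᵀ * hm.map σ = 1 := by rw [hhm]; exact GU_transpose_mul_map σ hσ g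
    rw [← hhm, ← hAm] at hc
    obtain ⟨g', hg'def⟩ : ∃ g' : Matrix (Fin n) (Fin n) F, g' = Pi * hm * Pm := ⟨_, rfl⟩
    have hg' : g' = (c : F) • g'.map σ := by
      rw [hg'def]
      exact descent_b σ Am Pm Pi e he hPPi hPiP hP hm hU c hc
    have hdetP : Pi.det * Pm.det = 1 := by rw [← Matrix.det_mul, hPiP, Matrix.det_one]
    have hdet : g'.det ≠ 0 := by
      rw [hg'def, Matrix.det_mul, Matrix.det_mul]
      have h1 : Pi.det * hm.det * Pm.det = hm.det := by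
        rw [mul_comm (Pi.det) _, mul_assoc, hdetP, mul_one]
      rw [h1, hhm]
      exact Matrix.GeneralLinearGroup.det_ne_zero _
    have hg'0 : g' ≠ 0 := by
      intro h0
      rw [h0, Matrix.det_zero] at hdet
      exact hdet rfl
    have hcc := norm_one_of_twist σ hσ2 g' hg'0 c hg'
    obtain ⟨a, ha⟩ := Cfsg.Agent.Lib.helper17.exists_pow_q_ne hF
    obtain ⟨d, hd0, hd⟩ := exists_twist σ hσ2 ⟨a, by rw [hσ]; exact ha⟩ c hcc
    have hσd : σ d ≠ 0 := by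
      rw [Ne, map_eq_zero_iff σ σ.injective]
      exact hd0
    obtain ⟨X, hXdef⟩ : ∃ X : Matrix (Fin n) (Fin n) F, X = d • g' := ⟨_, rfl⟩
    have hXbar : X.map σ = X := by
      rw [hXdef, bar_smul, hd, mul_comm, ← smul_smul, ← hg']
    have hXbar' : X = σ d • g'.map σ := by
      conv_lhs => rw [← hXbar, hXdef, bar_smul]
    obtain ⟨s₀, hs₀⟩ := exists_map_of_fixed σ ι hι2 X hXbar
    have hs₀det : s₀.det ≠ 0 := by
      intro h0
      have h1 := det_emb ι s₀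
      rw [hs₀, h0, map_zero, hXdef, Matrix.det_smul] at h1
      exact mul_ne_zero (pow_ne_zero _ hd0) hdet h1
    have hXGX : Xᵀ * (Pmᵀ * Pm.map σ) * X = (d * σ d) • (Pmᵀ * Pm.map σ) := by
      have e1 : g'ᵀ * (Pmᵀ * Pm.map σ) * g'.map σ = Pmᵀ * Pm.map σ := by
        rw [hg'def, bar_mul, bar_mul, Matrix.transpose_mul, Matrix.transpose_mul]
        calc Pmᵀ * (hmᵀ * Piᵀ) * (Pmᵀ * Pm.map σ) * (Pi.map σ * hm.map σ * Pm.map σ)
            = Pmᵀ * (hmᵀ * ((Piᵀ * Pmᵀ) * (Pm.map σ * Pi.map σ)) * hm.map σ) * Pm.map σ := by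
              simp only [Matrix.mul_assoc]
          _ = Pmᵀ * Pm.map σ := by
              rw [hPPT, hbPP, Matrix.mul_one, Matrix.mul_one, hU, Matrix.mul_one]
      calc Xᵀ * (Pmᵀ * Pm.map σ) * X
          = (d • g')ᵀ * (Pmᵀ * Pm.map σ) * (σ d • g'.map σ) := by
            rw [← hXdef, ← hXbar']
        _ = (d * σ d) • (g'ᵀ * (Pmᵀ * Pm.map σ) * g'.map σ) := by
            rw [Matrix.transpose_smul, Matrix.smul_mul, Matrix.smul_mul, Matrix.mul_smul, smul_smul,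
              mul_comm]
        _ = (d * σ d) • (Pmᵀ * Pm.map σ) := by rw [e1]
    obtain ⟨lam, hlam⟩ := hι2 (d * σ d) (by rw [map_mul, hσ2, mul_comm])
    have hlam0 : lam ≠ 0 := by
      rintro rfl
      rw [map_zero] at hlam
      exact mul_ne_zero hd0 hσd hlam.symm
    have hs₀sim : s₀ᵀ * M₀ * s₀ = lam • M₀ := by
      apply emb_inj ι
      have hXT : Xᵀ = (s₀ᵀ).map ι := by rw [← hs₀]; rfl
      rw [hG, hXT, ← hs₀, Matrix.mul_smul, Matrix.smul_mul, ← emb_mul, ← emb_mul, ← hlam, smul_smul,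
        mul_comm, ← smul_smul, ← emb_smul] at hXGX
      exact smul_right_injective _ hδ hXGX
    obtain ⟨s, hsdef⟩ : ∃ s : GL (Fin n) F₀, s = Matrix.GeneralLinearGroup.mkOfDetNeZero s₀ hs₀det :=
      ⟨_, rfl⟩
    have hscoe : (s : Matrix (Fin n) (Fin n) F₀) = s₀ := by rw [hsdef]; rfl
    refine ⟨s, (mem_simBil_iff M₀ s).mpr ⟨Units.mk0 lam hlam0, by rw [hscoe]; exact hs₀sim⟩,
      sclGL (Fin n) (Units.mk0 d⁻¹ (inv_ne_zero hd0)), sclGL_mem _, ?_⟩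
    apply Units.ext
    rw [Units.val_mul, sclGL_coe, hj, hscoe, hs₀, hXdef]
    show ((g : GL (Fin n) F) : Matrix (Fin n) (Fin n) F) = _
    rw [← hhm, hg'def, Units.val_mk0, Matrix.smul_mul, Matrix.one_mul, Matrix.mul_smul, Matrix.smul_mul, smul_smul,
      inv_mul_cancel₀ hd0, one_smul]
    calc hm = (Pm * Pi) * hm * (Pm * Pi) := by rw [hPPi, Matrix.one_mul, Matrix.mul_one]
      _ = Pm * (Pi * hm * Pm) * Pi := by simp only [Matrix.mul_assoc]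
  · -- (c)
    intro s _
    rw [Geo.mem_scalars_iff, Geo.mem_scalars_iff]
    constructor
    · rintro ⟨c, hc⟩
      rw [hj] at hc
      have h1 : (s : Matrix (Fin n) (Fin n) F₀).map ι = (c : F) • (1 : Matrix (Fin n) (Fin n) F) := by
        calc (s : Matrix (Fin n) (Fin n) F₀).map ι
            = (Pi * Pm) * (s : Matrix (Fin n) (Fin n) F₀).map ι * (Pi * Pm) := by
              rw [hPiP, Matrix.one_mul, Matrix.mul_one]
          _ = Pi * (Pm * (s : Matrix (Fin n) (Fin n) F₀).map ι * Pi) * Pm := by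
              simp only [Matrix.mul_assoc]
          _ = (c : F) • (1 : Matrix (Fin n) (Fin n) F) := by
              rw [hc, Matrix.mul_smul, Matrix.smul_mul, Matrix.mul_one, hPiP]
      have h2 : ι ((s : Matrix (Fin n) (Fin n) F₀) i0 i0) = (c : F) := by
        have := congrFun (congrFun h1 i0) i0
        rw [Matrix.map_apply, Matrix.smul_apply, Matrix.one_apply_eq, smul_eq_mul, mul_one] at this
        exact this
      have h3 : (s : Matrix (Fin n) (Fin n) F₀) i0 i0 ≠ 0 := by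
        intro h0
        rw [h0, map_zero] at h2
        exact c.ne_zero h2.symm
      refine ⟨Units.mk0 _ h3, ?_⟩
      apply emb_inj ι
      rw [h1, emb_smul, emb_one, Units.val_mk0, h2]
    · rintro ⟨c, hc⟩
      have hc0 : ι (c : F₀) ≠ 0 := by
        rw [Ne, map_eq_zero_iff ι ι.injective]
        exact c.ne_zero
      refine ⟨Units.mk0 _ hc0, ?_⟩
      rw [hj, hc, emb_smul, emb_one, Matrix.mul_smul, Matrix.mul_one, Matrix.smul_mul, hPPi]
      rfl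

end Cent

section Conj
variable {n q : ℕ} {F : Type u} [Field F] [Fintype F]

/-- two descent data with the same Gram matrix give conjugate graph automorphisms -/
theorem conj_of_gram_eq (hF : Fintype.card F = q ^ 2) (hn : 3 ≤ n) (σ : F ≃+* F) (hσ : ∀ a, σ a = a ^ q)
    (A A' : ↥(GU n F q)) (e e' : F) (he : e ≠ 0) (P P' : GL (Fin n) F)
    (hP : ((A : GL (Fin n) F) : Matrix (Fin n) (Fin n) F) * (P : Matrix (Fin n) (Fin n) F).map σ
      = e • (P : Matrix (Fin n) (Fin n) F))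
    (hP' : ((A' : GL (Fin n) F) : Matrix (Fin n) (Fin n) F) * (P' : Matrix (Fin n) (Fin n) F).map σ
      = e' • (P' : Matrix (Fin n) (Fin n) F))
    (he' : e' ≠ 0)
    (hG : (P' : Matrix (Fin n) (Fin n) F)ᵀ * (P' : Matrix (Fin n) (Fin n) F).map σ
      = (P : Matrix (Fin n) (Fin n) F)ᵀ * (P : Matrix (Fin n) (Fin n) F).map σ) :
    IsConjUnder (inndiagPSU n F q) (graphU σ A) (graphU σ A') := by
  obtain ⟨Am, hAm⟩ : ∃ Am : Matrix (Fin n) (Fin n) F,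
      Am = ((A : GL (Fin n) F) : Matrix (Fin n) (Fin n) F) := ⟨_, rfl⟩
  obtain ⟨Am', hAm'⟩ : ∃ Am' : Matrix (Fin n) (Fin n) F,
      Am' = ((A' : GL (Fin n) F) : Matrix (Fin n) (Fin n) F) := ⟨_, rfl⟩
  obtain ⟨Pm, hPm⟩ : ∃ Pm : Matrix (Fin n) (Fin n) F, Pm = (P : Matrix (Fin n) (Fin n) F) := ⟨_, rfl⟩
  obtain ⟨Pi, hPi⟩ : ∃ Pi : Matrix (Fin n) (Fin n) F,
      Pi = ((P⁻¹ : GL (Fin n) F) : Matrix (Fin n) (Fin n) F) := ⟨_, rfl⟩
  obtain ⟨Pm', hPm'⟩ : ∃ Pm' : Matrix (Fin n) (Fin n) F, Pm' = (P' : Matrix (Fin n) (Fin n) F) :=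
    ⟨_, rfl⟩
  obtain ⟨Pi', hPi'⟩ : ∃ Pi' : Matrix (Fin n) (Fin n) F,
      Pi' = ((P'⁻¹ : GL (Fin n) F) : Matrix (Fin n) (Fin n) F) := ⟨_, rfl⟩
  have hPPi : Pm * Pi = 1 := by rw [hPm, hPi]; exact Units.mul_inv P
  have hPiP : Pi * Pm = 1 := by rw [hPm, hPi]; exact Units.inv_mul P
  have hPPi' : Pm' * Pi' = 1 := by rw [hPm', hPi']; exact Units.mul_inv P'
  have hPiP' : Pi' * Pm' = 1 := by rw [hPm', hPi']; exact Units.inv_mul P'
  rw [← hAm, ← hPm] at hP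
  rw [← hAm', ← hPm'] at hP'
  rw [← hPm, ← hPm'] at hG
  have hb : Pm.map σ * Pi.map σ = 1 := by rw [← bar_mul, hPPi, bar_one]
  have hb' : Pm'.map σ * Pi'.map σ = 1 := by rw [← bar_mul, hPPi', bar_one]
  have ht : Piᵀ * Pmᵀ = 1 := by rw [← Matrix.transpose_mul, hPPi, Matrix.transpose_one]
  have ht' : Pi'ᵀ * Pm'ᵀ = 1 := by rw [← Matrix.transpose_mul, hPPi', Matrix.transpose_one]
  have hgm : ((P' * P⁻¹ : GL (Fin n) F) : Matrix (Fin n) (Fin n) F) = Pm' * Pi := by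
    rw [Units.val_mul, hPm', hPi]
  have hgU : (P' * P⁻¹ : GL (Fin n) F) ∈ GU n F q := by
    apply mem_GU_of_transpose_mul_map σ hσ
    rw [hgm, Matrix.transpose_mul, bar_mul]
    calc Piᵀ * Pm'ᵀ * (Pm'.map σ * Pi.map σ) = Piᵀ * (Pm'ᵀ * Pm'.map σ) * Pi.map σ := by
          simp only [Matrix.mul_assoc]
      _ = (Piᵀ * Pmᵀ) * (Pm.map σ * Pi.map σ) := by
          rw [hG]
          simp only [Matrix.mul_assoc]
      _ = 1 := by rw [ht, hb, Matrix.mul_one]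
  refine (isConjUnder_graphU_iff hF hn σ hσ A A').mpr
    ⟨⟨P' * P⁻¹, hgU⟩, Units.mk0 (e' * e⁻¹) (mul_ne_zero he' (inv_ne_zero he)), ?_⟩
  show ((A' : GL (Fin n) F) : Matrix (Fin n) (Fin n) F) = (e' * e⁻¹)
    • (((P' * P⁻¹ : GL (Fin n) F) : Matrix (Fin n) (Fin n) F)
      * ((A : GL (Fin n) F) : Matrix (Fin n) (Fin n) F)
      * ((P' * P⁻¹ : GL (Fin n) F) : Matrix (Fin n) (Fin n) F)ᵀ)
  rw [hgm, ← hAm, ← hAm']
  have hinv : Pi.map σ * Piᵀ = Pi'.map σ * Pi'ᵀ := by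
    have h1 : (Pmᵀ * Pm.map σ) * (Pi.map σ * Piᵀ) = 1 := by
      calc (Pmᵀ * Pm.map σ) * (Pi.map σ * Piᵀ) = Pmᵀ * (Pm.map σ * Pi.map σ) * Piᵀ := by
            simp only [Matrix.mul_assoc]
        _ = 1 := by rw [hb, Matrix.mul_one, ← Matrix.transpose_mul, hPiP, Matrix.transpose_one]
    have h2 : (Pi'.map σ * Pi'ᵀ) * (Pm'ᵀ * Pm'.map σ) = 1 := by
      calc (Pi'.map σ * Pi'ᵀ) * (Pm'ᵀ * Pm'.map σ) = Pi'.map σ * (Pi'ᵀ * Pm'ᵀ) * Pm'.map σ := by
            simp only [Matrix.mul_assoc]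
        _ = 1 := by rw [ht', Matrix.mul_one, ← bar_mul, hPiP', bar_one]
    calc Pi.map σ * Piᵀ = ((Pi'.map σ * Pi'ᵀ) * (Pm'ᵀ * Pm'.map σ)) * (Pi.map σ * Piᵀ) := by
          rw [h2, Matrix.one_mul]
      _ = (Pi'.map σ * Pi'ᵀ) * ((Pmᵀ * Pm.map σ) * (Pi.map σ * Piᵀ)) := by
          rw [hG, Matrix.mul_assoc]
      _ = Pi'.map σ * Pi'ᵀ := by rw [h1, Matrix.mul_one]
  have hA' : Am' = e' • (Pm' * Pi'.map σ) := by
    calc Am' = Am' * (Pm'.map σ * Pi'.map σ) := by rw [hb', Matrix.mul_one]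
      _ = (Am' * Pm'.map σ) * Pi'.map σ := by rw [Matrix.mul_assoc]
      _ = e' • (Pm' * Pi'.map σ) := by rw [hP', Matrix.smul_mul]
  rw [hA']
  symm
  calc (e' * e⁻¹) • (Pm' * Pi * Am * (Pm' * Pi)ᵀ)
      = (e' * e⁻¹) • (Pm' * (Pi * Am) * (Piᵀ * Pm'ᵀ)) := by
        rw [Matrix.transpose_mul]
        simp only [Matrix.mul_assoc]
    _ = (e' * e⁻¹ * e) • (Pm' * (Pi.map σ * Piᵀ) * Pm'ᵀ) := by
        rw [datum_inv σ Am Pm Pi e hPPi hPiP hP, Matrix.mul_smul, Matrix.smul_mul, smul_smul]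
        simp only [Matrix.mul_assoc]
    _ = e' • (Pm' * Pi'.map σ) := by
        rw [hinv, inv_mul_cancel_right₀ he]
        congr 1
        calc Pm' * (Pi'.map σ * Pi'ᵀ) * Pm'ᵀ = Pm' * Pi'.map σ * (Pi'ᵀ * Pm'ᵀ) := by
              simp only [Matrix.mul_assoc]
          _ = Pm' * Pi'.map σ := by rw [ht', Matrix.mul_one]

/-- descent data whose Gram matrices are similar over the fixed field give conjugate graph automorphisms -/
theorem conj_of_gram (hF : Fintype.card F = q ^ 2) (hn : 3 ≤ n) (σ : F ≃+* F) (hσ : ∀ a, σ a = a ^ q)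
    (A A' : ↥(GU n F q)) (e e' : F) (he : e ≠ 0) (he' : e' ≠ 0) (P P' : GL (Fin n) F)
    (hP : ((A : GL (Fin n) F) : Matrix (Fin n) (Fin n) F) * (P : Matrix (Fin n) (Fin n) F).map σ
      = e • (P : Matrix (Fin n) (Fin n) F))
    (hP' : ((A' : GL (Fin n) F) : Matrix (Fin n) (Fin n) F) * (P' : Matrix (Fin n) (Fin n) F).map σ
      = e' • (P' : Matrix (Fin n) (Fin n) F))
    (X Y : Matrix (Fin n) (Fin n) F) (hXY : X * Y = 1) (hX : X.map σ = X) (μ : F) (hμ0 : μ ≠ 0)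
    (hμ : σ μ = μ)
    (hG : (P' : Matrix (Fin n) (Fin n) F)ᵀ * (P' : Matrix (Fin n) (Fin n) F).map σ
      = μ • (X * ((P : Matrix (Fin n) (Fin n) F)ᵀ * (P : Matrix (Fin n) (Fin n) F).map σ) * Xᵀ)) :
    IsConjUnder (inndiagPSU n F q) (graphU σ A) (graphU σ A') := by
  obtain ⟨d, hd⟩ := Cfsg.Agent.Lib.helper99.exists_norm_eq hF μ hμ0 (by rw [← hσ]; exact hμ)
  have hd0 : d ≠ 0 := by
    rintro rfl
    rw [zero_mul] at hd
    exact hμ0 hd.symm
  have hdσ : d * σ d = μ := by rw [hσ]; exact hd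
  have hσd : σ d ≠ 0 := by
    rw [Ne, map_eq_zero_iff σ σ.injective]
    exact hd0
  have hYX : Y * X = 1 := mul_eq_one_comm.mp hXY
  obtain ⟨Pm, hPm⟩ : ∃ Pm : Matrix (Fin n) (Fin n) F, Pm = (P : Matrix (Fin n) (Fin n) F) := ⟨_, rfl⟩
  obtain ⟨Pi, hPi⟩ : ∃ Pi : Matrix (Fin n) (Fin n) F,
      Pi = ((P⁻¹ : GL (Fin n) F) : Matrix (Fin n) (Fin n) F) := ⟨_, rfl⟩
  have hPPi : Pm * Pi = 1 := by rw [hPm, hPi]; exact Units.mul_inv P
  have hPiP : Pi * Pm = 1 := by rw [hPm, hPi]; exact Units.inv_mul P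
  rw [← hPm] at hP hG
  have hXT : (Xᵀ).map σ = Xᵀ := by rw [Matrix.transpose_map, hX]
  have hv1 : d • (Pm * Xᵀ) * (d⁻¹ • (Yᵀ * Pi)) = 1 := by
    rw [Matrix.smul_mul, Matrix.mul_smul, smul_smul, mul_inv_cancel₀ hd0, one_smul]
    calc Pm * Xᵀ * (Yᵀ * Pi) = Pm * (Xᵀ * Yᵀ) * Pi := by simp only [Matrix.mul_assoc]
      _ = 1 := by rw [← Matrix.transpose_mul, hYX, Matrix.transpose_one, Matrix.mul_one, hPPi]
  have hv2 : d⁻¹ • (Yᵀ * Pi) * (d • (Pm * Xᵀ)) = 1 := by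
    rw [Matrix.smul_mul, Matrix.mul_smul, smul_smul]
    have hdd : d * d⁻¹ = 1 := mul_inv_cancel₀ hd0
    have hdd' : d⁻¹ * d = 1 := inv_mul_cancel₀ hd0
    simp only [hdd, hdd', one_smul]
    calc Yᵀ * Pi * (Pm * Xᵀ) = Yᵀ * (Pi * Pm) * Xᵀ := by simp only [Matrix.mul_assoc]
      _ = 1 := by rw [hPiP, Matrix.mul_one, ← Matrix.transpose_mul, hXY, Matrix.transpose_one]
  obtain ⟨P₂, hP₂⟩ : ∃ P₂ : GL (Fin n) F, (P₂ : Matrix (Fin n) (Fin n) F) = d • (Pm * Xᵀ) :=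
    ⟨⟨d • (Pm * Xᵀ), d⁻¹ • (Yᵀ * Pi), hv1, hv2⟩, rfl⟩
  apply conj_of_gram_eq hF hn σ hσ A A' (σ d * e * d⁻¹) e'
    (mul_ne_zero (mul_ne_zero hσd he) (inv_ne_zero hd0)) P₂ P' ?_ hP' he' ?_
  · rw [hP₂, bar_smul, bar_mul, hXT, Matrix.mul_smul, ← Matrix.mul_assoc, hP, Matrix.smul_mul, smul_smul,
      smul_smul]
    congr 1
    field_simp
  · rw [hG, hP₂, bar_smul, bar_mul, hXT, Matrix.transpose_smul, Matrix.transpose_mul,
      Matrix.transpose_transpose, Matrix.smul_mul, Matrix.mul_smul, smul_smul, ← hdσ]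
    congr 1
    simp only [Matrix.mul_assoc]

theorem descent_b' (σ : F ≃+* F) (Am Pm : Matrix (Fin n) (Fin n) F) (e : F) (he : e ≠ 0)
    (hP : Am * Pm.map σ = e • Pm)
    (Am' Pm' Pi' : Matrix (Fin n) (Fin n) F) (e' : F)
    (hPPi' : Pm' * Pi' = 1) (hPiP' : Pi' * Pm' = 1) (hP' : Am' * Pm'.map σ = e' • Pm')
    (gm : Matrix (Fin n) (Fin n) F) (hU : gmᵀ * gm.map σ = 1) (c : F)
    (hc : gm * Am * gmᵀ = c • Am') :
    Pi' * gm * Pm = (e⁻¹ * c * e') • (Pi' * gm * Pm).map σ := by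
  have key : gm * Am = c • (Am' * gm.map σ) := by
    calc gm * Am = gm * Am * (gmᵀ * gm.map σ) := by rw [hU, Matrix.mul_one]
      _ = (gm * Am * gmᵀ) * gm.map σ := by simp only [Matrix.mul_assoc]
      _ = c • (Am' * gm.map σ) := by rw [hc, Matrix.smul_mul]
  calc Pi' * gm * Pm = Pi' * gm * (e⁻¹ • (Am * Pm.map σ)) := by
        rw [hP, smul_smul, inv_mul_cancel₀ he, one_smul]
    _ = e⁻¹ • (Pi' * (gm * Am) * Pm.map σ) := by
        rw [Matrix.mul_smul]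
        simp only [Matrix.mul_assoc]
    _ = (e⁻¹ * c) • ((Pi' * Am') * gm.map σ * Pm.map σ) := by
        rw [key, Matrix.mul_smul, Matrix.smul_mul, smul_smul]
        simp only [Matrix.mul_assoc]
    _ = (e⁻¹ * c * e') • (Pi' * gm * Pm).map σ := by
        rw [datum_inv σ Am' Pm' Pi' e' hPPi' hPiP' hP', bar_mul, bar_mul, Matrix.smul_mul, Matrix.smul_mul,
          smul_smul]

/-- conjugate graph automorphisms have Gram matrices similar over the fixed field -/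
theorem gram_of_conj (hF : Fintype.card F = q ^ 2) (hn : 3 ≤ n) (σ : F ≃+* F) (hσ : ∀ a, σ a = a ^ q)
    (A A' : ↥(GU n F q)) (e e' : F) (he : e ≠ 0) (he' : e' ≠ 0) (P P' : GL (Fin n) F)
    (hP : ((A : GL (Fin n) F) : Matrix (Fin n) (Fin n) F) * (P : Matrix (Fin n) (Fin n) F).map σ
      = e • (P : Matrix (Fin n) (Fin n) F))
    (hP' : ((A' : GL (Fin n) F) : Matrix (Fin n) (Fin n) F) * (P' : Matrix (Fin n) (Fin n) F).map σ
      = e' • (P' : Matrix (Fin n) (Fin n) F))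
    (h : IsConjUnder (inndiagPSU n F q) (graphU σ A) (graphU σ A')) :
    ∃ (X : Matrix (Fin n) (Fin n) F) (ν : F), X.map σ = X ∧ X.det ≠ 0 ∧ ν ≠ 0 ∧ σ ν = ν ∧
      Xᵀ * ((P' : Matrix (Fin n) (Fin n) F)ᵀ * (P' : Matrix (Fin n) (Fin n) F).map σ) * X
        = ν • ((P : Matrix (Fin n) (Fin n) F)ᵀ * (P : Matrix (Fin n) (Fin n) F).map σ) := by
  have hσ2 := frob_frob hF σ hσ
  obtain ⟨g, c, hc⟩ := (isConjUnder_graphU_iff hF hn σ hσ A A').mp h
  obtain ⟨Am, hAm⟩ : ∃ Am : Matrix (Fin n) (Fin n) F,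
      Am = ((A : GL (Fin n) F) : Matrix (Fin n) (Fin n) F) := ⟨_, rfl⟩
  obtain ⟨Am', hAm'⟩ : ∃ Am' : Matrix (Fin n) (Fin n) F,
      Am' = ((A' : GL (Fin n) F) : Matrix (Fin n) (Fin n) F) := ⟨_, rfl⟩
  obtain ⟨Pm, hPm⟩ : ∃ Pm : Matrix (Fin n) (Fin n) F, Pm = (P : Matrix (Fin n) (Fin n) F) := ⟨_, rfl⟩
  obtain ⟨Pm', hPm'⟩ : ∃ Pm' : Matrix (Fin n) (Fin n) F, Pm' = (P' : Matrix (Fin n) (Fin n) F) :=
    ⟨_, rfl⟩
  obtain ⟨Pi', hPi'⟩ : ∃ Pi' : Matrix (Fin n) (Fin n) F,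
      Pi' = ((P'⁻¹ : GL (Fin n) F) : Matrix (Fin n) (Fin n) F) := ⟨_, rfl⟩
  obtain ⟨gm, hgm⟩ : ∃ gm : Matrix (Fin n) (Fin n) F,
      gm = ((g : GL (Fin n) F) : Matrix (Fin n) (Fin n) F) := ⟨_, rfl⟩
  have hPPi' : Pm' * Pi' = 1 := by rw [hPm', hPi']; exact Units.mul_inv P'
  have hPiP' : Pi' * Pm' = 1 := by rw [hPm', hPi']; exact Units.inv_mul P'
  have hU : gmᵀ * gm.map σ = 1 := by rw [hgm]; exact GU_transpose_mul_map σ hσ g
  rw [← hAm, ← hPm] at hP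
  rw [← hAm', ← hPm'] at hP'
  rw [← hAm, ← hAm', ← hgm] at hc
  rw [← hPm, ← hPm']
  have hc' : gm * Am * gmᵀ = (c : F)⁻¹ • Am' := by
    rw [hc, smul_smul, inv_mul_cancel₀ c.ne_zero, one_smul]
  obtain ⟨Y₀, hY₀⟩ : ∃ Y₀ : Matrix (Fin n) (Fin n) F, Y₀ = Pi' * gm * Pm := ⟨_, rfl⟩
  obtain ⟨k, hk⟩ : ∃ k : F, k = e⁻¹ * (c : F)⁻¹ * e' := ⟨_, rfl⟩
  have hYk : Y₀ = k • Y₀.map σ := by
    rw [hY₀, hk]
    exact descent_b' σ Am Pm e he hP Am' Pm' Pi' e' hPPi' hPiP' hP' gm hU _ hc'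
  have hdetY : Y₀.det ≠ 0 := by
    rw [hY₀, Matrix.det_mul, Matrix.det_mul, hPi', hgm, hPm]
    exact mul_ne_zero (mul_ne_zero (Matrix.GeneralLinearGroup.det_ne_zero _)
      (Matrix.GeneralLinearGroup.det_ne_zero _)) (Matrix.GeneralLinearGroup.det_ne_zero _)
  have hne : Nonempty (Fin n) := ⟨⟨0, by omega⟩⟩
  have hY0 : Y₀ ≠ 0 := by
    intro h0
    rw [h0, Matrix.det_zero] at hdetY
    exact hdetY rfl
  have hkk := norm_one_of_twist σ hσ2 Y₀ hY0 k hYk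
  obtain ⟨a, ha⟩ := Cfsg.Agent.Lib.helper17.exists_pow_q_ne hF
  obtain ⟨d, hd0, hd⟩ := exists_twist σ hσ2 ⟨a, by rw [hσ]; exact ha⟩ k hkk
  have hσd : σ d ≠ 0 := by
    rw [Ne, map_eq_zero_iff σ σ.injective]
    exact hd0
  have hXbar : (d • Y₀).map σ = d • Y₀ := by
    rw [bar_smul, hd, mul_comm, ← smul_smul, ← hYk]
  have hXbar' : d • Y₀ = σ d • Y₀.map σ := by
    conv_lhs => rw [← hXbar, bar_smul]
  have hbPP' : Pm'.map σ * Pi'.map σ = 1 := by rw [← bar_mul, hPPi', bar_one]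
  have hPPT' : Pi'ᵀ * Pm'ᵀ = 1 := by rw [← Matrix.transpose_mul, hPPi', Matrix.transpose_one]
  refine ⟨d • Y₀, d * σ d, hXbar, ?_, mul_ne_zero hd0 hσd, by rw [map_mul, hσ2, mul_comm], ?_⟩
  · rw [Matrix.det_smul]
    exact mul_ne_zero (pow_ne_zero _ hd0) hdetY
  · have e1 : Y₀ᵀ * (Pm'ᵀ * Pm'.map σ) * Y₀.map σ = Pmᵀ * Pm.map σ := by
      rw [hY₀, bar_mul, bar_mul, Matrix.transpose_mul, Matrix.transpose_mul]
      calc Pmᵀ * (gmᵀ * Pi'ᵀ) * (Pm'ᵀ * Pm'.map σ) * (Pi'.map σ * gm.map σ * Pm.map σ)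
          = Pmᵀ * (gmᵀ * ((Pi'ᵀ * Pm'ᵀ) * (Pm'.map σ * Pi'.map σ)) * gm.map σ) * Pm.map σ := by
            simp only [Matrix.mul_assoc]
        _ = Pmᵀ * Pm.map σ := by
            rw [hPPT', hbPP', Matrix.mul_one, Matrix.mul_one, hU, Matrix.mul_one]
    calc (d • Y₀)ᵀ * (Pm'ᵀ * Pm'.map σ) * (d • Y₀)
        = (d • Y₀)ᵀ * (Pm'ᵀ * Pm'.map σ) * (σ d • Y₀.map σ) := by rw [← hXbar']
      _ = (d * σ d) • (Y₀ᵀ * (Pm'ᵀ * Pm'.map σ) * Y₀.map σ) := by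
          rw [Matrix.transpose_smul, Matrix.smul_mul, Matrix.smul_mul, Matrix.mul_smul, smul_smul,
            mul_comm]
      _ = (d * σ d) • (Pmᵀ * Pm.map σ) := by rw [e1]

end Conj

end Cfsg.Agent.Lib.helper50
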