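import Mathlib
import Cfsg.Prelude.Def_LieTypeDatum
import Cfsg.Agent.Lib.helper50.PSUF3
import Cfsg.Agent.Lib.helper50.QSim
import Cfsg.Agent.Lib.helper50.PSUDescent

/-!
# Field automorphisms of `PSU_n` of odd prime order: centralizer and class splitting
-/

set_option autoImplicit false

namespace Cfsg.Agent.Lib.helper50.PSUF

open Matrix Cfsg Cfsg.Agent.Lib.helper17 Cfsg.Agent.Lib.helper99
open Cfsg.Agent.Lib.helper47.PSLn Cfsg.Agent.Lib.helper48 Cfsg.Agent.Lib.helper48.Split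

universe u v

section congr
variable {n q : ℕ} {K : Type u} {K' : Type v} [Field K] [Field K']

theorem hermForm_map_equiv (e : K ≃+* K') (u v : Fin n → K) :
    hermForm n K' q (fun i => e (u i)) (fun i => e (v i)) = e (hermForm n K q u v) := by
  unfold hermForm
  rw [map_sum]
  refine Finset.sum_congr rfl fun i _ => ?_
  rw [map_mul, map_pow]

/-- the isomorphism of general linear groups induced by a ring isomorphism -/
def glEquiv (e : K ≃+* K') : GL (Fin n) K ≃* GL (Fin n) K' :=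
  Units.mapEquiv (e.mapMatrix (m := Fin n)).toMulEquiv

theorem glEquiv_coe (e : K ≃+* K') (g : GL (Fin n) K) :
    ((glEquiv e g : GL (Fin n) K') : Matrix (Fin n) (Fin n) K') =
      (g : Matrix (Fin n) (Fin n) K).map e := rfl

theorem glEquiv_mem_GU (e : K ≃+* K') (g : GL (Fin n) K) (hg : g ∈ GU n K q) :
    glEquiv e g ∈ GU n K' q := by
  rw [mem_GU_iff'] at hg ⊢
  intro u' v'
  obtain ⟨u, rfl⟩ : ∃ u : Fin n → K, (fun i => e (u i)) = u' :=
    ⟨fun i => e.symm (u' i), by funext i; simp⟩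
  obtain ⟨v, rfl⟩ : ∃ v : Fin n → K, (fun i => e (v i)) = v' :=
    ⟨fun i => e.symm (v' i), by funext i; simp⟩
  have h1 : ∀ w : Fin n → K, ((glEquiv e g : GL (Fin n) K') : Matrix (Fin n) (Fin n) K') *ᵥ
      (fun i => e (w i)) = fun i => e (((g : Matrix (Fin n) (Fin n) K) *ᵥ w) i) := by
    intro w
    funext i
    exact (RingHom.map_mulVec (e : K →+* K') _ w i).symm
  rw [h1, h1, hermForm_map_equiv, hg, hermForm_map_equiv]

theorem glEquiv_symm_apply (e : K ≃+* K') (g' : GL (Fin n) K') :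
    glEquiv e (glEquiv e.symm g') = g' := by
  apply Units.ext
  ext i j
  show e (e.symm ((g' : Matrix (Fin n) (Fin n) K') i j)) = _
  rw [RingEquiv.apply_symm_apply]

theorem glEquiv_mem_scalars (e : K ≃+* K') (g : GL (Fin n) K) (hg : g ∈ Geo.scalars (Fin n) K) :
    glEquiv e g ∈ Geo.scalars (Fin n) K' := by
  rw [Geo.mem_scalars_iff] at hg ⊢
  obtain ⟨c, hc⟩ := hg
  refine ⟨Units.map (e : K →* K') c, ?_⟩
  rw [glEquiv_coe, hc]
  ext i j
  by_cases hij : i = j
  · subst hij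
    simp
  · simp [Matrix.one_apply_ne hij]

/-- `PGU_n` only depends on the field up to isomorphism -/
theorem pgu_congr (e : K ≃+* K') : Nonempty (PGU n K q ≃* PGU n K' q) := by
  have hH : (GU n K q).map ((glEquiv e : GL (Fin n) K ≃* GL (Fin n) K') :
      GL (Fin n) K →* GL (Fin n) K') = GU n K' q := by
    ext g'
    rw [Subgroup.mem_map]
    constructor
    · rintro ⟨g, hg, rfl⟩
      exact glEquiv_mem_GU e g hg
    · intro hg'
      exact ⟨glEquiv e.symm g', glEquiv_mem_GU e.symm g' hg', glEquiv_symm_apply e g'⟩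
  have hN : (Geo.scalars (Fin n) K).map ((glEquiv e : GL (Fin n) K ≃* GL (Fin n) K') :
      GL (Fin n) K →* GL (Fin n) K') = Geo.scalars (Fin n) K' := by
    ext g'
    rw [Subgroup.mem_map]
    constructor
    · rintro ⟨g, hg, rfl⟩
      exact glEquiv_mem_scalars e g hg
    · intro hg'
      exact ⟨glEquiv e.symm g', glEquiv_mem_scalars e.symm g' hg', glEquiv_symm_apply e g'⟩
  exact projQuot_congr (glEquiv e) (GU n K q) (Geo.scalars (Fin n) K) (GU n K' q)
    (Geo.scalars (Fin n) K') hH hN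

end congr

/-- the fixed field of a field automorphism -/
abbrev fixF {F : Type u} [Field F] (σ : F ≃+* F) : Subfield F :=
  FixedPoints.subfield (Subgroup.zpowers σ) F

section
variable {n q : ℕ} {F : Type u} [Field F] [Fintype F] (hF : Fintype.card F = q ^ 2)
include hF

/-- **Centralizer of a standard field automorphism of odd prime order in `Inndiag(PSU_n(q))`**:
it is `PGU_n(q₀)`. -/
theorem cent_field_equiv (hn : 3 ≤ n) {q₀ r : ℕ} (hr : r.Prime) (hr2 : r ≠ 2) (hq : q = q₀ ^ r)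
    (σ : F ≃+* F) (hσ : orderOf σ = r) (F₀ : Type v) [Field F₀] [Fintype F₀]
    (hF₀ : Fintype.card F₀ = q₀ ^ 2) :
    Nonempty (↥(inndiagPSU n F q ⊓
      Subgroup.centralizer {(fieldPSU σ : MulAut (PSU n F q))}) ≃* PGU n F₀ q₀) := by
  classical
  obtain ⟨hK₀, hpow⟩ := fixed_data hF hr hr2 hq σ hσ
  have hstruct : ∀ g : GL (Fin n) F, (g ∈ GU n F q ∧ ∃ c : F, c ≠ 0 ∧
      (g : Matrix (Fin n) (Fin n) F).map σ = c • (g : Matrix (Fin n) (Fin n) F)) ↔
      g ∈ (faPhi (fixF σ) q q₀ n).range :=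
    fun g => fixed_structure hF (by omega : 1 ≤ n) hr hr2 hq σ hσ g
  haveI : Fintype (fixF σ) := Fintype.ofFinite _
  have hK₀' : Fintype.card (fixF σ) = q₀ ^ 2 := by rw [← Nat.card_eq_fintype_card]; exact hK₀
  obtain ⟨Hσ, hHσ⟩ : ∃ Hσ : Subgroup (GL (Fin n) F), Hσ = (faPhi (fixF σ) q q₀ n).range :=
    ⟨_, rfl⟩
  have hHσmem : ∀ g : GL (Fin n) F, g ∈ Hσ ↔ g ∈ (faPhi (fixF σ) q q₀ n).range := fun g => by
    rw [hHσ]
  have hHle : Hσ ≤ GU n F q := by
    intro g hg
    exact ((hstruct g).mpr ((hHσmem g).mp hg)).1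
  let f : ↥Hσ →* MulAut (PSU n F q) :=
    (phiPSU (n := n) (q := q) (F := F)).comp (Subgroup.inclusion hHle)
  have hf : ∀ w : ↥Hσ, f w = phiPSU ⟨w.1, hHle w.2⟩ := fun w => rfl
  have hrange : f.range = inndiagPSU n F q ⊓
      Subgroup.centralizer {(fieldPSU σ : MulAut (PSU n F q))} := by
    ext a
    rw [MonoidHom.mem_range, Subgroup.mem_inf, Subgroup.mem_centralizer_singleton_iff,
      inndiagPSU_eq]
    constructor
    · rintro ⟨w, rfl⟩
      refine ⟨⟨_, rfl⟩, ?_⟩
      rw [hf, comm_field_iff hF hn]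
      exact ((hstruct w.1).mpr ((hHσmem _).mp w.2)).2
    · rintro ⟨⟨w, rfl⟩, hw⟩
      have h1 := (comm_field_iff hF hn σ w).mp hw
      have h2 : (w : GL (Fin n) F) ∈ Hσ := (hHσmem _).mpr ((hstruct _).mp ⟨w.2, h1⟩)
      exact ⟨⟨_, h2⟩, rfl⟩
  have hker : f.ker = (Geo.scalars (Fin n) F).subgroupOf Hσ := by
    ext w
    rw [MonoidHom.mem_ker, hf, phiPSU_eq_one_iff hF hn, Subgroup.mem_subgroupOf]
  have e1 : ↥(inndiagPSU n F q ⊓ Subgroup.centralizer {(fieldPSU σ : MulAut (PSU n F q))}) ≃*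
      projQuot Hσ :=
    (MulEquiv.subgroupCongr hrange).symm.trans
      ((QuotientGroup.quotientKerEquivRange f).symm.trans (QuotientGroup.quotientMulEquivOfEq hker))
  obtain ⟨e2⟩ : Nonempty (projQuot (GU n (fixF σ) q₀) ≃* projQuot Hσ) := by
    apply proj_transfer (Matrix.GeneralLinearGroup.map (fixF σ).subtype) (GU n (fixF σ) q₀) Hσ
    · intro s hs
      refine ⟨1, Subgroup.one_mem _, ?_⟩
      rw [one_mul, hHσmem]
      refine ⟨(1, ⟨s, hs⟩), ?_⟩
      show Matrix.GeneralLinearGroup.scalar (Fin n) ((1 : rootsUnity F q) : Fˣ) *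
        Matrix.GeneralLinearGroup.map (fixF σ).subtype s = _
      rw [OneMemClass.coe_one, map_one, one_mul]
    · intro h hh
      rw [hHσmem] at hh
      obtain ⟨⟨μ, h₀⟩, rfl⟩ := hh
      refine ⟨(h₀ : GL (Fin n) (fixF σ)), h₀.2,
        Matrix.GeneralLinearGroup.scalar (Fin n) (μ : Fˣ), ?_, rfl⟩
      rw [Geo.mem_scalars_iff]
      refine ⟨(μ : Fˣ), ?_⟩
      rw [Matrix.GeneralLinearGroup.coe_scalar, Matrix.smul_one_eq_diagonal]
      rfl
    · intro s hs
      rw [Geo.mem_scalars_iff, Geo.mem_scalars_iff]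
      constructor
      · rintro ⟨c, hc⟩
        have hent : ∀ i j, ((s : Matrix (Fin n) (Fin n) (fixF σ)) i j : F) =
            ((c : F) • (1 : Matrix (Fin n) (Fin n) F)) i j := fun i j => congrFun (congrFun hc i) j
        obtain ⟨i₀⟩ : Nonempty (Fin n) := ⟨⟨0, by omega⟩⟩
        have h00 := hent i₀ i₀
        rw [Matrix.smul_apply, Matrix.one_apply_eq, smul_eq_mul, mul_one] at h00
        have hne : (s : Matrix (Fin n) (Fin n) (fixF σ)) i₀ i₀ ≠ 0 := by
          intro h0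
          apply c.ne_zero
          rw [← h00, h0]
          rfl
        refine ⟨Units.mk0 _ hne, ?_⟩
        ext i j
        rw [hent i j]
        by_cases hij : i = j
        · subst hij
          simp [← h00]
        · simp [Matrix.one_apply_ne hij]
      · rintro ⟨c, hc⟩
        refine ⟨Units.map ((fixF σ).subtype : (fixF σ) →* F) c, ?_⟩
        ext i j
        show (((s : Matrix (Fin n) (Fin n) (fixF σ)) i j : (fixF σ)) : F) = _
        rw [hc]
        by_cases hij : i = j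
        · subst hij
          simp
        · simp [Matrix.one_apply_ne hij]
  have hc2 : Fintype.card (fixF σ) = Fintype.card F₀ := by rw [hK₀', hF₀]
  obtain ⟨e3⟩ := pgu_congr (n := n) (q := q₀) (FiniteField.ringEquivOfCardEq hc2)
  exact ⟨e1.trans (e2.symm.trans e3)⟩

omit [Fintype F] hF in
/-- the unitary scalars fixed by `σ` -/
def fixUU (q : ℕ) (σ : F ≃+* F) : Subgroup (rootsUnity F q) where
  carrier := {u | σ ((u : Fˣ) : F) = ((u : Fˣ) : F)}
  one_mem' := by simp
  mul_mem' := by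
    intro a b ha hb
    show σ (((a * b : rootsUnity F q) : Fˣ) : F) = _
    rw [Subgroup.coe_mul, Units.val_mul, map_mul, ha, hb]
  inv_mem' := by
    intro a ha
    show σ (((a⁻¹ : rootsUnity F q) : Fˣ) : F) = _
    rw [Subgroup.coe_inv, Units.val_inv_eq_inv_val, map_inv₀, ha]

omit [Fintype F] hF in
theorem mem_fixUU (σ : F ≃+* F) (u : rootsUnity F q) :
    u ∈ fixUU q σ ↔ σ ((u : Fˣ) : F) = ((u : Fˣ) : F) := Iff.rfl

theorem card_fixUU {q₀ r : ℕ} (hr : r.Prime) (hr2 : r ≠ 2) (hq : q = q₀ ^ r) (σ : F ≃+* F)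
    (hσ : orderOf σ = r) : Nat.card (fixUU q σ) = q₀ + 1 := by
  classical
  obtain ⟨hK₀, hpow⟩ := fixed_data hF hr hr2 hq σ hσ
  haveI : Fintype (fixF σ) := Fintype.ofFinite _
  have hK₀' : Fintype.card (fixF σ) = q₀ ^ 2 := by rw [← Nat.card_eq_fintype_card]; exact hK₀
  rw [← card_rootsUnity hK₀']
  symm
  have hνK : ∀ ν : rootsUnity (fixF σ) q₀, (((ν : (fixF σ)ˣ) : fixF σ) : F) ^ (q + 1) = 1 := by
    intro ν
    rw [pow_succ, hpow, ← pow_succ]
    have := rootsUnity_pow q₀ ν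
    have h2 := congrArg (fun x : fixF σ => (x : F)) this
    simpa using h2
  let κ : rootsUnity (fixF σ) q₀ → fixUU q σ := fun ν =>
    ⟨⟨Units.map ((fixF σ).subtype : fixF σ →* F) (ν : (fixF σ)ˣ), by
      rw [mem_rootsUnity_iff]
      apply Units.ext
      rw [Units.val_pow_eq_pow_val, Units.coe_map]
      simpa using hνK ν⟩, by
      rw [mem_fixUU]
      exact (fa_mem_fixed_iff σ _).mp ((ν : (fixF σ)ˣ) : fixF σ).2⟩
  apply Nat.card_congr
  refine Equiv.ofBijective κ ⟨?_, ?_⟩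
  · intro ν ν' h
    have h1 := congrArg (fun u : fixUU q σ => (((u : rootsUnity F q) : Fˣ) : F)) h
    apply Subtype.ext
    apply Units.ext
    apply Subtype.ext
    exact h1
  · intro u
    have hu : σ (((u : rootsUnity F q) : Fˣ) : F) = (((u : rootsUnity F q) : Fˣ) : F) := u.2
    have huK : ((((u : rootsUnity F q) : Fˣ) : F)) ∈ fixF σ := (fa_mem_fixed_iff σ _).mpr hu
    have hu0 : (⟨_, huK⟩ : fixF σ) ≠ 0 := by
      intro h0
      have := congrArg (fun x : fixF σ => (x : F)) h0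
      exact ((u : rootsUnity F q) : Fˣ).ne_zero this
    have hupow : (⟨_, huK⟩ : fixF σ) ^ (q₀ + 1) = 1 := by
      apply Subtype.ext
      show ((((u : rootsUnity F q) : Fˣ) : F)) ^ (q₀ + 1) = 1
      have h1 := hpow ⟨_, huK⟩
      have h2 := rootsUnity_pow q (u : rootsUnity F q)
      rw [pow_succ] at h2 ⊢
      rw [← h2]
      congr 1
      exact h1.symm
    refine ⟨⟨Units.mk0 ⟨_, huK⟩ hu0, (mem_rootsUnity_iff q₀ _).mpr (Units.ext hupow)⟩, ?_⟩
    apply Subtype.ext
    apply Subtype.ext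
    apply Units.ext
    rfl

/-- the determinants of the elements of `GU_n` centralizing a standard field automorphism -/
theorem mem_detCentU_field (hn : 3 ≤ n) {q₀ r : ℕ} (hr : r.Prime) (hr2 : r ≠ 2) (hq : q = q₀ ^ r)
    (σ : F ≃+* F) (hσ : orderOf σ = r) (c : rootsUnity F q) :
    c ∈ detCentU hF (fieldPSU σ : MulAut (PSU n F q)) ↔
      ∃ μ : rootsUnity F q, ∃ u ∈ fixUU q σ, c = μ ^ n * u := by
  rw [mem_detCentU]
  constructor
  · rintro ⟨w, hw, rfl⟩
    have h1 := (comm_field_iff hF hn σ w).mp hw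
    obtain ⟨⟨μ, h₀⟩, hμ⟩ := (fixed_structure hF (by omega) hr hr2 hq σ hσ _).mp ⟨w.2, h1⟩
    refine ⟨μ, (μ ^ n)⁻¹ * detGU hF n w, ?_, by group⟩
    rw [mem_fixUU]
    have h3 : ((w : GL (Fin n) F) : Matrix (Fin n) (Fin n) F) = ((μ : Fˣ) : F) •
        ((h₀ : GL (Fin n) (fixF σ)) : Matrix (Fin n) (Fin n) (fixF σ)).map (fixF σ).subtype := by
      rw [← hμ]
      ext i j
      rw [faPhi_apply]
      rfl
    have hμ0 : ((μ : Fˣ) : F) ≠ 0 := (μ : Fˣ).ne_zero
    have h2 : ((((μ ^ n)⁻¹ * detGU hF n w : rootsUnity F q) : Fˣ) : F) =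
        ((((h₀ : GL (Fin n) (fixF σ)) : Matrix (Fin n) (Fin n) (fixF σ)).det : fixF σ) : F) := by
      have h4 : ((((μ ^ n)⁻¹ * detGU hF n w : rootsUnity F q) : Fˣ) : F) =
          (((μ : Fˣ) : F) ^ n)⁻¹ * ((w : GL (Fin n) F) : Matrix (Fin n) (Fin n) F).det := by
        rw [Subgroup.coe_mul, Units.val_mul, Subgroup.coe_inv, Units.val_inv_eq_inv_val,
          Subgroup.coe_pow, Units.val_pow_eq_pow_val, detGU_coe]
      rw [h4, h3, Matrix.det_smul, Fintype.card_fin, ← mul_assoc,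
        inv_mul_cancel₀ (pow_ne_zero _ hμ0), one_mul]
      exact (RingHom.map_det (fixF σ).subtype _).symm
    rw [h2]
    exact (fa_mem_fixed_iff σ _).mp (((h₀ : GL (Fin n) (fixF σ)) :
      Matrix (Fin n) (Fin n) (fixF σ)).det).2
  · rintro ⟨μ, u, hu, rfl⟩
    rw [mem_fixUU] at hu
    have hi₀ : 0 < n := by omega
    obtain ⟨D, hD⟩ : ∃ D : ↥(GU n F q), ((D : GL (Fin n) F) : Matrix (Fin n) (Fin n) F) =
        Matrix.diagonal (Function.update (fun _ => (1 : F)) ⟨0, hi₀⟩ ((u : Fˣ) : F)) :=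
      ⟨diagGU n q (Function.update (fun _ => 1) ⟨0, hi₀⟩ ((u : Fˣ) : F)) (by
        intro k
        by_cases hk : k = ⟨0, hi₀⟩
        · subst hk
          rw [Function.update_self]
          exact rootsUnity_pow q u
        · rw [Function.update_of_ne hk, one_pow]), rfl⟩
    refine ⟨scalarGU n q μ * D, ?_, ?_⟩
    · have hs : phiPSU (scalarGU n q μ) = (1 : MulAut (PSU n F q)) := by
        rw [phiPSU_eq_one_iff hF hn, Geo.mem_scalars_iff]
        refine ⟨(μ : Fˣ), ?_⟩
        show Matrix.diagonal (fun _ => ((μ : Fˣ) : F)) = _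
        rw [Matrix.smul_one_eq_diagonal]
      rw [map_mul, hs, one_mul, comm_field_iff hF hn]
      refine ⟨1, one_ne_zero, ?_⟩
      rw [one_smul, hD]
      ext i j
      rw [Matrix.map_apply, Matrix.diagonal_apply]
      split_ifs with hij
      · by_cases hi : i = ⟨0, hi₀⟩
        · rw [hi, Function.update_self]
          exact hu
        · rw [Function.update_of_ne hi, map_one]
      · rw [map_zero]
    · rw [map_mul, detGU_scalarGU]
      congr 1
      apply Subtype.ext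
      apply Units.ext
      rw [detGU_coe, hD, Matrix.det_diagonal, Finset.prod_update_of_mem (Finset.mem_univ _)]
      simp

/-- **Class splitting for a standard field automorphism of odd prime order.** -/
theorem splitClassCount_field (hn : 3 ≤ n) {q₀ r : ℕ} (hr : r.Prime) (hr2 : r ≠ 2)
    (hq : q = q₀ ^ r) (σ : F ≃+* F) (hσ : orderOf σ = r) :
    splitClassCount (inndiagPSU n F q) (Cfsg.Inn (PSU n F q)) (fieldPSU σ) =
      Nat.gcd n ((q + 1) / (q₀ + 1)) := by
  rw [splitClassCount_eq_index_U hF (by omega)]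
  have hdvd : q₀ + 1 ∣ q + 1 := by
    have h1 := Odd.nat_add_dvd_pow_add_pow q₀ 1 (hr.odd_of_ne_two hr2)
    rw [one_pow, ← hq] at h1
    exact h1
  apply index_pow_mul_cyclic n _ (fixUU q σ)
  · rw [card_rootsUnity hF, card_fixUU hF hr hr2 hq σ hσ]
    exact (Nat.mul_div_cancel' hdvd).symm
  · intro c
    exact mem_detCentU_field hF hn hr hr2 hq σ hσ c

/-- **Field automorphisms of `PSU_n(q)` of odd prime order**: centralizer in `Inndiag` and class
splitting. -/
theorem field_cent_split (hn : 3 ≤ n) (h32 : ¬ (n = 3 ∧ q = 2)) {p f : ℕ} [Fact p.Prime]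
    (hq : q = p ^ f) (hf : 1 ≤ f) (x : MulAut (PSU n F q)) (hx : IsFieldAutClassPSU x) {r : ℕ}
    (hr : r.Prime) (hxr : orderOf x = r) (F₀ : Type v) [Field F₀] [Fintype F₀]
    (hF₀ : Fintype.card F₀ = p ^ (2 * (f / r))) :
    r ∣ f ∧ Nonempty (↥(inndiagPSU n F q ⊓ Subgroup.centralizer {x}) ≃* PGU n F₀ (p ^ (f / r))) ∧
      splitClassCount (inndiagPSU n F q) (Cfsg.Inn (PSU n F q)) x =
        Nat.gcd n ((q + 1) / (p ^ (f / r) + 1)) := by
  obtain ⟨σ, a, hσr, hr2, hrf, hxa⟩ := field_class_data hF hn h32 hq hf x hx hr hxr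
  have hq₀ : q = (p ^ (f / r)) ^ r := by rw [hq, ← pow_mul, Nat.div_mul_cancel hrf]
  have hF₀' : Fintype.card F₀ = (p ^ (f / r)) ^ 2 := by rw [hF₀, ← pow_mul, mul_comm]
  refine ⟨hrf, ?_, ?_⟩
  · rw [hxa]
    obtain ⟨e1⟩ := centralizerInf_conj_equiv (inndiagPSU n F q) (phiPSU a)
      (inndiag_conj_iff hF a) (fieldPSU σ)
    obtain ⟨e2⟩ := cent_field_equiv hF hn hr hr2 hq₀ σ hσr F₀ hF₀'
    exact ⟨e1.trans e2⟩
  · rw [hxa, splitClassCount_conj _ _ (phiPSU a) (inndiag_conj_iff hF a)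
      (inn_conj_iff hF (phiPSU a)), splitClassCount_field hF hn hr hr2 hq₀ σ hσr]

end

end Cfsg.Agent.Lib.helper50.PSUF
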