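import Mathlib
import Cfsg.Prelude.Def_LieTypeDatum
import Cfsg.Agent.Lib.helper50.PSUDescent
import Cfsg.Agent.Lib.helper50.GraphClass

/-!
# The correspondence between involutory graph automorphisms of `PSU_n(q)` and of `PSL_n(F₀)`
-/

set_option autoImplicit false

namespace Cfsg.Agent.Lib.helper50

open Matrix Cfsg
open scoped MatrixGroups

universe u v

section
variable {n q : ℕ} {F : Type u} [Field F] [Fintype F] {F₀ : Type v} [Field F₀]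

/-- `A ∈ GU_n(q)` and `A₀ ∈ GL_n(F₀)` are related by a descent datum with Gram matrix `δ A₀⁻¹` -/
def Corr (σ : F ≃+* F) (ι : F₀ →+* F) (δ : F) (A : ↥(GU n F q)) (A₀ : GL (Fin n) F₀) : Prop :=
  ∃ (e : F) (P : GL (Fin n) F), e ≠ 0 ∧
    ((A : GL (Fin n) F) : Matrix (Fin n) (Fin n) F) * (P : Matrix (Fin n) (Fin n) F).map σ
      = e • (P : Matrix (Fin n) (Fin n) F) ∧
    ((P : Matrix (Fin n) (Fin n) F)ᵀ * (P : Matrix (Fin n) (Fin n) F).map σ)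
      * (A₀ : Matrix (Fin n) (Fin n) F₀).map ι = δ • (1 : Matrix (Fin n) (Fin n) F)

omit [Fintype F] in
theorem emb_gl_mul_inv (ι : F₀ →+* F) (g : GL (Fin n) F₀) :
    (g : Matrix (Fin n) (Fin n) F₀).map ι * ((g⁻¹ : GL (Fin n) F₀) : Matrix (Fin n) (Fin n) F₀).map ι
      = 1 := by
  rw [← emb_mul, Units.mul_inv, emb_one]

omit [Fintype F] in
theorem emb_gl_inv_mul (ι : F₀ →+* F) (g : GL (Fin n) F₀) :
    ((g⁻¹ : GL (Fin n) F₀) : Matrix (Fin n) (Fin n) F₀).map ι * (g : Matrix (Fin n) (Fin n) F₀).map ι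
      = 1 := by
  rw [← emb_mul, Units.inv_mul, emb_one]

/-- centralisers correspond -/
theorem corr_cent (hF : Fintype.card F = q ^ 2) (hn : 3 ≤ n) (σ : F ≃+* F) (hσ : ∀ a, σ a = a ^ q)
    (ι : F₀ →+* F) (hι1 : ∀ y, σ (ι y) = ι y) (hι2 : ∀ x, σ x = x → ∃ y, ι y = x)
    (δ : F) (hδ : δ ≠ 0) (A : ↥(GU n F q)) (A₀ : GL (Fin n) F₀) (h : Corr σ ι δ A A₀) :
    Nonempty (↥(inndiagPSU n F q ⊓ Subgroup.centralizer {graphU σ A})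
      ≃* ↥(inndiagPSL n F₀ ⊓ Subgroup.centralizer {graphAut A₀})) := by
  obtain ⟨e, P, he, hP, hG⟩ := h
  have hG' : (P : Matrix (Fin n) (Fin n) F)ᵀ * (P : Matrix (Fin n) (Fin n) F).map σ
      = δ • ((A₀⁻¹ : GL (Fin n) F₀) : Matrix (Fin n) (Fin n) F₀).map ι := by
    calc (P : Matrix (Fin n) (Fin n) F)ᵀ * (P : Matrix (Fin n) (Fin n) F).map σ
        = (P : Matrix (Fin n) (Fin n) F)ᵀ * (P : Matrix (Fin n) (Fin n) F).map σ
          * ((A₀ : Matrix (Fin n) (Fin n) F₀).map ι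
            * ((A₀⁻¹ : GL (Fin n) F₀) : Matrix (Fin n) (Fin n) F₀).map ι) := by
          rw [emb_gl_mul_inv, Matrix.mul_one]
      _ = δ • ((A₀⁻¹ : GL (Fin n) F₀) : Matrix (Fin n) (Fin n) F₀).map ι := by
          rw [← Matrix.mul_assoc, hG, Matrix.smul_mul, Matrix.one_mul]
  obtain ⟨e₁⟩ := cent_graphU_equiv hF hn σ A
  obtain ⟨e₂⟩ := cent_descent hF hn σ hσ ι hι1 hι2 A e he P hP _ δ hδ hG'
  obtain ⟨e₃⟩ := graph_cent_bil A₀ ((A₀⁻¹ : GL (Fin n) F₀) : Matrix (Fin n) (Fin n) F₀)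
    (Units.mul_inv A₀)
  exact ⟨e₁.trans (e₂.symm.trans e₃.symm)⟩

/-- conjugacy over `F₀` lifts -/
theorem corr_conj (hF : Fintype.card F = q ^ 2) (hn : 3 ≤ n) (σ : F ≃+* F) (hσ : ∀ a, σ a = a ^ q)
    (ι : F₀ →+* F) (hι1 : ∀ y, σ (ι y) = ι y)
    (δ : F) (A A' : ↥(GU n F q)) (A₀ A₀' : GL (Fin n) F₀) (h : Corr σ ι δ A A₀)
    (h' : Corr σ ι δ A' A₀')
    (hc : IsConjUnder (inndiagPSL n F₀) (graphAut A₀) (graphAut A₀')) :
    IsConjUnder (inndiagPSU n F q) (graphU σ A) (graphU σ A') := by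
  obtain ⟨e, P, he, hP, hG⟩ := h
  obtain ⟨e', P', he', hP', hG'⟩ := h'
  obtain ⟨g, c, hgc⟩ := (isConjUnder_graphAut_iff A₀ A₀').mp hc
  obtain ⟨B, hB⟩ : ∃ B : Matrix (Fin n) (Fin n) F, B = (A₀ : Matrix (Fin n) (Fin n) F₀).map ι :=
    ⟨_, rfl⟩
  obtain ⟨B', hB'⟩ : ∃ B' : Matrix (Fin n) (Fin n) F, B' = (A₀' : Matrix (Fin n) (Fin n) F₀).map ι :=
    ⟨_, rfl⟩
  obtain ⟨Bi', hBi'⟩ : ∃ Bi' : Matrix (Fin n) (Fin n) F,
      Bi' = ((A₀'⁻¹ : GL (Fin n) F₀) : Matrix (Fin n) (Fin n) F₀).map ι := ⟨_, rfl⟩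
  obtain ⟨Gm, hGm⟩ : ∃ Gm : Matrix (Fin n) (Fin n) F, Gm = (g : Matrix (Fin n) (Fin n) F₀).map ι :=
    ⟨_, rfl⟩
  obtain ⟨Gi, hGi⟩ : ∃ Gi : Matrix (Fin n) (Fin n) F,
      Gi = ((g⁻¹ : GL (Fin n) F₀) : Matrix (Fin n) (Fin n) F₀).map ι := ⟨_, rfl⟩
  obtain ⟨G, hGdef⟩ : ∃ G : Matrix (Fin n) (Fin n) F,
      G = (P : Matrix (Fin n) (Fin n) F)ᵀ * (P : Matrix (Fin n) (Fin n) F).map σ := ⟨_, rfl⟩
  obtain ⟨G', hG'def⟩ : ∃ G' : Matrix (Fin n) (Fin n) F,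
      G' = (P' : Matrix (Fin n) (Fin n) F)ᵀ * (P' : Matrix (Fin n) (Fin n) F).map σ := ⟨_, rfl⟩
  rw [← hB, ← hGdef] at hG
  rw [← hB', ← hG'def] at hG'
  have hBB' : B' * Bi' = 1 := by rw [hB', hBi']; exact emb_gl_mul_inv ι A₀'
  have hGG : Gm * Gi = 1 := by rw [hGm, hGi]; exact emb_gl_mul_inv ι g
  have hGG' : Gi * Gm = 1 := by rw [hGm, hGi]; exact emb_gl_inv_mul ι g
  have hB'eq : B' = ι (c : F₀) • (Gm * B * Gmᵀ) := by
    rw [hB', hgc, emb_smul, emb_mul, emb_mul, hGm, hB]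
    rfl
  have hc0 : ι (c : F₀) ≠ 0 := by
    rw [Ne, map_eq_zero_iff ι ι.injective]
    exact c.ne_zero
  have hXY : Giᵀ * Gmᵀ = 1 := by rw [← Matrix.transpose_mul, hGG, Matrix.transpose_one]
  have hX : (Giᵀ).map σ = Giᵀ := by
    rw [Matrix.transpose_map, hGi, emb_bar σ ι hι1]
  have hμ : σ (ι (c : F₀))⁻¹ = (ι (c : F₀))⁻¹ := by rw [map_inv₀, hι1]
  have key : ((ι (c : F₀))⁻¹ • (Giᵀ * G * Giᵀᵀ)) * B' = δ • (1 : Matrix (Fin n) (Fin n) F) := by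
    rw [hB'eq, Matrix.transpose_transpose, Matrix.smul_mul, Matrix.mul_smul, smul_smul,
      inv_mul_cancel₀ hc0, one_smul]
    calc Giᵀ * G * Gi * (Gm * B * Gmᵀ) = Giᵀ * (G * ((Gi * Gm) * B)) * Gmᵀ := by
          simp only [Matrix.mul_assoc]
      _ = δ • (1 : Matrix (Fin n) (Fin n) F) := by
          rw [hGG', Matrix.one_mul, hG, Matrix.mul_smul, Matrix.smul_mul, Matrix.mul_one, hXY]
  have hGeq : G' = (ι (c : F₀))⁻¹ • (Giᵀ * G * Giᵀᵀ) := by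
    calc G' = G' * (B' * Bi') := by rw [hBB', Matrix.mul_one]
      _ = (G' * B') * Bi' := by rw [Matrix.mul_assoc]
      _ = (((ι (c : F₀))⁻¹ • (Giᵀ * G * Giᵀᵀ)) * B') * Bi' := by rw [hG', key]
      _ = (ι (c : F₀))⁻¹ • (Giᵀ * G * Giᵀᵀ) := by rw [Matrix.mul_assoc, hBB', Matrix.mul_one]
  rw [hG'def, hGdef] at hGeq
  exact conj_of_gram hF hn σ hσ A A' e e' he he' P P' hP hP' Giᵀ Gmᵀ hXY hX _ (inv_ne_zero hc0) hμ
    hGeq

/-- conjugacy in `PSU_n` descends -/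
theorem corr_conj' (hF : Fintype.card F = q ^ 2) (hn : 3 ≤ n) (σ : F ≃+* F) (hσ : ∀ a, σ a = a ^ q)
    (ι : F₀ →+* F) (hι2 : ∀ x, σ x = x → ∃ y, ι y = x)
    (δ : F) (hδ : δ ≠ 0) (A A' : ↥(GU n F q)) (A₀ A₀' : GL (Fin n) F₀) (h : Corr σ ι δ A A₀)
    (h' : Corr σ ι δ A' A₀')
    (hc : IsConjUnder (inndiagPSU n F q) (graphU σ A) (graphU σ A')) :
    IsConjUnder (inndiagPSL n F₀) (graphAut A₀) (graphAut A₀') := by
  obtain ⟨e, P, he, hP, hG⟩ := h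
  obtain ⟨e', P', he', hP', hG'⟩ := h'
  obtain ⟨X, ν, hXbar, hXdet, hν0, hνσ, hXG⟩ := gram_of_conj hF hn σ hσ A A' e e' he he' P P' hP hP' hc
  obtain ⟨B, hB⟩ : ∃ B : Matrix (Fin n) (Fin n) F, B = (A₀ : Matrix (Fin n) (Fin n) F₀).map ι :=
    ⟨_, rfl⟩
  obtain ⟨B', hB'⟩ : ∃ B' : Matrix (Fin n) (Fin n) F, B' = (A₀' : Matrix (Fin n) (Fin n) F₀).map ι :=
    ⟨_, rfl⟩
  obtain ⟨G, hGdef⟩ : ∃ G : Matrix (Fin n) (Fin n) F,
      G = (P : Matrix (Fin n) (Fin n) F)ᵀ * (P : Matrix (Fin n) (Fin n) F).map σ := ⟨_, rfl⟩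
  obtain ⟨G', hG'def⟩ : ∃ G' : Matrix (Fin n) (Fin n) F,
      G' = (P' : Matrix (Fin n) (Fin n) F)ᵀ * (P' : Matrix (Fin n) (Fin n) F).map σ := ⟨_, rfl⟩
  rw [← hB, ← hGdef] at hG
  rw [← hB', ← hG'def] at hG'
  rw [← hGdef, ← hG'def] at hXG
  have hBG : B * G = δ • (1 : Matrix (Fin n) (Fin n) F) := by
    have h1 : (δ⁻¹ • G) * B = 1 := by
      rw [Matrix.smul_mul, hG, smul_smul, inv_mul_cancel₀ hδ, one_smul]
    have h2 : B * (δ⁻¹ • G) = 1 := mul_eq_one_comm.mp h1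
    rw [Matrix.mul_smul] at h2
    calc B * G = δ • (δ⁻¹ • (B * G)) := by rw [smul_smul, mul_inv_cancel₀ hδ, one_smul]
      _ = δ • (1 : Matrix (Fin n) (Fin n) F) := by rw [h2]
  have hXX : X * X⁻¹ = 1 := Matrix.mul_nonsing_inv X (isUnit_iff_ne_zero.mpr hXdet)
  have k1 : (X * B * Xᵀ) * G' * X = (ν * δ) • X := by
    calc (X * B * Xᵀ) * G' * X = X * B * (Xᵀ * G' * X) := by simp only [Matrix.mul_assoc]
      _ = (ν * δ) • X := by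
          rw [hXG, Matrix.mul_smul, Matrix.mul_assoc, hBG, Matrix.mul_smul, Matrix.mul_one, smul_smul]
  have k2 : (X * B * Xᵀ) * G' = (ν * δ) • (1 : Matrix (Fin n) (Fin n) F) := by
    calc (X * B * Xᵀ) * G' = ((X * B * Xᵀ) * G' * X) * X⁻¹ := by
          rw [Matrix.mul_assoc _ X, hXX, Matrix.mul_one]
      _ = (ν * δ) • (1 : Matrix (Fin n) (Fin n) F) := by rw [k1, Matrix.smul_mul, hXX]
  have k3 : δ • (X * B * Xᵀ) = δ • (ν • B') := by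
    calc δ • (X * B * Xᵀ) = (X * B * Xᵀ) * (G' * B') := by rw [hG', Matrix.mul_smul, Matrix.mul_one]
      _ = δ • (ν • B') := by
          rw [← Matrix.mul_assoc, k2, Matrix.smul_mul, Matrix.one_mul, smul_smul, mul_comm]
  have k4 : X * B * Xᵀ = ν • B' := smul_right_injective _ hδ k3
  obtain ⟨T₀, hT₀⟩ := exists_map_of_fixed σ ι hι2 X hXbar
  obtain ⟨lam, hlam⟩ := hι2 ν hνσ
  have hlam0 : lam ≠ 0 := by
    rintro rfl
    rw [map_zero] at hlam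
    exact hν0 hlam.symm
  have hT₀det : T₀.det ≠ 0 := by
    intro h0
    apply hXdet
    rw [← hT₀, det_emb, h0, map_zero]
  have k5 : T₀ * (A₀ : Matrix (Fin n) (Fin n) F₀) * T₀ᵀ
      = lam • (A₀' : Matrix (Fin n) (Fin n) F₀) := by
    apply emb_inj ι
    rw [emb_mul, emb_mul, emb_smul, hT₀, hlam, ← hB, ← hB']
    have hXT : T₀ᵀ.map ι = Xᵀ := by rw [← hT₀]; rfl
    rw [hXT]
    exact k4
  refine (isConjUnder_graphAut_iff A₀ A₀').mpr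
    ⟨Matrix.GeneralLinearGroup.mkOfDetNeZero T₀ hT₀det, Units.mk0 lam⁻¹ (inv_ne_zero hlam0), ?_⟩
  show (A₀' : Matrix (Fin n) (Fin n) F₀) = lam⁻¹ • (T₀ * (A₀ : Matrix (Fin n) (Fin n) F₀) * T₀ᵀ)
  rw [k5, smul_smul, inv_mul_cancel₀ hlam0, one_smul]

end

section Exist
variable {n q : ℕ} {F : Type u} [Field F] [Fintype F] {F₀ : Type v} [Field F₀]

omit [Fintype F] in
theorem inv_transpose_smul (N B : Matrix (Fin n) (Fin n) F) (hNB : N * B = 1) (κ : F)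
    (hκ : κ * κ = 1) (hN : Nᵀ = κ • N) : Bᵀ = κ • B := by
  have h1 : Bᵀ * Nᵀ = 1 := by rw [← Matrix.transpose_mul, hNB, Matrix.transpose_one]
  rw [hN, Matrix.mul_smul] at h1
  calc Bᵀ = Bᵀ * (N * B) := by rw [hNB, Matrix.mul_one]
    _ = (Bᵀ * N) * B := by rw [Matrix.mul_assoc]
    _ = (κ * κ) • ((Bᵀ * N) * B) := by rw [hκ, one_smul]
    _ = κ • ((κ • (Bᵀ * N)) * B) := by rw [Matrix.smul_mul, smul_smul]
    _ = κ • B := by rw [h1, Matrix.one_mul]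

/-- Hilbert 90: a descent datum for `A ∈ GU_n` with `Aᵀ = κ A` -/
theorem exists_datum (hF : Fintype.card F = q ^ 2) (σ : F ≃+* F) (hσ : ∀ a, σ a = a ^ q)
    (A : ↥(GU n F q)) (κ : F) (hκ : κ * κ = 1) (hκσ : σ κ = κ)
    (hA : ((A : GL (Fin n) F) : Matrix (Fin n) (Fin n) F)ᵀ
      = κ • ((A : GL (Fin n) F) : Matrix (Fin n) (Fin n) F)) :
    ∃ (e : F) (P : GL (Fin n) F), e ≠ 0 ∧
      ((A : GL (Fin n) F) : Matrix (Fin n) (Fin n) F) * (P : Matrix (Fin n) (Fin n) F).map σ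
        = e • (P : Matrix (Fin n) (Fin n) F) ∧
      ((P : Matrix (Fin n) (Fin n) F)ᵀ * (P : Matrix (Fin n) (Fin n) F).map σ)ᵀ
        = κ • ((P : Matrix (Fin n) (Fin n) F)ᵀ * (P : Matrix (Fin n) (Fin n) F).map σ) ∧
      ((P : Matrix (Fin n) (Fin n) F)ᵀ * (P : Matrix (Fin n) (Fin n) F).map σ).map σ
        = κ • ((P : Matrix (Fin n) (Fin n) F)ᵀ * (P : Matrix (Fin n) (Fin n) F).map σ) := by
  have hσ2 := frob_frob hF σ hσ
  have hκ0 : κ ≠ 0 := by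
    rintro rfl
    rw [zero_mul] at hκ
    exact zero_ne_one hκ
  obtain ⟨ε, hε⟩ := Cfsg.Agent.Lib.helper99.exists_norm_eq hF κ hκ0 (by rw [← hσ]; exact hκσ)
  have hε0 : ε ≠ 0 := by
    rintro rfl
    rw [zero_mul] at hε
    exact hκ0 hε.symm
  have hεσ : ε * σ ε = κ := by rw [hσ]; exact hε
  obtain ⟨Am, hAm⟩ : ∃ Am : Matrix (Fin n) (Fin n) F,
      Am = ((A : GL (Fin n) F) : Matrix (Fin n) (Fin n) F) := ⟨_, rfl⟩
  have hU : Amᵀ * Am.map σ = 1 := by rw [hAm]; exact GU_transpose_mul_map σ hσ A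
  rw [← hAm] at hA ⊢
  have hAA : κ • (Am * Am.map σ) = 1 := by
    rw [← Matrix.smul_mul, ← hA]
    exact hU
  have hN : Cfsg.Agent.Lib.helper47.PSLn.Nk σ (ε • Am) 2 = 1 := by
    show (ε • Am) * ((ε • Am) * ((1 : Matrix (Fin n) (Fin n) F).map σ)).map σ = 1
    rw [bar_one, Matrix.mul_one, bar_smul, Matrix.smul_mul, Matrix.mul_smul, smul_smul, hεσ]
    exact hAA
  obtain ⟨h, hu, hh⟩ := Cfsg.Agent.Lib.helper47.PSLn.hilbert90_GL σ (ε • Am) 2 (by norm_num)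
    (orderOf_frob hF σ hσ) hN
  obtain ⟨P, rfl⟩ := hu
  obtain ⟨Pm, hPm⟩ : ∃ Pm : Matrix (Fin n) (Fin n) F, Pm = (P : Matrix (Fin n) (Fin n) F) := ⟨_, rfl⟩
  rw [← hPm] at hh
  have hGT : (Pmᵀ * Pm.map σ)ᵀ = (Pm.map σ)ᵀ * Pm := by
    rw [Matrix.transpose_mul, Matrix.transpose_transpose]
  have hGbar : (Pmᵀ * Pm.map σ).map σ = (Pm.map σ)ᵀ * Pm := by
    rw [bar_mul, map_map_frob σ hσ2, Matrix.transpose_map]
  have hGκ : Pmᵀ * Pm.map σ = κ • ((Pm.map σ)ᵀ * Pm) := by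
    have e1 : Pmᵀ = (ε * κ) • ((Pm.map σ)ᵀ * Am) := by
      conv_lhs => rw [← hh]
      rw [Matrix.transpose_mul, Matrix.transpose_smul, hA, smul_smul, Matrix.mul_smul]
    have e2 : Am * Pm.map σ = ε⁻¹ • Pm := by
      conv_rhs => rw [← hh]
      rw [Matrix.smul_mul, smul_smul, inv_mul_cancel₀ hε0, one_smul]
    rw [e1, Matrix.smul_mul, Matrix.mul_assoc, e2, Matrix.mul_smul, smul_smul]
    congr 1
    field_simp
  have hGκ' : (Pm.map σ)ᵀ * Pm = κ • (Pmᵀ * Pm.map σ) := by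
    rw [hGκ, smul_smul, hκ, one_smul]
  refine ⟨ε⁻¹, P, inv_ne_zero hε0, ?_, ?_, ?_⟩
  · rw [← hPm]
    conv_rhs => rw [← hh]
    rw [Matrix.smul_mul, smul_smul, inv_mul_cancel₀ hε0, one_smul]
  · rw [← hPm, hGT, hGκ']
  · rw [← hPm, hGbar, hGκ']

/-- every `A ∈ GU_n` with `Aᵀ = κ A` corresponds to some `A₀ ∈ GL_n(F₀)` of the same type -/
theorem exists_corr_of_GU (hF : Fintype.card F = q ^ 2) (σ : F ≃+* F) (hσ : ∀ a, σ a = a ^ q)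
    (ι : F₀ →+* F) (hι2 : ∀ x, σ x = x → ∃ y, ι y = x)
    (A : ↥(GU n F q)) (κ : F) (hκ : κ * κ = 1) (hκσ : σ κ = κ)
    (hA : ((A : GL (Fin n) F) : Matrix (Fin n) (Fin n) F)ᵀ
      = κ • ((A : GL (Fin n) F) : Matrix (Fin n) (Fin n) F))
    (δ : F) (hδ0 : δ ≠ 0) (hδ : σ δ = κ * δ) :
    ∃ A₀ : GL (Fin n) F₀, ((A₀ : Matrix (Fin n) (Fin n) F₀).map ι)ᵀ
        = κ • (A₀ : Matrix (Fin n) (Fin n) F₀).map ι ∧ Corr σ ι δ A A₀ := by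
  have hκ0 : κ ≠ 0 := by
    rintro rfl
    rw [zero_mul] at hκ
    exact zero_ne_one hκ
  obtain ⟨e, P, he, hP, hGT, hGbar⟩ := exists_datum hF σ hσ A κ hκ hκσ hA
  obtain ⟨Pm, hPm⟩ : ∃ Pm : Matrix (Fin n) (Fin n) F, Pm = (P : Matrix (Fin n) (Fin n) F) := ⟨_, rfl⟩
  obtain ⟨Pi, hPi⟩ : ∃ Pi : Matrix (Fin n) (Fin n) F,
      Pi = ((P⁻¹ : GL (Fin n) F) : Matrix (Fin n) (Fin n) F) := ⟨_, rfl⟩
  have hPPi : Pm * Pi = 1 := by rw [hPm, hPi]; exact Units.mul_inv P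
  have hPiP : Pi * Pm = 1 := by rw [hPm, hPi]; exact Units.inv_mul P
  obtain ⟨G, hGdef⟩ : ∃ G : Matrix (Fin n) (Fin n) F,
      G = (P : Matrix (Fin n) (Fin n) F)ᵀ * (P : Matrix (Fin n) (Fin n) F).map σ := ⟨_, rfl⟩
  rw [← hGdef] at hGT hGbar
  have hGG : G * (Pi.map σ * Piᵀ) = 1 := by
    rw [hGdef, ← hPm]
    calc (Pmᵀ * Pm.map σ) * (Pi.map σ * Piᵀ) = Pmᵀ * (Pm.map σ * Pi.map σ) * Piᵀ := by
          simp only [Matrix.mul_assoc]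
      _ = 1 := by
          rw [← bar_mul, hPPi, bar_one, Matrix.mul_one, ← Matrix.transpose_mul, hPiP,
            Matrix.transpose_one]
  obtain ⟨N, hNdef⟩ : ∃ N : Matrix (Fin n) (Fin n) F, N = δ⁻¹ • G := ⟨_, rfl⟩
  have hGN : G = δ • N := by rw [hNdef, smul_smul, mul_inv_cancel₀ hδ0, one_smul]
  have hNbar : N.map σ = N := by
    rw [hNdef, bar_smul, hGbar, map_inv₀, hδ, smul_smul]
    congr 1
    field_simp
  have hNT : Nᵀ = κ • N := by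
    rw [hNdef, Matrix.transpose_smul, hGT, smul_comm]
  obtain ⟨M₀, hM₀⟩ := exists_map_of_fixed σ ι hι2 N hNbar
  have hNN' : N * (δ • (Pi.map σ * Piᵀ)) = 1 := by
    rw [hNdef, Matrix.smul_mul, Matrix.mul_smul, smul_smul, inv_mul_cancel₀ hδ0, one_smul]
    exact hGG
  have hdetN : N.det ≠ 0 := by
    intro h0
    have := congrArg Matrix.det hNN'
    rw [Matrix.det_mul, h0, zero_mul, Matrix.det_one] at this
    exact zero_ne_one this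
  have hM₀det : M₀.det ≠ 0 := by
    intro h0
    apply hdetN
    rw [← hM₀, det_emb, h0, map_zero]
  obtain ⟨Mu, hMu⟩ : ∃ Mu : GL (Fin n) F₀, (Mu : Matrix (Fin n) (Fin n) F₀) = M₀ :=
    ⟨Matrix.GeneralLinearGroup.mkOfDetNeZero M₀ hM₀det, rfl⟩
  have hNB : N * ((Mu⁻¹ : GL (Fin n) F₀) : Matrix (Fin n) (Fin n) F₀).map ι = 1 := by
    rw [← hM₀, ← hMu]
    exact emb_gl_mul_inv ι Mu
  refine ⟨Mu⁻¹, inv_transpose_smul N _ hNB κ hκ hNT, e, P, he, hP, ?_⟩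
  rw [← hGdef, hGN, Matrix.smul_mul, hNB]

/-- every `A₀ ∈ GL_n(F₀)` with `A₀ᵀ = κ A₀` corresponds to some `A ∈ GU_n` of the same type -/
theorem exists_corr_of_GL (hF : Fintype.card F = q ^ 2) (σ : F ≃+* F) (hσ : ∀ a, σ a = a ^ q)
    (ι : F₀ →+* F) (hι1 : ∀ y, σ (ι y) = ι y)
    (A₀ : GL (Fin n) F₀) (κ : F) (hκ : κ * κ = 1) (hκσ : σ κ = κ)
    (hA₀ : ((A₀ : Matrix (Fin n) (Fin n) F₀).map ι)ᵀ = κ • (A₀ : Matrix (Fin n) (Fin n) F₀).map ι)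
    (δ : F) (hδ0 : δ ≠ 0) (hδ : σ δ = κ * δ) :
    ∃ A : ↥(GU n F q), ((A : GL (Fin n) F) : Matrix (Fin n) (Fin n) F)ᵀ
        = κ • ((A : GL (Fin n) F) : Matrix (Fin n) (Fin n) F) ∧ Corr σ ι δ A A₀ := by
  have hσ2 := frob_frob hF σ hσ
  have hκ0 : κ ≠ 0 := by
    rintro rfl
    rw [zero_mul] at hκ
    exact zero_ne_one hκ
  obtain ⟨B, hB⟩ : ∃ B : Matrix (Fin n) (Fin n) F, B = (A₀ : Matrix (Fin n) (Fin n) F₀).map ι :=
    ⟨_, rfl⟩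
  obtain ⟨N, hN⟩ : ∃ N : Matrix (Fin n) (Fin n) F,
      N = ((A₀⁻¹ : GL (Fin n) F₀) : Matrix (Fin n) (Fin n) F₀).map ι := ⟨_, rfl⟩
  rw [← hB] at hA₀
  have hBN : B * N = 1 := by rw [hB, hN]; exact emb_gl_mul_inv ι A₀
  have hNB : N * B = 1 := by rw [hB, hN]; exact emb_gl_inv_mul ι A₀
  have hNT : Nᵀ = κ • N := inv_transpose_smul B N hBN κ hκ hA₀
  have hNbar : N.map σ = N := by rw [hN]; exact emb_bar σ ι hι1 _
  obtain ⟨G, hGdef⟩ : ∃ G : Matrix (Fin n) (Fin n) F, G = δ • N := ⟨_, rfl⟩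
  have hGT : Gᵀ = κ • G := by
    rw [hGdef, Matrix.transpose_smul, hNT, smul_comm]
  have hGbar : G.map σ = κ • G := by
    rw [hGdef, bar_smul, hNbar, hδ, smul_smul]
  have hX : Cfsg.Agent.Lib.helper48.cstar (σ : F →+* F) Gᵀ = Gᵀ := by
    show ((Gᵀ).map σ)ᵀ = Gᵀ
    rw [Matrix.transpose_map, Matrix.transpose_transpose, hGbar, hGT]
  have hXu : IsUnit Gᵀ := by
    have h1 : Gᵀ * ((κ * δ)⁻¹ • B) = 1 := by
      rw [hGT, hGdef, smul_smul, Matrix.smul_mul, Matrix.mul_smul, smul_smul, hNB,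
        mul_inv_cancel₀ (mul_ne_zero hκ0 hδ0), one_smul]
    exact ⟨⟨Gᵀ, (κ * δ)⁻¹ • B, h1, mul_eq_one_comm.mp h1⟩, rfl⟩
  have hσne : (σ : F →+* F) ≠ RingHom.id F := by
    intro h
    obtain ⟨a, ha⟩ := Cfsg.Agent.Lib.helper17.exists_pow_q_ne hF
    apply ha
    rw [← hσ]
    exact congrArg (fun f : F →+* F => f a) h
  obtain ⟨S, hSu, hS⟩ := Cfsg.Agent.Lib.helper48.exists_cstar_mul_self (σ : F →+* F) hσne hσ2 Gᵀ hX
    hXu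
  obtain ⟨P, rfl⟩ := hSu
  obtain ⟨Pm, hPm⟩ : ∃ Pm : Matrix (Fin n) (Fin n) F, Pm = (P : Matrix (Fin n) (Fin n) F) := ⟨_, rfl⟩
  obtain ⟨Pi, hPi⟩ : ∃ Pi : Matrix (Fin n) (Fin n) F,
      Pi = ((P⁻¹ : GL (Fin n) F) : Matrix (Fin n) (Fin n) F) := ⟨_, rfl⟩
  have hPPi : Pm * Pi = 1 := by rw [hPm, hPi]; exact Units.mul_inv P
  have hPiP : Pi * Pm = 1 := by rw [hPm, hPi]; exact Units.inv_mul P
  have hS' : (Pm.map σ)ᵀ * Pm = Gᵀ := by rw [hPm]; exact hS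
  have hGram : Pmᵀ * Pm.map σ = G := by
    have := congrArg Matrix.transpose hS'
    rw [Matrix.transpose_mul, Matrix.transpose_transpose, Matrix.transpose_transpose] at this
    exact this
  have hGκ : G = κ • ((Pm.map σ)ᵀ * Pm) := by
    rw [hS', hGT, smul_smul, hκ, one_smul]
  have hb1 : Pm.map σ * Pi.map σ = 1 := by rw [← bar_mul, hPPi, bar_one]
  have hb2 : Pi.map σ * Pm.map σ = 1 := by rw [← bar_mul, hPiP, bar_one]
  have hbt : (Pi.map σ)ᵀ * (Pm.map σ)ᵀ = 1 := by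
    rw [← Matrix.transpose_mul, hb1, Matrix.transpose_one]
  obtain ⟨ε, hε⟩ := Cfsg.Agent.Lib.helper99.exists_norm_eq hF κ hκ0 (by rw [← hσ]; exact hκσ)
  have hε0 : ε ≠ 0 := by
    rintro rfl
    rw [zero_mul] at hε
    exact hκ0 hε.symm
  have hεσ : ε * σ ε = κ := by rw [hσ]; exact hε
  have hσε : σ ε ≠ 0 := by
    rw [Ne, map_eq_zero_iff σ σ.injective]
    exact hε0
  obtain ⟨Am, hAm⟩ : ∃ Am : Matrix (Fin n) (Fin n) F, Am = ε⁻¹ • (Pm * Pi.map σ) := ⟨_, rfl⟩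
  have hv1 : Am * (ε • (Pm.map σ * Pi)) = 1 := by
    rw [hAm, Matrix.smul_mul, Matrix.mul_smul, smul_smul, inv_mul_cancel₀ hε0, one_smul]
    calc Pm * Pi.map σ * (Pm.map σ * Pi) = Pm * (Pi.map σ * Pm.map σ) * Pi := by
          simp only [Matrix.mul_assoc]
      _ = 1 := by rw [hb2, Matrix.mul_one, hPPi]
  have hAbar : Am.map σ = (σ ε)⁻¹ • (Pm.map σ * Pi) := by
    rw [hAm, bar_smul, bar_mul, map_map_frob σ hσ2, map_inv₀]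
  have hATm : Amᵀ = κ • Am := by
    rw [hAm, Matrix.transpose_smul, Matrix.transpose_mul, smul_comm]
    congr 1
    calc (Pi.map σ)ᵀ * Pmᵀ = (Pi.map σ)ᵀ * (Pmᵀ * (Pm.map σ * Pi.map σ)) := by
          rw [hb1, Matrix.mul_one]
      _ = (Pi.map σ)ᵀ * ((Pmᵀ * Pm.map σ) * Pi.map σ) := by rw [Matrix.mul_assoc]
      _ = κ • (((Pi.map σ)ᵀ * (Pm.map σ)ᵀ) * Pm * Pi.map σ) := by
          rw [hGram, hGκ, Matrix.smul_mul, Matrix.mul_smul]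
          simp only [Matrix.mul_assoc]
      _ = κ • (Pm * Pi.map σ) := by rw [hbt, Matrix.one_mul]
  have hAU : Amᵀ * Am.map σ = 1 := by
    rw [hATm, hAbar, hAm, smul_smul, Matrix.smul_mul, Matrix.mul_smul, smul_smul]
    have h3 : Pm * Pi.map σ * (Pm.map σ * Pi) = 1 := by
      calc Pm * Pi.map σ * (Pm.map σ * Pi) = Pm * (Pi.map σ * Pm.map σ) * Pi := by
            simp only [Matrix.mul_assoc]
        _ = 1 := by rw [hb2, Matrix.mul_one, hPPi]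
    rw [h3]
    have h4 : κ * ε⁻¹ * (σ ε)⁻¹ = 1 := by
      rw [← hεσ]
      field_simp
    rw [h4, one_smul]
  obtain ⟨Au, hAu⟩ : ∃ Au : GL (Fin n) F, (Au : Matrix (Fin n) (Fin n) F) = Am :=
    ⟨⟨Am, ε • (Pm.map σ * Pi), hv1, mul_eq_one_comm.mp hv1⟩, rfl⟩
  have hAuU : Au ∈ GU n F q := mem_GU_of_transpose_mul_map σ hσ Au (by rw [hAu]; exact hAU)
  refine ⟨⟨Au, hAuU⟩, ?_, ε⁻¹, P, inv_ne_zero hε0, ?_, ?_⟩
  · show (Au : Matrix (Fin n) (Fin n) F)ᵀ = κ • (Au : Matrix (Fin n) (Fin n) F)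
    rw [hAu]
    exact hATm
  · show (Au : Matrix (Fin n) (Fin n) F) * (P : Matrix (Fin n) (Fin n) F).map σ
      = ε⁻¹ • (P : Matrix (Fin n) (Fin n) F)
    rw [hAu, ← hPm, hAm, Matrix.smul_mul, Matrix.mul_assoc, hb2, Matrix.mul_one]
  · rw [← hPm, ← hB, hGram, hGdef, Matrix.smul_mul, hNB]

end Exist

end Cfsg.Agent.Lib.helper50
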