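import Mathlib
import Cfsg.Prelude.Def_LieTypeDatum
import Cfsg.Agent.Lib.helper50.PSUCorr

/-!
# Transfer of involutory graph automorphisms between `PSU_n(q)` and `PSL_n(q)`

`psu_transfer`: a relation between the involutory graph automorphisms of `PSU_n(q)` (over `F`, `|F| = q²`)
and those of `PSL_n(F₀)` (`|F₀| = q`) which is total in both directions, respects conjugacy under the
inner-diagonal groups, and relates automorphisms with isomorphic centralisers in the inner-diagonal groups.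
-/

set_option autoImplicit false

namespace Cfsg.Agent.Lib.helper50

open Matrix Cfsg
open scoped MatrixGroups

universe u v

section
variable {n q : ℕ} {F : Type u} [Field F] [Fintype F] {F₀ : Type v} [Field F₀]

theorem not_conj_skew_symU (hF : Fintype.card F = q ^ 2) (hn : 3 ≤ n) (σ : F ≃+* F)
    (hσ : ∀ a, σ a = a ^ q) (h2 : (2 : F) ≠ 0) (A A' : ↥(GU n F q))
    (hA : ((A : GL (Fin n) F) : Matrix (Fin n) (Fin n) F)ᵀ
      = -((A : GL (Fin n) F) : Matrix (Fin n) (Fin n) F))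
    (hA' : ((A' : GL (Fin n) F) : Matrix (Fin n) (Fin n) F)ᵀ
      = ((A' : GL (Fin n) F) : Matrix (Fin n) (Fin n) F)) :
    ¬ IsConjUnder (inndiagPSU n F q) (graphU σ A) (graphU σ A') := by
  intro h
  obtain ⟨g, c, hc⟩ := (isConjUnder_graphU_iff hF hn σ hσ A A').mp h
  have h1 : ((A' : GL (Fin n) F) : Matrix (Fin n) (Fin n) F)ᵀ
      = -((A' : GL (Fin n) F) : Matrix (Fin n) (Fin n) F) := by
    conv_lhs => rw [hc]
    rw [Matrix.transpose_smul, Matrix.transpose_mul, Matrix.transpose_mul, Matrix.transpose_transpose, hA,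
      hc]
    simp only [Matrix.mul_neg, Matrix.neg_mul, smul_neg, mul_assoc]
  rw [hA'] at h1
  have h3 : (2 : F) • ((A' : GL (Fin n) F) : Matrix (Fin n) (Fin n) F) = 0 := by
    rw [two_smul]
    nth_rewrite 1 [h1]
    rw [neg_add_cancel]
  have h4 : ((A' : GL (Fin n) F) : Matrix (Fin n) (Fin n) F) = 0 := by
    have := congrArg (fun X : Matrix (Fin n) (Fin n) F => (2 : F)⁻¹ • X) h3
    simpa [smul_smul, h2] using this
  have hne : Nonempty (Fin n) := ⟨⟨0, by omega⟩⟩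
  have := Matrix.GeneralLinearGroup.det_ne_zero (A' : GL (Fin n) F)
  rw [h4, Matrix.det_zero] at this
  exact this rfl

/-- type-respecting correspondence between `GU_n(q)` and `GL_n(F₀)` -/
def Rel (σ : F ≃+* F) (ι : F₀ →+* F) (δs : F) (A : ↥(GU n F q)) (A₀ : GL (Fin n) F₀) : Prop :=
  (((A : GL (Fin n) F) : Matrix (Fin n) (Fin n) F)ᵀ = ((A : GL (Fin n) F) : Matrix (Fin n) (Fin n) F)
    ∧ (A₀ : Matrix (Fin n) (Fin n) F₀)ᵀ = (A₀ : Matrix (Fin n) (Fin n) F₀) ∧ Corr σ ι 1 A A₀) ∨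
  ((2 : F) ≠ 0
    ∧ ((A : GL (Fin n) F) : Matrix (Fin n) (Fin n) F)ᵀ = -((A : GL (Fin n) F) : Matrix (Fin n) (Fin n) F)
    ∧ (A₀ : Matrix (Fin n) (Fin n) F₀)ᵀ = -(A₀ : Matrix (Fin n) (Fin n) F₀) ∧ Corr σ ι δs A A₀)

omit [Fintype F] in
theorem two_ne_zero_of_emb (ι : F₀ →+* F) (h2 : (2 : F) ≠ 0) : (2 : F₀) ≠ 0 := by
  intro h
  apply h2
  have := congrArg ι h
  rw [map_ofNat, map_zero] at this
  exact this

theorem rel_cent (hF : Fintype.card F = q ^ 2) (hn : 3 ≤ n) (σ : F ≃+* F) (hσ : ∀ a, σ a = a ^ q)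
    (ι : F₀ →+* F) (hι1 : ∀ y, σ (ι y) = ι y) (hι2 : ∀ x, σ x = x → ∃ y, ι y = x)
    (δs : F) (hδs : δs ≠ 0) (A : ↥(GU n F q)) (A₀ : GL (Fin n) F₀) (h : Rel σ ι δs A A₀) :
    Nonempty (↥(inndiagPSU n F q ⊓ Subgroup.centralizer {graphU σ A})
      ≃* ↥(inndiagPSL n F₀ ⊓ Subgroup.centralizer {graphAut A₀})) := by
  rcases h with ⟨-, -, h⟩ | ⟨-, -, -, h⟩
  · exact corr_cent hF hn σ hσ ι hι1 hι2 1 one_ne_zero A A₀ h
  · exact corr_cent hF hn σ hσ ι hι1 hι2 δs hδs A A₀ h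

theorem rel_conj (hF : Fintype.card F = q ^ 2) (hn : 3 ≤ n) (σ : F ≃+* F) (hσ : ∀ a, σ a = a ^ q)
    (ι : F₀ →+* F) (hι1 : ∀ y, σ (ι y) = ι y)
    (δs : F) (A A' : ↥(GU n F q)) (A₀ A₀' : GL (Fin n) F₀) (h : Rel σ ι δs A A₀)
    (h' : Rel σ ι δs A' A₀')
    (hc : IsConjUnder (inndiagPSL n F₀) (graphAut A₀) (graphAut A₀')) :
    IsConjUnder (inndiagPSU n F q) (graphU σ A) (graphU σ A') := by
  rcases h with ⟨-, hs, h⟩ | ⟨h2, -, hs, h⟩ <;> rcases h' with ⟨-, hs', h'⟩ | ⟨h2', -, hs', h'⟩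
  · exact corr_conj hF hn σ hσ ι hι1 1 A A' A₀ A₀' h h' hc
  · exact absurd (isConjUnder_symm _ hc)
      (not_conj_skew_sym (two_ne_zero_of_emb ι h2') (by omega) A₀' A₀ hs' hs)
  · exact absurd hc (not_conj_skew_sym (two_ne_zero_of_emb ι h2) (by omega) A₀ A₀' hs hs')
  · exact corr_conj hF hn σ hσ ι hι1 δs A A' A₀ A₀' h h' hc

theorem rel_conj' (hF : Fintype.card F = q ^ 2) (hn : 3 ≤ n) (σ : F ≃+* F) (hσ : ∀ a, σ a = a ^ q)
    (ι : F₀ →+* F) (hι2 : ∀ x, σ x = x → ∃ y, ι y = x)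
    (δs : F) (hδs : δs ≠ 0) (A A' : ↥(GU n F q)) (A₀ A₀' : GL (Fin n) F₀) (h : Rel σ ι δs A A₀)
    (h' : Rel σ ι δs A' A₀')
    (hc : IsConjUnder (inndiagPSU n F q) (graphU σ A) (graphU σ A')) :
    IsConjUnder (inndiagPSL n F₀) (graphAut A₀) (graphAut A₀') := by
  rcases h with ⟨hs, -, h⟩ | ⟨h2, hs, -, h⟩ <;> rcases h' with ⟨hs', -, h'⟩ | ⟨h2', hs', -, h'⟩
  · exact corr_conj' hF hn σ hσ ι hι2 1 one_ne_zero A A' A₀ A₀' h h' hc
  · exact absurd (isConjUnder_symm _ hc) (not_conj_skew_symU hF hn σ hσ h2' A' A hs' hs)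
  · exact absurd hc (not_conj_skew_symU hF hn σ hσ h2 A A' hs hs')
  · exact corr_conj' hF hn σ hσ ι hι2 δs hδs A A' A₀ A₀' h h' hc

theorem rel_order (hF : Fintype.card F = q ^ 2) (hn : 3 ≤ n) (σ : F ≃+* F) (hσ : ∀ a, σ a = a ^ q)
    (ι : F₀ →+* F) (δs : F) (A : ↥(GU n F q)) (A₀ : GL (Fin n) F₀) (h : Rel σ ι δs A A₀) :
    orderOf (graphU σ A) = 2 ∧ orderOf (graphAut A₀) = 2 := by
  rcases h with ⟨hs, hs₀, -⟩ | ⟨-, hs, hs₀, -⟩
  · exact ⟨(orderOf_graphU_eq_two_iff hF hn σ hσ A).mpr ⟨1, by rw [Units.val_one, one_smul, hs]⟩,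
      (orderOf_graphAut_eq_two_iff hn A₀).mpr ⟨1, by rw [Units.val_one, one_smul, hs₀]⟩⟩
  · exact ⟨(orderOf_graphU_eq_two_iff hF hn σ hσ A).mpr
        ⟨-1, by rw [Units.val_neg, Units.val_one, neg_smul, one_smul, hs, neg_neg]⟩,
      (orderOf_graphAut_eq_two_iff hn A₀).mpr
        ⟨-1, by rw [Units.val_neg, Units.val_one, neg_smul, one_smul, hs₀, neg_neg]⟩⟩

theorem exists_rel_of_GU (hF : Fintype.card F = q ^ 2) (hn : 3 ≤ n) (σ : F ≃+* F)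
    (hσ : ∀ a, σ a = a ^ q) (ι : F₀ →+* F) (hι2 : ∀ x, σ x = x → ∃ y, ι y = x)
    (δs : F) (hδs0 : δs ≠ 0) (hδs : σ δs = -δs) (A : ↥(GU n F q))
    (h : orderOf (graphU σ A) = 2) : ∃ A₀ : GL (Fin n) F₀, Rel σ ι δs A A₀ := by
  obtain ⟨c, hc⟩ := (orderOf_graphU_eq_two_iff hF hn σ hσ A).mp h
  have hsym : ((A : GL (Fin n) F) : Matrix (Fin n) (Fin n) F)ᵀ
      = ((A : GL (Fin n) F) : Matrix (Fin n) (Fin n) F) → ∃ A₀ : GL (Fin n) F₀, Rel σ ι δs A A₀ := by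
    intro hs
    obtain ⟨A₀, hA₀, hcorr⟩ := exists_corr_of_GU hF σ hσ ι hι2 A 1 (one_mul 1) (map_one σ)
      (by rw [one_smul, hs]) 1 one_ne_zero (by rw [map_one, one_mul])
    refine ⟨A₀, Or.inl ⟨hs, ?_, hcorr⟩⟩
    apply emb_inj ι
    rw [one_smul] at hA₀
    exact hA₀
  rcases symm_or_skew (by omega) (A : GL (Fin n) F) c hc with hs | hs
  · exact hsym hs
  · by_cases h2 : (2 : F) = 0
    · apply hsym
      rw [hs]
      have : -((A : GL (Fin n) F) : Matrix (Fin n) (Fin n) F)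
          = ((A : GL (Fin n) F) : Matrix (Fin n) (Fin n) F) - (2 : F)
            • ((A : GL (Fin n) F) : Matrix (Fin n) (Fin n) F) := by
        rw [two_smul]
        abel
      rw [this, h2, zero_smul, sub_zero]
    · obtain ⟨A₀, hA₀, hcorr⟩ := exists_corr_of_GU hF σ hσ ι hι2 A (-1) (by ring)
        (by rw [map_neg, map_one]) (by rw [neg_smul, one_smul, hs]) δs hδs0
        (by rw [hδs]; ring)
      refine ⟨A₀, Or.inr ⟨h2, hs, ?_, hcorr⟩⟩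
      apply emb_inj ι
      rw [neg_smul, one_smul] at hA₀
      rw [Matrix.map_neg _ (fun a => map_neg ι a)] at *
      exact hA₀

theorem exists_rel_of_GL (hF : Fintype.card F = q ^ 2) (hn : 3 ≤ n) (σ : F ≃+* F)
    (hσ : ∀ a, σ a = a ^ q) (ι : F₀ →+* F) (hι1 : ∀ y, σ (ι y) = ι y)
    (δs : F) (hδs0 : δs ≠ 0) (hδs : σ δs = -δs) (A₀ : GL (Fin n) F₀)
    (h : orderOf (graphAut A₀) = 2) : ∃ A : ↥(GU n F q), Rel σ ι δs A A₀ := by
  obtain ⟨c, hc⟩ := (orderOf_graphAut_eq_two_iff hn A₀).mp h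
  have hsym : (A₀ : Matrix (Fin n) (Fin n) F₀)ᵀ = (A₀ : Matrix (Fin n) (Fin n) F₀) →
      ∃ A : ↥(GU n F q), Rel σ ι δs A A₀ := by
    intro hs
    obtain ⟨A, hA, hcorr⟩ := exists_corr_of_GL (q := q) hF σ hσ ι hι1 A₀ 1 (one_mul 1) (map_one σ)
      (by rw [one_smul, ← Matrix.transpose_map, hs]) 1 one_ne_zero (by rw [map_one, one_mul])
    refine ⟨A, Or.inl ⟨?_, hs, hcorr⟩⟩
    rw [one_smul] at hA
    exact hA
  rcases symm_or_skew (by omega) A₀ c hc with hs | hs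
  · exact hsym hs
  · by_cases h2 : (2 : F) = 0
    · apply hsym
      have h2' : (2 : F₀) = 0 := by
        apply ι.injective
        rw [map_ofNat, map_zero]
        exact h2
      rw [hs]
      have : -(A₀ : Matrix (Fin n) (Fin n) F₀)
          = (A₀ : Matrix (Fin n) (Fin n) F₀) - (2 : F₀) • (A₀ : Matrix (Fin n) (Fin n) F₀) := by
        rw [two_smul]
        abel
      rw [this, h2', zero_smul, sub_zero]
    · obtain ⟨A, hA, hcorr⟩ := exists_corr_of_GL (q := q) hF σ hσ ι hι1 A₀ (-1) (by ring)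
        (by rw [map_neg, map_one])
        (by rw [neg_smul, one_smul, ← Matrix.transpose_map, hs, Matrix.map_neg _ (fun a => map_neg ι a)])
        δs hδs0 (by rw [hδs]; ring)
      refine ⟨A, Or.inr ⟨h2, ?_, hs, hcorr⟩⟩
      rw [neg_smul, one_smul] at hA
      exact hA

/-- the relation between graph automorphisms -/
def GRel (σ : F ≃+* F) (ι : F₀ →+* F) (δs : F) (γ : MulAut (PSU n F q))
    (γ₀ : MulAut (Matrix.ProjectiveSpecialLinearGroup (Fin n) F₀)) : Prop :=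
  ∃ (A : ↥(GU n F q)) (A₀ : GL (Fin n) F₀), γ = graphU σ A ∧ γ₀ = graphAut A₀ ∧ Rel σ ι δs A A₀

end

section Main
variable {n q : ℕ} {F : Type u} [Field F] [Fintype F] {F₀ : Type v} [Field F₀] [Fintype F₀]

theorem exists_setup (hF : Fintype.card F = q ^ 2) (hF₀ : Fintype.card F₀ = q) :
    ∃ (σ : F ≃+* F) (ι : F₀ →+* F) (δs : F), (∀ a, σ a = a ^ q) ∧ (∀ y, σ (ι y) = ι y) ∧
      (∀ x, σ x = x → ∃ y, ι y = x) ∧ δs ≠ 0 ∧ σ δs = -δs := by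
  obtain ⟨σ₀, hσ₀⟩ := Cfsg.Agent.Lib.helper17.exists_frob hF
  have hbij : Function.Bijective σ₀ := Finite.injective_iff_bijective.mp σ₀.injective
  obtain ⟨ι⟩ := exists_ringHom_of_card_sq hF₀ hF
  obtain ⟨δs, hδs0, hδs⟩ := Cfsg.Agent.Lib.helper99.exists_skew_ne_zero hF
  have hσ : ∀ a, (RingEquiv.ofBijective σ₀ hbij) a = a ^ q := hσ₀
  exact ⟨RingEquiv.ofBijective σ₀ hbij, ι, δs, hσ, emb_fixed hF₀ _ hσ ι, emb_surj hF hF₀ _ hσ ι, hδs0,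
    by rw [hσ, hδs]⟩

/-- **Transfer theorem** for involutory graph automorphisms of `PSU_n(q)` and `PSL_n(q)`. -/
theorem psu_transfer (hF : Fintype.card F = q ^ 2) (hF₀ : Fintype.card F₀ = q) (hn : 3 ≤ n) :
    ∃ R : MulAut (PSU n F q) → MulAut (Matrix.ProjectiveSpecialLinearGroup (Fin n) F₀) → Prop,
      (∀ γ γ₀, R γ γ₀ → IsGraphAutClassPSU γ ∧ orderOf γ = 2 ∧ IsGraphAutClassPSL γ₀ ∧ orderOf γ₀ = 2 ∧
        Nonempty (↥(inndiagPSU n F q ⊓ Subgroup.centralizer {γ})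
          ≃* ↥(inndiagPSL n F₀ ⊓ Subgroup.centralizer {γ₀}))) ∧
      (∀ γ γ' γ₀ γ₀', R γ γ₀ → R γ' γ₀' →
        (IsConjUnder (inndiagPSU n F q) γ γ' ↔ IsConjUnder (inndiagPSL n F₀) γ₀ γ₀')) ∧
      (∀ γ, IsGraphAutClassPSU γ → orderOf γ = 2 → ∃ γ₀, R γ γ₀) ∧
      (∀ γ₀, IsGraphAutClassPSL γ₀ → orderOf γ₀ = 2 → ∃ γ, R γ γ₀) ∧
      (∀ (τ : F ≃+* F) (φ : MulAut (PSU n F q))
        (ι₀ : MulAut (Matrix.ProjectiveSpecialLinearGroup (Fin n) F₀)), (∀ a, τ a = a ^ q) →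
        IsFieldAutPSUOf τ φ → IsInverseTransposeAutPSL ι₀ → R φ ι₀) := by
  obtain ⟨σ, ι, δs, hσ, hι1, hι2, hδs0, hδs⟩ := exists_setup hF hF₀
  refine ⟨GRel σ ι δs, ?_, ?_, ?_, ?_, ?_⟩
  · rintro γ γ₀ ⟨A, A₀, rfl, rfl, hrel⟩
    obtain ⟨ho, ho₀⟩ := rel_order hF hn σ hσ ι δs A A₀ hrel
    exact ⟨isGraphAutClassPSU_graphU hF hn σ hσ A, ho, (isGraphAutClass_iff hn _).mpr ⟨A₀, rfl⟩, ho₀,
      rel_cent hF hn σ hσ ι hι1 hι2 δs hδs0 A A₀ hrel⟩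
  · rintro γ γ' γ₀ γ₀' ⟨A, A₀, rfl, rfl, hrel⟩ ⟨A', A₀', rfl, rfl, hrel'⟩
    exact ⟨rel_conj' hF hn σ hσ ι hι2 δs hδs0 A A' A₀ A₀' hrel hrel',
      rel_conj hF hn σ hσ ι hι1 δs A A' A₀ A₀' hrel hrel'⟩
  · intro γ hγ ho
    obtain ⟨A, rfl⟩ := exists_graphU_of_order_two hF hn σ hσ γ hγ ho
    obtain ⟨A₀, hrel⟩ := exists_rel_of_GU hF hn σ hσ ι hι2 δs hδs0 hδs A ho
    exact ⟨graphAut A₀, A, A₀, rfl, rfl, hrel⟩
  · intro γ₀ hγ₀ ho
    obtain ⟨A₀, rfl⟩ := (isGraphAutClass_iff hn γ₀).mp hγ₀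
    obtain ⟨A, hrel⟩ := exists_rel_of_GL (q := q) hF hn σ hσ ι hι1 δs hδs0 hδs A₀ ho
    exact ⟨graphU σ A, A, A₀, rfl, rfl, hrel⟩
  · intro τ φ ι₀ hτ hφ hι₀
    have hτσ : τ = σ := by
      apply RingEquiv.ext
      intro a
      rw [hτ, hσ]
    refine ⟨1, 1, ?_, ?_, Or.inl ⟨?_, ?_, 1, 1, one_ne_zero, ?_, ?_⟩⟩
    · rw [(isFieldAutPSUOf_iff τ φ).mp hφ, hτσ]
      unfold graphU
      rw [map_one, one_mul]
    · rw [eq_iotaPSL hι₀]
      unfold graphAut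
      rw [map_one, one_mul]
    · show (1 : Matrix (Fin n) (Fin n) F)ᵀ = 1
      exact Matrix.transpose_one
    · show (1 : Matrix (Fin n) (Fin n) F₀)ᵀ = 1
      exact Matrix.transpose_one
    · show (1 : Matrix (Fin n) (Fin n) F) * (1 : Matrix (Fin n) (Fin n) F).map σ
        = (1 : F) • (1 : Matrix (Fin n) (Fin n) F)
      rw [bar_one, Matrix.mul_one, one_smul]
    · show ((1 : Matrix (Fin n) (Fin n) F)ᵀ * (1 : Matrix (Fin n) (Fin n) F).map σ)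
        * (1 : Matrix (Fin n) (Fin n) F₀).map ι = (1 : F) • (1 : Matrix (Fin n) (Fin n) F)
      rw [bar_one, emb_one, Matrix.transpose_one, Matrix.mul_one, Matrix.mul_one, one_smul]

end Main

end Cfsg.Agent.Lib.helper50
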