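import Mathlib

/-!
# S4484 piece AN1: two orthogonal projections, the trace bound
-/

set_option autoImplicit false

namespace Cfsg.Agent.Lib.helper50.S4484

open scoped Matrix ComplexOrder

/-- AN1 (pure matrix lemma: two orthogonal projections) -/
theorem psd_trace_bound {n : ℕ} (P Q : Matrix (Fin n) (Fin n) ℂ) (hP : Pᴴ = P)
    (hPP : P * P = P) (hQ : Qᴴ = Q) (hQQ : Q * Q = Q) (k : ℕ) (hk : 0 < k) :
    ∃ r : ℝ, 0 ≤ r ∧ r ≤ (n : ℝ) / 4 ^ k ∧
      ((P * Q * P * (1 - Q)) ^ k).trace = (r : ℂ) ∧ (r = 0 → P * Q = Q * P) := by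
  classical
  have hPP' : ∀ Z : Matrix (Fin n) (Fin n) ℂ, P * (P * Z) = P * Z := fun Z => by
    rw [← mul_assoc, hPP]
  have hQQ' : ∀ Z : Matrix (Fin n) (Fin n) ℂ, Q * (Q * Z) = Q * Z := fun Z => by
    rw [← mul_assoc, hQQ]
  obtain ⟨Y, hY⟩ : ∃ Y : Matrix (Fin n) (Fin n) ℂ, Y = P * Q * P * (1 - Q) := ⟨_, rfl⟩
  obtain ⟨X, hX⟩ : ∃ X : Matrix (Fin n) (Fin n) ℂ, X = P * Q * P := ⟨_, rfl⟩
  obtain ⟨D, hDdef⟩ : ∃ D : Matrix (Fin n) (Fin n) ℂ, D = X - X * X := ⟨_, rfl⟩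
  obtain ⟨W, hW⟩ : ∃ W : Matrix (Fin n) (Fin n) ℂ, W = P * Q * (1 - P) := ⟨_, rfl⟩
  rw [← hY]
  have hXh : Xᴴ = X := by
    rw [hX, Matrix.conjTranspose_mul, Matrix.conjTranspose_mul, hP, hQ, mul_assoc]
  have hD : D.IsHermitian := by
    unfold Matrix.IsHermitian
    rw [hDdef, Matrix.conjTranspose_sub, Matrix.conjTranspose_mul, hXh]
  have hPY : P * Y = Y := by
    rw [hY]; simp only [mul_assoc, hPP']
  have hYP : Y * P = D := by
    rw [hY, hDdef, hX]
    simp only [mul_sub, sub_mul, mul_one, mul_assoc, hPP, hPP']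
  have hWW : W * Wᴴ = D := by
    rw [hW, hDdef, hX]
    simp only [Matrix.conjTranspose_mul, Matrix.conjTranspose_sub, Matrix.conjTranspose_one,
      hP, hQ]
    simp only [mul_sub, sub_mul, mul_one, one_mul, mul_assoc, hPP, hPP', hQQ, hQQ']
    abel
  have hDk : ∀ m : ℕ, D ^ (m + 1) = Y ^ (m + 1) * P := by
    intro m
    induction m with
    | zero => simp [hYP]
    | succ m ih =>
      calc D ^ (m + 1 + 1) = D ^ (m + 1) * D := pow_succ _ _
        _ = Y ^ (m + 1) * P * (Y * P) := by rw [ih, hYP]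
        _ = Y ^ (m + 1) * (P * Y) * P := by simp only [mul_assoc]
        _ = Y ^ (m + 1 + 1) * P := by rw [hPY, ← pow_succ]
  have hPYk : ∀ m : ℕ, P * Y ^ (m + 1) = Y ^ (m + 1) := by
    intro m
    rw [pow_succ', ← mul_assoc, hPY]
  have htr : (Y ^ k).trace = (D ^ k).trace := by
    obtain ⟨m, rfl⟩ : ∃ m, k = m + 1 := Nat.exists_eq_succ_of_ne_zero hk.ne'
    rw [hDk m, Matrix.trace_mul_comm, hPYk]
  -- spectral decomposition of `D`
  have hUU : star (hD.eigenvectorUnitary : Matrix (Fin n) (Fin n) ℂ) *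
      (hD.eigenvectorUnitary : Matrix (Fin n) (Fin n) ℂ) = 1 :=
    Unitary.coe_star_mul_self hD.eigenvectorUnitary
  have htrD : (D ^ k).trace = ((∑ i, hD.eigenvalues i ^ k : ℝ) : ℂ) := by
    conv_lhs => rw [hD.spectral_theorem]
    rw [← map_pow, Unitary.conjStarAlgAut_apply, Matrix.trace_mul_cycle, hUU, one_mul,
      Matrix.diagonal_pow, Matrix.trace_diagonal]
    push_cast
    rfl
  have hDpsd : D.PosSemidef := by
    rw [← hWW]; exact Matrix.posSemidef_self_mul_conjTranspose W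
  have hd0 : ∀ i, 0 ≤ hD.eigenvalues i := fun i => hDpsd.eigenvalues_nonneg i
  -- upper bound
  obtain ⟨Z, hZdef⟩ : ∃ Z : Matrix (Fin n) (Fin n) ℂ,
      Z = (2⁻¹ : ℂ) • (1 : Matrix (Fin n) (Fin n) ℂ) - X := ⟨_, rfl⟩
  have hZh : Zᴴ = Z := by
    rw [hZdef, Matrix.conjTranspose_sub, Matrix.conjTranspose_smul, Matrix.conjTranspose_one, hXh]
    congr 2
    simp
  have hE : (4⁻¹ : ℂ) • (1 : Matrix (Fin n) (Fin n) ℂ) - D = Z * Zᴴ := by
    rw [hZh, hZdef, hDdef]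
    simp only [sub_mul, mul_sub, Matrix.smul_mul, Matrix.mul_smul, one_mul, mul_one, smul_smul,
      smul_sub]
    have h4 : (2⁻¹ * 2⁻¹ : ℂ) = 4⁻¹ := by norm_num
    rw [h4]
    module
  have hEpsd : ((4⁻¹ : ℂ) • (1 : Matrix (Fin n) (Fin n) ℂ) - D).PosSemidef := by
    rw [hE]; exact Matrix.posSemidef_self_mul_conjTranspose Z
  have h2 := hD.conjStarAlgAut_star_eigenvectorUnitary
  rw [Unitary.conjStarAlgAut_star_apply] at h2
  have hd4 : ∀ i, hD.eigenvalues i ≤ 4⁻¹ := by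
    intro i
    have h1 := hEpsd.conjTranspose_mul_mul_same (hD.eigenvectorUnitary : Matrix (Fin n) (Fin n) ℂ)
    have h3 : (hD.eigenvectorUnitary : Matrix (Fin n) (Fin n) ℂ)ᴴ *
        ((4⁻¹ : ℂ) • (1 : Matrix (Fin n) (Fin n) ℂ) - D) *
        (hD.eigenvectorUnitary : Matrix (Fin n) (Fin n) ℂ) =
        (4⁻¹ : ℂ) • (1 : Matrix (Fin n) (Fin n) ℂ) -
          Matrix.diagonal (RCLike.ofReal ∘ hD.eigenvalues) := by
      rw [Matrix.mul_sub, Matrix.sub_mul, Matrix.mul_smul, Matrix.smul_mul, mul_one,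
        ← Matrix.star_eq_conjTranspose, hUU, h2]
    rw [h3] at h1
    have h4 := h1.diag_nonneg (i := i)
    simp only [Matrix.sub_apply, Matrix.smul_apply, Matrix.one_apply_eq, Matrix.diagonal_apply_eq,
      Function.comp_apply, smul_eq_mul, mul_one] at h4
    have h5 : (0 : ℂ) ≤ ((4⁻¹ - hD.eigenvalues i : ℝ) : ℂ) := by
      push_cast
      exact h4
    have h6 := Complex.zero_le_real.mp h5
    linarith
  refine ⟨∑ i, hD.eigenvalues i ^ k, Finset.sum_nonneg (fun i _ => pow_nonneg (hd0 i) k),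
    ?_, ?_, ?_⟩
  · calc ∑ i, hD.eigenvalues i ^ k ≤ ∑ _i : Fin n, (4⁻¹ : ℝ) ^ k :=
          Finset.sum_le_sum (fun i _ => pow_le_pow_left₀ (hd0 i) (hd4 i) k)
      _ = (n : ℝ) * (4⁻¹ : ℝ) ^ k := by simp
      _ = (n : ℝ) / 4 ^ k := by rw [inv_pow, div_eq_mul_inv]
  · rw [htr, htrD]
  · intro hr
    have h5 : ∀ i, hD.eigenvalues i = 0 := by
      intro i
      have := (Finset.sum_eq_zero_iff_of_nonneg (fun i _ => pow_nonneg (hd0 i) k)).mp hr i
        (Finset.mem_univ i)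
      exact (pow_eq_zero_iff hk.ne').mp this
    have hD0 : D = 0 := hD.eigenvalues_eq_zero_iff.mp (funext h5)
    have hW0 : W = 0 := Matrix.self_mul_conjTranspose_eq_zero.mp (hWW.trans hD0)
    have h6 : P * Q = P * Q * P := by
      have h := hW0
      rw [hW, mul_sub, mul_one, sub_eq_zero] at h
      exact h
    have h7 : Q * P = P * Q * P := by
      have h := congrArg Matrix.conjTranspose h6
      rw [Matrix.conjTranspose_mul, Matrix.conjTranspose_mul, Matrix.conjTranspose_mul, hP, hQ]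
        at h
      rw [h, mul_assoc]
    rw [h7]
    exact h6

end Cfsg.Agent.Lib.helper50.S4484
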