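import Mathlib

/-!
# S3371 piece C: central elements act fixed-point-freely on an indecomposable module
-/

set_option autoImplicit false

namespace Cfsg.Agent.Lib.helper50

/-- PIECE C -/
theorem ht_central_fpf {q : ℕ} [Fact q.Prime] {V : Type*} [AddCommGroup V] [Module (ZMod q) V] [Finite V]
    {G : Type*} [Group G] [Finite G] {p : ℕ} [Fact p.Prime] (hG : IsPGroup p G) (hpq : p ≠ q)
    (ρ : G →* (V ≃ₗ[ZMod q] V)) (hρ : Function.Injective ρ)
    (hB : ∀ W W' : Submodule (ZMod q) V, (∀ g : G, ∀ w ∈ W, ρ g w ∈ W) →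
      (∀ g : G, ∀ w ∈ W', ρ g w ∈ W') → IsCompl W W' → W = ⊥ ∨ W' = ⊥) :
    ∀ z ∈ Subgroup.center G, z ≠ 1 → ∀ v : V, ρ z v = v → v = 0 := by
  classical
  intro z hz hz1 v hv
  by_contra hv0
  obtain ⟨A, hA⟩ : ∃ A : Module.End (ZMod q) V, ∀ x, A x = ρ z x :=
    ⟨((ρ z : V ≃ₗ[ZMod q] V) : V →ₗ[ZMod q] V), fun x => rfl⟩
  have hcomm : ∀ g : G, ∀ x : V, ρ z (ρ g x) = ρ g (ρ z x) := by
    intro g x
    have h1 : z * g = g * z := (Subgroup.mem_center_iff.mp hz g).symm
    have h2 : ρ (z * g) x = ρ (g * z) x := by rw [h1]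
    rw [map_mul, map_mul] at h2
    exact h2
  obtain ⟨T, hT⟩ : ∃ T : V →ₗ[ZMod q] V, ∀ x, T x = ρ z x - x :=
    ⟨A - 1, fun x => by rw [LinearMap.sub_apply, hA]; rfl⟩
  have hTA : T = A - 1 := by
    ext x
    rw [hT, LinearMap.sub_apply, hA]; rfl
  have hWinv : ∀ g : G, ∀ w ∈ LinearMap.ker T, ρ g w ∈ LinearMap.ker T := by
    intro g w hw
    rw [LinearMap.mem_ker, hT] at hw ⊢
    rw [hcomm, sub_eq_zero.mp hw, sub_self]
  have hW'inv : ∀ g : G, ∀ w ∈ LinearMap.range T, ρ g w ∈ LinearMap.range T := by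
    rintro g _ ⟨u, rfl⟩
    refine ⟨ρ g u, ?_⟩
    rw [hT, hT, hcomm, map_sub]
  have hpowA : ∀ i : ℕ, ∀ x, (A ^ i) x = ρ (z ^ i) x := by
    intro i
    induction i with
    | zero => intro x; simp
    | succ i ih =>
      intro x
      rw [pow_succ, Module.End.mul_apply, ih, hA, pow_succ, map_mul]
      rfl
  obtain ⟨a, ha⟩ := hG z
  have hAn : A ^ (p ^ a) = 1 := by
    ext x
    rw [hpowA, ha, map_one]
    rfl
  have hn0 : ((p ^ a : ℕ) : ZMod q) ≠ 0 := by
    intro h0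
    rw [ZMod.natCast_eq_zero_iff] at h0
    have h1 : q ∣ p := Nat.Prime.dvd_of_dvd_pow (Fact.out) h0
    exact hpq ((Nat.prime_dvd_prime_iff_eq Fact.out Fact.out).mp h1).symm
  have hinf : LinearMap.ker T ⊓ LinearMap.range T = ⊥ := by
    rw [eq_bot_iff]
    rintro w ⟨hw1, ⟨u, rfl⟩⟩
    rw [Submodule.mem_bot]
    have hw1' : T (T u) = 0 := hw1
    have hAT : A (T u) = T u := by
      rw [hT, ← hA] at hw1'
      exact sub_eq_zero.mp hw1'
    have hgs : (∑ i ∈ Finset.range (p ^ a), A ^ i) * (A - 1) = A ^ (p ^ a) - 1 :=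
      geom_sum_mul A (p ^ a)
    have h0 : (∑ i ∈ Finset.range (p ^ a), A ^ i) (T u) = 0 := by
      have h1 : ((∑ i ∈ Finset.range (p ^ a), A ^ i) * (A - 1)) u = 0 := by
        rw [hgs, hAn, sub_self]; rfl
      rw [Module.End.mul_apply, ← hTA] at h1
      exact h1
    have hfix : ∀ i : ℕ, (A ^ i) (T u) = T u := by
      intro i
      induction i with
      | zero => simp
      | succ i ih => rw [pow_succ, Module.End.mul_apply, hAT, ih]
    rw [LinearMap.sum_apply] at h0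
    simp only [hfix] at h0
    rw [Finset.sum_const, Finset.card_range] at h0
    have h2 : ((p ^ a : ℕ) : ZMod q) • T u = 0 := by
      rw [Nat.cast_smul_eq_nsmul]; exact h0
    exact (smul_eq_zero.mp h2).resolve_left hn0
  have hsup : LinearMap.ker T ⊔ LinearMap.range T = ⊤ := by
    apply Submodule.eq_top_of_finrank_eq
    have h1 := LinearMap.finrank_range_add_finrank_ker T
    have h2 := Submodule.finrank_sup_add_finrank_inf_eq (LinearMap.ker T) (LinearMap.range T)
    rw [hinf, finrank_bot] at h2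
    omega
  have hcompl : IsCompl (LinearMap.ker T) (LinearMap.range T) :=
    ⟨disjoint_iff.mpr hinf, codisjoint_iff.mpr hsup⟩
  rcases hB _ _ hWinv hW'inv hcompl with h | h
  · have hvk : v ∈ LinearMap.ker T := by
      rw [LinearMap.mem_ker, hT, hv, sub_self]
    rw [h] at hvk
    exact hv0 ((Submodule.mem_bot _).mp hvk)
  · apply hz1
    apply hρ
    rw [map_one]
    ext x
    have hx : T x ∈ LinearMap.range T := ⟨x, rfl⟩
    rw [h, Submodule.mem_bot, hT] at hx
    rw [sub_eq_zero.mp hx]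
    rfl

end Cfsg.Agent.Lib.helper50
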