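import Mathlib
import Cfsg.Agent.Lib.helper75.PQDefs
import Cfsg.Agent.Lib.helper1.Coprime

/-!
# S4306 piece C4: `R = [R, S]` in a minimal tower
-/

set_option autoImplicit false

namespace Cfsg.Agent.Lib.helper75.PQ

open scoped commutatorElement

section C4
variable {Γ : Type*} [Group Γ] [Finite Γ] {F : Type*} [Field F]
  {W : Type*} [AddCommGroup W] [Module F W]
  {ρ : Γ →* Module.End F W} {K H S R : Subgroup Γ} {p q s r : ℕ}

/-- An element normalizing two subgroups normalizes their commutator. -/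
theorem c4_mem_normalizer_commutator {A B : Subgroup Γ} {g : Γ}
    (hA : g ∈ Subgroup.normalizer (A : Set Γ)) (hB : g ∈ Subgroup.normalizer (B : Set Γ)) :
    g ∈ Subgroup.normalizer ((⁅A, B⁆ : Subgroup Γ) : Set Γ) := by
  have key : ∀ g : Γ, g ∈ Subgroup.normalizer (A : Set Γ) → g ∈ Subgroup.normalizer (B : Set Γ) →
      ∀ x ∈ ⁅A, B⁆, g * x * g⁻¹ ∈ ⁅A, B⁆ := by
    intro g hA hB x hx
    have hmapA : A.map (MulAut.conj g).toMonoidHom ≤ A := by
      rintro _ ⟨a, ha, rfl⟩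
      exact (Subgroup.mem_normalizer_iff.mp hA a).mp ha
    have hmapB : B.map (MulAut.conj g).toMonoidHom ≤ B := by
      rintro _ ⟨a, ha, rfl⟩
      exact (Subgroup.mem_normalizer_iff.mp hB a).mp ha
    have h3 := Subgroup.map_commutator A B (MulAut.conj g).toMonoidHom
    have h4 : (MulAut.conj g).toMonoidHom x ∈ (⁅A, B⁆ : Subgroup Γ).map (MulAut.conj g).toMonoidHom :=
      Subgroup.mem_map_of_mem _ hx
    rw [h3] at h4
    exact Subgroup.commutator_mono hmapA hmapB h4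
  rw [Subgroup.mem_normalizer_iff]
  intro x
  constructor
  · exact key g hA hB x
  · intro hx
    have h1 := key g⁻¹ (Subgroup.inv_mem _ hA) (Subgroup.inv_mem _ hB) _ hx
    simpa [mul_assoc] using h1

theorem Tower.c4_coprime_SR (T : Tower ρ K H S R p q s r) :
    (Nat.card S).Coprime (Nat.card R) := by
  haveI : Fact s.Prime := ⟨T.hs⟩
  haveI : Fact r.Prime := ⟨T.hr⟩
  obtain ⟨n, hn⟩ := IsPGroup.iff_card.mp T.Sgrp
  obtain ⟨m, hm⟩ := IsPGroup.iff_card.mp T.Rgrp
  rw [hn, hm]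
  exact Nat.Coprime.pow _ _ ((Nat.coprime_primes T.hs T.hr).mpr T.hsr)

theorem Tower.c4_solvable_S (T : Tower ρ K H S R p q s r) : Group.IsSolvable S := by
  haveI : Fact s.Prime := ⟨T.hs⟩
  haveI : Group.IsNilpotent S := T.Sgrp.isNilpotent
  infer_instance

/-- C4 (MR1): `R = [R, S]`. -/
theorem MinTower.comm_RS (T : MinTower ρ K H S R p q s r) : ⁅R, S⁆ = R := by
  have hle : ⁅R, S⁆ ≤ R := Cfsg.Agent.Lib.helper1.commutator_le_of_le_normalizer T.SR
  by_contra hne
  have hcz : Cz S ⁅R, S⁆ := T.minR ⁅R, S⁆ hle hne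
    (Cfsg.Agent.Lib.helper1.right_le_normalizer_commutator T.SR)
    (fun k hk => c4_mem_normalizer_commutator (T.KR hk) (T.KS hk))
    (fun h hh => c4_mem_normalizer_commutator (T.HR hh) (T.HS hh))
  have h2 : ⁅⁅R, S⁆, S⁆ = ⁅R, S⁆ :=
    Cfsg.Agent.Lib.helper1.commutator_commutator_eq S R T.SR T.toTower.c4_coprime_SR
      (Or.inl T.toTower.c4_solvable_S)
  have h3 : ⁅⁅R, S⁆, S⁆ = ⊥ := by
    rw [eq_bot_iff, Subgroup.commutator_le]
    intro x hx y hy
    rw [Subgroup.mem_bot, commutatorElement_def]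
    have := hcz y hy x hx
    rw [mul_inv_eq_one, mul_inv_eq_iff_eq_mul]
    exact this.symm
  rw [h3] at h2
  apply T.ncz
  intro y hy x hx
  have h5 : ⁅x, y⁆ ∈ (⁅R, S⁆ : Subgroup Γ) := Subgroup.commutator_mem_commutator hx hy
  rw [← h2, Subgroup.mem_bot, commutatorElement_def, mul_inv_eq_one, mul_inv_eq_iff_eq_mul] at h5
  exact h5.symm

end C4

end Cfsg.Agent.Lib.helper75.PQ
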