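import Mathlib
import Cfsg.Agent.Lib.helper75.PQDefs
import Cfsg.Agent.Lib.helper1.Coprime
import Cfsg.Agent.Lib.helper50.PQ_C4

/-!
# S4306 piece C5: nonabelian `R` in a minimal tower has `C_R(S) = Z(R)` and class two
-/

set_option autoImplicit false

namespace Cfsg.Agent.Lib.helper75.PQ

open scoped commutatorElement

section C5
variable {Γ : Type*} [Group Γ] [Finite Γ] {F : Type*} [Field F]
  {W : Type*} [AddCommGroup W] [Module F W]
  {ρ : Γ →* Module.End F W} {K H S R : Subgroup Γ} {p q s r : ℕ}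

/-- An element normalizing `R` normalizes its center. -/
theorem c5_mem_normalizer_ZR {R : Subgroup Γ} {g : Γ}
    (hR : g ∈ Subgroup.normalizer (R : Set Γ)) :
    g ∈ Subgroup.normalizer ((ZR R : Subgroup Γ) : Set Γ) := by
  have key : ∀ g : Γ, g ∈ Subgroup.normalizer (R : Set Γ) →
      ∀ z ∈ ZR R, g * z * g⁻¹ ∈ ZR R := by
    intro g hg z hz
    rw [mem_ZR] at hz ⊢
    refine ⟨(Subgroup.mem_normalizer_iff.mp hg z).mp hz.1, ?_⟩
    intro x hx
    have hx' : g⁻¹ * x * g ∈ R := by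
      have := (Subgroup.mem_normalizer_iff.mp (Subgroup.inv_mem _ hg) x).mp hx
      simpa using this
    have h1 := hz.2 _ hx'
    calc x * (g * z * g⁻¹) = g * ((g⁻¹ * x * g) * z) * g⁻¹ := by group
      _ = g * (z * (g⁻¹ * x * g)) * g⁻¹ := by rw [h1]
      _ = g * z * g⁻¹ * x := by group
  rw [Subgroup.mem_normalizer_iff]
  intro x
  constructor
  · exact key g hR x
  · intro hx
    have h1 := key g⁻¹ (Subgroup.inv_mem _ hR) _ hx
    simpa [mul_assoc] using h1

/-- C5 (MR3): if `R` is not abelian then `C_R(S) = Z(R)` and `R` has class two. -/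
theorem MinTower.center_R (T : MinTower ρ K H S R p q s r)
    (hnab : ¬ ∀ x ∈ R, ∀ x' ∈ R, x * x' = x' * x) :
    (∀ x ∈ R, (∀ y ∈ S, y * x = x * y) ↔ (∀ x' ∈ R, x * x' = x' * x)) ∧
    (∀ x ∈ R, ∀ x' ∈ R, ∀ u ∈ R, ⁅x, x'⁆ * u = u * ⁅x, x'⁆) := by
  classical
  -- the center is centralized by `S`
  have hZne : ZR R ≠ R := by
    intro h
    apply hnab
    intro x hx x' hx'
    have hx2 : x' ∈ ZR R := by rw [h]; exact hx'
    exact (mem_ZR.mp hx2).2 x hx
  have hZ : Cz S (ZR R) := T.minR (ZR R) inf_le_left hZne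
    (fun y hy => c5_mem_normalizer_ZR (T.SR hy))
    (fun k hk => c5_mem_normalizer_ZR (T.KR hk))
    (fun h hh => c5_mem_normalizer_ZR (T.HR hh))
  -- the derived subgroup is centralized by `S`
  have hRR_le : ⁅R, R⁆ ≤ R := by
    rw [Subgroup.commutator_le]
    intro a ha b hb
    rw [commutatorElement_def]
    exact R.mul_mem (R.mul_mem (R.mul_mem ha hb) (R.inv_mem ha)) (R.inv_mem hb)
  have hRRne : ⁅R, R⁆ ≠ R := by
    intro h
    haveI : Fact r.Prime := ⟨T.hr⟩
    haveI : Group.IsNilpotent R := T.Rgrp.isNilpotent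
    haveI : Nontrivial R := by
      by_contra hnt
      rw [not_nontrivial_iff_subsingleton] at hnt
      apply hnab
      intro x hx x' hx'
      have h1 : (⟨x, hx⟩ : R) = 1 := Subsingleton.elim _ _
      have h2 : x = 1 := by simpa using congrArg Subtype.val h1
      rw [h2]; simp
    have h1 : _root_.commutator R < ⊤ := Group.IsSolvable.commutator_lt_top_of_nontrivial R
    have h2 : (_root_.commutator R).map R.subtype = ⁅R, R⁆ := Subgroup.map_subtype_commutator R
    have h3 : (_root_.commutator R).map R.subtype = (⊤ : Subgroup R).map R.subtype := by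
      rw [h2, h, ← MonoidHom.range_eq_map, Subgroup.range_subtype]
    have h4 := Subgroup.map_injective (Subgroup.subtype_injective R) h3
    exact (ne_of_lt h1) h4
  have hRR : Cz S ⁅R, R⁆ := T.minR ⁅R, R⁆ hRR_le hRRne
    (fun y hy => c4_mem_normalizer_commutator (T.SR hy) (T.SR hy))
    (fun k hk => c4_mem_normalizer_commutator (T.KR hk) (T.KR hk))
    (fun h hh => c4_mem_normalizer_commutator (T.HR hh) (T.HR hh))
  -- D := C_R(S)
  set D : Subgroup Γ := R ⊓ Subgroup.centralizer (S : Set Γ) with hD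
  have hmemD : ∀ x, x ∈ D ↔ x ∈ R ∧ ∀ y ∈ S, y * x = x * y := by
    intro x
    rw [hD, Subgroup.mem_inf, Subgroup.mem_centralizer_iff]
    rfl
  have hRRD : ⁅R, R⁆ ≤ D := by
    intro x hx
    rw [hmemD]
    exact ⟨hRR_le hx, fun y hy => hRR y hy x hx⟩
  have hDS : ⁅D, S⁆ = ⊥ := by
    rw [eq_bot_iff, Subgroup.commutator_le]
    intro d hd y hy
    rw [Subgroup.mem_bot, commutatorElement_def, mul_inv_eq_one, mul_inv_eq_iff_eq_mul]
    exact (((hmemD d).mp hd).2 y hy).symm
  have h1 : ⁅⁅R, D⁆, S⁆ = ⊥ := by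
    rw [eq_bot_iff, ← hDS]
    exact Subgroup.commutator_mono ((Subgroup.commutator_mono le_rfl inf_le_left).trans hRRD) le_rfl
  have h2 : ⁅⁅D, S⁆, R⁆ = ⊥ := by
    rw [hDS]
    exact Subgroup.commutator_bot_left R
  have h3 : ⁅⁅S, R⁆, D⁆ = ⊥ := Subgroup.commutator_commutator_eq_bot_of_rotate h1 h2
  have h4 : ⁅R, D⁆ = ⊥ := by
    rw [Subgroup.commutator_comm S R, T.comm_RS] at h3
    exact h3
  have hcomm : ∀ u ∈ R, ∀ d ∈ D, u * d = d * u := by
    intro u hu d hd
    have h5 : ⁅u, d⁆ ∈ (⁅R, D⁆ : Subgroup Γ) := Subgroup.commutator_mem_commutator hu hd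
    rw [h4, Subgroup.mem_bot, commutatorElement_def, mul_inv_eq_one, mul_inv_eq_iff_eq_mul] at h5
    exact h5
  refine ⟨?_, ?_⟩
  · intro x hx
    constructor
    · intro hxS x' hx'
      exact (hcomm x' hx' x ((hmemD x).mpr ⟨hx, hxS⟩)).symm
    · intro hxR y hy
      have hxZ : x ∈ ZR R := mem_ZR.mpr ⟨hx, fun x' hx' => (hxR x' hx').symm⟩
      exact hZ y hy x hxZ
  · intro x hx x' hx' u hu
    have h5 : ⁅x, x'⁆ ∈ D := hRRD (Subgroup.commutator_mem_commutator hx hx')
    exact (hcomm u hu _ h5).symm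

end C5

end Cfsg.Agent.Lib.helper75.PQ
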