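import Mathlib

/-! S4504 split, piece O0' (`card_eq_sylow_mul`), self-contained: `|C(P)| = p |Z(G)|` through a
Schur–Zassenhaus complement of `P` in `C(P)`. -/

set_option autoImplicit false
set_option linter.unusedVariables false

namespace Cfsg.Agent.Lib.helper2.BG

variable {G : Type*} [Group G] [Fintype G]

/-- `|C(P)| = p |Z(G)|` when the `p`-regular elements of `C(P)` are exactly the central ones. -/
theorem helper50_card_cent (p : ℕ) [Fact p.Prime] (P : Sylow p G) (hP : Nat.card P = p)
    (hK : ∀ k ∈ Subgroup.centralizer ((P : Subgroup G) : Set G), ¬ p ∣ orderOf k →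
      k ∈ Subgroup.center G)
    (hZ : ∀ z ∈ Subgroup.center G, ¬ p ∣ orderOf z) :
    Nat.card (Subgroup.centralizer ((P : Subgroup G) : Set G)) =
      p * Nat.card (Subgroup.center G) := by
  classical
  have hp : p.Prime := Fact.out
  -- `P` is abelian
  have hcyc : IsCyclic (P : Subgroup G) := isCyclic_of_prime_card hP
  obtain ⟨g, hg⟩ := hcyc.exists_generator
  have hcomm : ∀ a ∈ (P : Subgroup G), ∀ b ∈ (P : Subgroup G), a * b = b * a := by
    intro a ha b hb
    obtain ⟨i, hi⟩ := Subgroup.mem_zpowers_iff.mp (hg ⟨a, ha⟩)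
    obtain ⟨j, hj⟩ := Subgroup.mem_zpowers_iff.mp (hg ⟨b, hb⟩)
    have h1 : (⟨a, ha⟩ : (P : Subgroup G)) * ⟨b, hb⟩ = ⟨b, hb⟩ * ⟨a, ha⟩ := by
      rw [← hi, ← hj]
      exact zpow_mul_comm g i j
    exact congrArg Subtype.val h1
  have hZC : Subgroup.center G ≤ Subgroup.centralizer ((P : Subgroup G) : Set G) :=
    Subgroup.center_le_centralizer _
  obtain ⟨C, hCdef⟩ : ∃ C : Subgroup G, C = Subgroup.centralizer ((P : Subgroup G) : Set G) :=
    ⟨_, rfl⟩
  rw [← hCdef] at hK hZC ⊢
  have hCmem : ∀ c ∈ C, ∀ y ∈ (P : Subgroup G), y * c = c * y := by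
    intro c hc
    rw [hCdef] at hc
    exact Subgroup.mem_centralizer_iff.mp hc
  have hPC : (P : Subgroup G) ≤ C := by
    intro a ha
    rw [hCdef, Subgroup.mem_centralizer_iff]
    intro b hb
    exact hcomm b hb a ha
  -- the normal Hall subgroup `P` of `C`
  have hNn : ((P : Subgroup G).subgroupOf C).Normal := by
    constructor
    intro n hn c
    have hnP : (n : G) ∈ (P : Subgroup G) := Subgroup.mem_subgroupOf.mp hn
    have hc : (n : G) * (c : G) = (c : G) * (n : G) := hCmem c c.2 _ hnP
    have e : c * n * c⁻¹ = n := by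
      apply Subtype.ext
      rw [Subgroup.coe_mul, Subgroup.coe_mul, Subgroup.coe_inv, ← hc, mul_inv_cancel_right]
    rw [e]
    exact hn
  have hNcard : Nat.card ↥((P : Subgroup G).subgroupOf C) = p := by
    exact (Nat.card_congr (Subgroup.subgroupOfEquivOfLe hPC).toEquiv).trans hP
  have hidx : ((P : Subgroup G).subgroupOf C).index ∣ (P : Subgroup G).index :=
    Subgroup.relIndex_dvd_index_of_le hPC
  have hcop0 : p.Coprime ((P : Subgroup G).subgroupOf C).index := by
    have h1 := P.card_coprime_index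
    rw [hP] at h1
    exact Nat.Coprime.coprime_dvd_right hidx h1
  have hcop : (Nat.card ↥((P : Subgroup G).subgroupOf C)).Coprime
      ((P : Subgroup G).subgroupOf C).index := by
    rw [hNcard]
    exact hcop0
  obtain ⟨K', hK'⟩ := Subgroup.exists_right_complement'_of_coprime hcop
  have hmul := hK'.card_mul_card
  have hK'idx : ((P : Subgroup G).subgroupOf C).index = Nat.card K' := hK'.symm.index_eq_card
  have hK'cop : p.Coprime (Nat.card K') := by
    rw [← hK'idx]
    exact hcop0
  -- `K'` consists of central elements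
  have hK'Z : K'.map C.subtype ≤ Subgroup.center G := by
    rintro _ ⟨k, hk, rfl⟩
    apply hK _ k.2
    intro hdvd
    have h1 : orderOf (k : G) = orderOf k := Subgroup.orderOf_coe k
    have h2 : orderOf k = orderOf (⟨k, hk⟩ : K') := Subgroup.orderOf_coe (⟨k, hk⟩ : K')
    have h3 : orderOf (⟨k, hk⟩ : K') ∣ Nat.card K' := orderOf_dvd_natCard _
    rw [h1, h2] at hdvd
    exact (Nat.Prime.coprime_iff_not_dvd hp).mp hK'cop (dvd_trans hdvd h3)
  -- the centre is a `p'`-group
  have hZcop : (Nat.card (Subgroup.center G)).Coprime p := by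
    rw [Nat.coprime_comm, Nat.Prime.coprime_iff_not_dvd hp]
    intro hdvd
    obtain ⟨z, hz⟩ := exists_prime_orderOf_dvd_card' p hdvd
    have h1 := hZ z z.2
    rw [Subgroup.orderOf_coe, hz] at h1
    exact h1 dvd_rfl
  have h1 : Nat.card (Subgroup.center G) ∣ Nat.card K' := by
    have h2 : Nat.card (Subgroup.center G) ∣ Nat.card C := Subgroup.card_dvd_of_le hZC
    rw [← hmul, hNcard] at h2
    exact hZcop.dvd_of_dvd_mul_left h2
  have h2 : Nat.card K' ∣ Nat.card (Subgroup.center G) := by
    have h3 := Subgroup.card_dvd_of_le hK'Z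
    rwa [Subgroup.card_map_of_injective (Subgroup.subtype_injective C)] at h3
  rw [← hmul, hNcard, Nat.dvd_antisymm h2 h1]

/-- O0' (the index of the normalizer). -/
theorem card_eq_sylow_mul (p : ℕ) [Fact p.Prime] (P : Sylow p G) (hP : Nat.card P = p)
    (x : G) (hx : x ∈ (P : Subgroup G)) (hx1 : x ≠ 1) (H : Subgroup (ZMod p)ˣ)
    (hHc : Nat.card H = (Subgroup.centralizer ((P : Subgroup G) : Set G)).relIndex
        (Subgroup.normalizer ((P : Subgroup G) : Set G)))
    (hK : ∀ k ∈ Subgroup.centralizer ((P : Subgroup G) : Set G), ¬ p ∣ orderOf k →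
      k ∈ Subgroup.center G)
    (hZ : ∀ z ∈ Subgroup.center G, ¬ p ∣ orderOf z) :
    Nat.card G = Nat.card (Sylow p G) * (Nat.card H * p * Nat.card (Subgroup.center G)) := by
  have hC := helper50_card_cent p P hP hK hZ
  have hCN : Subgroup.centralizer ((P : Subgroup G) : Set G) ≤
      Subgroup.normalizer ((P : Subgroup G) : Set G) := Subgroup.centralizer_le_normalizer _
  have h1 := Subgroup.relIndex_mul_relIndex (⊥ : Subgroup G) _ _ bot_le hCN
  rw [Subgroup.relIndex_bot_left, Subgroup.relIndex_bot_left] at h1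
  have h2 : Nat.card (Sylow p G) = (Subgroup.normalizer ((P : Subgroup G) : Set G)).index :=
    Sylow.card_eq_index_normalizer P
  have h3 := Subgroup.card_mul_index (Subgroup.normalizer ((P : Subgroup G) : Set G))
  rw [← h3, h2, ← h1, hC, hHc]
  ring

end Cfsg.Agent.Lib.helper2.BG
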