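import Mathlib
import Cfsg.Prelude.Def_LocalStructure
import Cfsg.Agent.Lib.helper7.CardSL

/-!
# S3875 piece X2: `PSL(2,p)` is not `p`-closed and has order `p (p^2 - 1) / 2`
-/

set_option autoImplicit false

namespace Cfsg.Agent.Lib.helper50.S3875

open Cfsg

theorem x2_upper_pow (R : Type*) [CommRing R] (k : ℕ) :
    (!![1, 1; 0, 1] : Matrix (Fin 2) (Fin 2) R) ^ k = !![1, (k : R); 0, 1] := by
  induction k with
  | zero => simp [Matrix.one_fin_two]
  | succ k ih =>
    rw [pow_succ, ih]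
    ext i j
    fin_cases i <;> fin_cases j <;> simp [Matrix.mul_apply, Fin.sum_univ_two]
    ring

theorem x2_lower_pow (R : Type*) [CommRing R] (k : ℕ) :
    (!![1, 0; -1, 1] : Matrix (Fin 2) (Fin 2) R) ^ k = !![1, 0; -(k : R), 1] := by
  induction k with
  | zero => simp [Matrix.one_fin_two]
  | succ k ih =>
    rw [pow_succ, ih]
    ext i j
    fin_cases i <;> fin_cases j <;> simp [Matrix.mul_apply, Fin.sum_univ_two]
    ring

/-- PIECE X2. Existence: `PSL(2,p)`. -/
theorem exists_psl (p : ℕ) [Fact p.Prime] (hp : p ≠ 2) :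
    ∃ (H : Type) (_ : Group H) (_ : Finite H), Nat.card H = p * (p ^ 2 - 1) / 2 ∧
      ¬ IsPClosed p H := by
  classical
  have hpp : p.Prime := Fact.out
  have h2 : (2 : ZMod p) ≠ 0 := by
    intro h
    have h' : ((2 : ℕ) : ZMod p) = 0 := by exact_mod_cast h
    rw [ZMod.natCast_eq_zero_iff] at h'
    exact hp ((Nat.prime_dvd_prime_iff_eq hpp Nat.prime_two).mp h')
  refine ⟨Matrix.ProjectiveSpecialLinearGroup (Fin 2) (ZMod p), inferInstance, inferInstance,
    ?_, ?_⟩
  · have h := Cfsg.Agent.Lib.helper7.two_mul_card_PSL2 (F := ZMod p) (q := p) (ZMod.card p) h2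
    exact Nat.eq_div_of_mul_eq_right (by norm_num) h
  · intro hcl
    obtain ⟨A, hA⟩ : ∃ A : Matrix.SpecialLinearGroup (Fin 2) (ZMod p),
        (A : Matrix (Fin 2) (Fin 2) (ZMod p)) = !![1, 1; 0, 1] :=
      ⟨⟨!![1, 1; 0, 1], by simp [Matrix.det_fin_two]⟩, rfl⟩
    obtain ⟨B, hB⟩ : ∃ B : Matrix.SpecialLinearGroup (Fin 2) (ZMod p),
        (B : Matrix (Fin 2) (Fin 2) (ZMod p)) = !![1, 0; -1, 1] :=
      ⟨⟨!![1, 0; -1, 1], by simp [Matrix.det_fin_two]⟩, rfl⟩
    have hAp : A ^ p = 1 := by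
      apply Subtype.ext
      rw [Matrix.SpecialLinearGroup.coe_pow, hA, x2_upper_pow, ZMod.natCast_self]
      simp [Matrix.one_fin_two]
    have hBp : B ^ p = 1 := by
      apply Subtype.ext
      rw [Matrix.SpecialLinearGroup.coe_pow, hB, x2_lower_pow, ZMod.natCast_self]
      simp [Matrix.one_fin_two]
    have hW : ((A * B * A : Matrix.SpecialLinearGroup (Fin 2) (ZMod p)) :
        Matrix (Fin 2) (Fin 2) (ZMod p)) = !![0, 1; -1, 0] := by
      rw [Matrix.SpecialLinearGroup.coe_mul, Matrix.SpecialLinearGroup.coe_mul, hA, hB]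
      ext i j
      fin_cases i <;> fin_cases j <;> simp [Matrix.mul_apply, Fin.sum_univ_two]
    have hWW : (((A * B * A) * (A * B * A) : Matrix.SpecialLinearGroup (Fin 2) (ZMod p)) :
        Matrix (Fin 2) (Fin 2) (ZMod p)) = !![-1, 0; 0, -1] := by
      rw [Matrix.SpecialLinearGroup.coe_mul, hW]
      ext i j
      fin_cases i <;> fin_cases j <;> simp [Matrix.mul_apply, Fin.sum_univ_two]
    have hWnc : A * B * A ∉ Subgroup.center (Matrix.SpecialLinearGroup (Fin 2) (ZMod p)) := by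
      intro hc
      rw [Matrix.SpecialLinearGroup.mem_center_iff] at hc
      obtain ⟨r, -, hr⟩ := hc
      have h01 := congrFun (congrFun hr 0) 1
      rw [hW] at h01
      simp at h01
    have hWWc : (A * B * A) * (A * B * A) ∈
        Subgroup.center (Matrix.SpecialLinearGroup (Fin 2) (ZMod p)) := by
      rw [Matrix.SpecialLinearGroup.mem_center_iff]
      refine ⟨-1, by simp, ?_⟩
      rw [hWW]
      ext i j
      fin_cases i <;> fin_cases j <;> simp [Matrix.scalar_apply]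
    -- images in the quotient
    obtain ⟨π, hπ⟩ : ∃ π : Matrix.SpecialLinearGroup (Fin 2) (ZMod p) →*
        Matrix.ProjectiveSpecialLinearGroup (Fin 2) (ZMod p),
        ∀ x, π x = 1 ↔ x ∈ Subgroup.center (Matrix.SpecialLinearGroup (Fin 2) (ZMod p)) :=
      ⟨QuotientGroup.mk' _, fun x => QuotientGroup.eq_one_iff x⟩
    have hw1 : π A * π B * π A ≠ 1 := by
      rw [← map_mul, ← map_mul, Ne, hπ]
      exact hWnc
    have hw2 : (π A * π B * π A) ^ 2 = 1 := by
      rw [← map_mul, ← map_mul, sq, ← map_mul, hπ]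
      exact hWWc
    have hPG : ∀ x : Matrix.ProjectiveSpecialLinearGroup (Fin 2) (ZMod p), x ^ p = 1 →
        IsPGroup p (Subgroup.zpowers x) := by
      intro x hx
      rintro ⟨g, hg⟩
      refine ⟨1, ?_⟩
      obtain ⟨i, rfl⟩ := Subgroup.mem_zpowers_iff.mp hg
      apply Subtype.ext
      simp only [pow_one, Subgroup.coe_pow, Subgroup.coe_one]
      rw [← zpow_natCast, ← zpow_mul, mul_comm, zpow_mul, zpow_natCast, hx, one_zpow]
    have hap : (π A) ^ p = 1 := by rw [← map_pow, hAp, map_one]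
    have hbp : (π B) ^ p = 1 := by rw [← map_pow, hBp, map_one]
    obtain ⟨P₁, hP₁⟩ := (hPG _ hap).exists_le_sylow
    obtain ⟨P₂, hP₂⟩ := (hPG _ hbp).exists_le_sylow
    have hnorm₁ : (P₁ : Subgroup (Matrix.ProjectiveSpecialLinearGroup (Fin 2) (ZMod p))).Normal :=
      hcl P₁
    obtain ⟨g, hg⟩ := MulAction.exists_smul_eq
      (Matrix.ProjectiveSpecialLinearGroup (Fin 2) (ZMod p)) P₁ P₂
    have hPP : P₁ = P₂ := by rw [← hg, Sylow.smul_eq_of_normal]
    have haP : π A ∈ (P₁ : Subgroup _) := hP₁ (Subgroup.mem_zpowers _)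
    have hbP : π B ∈ (P₁ : Subgroup _) := by rw [hPP]; exact hP₂ (Subgroup.mem_zpowers _)
    have hwP : π A * π B * π A ∈ (P₁ : Subgroup _) :=
      Subgroup.mul_mem _ (Subgroup.mul_mem _ haP hbP) haP
    obtain ⟨k, hk⟩ := P₁.isPGroup' ⟨_, hwP⟩
    have hk' : (π A * π B * π A) ^ (p ^ k) = 1 := by
      have := congrArg Subtype.val hk
      simpa using this
    have hcop : Nat.Coprime (p ^ k) 2 :=
      Nat.Coprime.pow_left k ((Nat.coprime_primes hpp Nat.prime_two).mpr hp)
    have h1 := pow_gcd_eq_one.mpr ⟨hk', hw2⟩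
    rw [hcop.gcd_eq_one, pow_one] at h1
    exact hw1 h1

end Cfsg.Agent.Lib.helper50.S3875
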