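import Cfsg.Agent.Lib.helper81.WTDefs

/-!
# S4414 piece W0b (`weights_inv`): the weights are permuted by `S`.

Self-contained: the equivariance of the weight projections is reproved here as
`helper50_proj_equiv`.
-/

set_option autoImplicit false

namespace Cfsg.Agent.Lib.helper81.WT

open scoped TensorProduct

universe u v w

/-- equivariance of the weight projections (private copy of piece PE). -/
theorem helper50_proj_equiv {S : Type u} [Group S] {F : Type w} [Field F]
    {V : Type v} [AddCommGroup V] [Module F V]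
    (R : Representation F S V) (Y : Subgroup S) [Y.Normal] [Fintype ↥Y]
    (g : S) (μ : ↥Y →* Fˣ) (v : V) :
    R g (proj R Y μ v) = proj R Y (cj Y g μ) (R g v) := by
  rw [proj_apply, proj_apply, map_sum]
  refine Fintype.sum_equiv (MulAut.conjNormal g : ↥Y ≃* ↥Y).toEquiv _ _ ?_
  intro y
  have h1 : cj Y g μ ((MulAut.conjNormal g : ↥Y ≃* ↥Y) y)⁻¹ = μ y⁻¹ := by
    rw [cj_apply]
    congr 1
    apply Subtype.ext
    simp
  have h2 : R (((MulAut.conjNormal g : ↥Y ≃* ↥Y) y : ↥Y) : S) (R g v) = R g (R (y : S) v) := by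
    rw [← Module.End.mul_apply, ← Module.End.mul_apply, ← map_mul, ← map_mul]
    congr 2
    simp [mul_assoc]
  simp only [MulEquiv.toEquiv_eq_coe, MulEquiv.coe_toEquiv]
  rw [h1, h2, map_smul]

/-- [W0b] weights are permuted by S; uses PE -/
theorem weights_inv {S : Type u} [Group S] [Finite S] {F : Type w} [Field F] [Finite F] [CharP F 2]
    {V : Type v} [AddCommGroup V] [Module F V]
    (R : Representation F S V) (Y : Subgroup S) [Y.Normal] [Fintype ↥Y]
    (g : S) (μ : ↥Y →* Fˣ) (hμ : proj R Y μ ≠ 0) : proj R Y (cj Y g μ) ≠ 0 := by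
  intro h0
  apply hμ
  ext v
  have h1 : R g (proj R Y μ v) = 0 := by
    rw [helper50_proj_equiv, h0]
    rfl
  have h2 : R g⁻¹ (R g (proj R Y μ v)) = proj R Y μ v := by
    rw [← Module.End.mul_apply, ← map_mul, inv_mul_cancel, map_one]
    rfl
  rw [h1, map_zero] at h2
  rw [← h2]
  rfl

end Cfsg.Agent.Lib.helper81.WT
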