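import Mathlib

/-!
# S1237 piece C1, part a: basic lemmas on a fixed-point-free automorphism of 3-power order of a
2-group whose involutions form a central four-group.
-/

set_option autoImplicit false

namespace Cfsg.Agent.Lib.helper50.S1237

universe u

section basic
variable {T : Type u} [Group T]

theorem c1_pow_mem (ψ : MulAut T) (S : Subgroup T) (hS : ∀ s ∈ S, ψ s ∈ S) :
    ∀ (n : ℕ), ∀ s ∈ S, (ψ ^ n) s ∈ S := by
  intro n
  induction n with
  | zero => intro s hs; simpa using hs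
  | succ n ih =>
    intro s hs
    rw [pow_succ', MulAut.mul_apply]
    exact hS _ (ih s hs)

theorem c1_inv_mem (ψ : MulAut T) (k : ℕ) (hψk : ψ ^ 3 ^ k = 1) (S : Subgroup T)
    (hS : ∀ s ∈ S, ψ s ∈ S) : ∀ s ∈ S, ψ⁻¹ s ∈ S := by
  intro s hs
  have h1 : ψ⁻¹ = ψ ^ (3 ^ k - 1) := by
    have hpos : 0 < 3 ^ k := by positivity
    have h2 : ψ ^ (3 ^ k - 1) * ψ = 1 := by
      rw [← pow_succ, Nat.sub_add_cancel hpos, hψk]
    exact (eq_inv_of_mul_eq_one_left h2).symm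
  rw [h1]
  exact c1_pow_mem ψ S hS _ s hs

theorem c1_restrict (ψ : MulAut T) (S : Subgroup T) (hS : ∀ s ∈ S, ψ s ∈ S)
    (hS' : ∀ s ∈ S, ψ⁻¹ s ∈ S) : ∃ ψ' : MulAut S, ∀ s : S, (ψ' s : T) = ψ s :=
  ⟨{ toFun := fun s => ⟨ψ s, hS s s.2⟩
     invFun := fun s => ⟨ψ⁻¹ s, hS' s s.2⟩
     left_inv := fun s => Subtype.ext (by simp)
     right_inv := fun s => Subtype.ext (by simp)
     map_mul' := fun a b => Subtype.ext (by simp) }, fun _ => rfl⟩

theorem c1_pow3 (ψ : MulAut T) (S : Set T) (h : ∀ s ∈ S, ψ (ψ (ψ s)) = s) :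
    ∀ (m : ℕ), ∀ s ∈ S, (ψ ^ (3 * m)) s = s := by
  intro m
  induction m with
  | zero => intro s _; simp
  | succ m ih =>
    intro s hs
    have h3 : (ψ ^ 3) s = s := by
      have : (ψ ^ 3) s = ψ (ψ (ψ s)) := by
        simp [pow_succ, MulAut.mul_apply]
      rw [this, h s hs]
    rw [Nat.mul_succ, pow_add, MulAut.mul_apply, h3]
    exact ih s hs

theorem c1_exists_pow_sq_mem (hT : IsPGroup 2 T) (H : Subgroup T) (x : T) (hx : x ∉ H) :
    ∃ n : ℕ, x ^ n ∉ H ∧ x ^ n * x ^ n ∈ H := by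
  classical
  obtain ⟨m, hm⟩ := hT x
  have hex : ∃ i, x ^ 2 ^ i ∈ H := ⟨m, by rw [hm]; exact H.one_mem⟩
  have hi0 : Nat.find hex ≠ 0 := by
    intro h0
    have := Nat.find_spec hex
    rw [h0, pow_zero, pow_one] at this
    exact hx this
  obtain ⟨j, hj⟩ := Nat.exists_eq_succ_of_ne_zero hi0
  refine ⟨2 ^ j, Nat.find_min hex (by omega), ?_⟩
  have := Nat.find_spec hex
  rw [hj, pow_succ, pow_mul, pow_two] at this
  exact this

end basic

section four
variable {T : Type u} [Group T] [Finite T]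

theorem c1_V_elems (V : Subgroup T) (hV : ∀ x : T, x ∈ V ↔ x * x = 1) (hV4 : Nat.card V = 4)
    (ψ : MulAut T) (hψ : ∀ y : T, ψ y = y → y = 1) (v : T) (hv : v ∈ V) (hv1 : v ≠ 1) :
    ∀ w ∈ V, w = 1 ∨ w = v ∨ w = ψ v ∨ w = v * ψ v := by
  classical
  have hvv : v * v = 1 := (hV v).mp hv
  have hψV : ψ v ∈ V := by rw [hV, ← map_mul, hvv, map_one]
  have h1 : ψ v ≠ 1 := by
    intro h
    apply hv1
    have := congrArg ψ⁻¹ h
    simpa using this
  have h2 : ψ v ≠ v := fun h => hv1 (hψ v h)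
  have : Fintype V := Fintype.ofFinite V
  have hcard : ({(⟨1, V.one_mem⟩ : V), ⟨v, hv⟩, ⟨ψ v, hψV⟩, ⟨v * ψ v, V.mul_mem hv hψV⟩} :
      Finset V).card = 4 := by
    rw [Finset.card_insert_of_notMem, Finset.card_insert_of_notMem,
      Finset.card_insert_of_notMem, Finset.card_singleton]
    · simp only [Finset.mem_singleton, Subtype.mk.injEq]
      intro h
      apply hv1
      have : 1 * ψ v = v * ψ v := by rw [one_mul]; exact h
      exact (mul_right_cancel this).symm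
    · simp only [Finset.mem_insert, Finset.mem_singleton, Subtype.mk.injEq, not_or]
      refine ⟨fun h => h2 h.symm, ?_⟩
      intro h
      apply h1
      have : v * 1 = v * ψ v := by rw [mul_one]; exact h
      exact (mul_left_cancel this).symm
    · simp only [Finset.mem_insert, Finset.mem_singleton, Subtype.mk.injEq, not_or]
      refine ⟨fun h => hv1 h.symm, fun h => h1 h.symm, ?_⟩
      intro h
      apply h2
      have h3 : v * v = v * ψ v := by rw [hvv]; exact h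
      exact (mul_left_cancel h3).symm
  have huniv : ({(⟨1, V.one_mem⟩ : V), ⟨v, hv⟩, ⟨ψ v, hψV⟩, ⟨v * ψ v, V.mul_mem hv hψV⟩} :
      Finset V) = Finset.univ := by
    apply Finset.eq_univ_of_card
    rw [hcard, ← Nat.card_eq_fintype_card, hV4]
  intro w hw
  have hmem : (⟨w, hw⟩ : V) ∈ ({(⟨1, V.one_mem⟩ : V), ⟨v, hv⟩, ⟨ψ v, hψV⟩,
      ⟨v * ψ v, V.mul_mem hv hψV⟩} : Finset V) := by
    rw [huniv]; exact Finset.mem_univ _
  simp only [Finset.mem_insert, Finset.mem_singleton, Subtype.mk.injEq] at hmem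
  exact hmem

theorem c1_psi2_V (V : Subgroup T) (hV : ∀ x : T, x ∈ V ↔ x * x = 1) (hV4 : Nat.card V = 4)
    (ψ : MulAut T) (k : ℕ) (hψk : ψ ^ 3 ^ k = 1) (hψ : ∀ y : T, ψ y = y → y = 1)
    (v : T) (hv : v ∈ V) : ψ (ψ v) = v * ψ v := by
  by_cases hv1 : v = 1
  · rw [hv1, map_one, map_one, one_mul]
  have hvv : v * v = 1 := (hV v).mp hv
  have hψV : ψ v ∈ V := by rw [hV, ← map_mul, hvv, map_one]
  have hψψV : ψ (ψ v) ∈ V := by rw [hV, ← map_mul, (hV _).mp hψV, map_one]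
  rcases c1_V_elems V hV hV4 ψ hψ v hv hv1 _ hψψV with h | h | h | h
  · exfalso
    apply hv1
    have h' : ψ (ψ v) = ψ (ψ 1) := by rw [h, map_one, map_one]
    exact ψ.injective (ψ.injective h')
  · exfalso
    -- ψ² v = v and ψ of odd order give ψ v = v
    have heven : ∀ m : ℕ, (ψ ^ (2 * m)) v = v := by
      intro m
      induction m with
      | zero => simp
      | succ m ih =>
        rw [Nat.mul_succ, pow_add, MulAut.mul_apply]
        have : (ψ ^ 2) v = v := by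
          simp only [pow_succ, pow_zero, one_mul, MulAut.mul_apply]
          exact h
        rw [this, ih]
    obtain ⟨m, hm⟩ : Odd (3 ^ k) := Odd.pow (by decide)
    have h3 : (ψ ^ 3 ^ k) v = ψ v := by
      rw [hm, pow_succ', MulAut.mul_apply, heven m]
    rw [hψk] at h3
    exact hv1 (hψ v h3.symm)
  · exfalso
    exact hv1 (hψ v (ψ.injective h))
  · exact h

theorem c1_psi3_V (V : Subgroup T) (hV : ∀ x : T, x ∈ V ↔ x * x = 1) (hV4 : Nat.card V = 4)
    (ψ : MulAut T) (k : ℕ) (hψk : ψ ^ 3 ^ k = 1) (hψ : ∀ y : T, ψ y = y → y = 1)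
    (v : T) (hv : v ∈ V) : ψ (ψ (ψ v)) = v := by
  have hvv : v * v = 1 := (hV v).mp hv
  have hψV : ψ v ∈ V := by rw [hV, ← map_mul, hvv, map_one]
  have h2 := c1_psi2_V V hV hV4 ψ k hψk hψ v hv
  have h3 := c1_psi2_V V hV hV4 ψ k hψk hψ (ψ v) hψV
  rw [h3, h2]
  have hpp : ψ v * ψ v = 1 := (hV _).mp hψV
  calc ψ v * (v * ψ v) = (ψ v * v) * ψ v := by rw [mul_assoc]
    _ = v := by
      have e : (ψ v * v) * (ψ v * v) = 1 := (hV _).mp (V.mul_mem hψV hv)
      -- ψ v * v * ψ v = v  from  (ψ v v)(ψ v v) = 1 and v v = 1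
      have e2 : (ψ v * v * ψ v) * v = 1 := by rw [← e]; group
      have e3 : (ψ v * v * ψ v) * v = v * v := by rw [e2, hvv]
      exact mul_right_cancel e3

theorem c1_V_trans (V : Subgroup T) (hV : ∀ x : T, x ∈ V ↔ x * x = 1) (hV4 : Nat.card V = 4)
    (ψ : MulAut T) (k : ℕ) (hψk : ψ ^ 3 ^ k = 1) (hψ : ∀ y : T, ψ y = y → y = 1) :
    ∀ v ∈ V, v ≠ 1 → ∀ w ∈ V, w ≠ 1 → w = v ∨ w = ψ v ∨ w = ψ (ψ v) := by
  intro v hv hv1 w hw hw1
  rcases c1_V_elems V hV hV4 ψ hψ v hv hv1 w hw with h | h | h | h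
  · exact absurd h hw1
  · exact Or.inl h
  · exact Or.inr (Or.inl h)
  · right; right
    rw [c1_psi2_V V hV hV4 ψ k hψk hψ v hv]
    exact h

theorem c1_V_le (hT : IsPGroup 2 T) (V : Subgroup T) (hV : ∀ x : T, x ∈ V ↔ x * x = 1)
    (hV4 : Nat.card V = 4) (ψ : MulAut T) (hψ : ∀ y : T, ψ y = y → y = 1)
    (S : Subgroup T) (hS : ∀ s ∈ S, ψ s ∈ S) (hSbot : S ≠ ⊥) : V ≤ S := by
  obtain ⟨⟨s, hs⟩, hs1⟩ := (Subgroup.ne_bot_iff_exists_ne_one).mp hSbot
  have hsb : s ∉ (⊥ : Subgroup T) := by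
    rw [Subgroup.mem_bot]
    exact fun h => hs1 (Subtype.ext h)
  obtain ⟨n, hn1, hn2⟩ := c1_exists_pow_sq_mem hT ⊥ s hsb
  rw [Subgroup.mem_bot] at hn1 hn2
  have hs0S : s ^ n ∈ S := S.pow_mem hs n
  have hs0V : s ^ n ∈ V := (hV _).mpr hn2
  intro w hw
  rcases c1_V_elems V hV hV4 ψ hψ _ hs0V hn1 w hw with h | h | h | h
  · rw [h]; exact S.one_mem
  · rw [h]; exact hs0S
  · rw [h]; exact hS _ hs0S
  · rw [h]; exact S.mul_mem hs0S (hS _ hs0S)

end four

end Cfsg.Agent.Lib.helper50.S1237
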