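import Mathlib
import Cfsg.Agent.Lib.helper50.S1237C1a

/-!
# S1237 piece C1, part b: the core step (an automorphism `τ` of order 3 commuting with `ψ` that is
trivial on every proper `ψ`-invariant subgroup is trivial).
-/

set_option autoImplicit false

namespace Cfsg.Agent.Lib.helper50.S1237

universe u

theorem c1_core {T : Type u} [Group T] [Finite T] (hT : IsPGroup 2 T) (V : Subgroup T)
    (hV : ∀ x : T, x ∈ V ↔ x * x = 1) (hV4 : Nat.card V = 4) (hVc : V ≤ Subgroup.center T)
    (ψ : MulAut T)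
    (htrans : ∀ v ∈ V, v ≠ 1 → ∀ w ∈ V, w ≠ 1 → w = v ∨ w = ψ v ∨ w = ψ (ψ v))
    (τ : MulAut T) (hτψ : ∀ x, τ (ψ x) = ψ (τ x)) (hτ3 : ∀ x, τ (τ (τ x)) = x)
    (hτV : ∀ v ∈ V, τ v = v)
    (hF : ∀ S : Subgroup T, (∀ s ∈ S, ψ s ∈ S) → S ≠ ⊤ → ∀ s ∈ S, τ s = s)
    (hC2 : (∀ x : T, x * x ∈ V) → (∀ x : T, x⁻¹ * τ x ∈ V → x ∈ V) → (∃ x : T, x ∉ V) → False) :
    ∀ x : T, τ x = x := by
  classical
  by_contra hne
  -- (H3)
  have H3 : ∀ x : T, τ (x⁻¹ * τ x) = x⁻¹ * τ x → τ x = x := by
    intro x hc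
    obtain ⟨c, hcdef⟩ : ∃ c : T, c = x⁻¹ * τ x := ⟨_, rfl⟩
    rw [← hcdef] at hc
    have h1 : τ x = x * c := by rw [hcdef]; group
    have h2 : τ (τ x) = x * c * c := by rw [h1, map_mul, hc, ← h1, h1]
    have h3 : τ (τ (τ x)) = x * c * c * c := by rw [h2, map_mul, map_mul, hc, h1]
    rw [hτ3] at h3
    have hc3 : c * c * c = 1 := by
      have h4 : x * (c * c * c) = x * 1 := by
        rw [mul_one]
        calc x * (c * c * c) = x * c * c * c := by group
          _ = x := h3.symm
      exact mul_left_cancel h4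
    obtain ⟨m, hm⟩ := hT c
    have hc3' : c ^ 3 = 1 := by
      rw [pow_succ, pow_two]; exact hc3
    have h5 : c ^ Nat.gcd (2 ^ m) 3 = 1 := pow_gcd_eq_one.mpr ⟨hm, hc3'⟩
    have hg : Nat.gcd (2 ^ m) 3 = 1 := Nat.Coprime.pow_left m (by norm_num)
    rw [hg, pow_one] at h5
    rw [h1, h5, mul_one]
  -- (1) R = ⊤
  obtain ⟨R, hRdef⟩ : ∃ R : Subgroup T, R = Subgroup.closure {c | ∃ x : T, c = x⁻¹ * τ x} :=
    ⟨_, rfl⟩
  have hRψ : ∀ s ∈ R, ψ s ∈ R := by
    intro s hs
    rw [hRdef] at hs ⊢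
    induction hs using Subgroup.closure_induction with
    | mem c hc =>
      obtain ⟨x, rfl⟩ := hc
      apply Subgroup.subset_closure
      exact ⟨ψ x, by rw [map_mul, map_inv, hτψ]⟩
    | one => rw [map_one]; exact Subgroup.one_mem _
    | mul a b _ _ ha hb => rw [map_mul]; exact Subgroup.mul_mem _ ha hb
    | inv a _ ha => rw [map_inv]; exact Subgroup.inv_mem _ ha
  have hRtop : R = ⊤ := by
    by_contra hR
    apply hne
    intro x
    apply H3
    apply hF R hRψ hR
    rw [hRdef]; exact Subgroup.subset_closure ⟨x, rfl⟩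
  -- (2) proper ψ-invariant normal subgroups are central
  have hcentral : ∀ S : Subgroup T, S.Normal → (∀ s ∈ S, ψ s ∈ S) → S ≠ ⊤ →
      S ≤ Subgroup.center T := by
    intro S hSn hSψ hStop s hs
    have hτS := hF S hSψ hStop
    have hle : R ≤ Subgroup.centralizer {s} := by
      rw [hRdef, Subgroup.closure_le]
      rintro c ⟨x, rfl⟩
      rw [SetLike.mem_coe, Subgroup.mem_centralizer_iff]
      intro h hh
      rw [Set.mem_singleton_iff] at hh
      subst hh
      have h1 : τ (x * h * x⁻¹) = x * h * x⁻¹ := hτS _ (hSn.conj_mem h hs x)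
      rw [map_mul, map_mul, map_inv, hτS h hs] at h1
      calc h * (x⁻¹ * τ x) = x⁻¹ * (x * h * x⁻¹) * τ x := by group
        _ = x⁻¹ * (τ x * h * (τ x)⁻¹) * τ x := by rw [h1]
        _ = x⁻¹ * τ x * h := by group
    rw [hRtop] at hle
    rw [Subgroup.mem_center_iff]
    intro g
    have h2 := hle (Subgroup.mem_top g)
    rw [Subgroup.mem_centralizer_iff] at h2
    exact (h2 s rfl).symm
  -- a nontrivial element of V
  obtain ⟨v0, hv0V, hv01⟩ : ∃ v ∈ V, v ≠ 1 := by
    by_contra h
    have hVbot : V = ⊥ := by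
      rw [Subgroup.eq_bot_iff_forall]
      intro x hx
      by_contra hx1
      exact h ⟨x, hx, hx1⟩
    rw [hVbot, Subgroup.card_bot] at hV4
    norm_num at hV4
  -- (3) T is nonabelian
  have hnab : ¬ ∀ a b : T, a * b = b * a := by
    intro hab
    obtain ⟨S, hSmem⟩ : ∃ S : Subgroup T, ∀ x, x ∈ S ↔ ∃ y : T, x = y * y :=
      ⟨{ carrier := {x | ∃ y : T, x = y * y}
         one_mem' := ⟨1, by simp⟩
         mul_mem' := by
           rintro _ _ ⟨a, rfl⟩ ⟨b, rfl⟩
           refine ⟨a * b, ?_⟩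
           calc a * a * (b * b) = a * (a * b) * b := by group
             _ = a * (b * a) * b := by rw [hab a b]
             _ = a * b * (a * b) := by group
         inv_mem' := by
           rintro _ ⟨a, rfl⟩
           exact ⟨a⁻¹, by rw [mul_inv_rev]⟩ }, fun x => Iff.rfl⟩
    have hStop : S ≠ ⊤ := by
      intro h
      have hsurj : Function.Surjective (fun y : T => y * y) := by
        intro x
        have hx : x ∈ S := by rw [h]; exact Subgroup.mem_top x
        obtain ⟨y, hy⟩ := (hSmem x).mp hx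
        exact ⟨y, hy.symm⟩
      have hinj := Finite.injective_iff_surjective.mpr hsurj
      apply hv01
      apply hinj
      show v0 * v0 = 1 * 1
      rw [(hV v0).mp hv0V, mul_one]
    have hSψ : ∀ s ∈ S, ψ s ∈ S := by
      intro s hs
      obtain ⟨y, rfl⟩ := (hSmem s).mp hs
      exact (hSmem _).mpr ⟨ψ y, map_mul ψ y y⟩
    have hτS := hF S hSψ hStop
    apply hne
    intro x
    apply H3
    apply hτV
    rw [hV]
    have h1 : τ (x * x) = x * x := hτS _ ((hSmem _).mpr ⟨x, rfl⟩)
    rw [map_mul] at h1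
    calc x⁻¹ * τ x * (x⁻¹ * τ x) = x⁻¹ * (τ x * x⁻¹) * τ x := by group
      _ = x⁻¹ * (x⁻¹ * τ x) * τ x := by rw [hab (τ x) x⁻¹]
      _ = x⁻¹ * x⁻¹ * (τ x * τ x) := by group
      _ = 1 := by rw [h1]; group
  -- the centre
  have hZtop : Subgroup.center T ≠ ⊤ := by
    intro h
    apply hnab
    intro a b
    have hb : b ∈ Subgroup.center T := by rw [h]; exact Subgroup.mem_top b
    exact Subgroup.mem_center_iff.mp hb a
  have hZψ : ∀ s ∈ Subgroup.center T, ψ s ∈ Subgroup.center T := by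
    intro s hs
    rw [Subgroup.mem_center_iff] at hs ⊢
    intro g
    have h1 := congrArg ψ (hs (ψ⁻¹ g))
    simpa using h1
  have hZψ' : ∀ s : T, ψ s ∈ Subgroup.center T → s ∈ Subgroup.center T := by
    intro s hs
    rw [Subgroup.mem_center_iff] at hs ⊢
    intro g
    have h1 := hs (ψ g)
    rw [← map_mul, ← map_mul] at h1
    exact ψ.injective h1
  have hτZ := hF (Subgroup.center T) hZψ hZtop
  obtain ⟨x0, hx0⟩ : ∃ x0 : T, x0 ∉ Subgroup.center T := by
    by_contra h
    apply hZtop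
    rw [Subgroup.eq_top_iff']
    intro x
    by_contra hx
    exact h ⟨x, hx⟩
  -- class two
  have hcl2 : ∀ x y : T, x * y * x⁻¹ * y⁻¹ ∈ Subgroup.center T := by
    have hmem2 : ∀ x : T, x ∈ Subgroup.upperCentralSeries T 2 ↔
        ∀ y : T, x * y * x⁻¹ * y⁻¹ ∈ Subgroup.center T := by
      intro x
      rw [show (2 : ℕ) = 1 + 1 from rfl, Subgroup.mem_upperCentralSeries_succ_iff,
        Subgroup.upperCentralSeries_one]
      simp only [commutatorElement_def]
    have hZ2ψ : ∀ s ∈ Subgroup.upperCentralSeries T 2, ψ s ∈ Subgroup.upperCentralSeries T 2 := by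
      intro s hs
      rw [hmem2] at hs ⊢
      intro y
      have h1 := hZψ _ (hs (ψ⁻¹ y))
      simpa using h1
    by_cases hZ2 : Subgroup.upperCentralSeries T 2 = ⊤
    · intro x y
      have hx : x ∈ Subgroup.upperCentralSeries T 2 := by rw [hZ2]; exact Subgroup.mem_top x
      exact (hmem2 x).mp hx y
    · exfalso
      have hle := hcentral (Subgroup.upperCentralSeries T 2)
        (Subgroup.normal_of_characteristic _) hZ2ψ hZ2
      have hstab : ∀ n : ℕ, Subgroup.upperCentralSeries T (n + 1) ≤ Subgroup.center T := by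
        intro n
        induction n with
        | zero => rw [zero_add, Subgroup.upperCentralSeries_one]
        | succ n ih =>
          intro x hx
          rw [Subgroup.mem_upperCentralSeries_succ_iff] at hx
          apply hle
          rw [hmem2]
          intro y
          have h1 := ih (hx y)
          rw [commutatorElement_def] at h1
          exact h1
      haveI : Fact (Nat.Prime 2) := ⟨Nat.prime_two⟩
      haveI : Group.IsNilpotent T := hT.isNilpotent
      obtain ⟨n, hn⟩ := Group.IsNilpotent.nilpotent T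
      apply hZtop
      rw [eq_top_iff, ← hn]
      exact le_trans (Subgroup.upperCentralSeries_mono T (Nat.le_succ n)) (hstab n)
  -- squares are central
  have hsqZ : ∀ x : T, x * x ∈ Subgroup.center T := by
    obtain ⟨S2, hS2⟩ : ∃ S2 : Subgroup T, ∀ x, x ∈ S2 ↔ x * x ∈ Subgroup.center T :=
      ⟨{ carrier := {x | x * x ∈ Subgroup.center T}
         one_mem' := by
           show (1 : T) * 1 ∈ Subgroup.center T
           rw [mul_one]; exact Subgroup.one_mem _
         mul_mem' := by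
           intro x y hx hy
           show x * y * (x * y) ∈ Subgroup.center T
           have hz := hcl2 y x
           have hzx : x * (y * x * y⁻¹ * x⁻¹) = (y * x * y⁻¹ * x⁻¹) * x :=
             Subgroup.mem_center_iff.mp hz x
           have e : x * y * (x * y) = (y * x * y⁻¹ * x⁻¹) * (x * x) * (y * y) := by
             calc x * y * (x * y) = (x * (y * x * y⁻¹ * x⁻¹)) * x * y * y := by group
               _ = ((y * x * y⁻¹ * x⁻¹) * x) * x * y * y := by rw [hzx]
               _ = (y * x * y⁻¹ * x⁻¹) * (x * x) * (y * y) := by group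
           rw [e]
           exact Subgroup.mul_mem _ (Subgroup.mul_mem _ hz hx) hy
         inv_mem' := by
           intro x hx
           show x⁻¹ * x⁻¹ ∈ Subgroup.center T
           rw [← mul_inv_rev]
           exact Subgroup.inv_mem _ hx }, fun x => Iff.rfl⟩
    have hS2n : S2.Normal := by
      refine ⟨fun x hx g => ?_⟩
      rw [hS2] at hx ⊢
      have e : g * x * g⁻¹ * (g * x * g⁻¹) = x * x := by
        calc g * x * g⁻¹ * (g * x * g⁻¹) = g * (x * x) * g⁻¹ := by group
          _ = (x * x) * g * g⁻¹ := by rw [Subgroup.mem_center_iff.mp hx g]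
          _ = x * x := by group
      rw [e]; exact hx
    have hS2ψ : ∀ s ∈ S2, ψ s ∈ S2 := by
      intro s hs
      rw [hS2] at hs ⊢
      rw [← map_mul]
      exact hZψ _ hs
    by_cases hS2top : S2 = ⊤
    · intro x
      exact (hS2 x).mp (by rw [hS2top]; exact Subgroup.mem_top x)
    · exfalso
      have hle := hcentral S2 hS2n hS2ψ hS2top
      obtain ⟨n, hn1, hn2⟩ := c1_exists_pow_sq_mem hT (Subgroup.center T) x0 hx0
      exact hn1 (hle ((hS2 _).mpr hn2))
  -- fixed points of τ are central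
  have hfixZ : ∀ x : T, τ x = x → x ∈ Subgroup.center T := by
    obtain ⟨Fx, hFx⟩ : ∃ Fx : Subgroup T, ∀ x, x ∈ Fx ↔ τ x = x :=
      ⟨{ carrier := {x | τ x = x}
         one_mem' := map_one τ
         mul_mem' := by
           intro a b ha hb
           show τ (a * b) = a * b
           rw [map_mul, show τ a = a from ha, show τ b = b from hb]
         inv_mem' := by
           intro a ha
           show τ a⁻¹ = a⁻¹
           rw [map_inv, show τ a = a from ha] }, fun x => Iff.rfl⟩
    have hFn : Fx.Normal := by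
      refine ⟨fun x hx g => ?_⟩
      rw [hFx] at hx ⊢
      have h1 : g * x * g⁻¹ = (g * x * g⁻¹ * x⁻¹) * x := by group
      rw [h1, map_mul, hx, hτZ _ (hcl2 g x)]
    have hFψ : ∀ s ∈ Fx, ψ s ∈ Fx := by
      intro s hs
      rw [hFx] at hs ⊢
      rw [hτψ, hs]
    have hFtop : Fx ≠ ⊤ := by
      intro h
      apply hne
      intro x
      exact (hFx x).mp (by rw [h]; exact Subgroup.mem_top x)
    intro x hx
    exact hcentral Fx hFn hFψ hFtop ((hFx x).mpr hx)
  have h4 : ∀ x : T, x⁻¹ * τ x ∈ Subgroup.center T → x ∈ Subgroup.center T := by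
    intro x hx
    exact hfixZ x (H3 x (hτZ _ hx))
  -- (5)
  have h5 : ∀ x : T, x ∉ Subgroup.center T →
      (x⁻¹ * τ x) ∉ Subgroup.center T ∧ (x⁻¹ * τ x) * (x⁻¹ * τ x) ∈ V ∧
        (x⁻¹ * τ x) * (x⁻¹ * τ x) ≠ 1 := by
    intro x hx
    have hc : x⁻¹ * τ x ∉ Subgroup.center T := fun h => hx (h4 x h)
    obtain ⟨c, hcdef⟩ : ∃ c : T, c = x⁻¹ * τ x := ⟨_, rfl⟩
    rw [← hcdef] at hc ⊢
    have h1 : τ x = x * c := by rw [hcdef]; group
    have h2 : τ (x * x) = x * x := hτZ _ (hsqZ x)
    rw [map_mul, h1] at h2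
    have h3 : c * x * c = x := by
      have h3' : x * (c * x * c) = x * x := by
        rw [← h2]; group
      exact mul_left_cancel h3'
    have h4' : x⁻¹ * c * x = c⁻¹ := by
      rw [eq_inv_iff_mul_eq_one]
      calc x⁻¹ * c * x * c = x⁻¹ * (c * x * c) := by group
        _ = 1 := by rw [h3]; group
    have hccZ := hsqZ c
    have h5' : c * c = c⁻¹ * c⁻¹ := by
      have e1 : x⁻¹ * (c * c) * x = c * c := by
        calc x⁻¹ * (c * c) * x = x⁻¹ * ((c * c) * x) := by group
          _ = x⁻¹ * (x * (c * c)) := by rw [Subgroup.mem_center_iff.mp hccZ x]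
          _ = c * c := by group
      have e2 : x⁻¹ * (c * c) * x = (x⁻¹ * c * x) * (x⁻¹ * c * x) := by group
      rw [e1, h4'] at e2
      exact e2
    have h6 : c * c * (c * c) = 1 := by
      calc c * c * (c * c) = c * c * (c⁻¹ * c⁻¹) := by rw [← h5']
        _ = 1 := by group
    refine ⟨hc, (hV _).mpr h6, ?_⟩
    intro h1'
    exact hc (hVc ((hV c).mpr h1'))
  -- (6) Z ≤ V
  have hZV : ∀ z ∈ Subgroup.center T, z ∈ V := by
    intro z hz
    by_contra hzV
    obtain ⟨n, hn1, hn2⟩ := c1_exists_pow_sq_mem hT V z hzV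
    have hz1Z : z ^ n ∈ Subgroup.center T := Subgroup.pow_mem _ hz n
    have hv1 : z ^ n * z ^ n ≠ 1 := fun h => hn1 ((hV _).mpr h)
    obtain ⟨hcZ, hccV, hcc1⟩ := h5 x0 hx0
    have key : ∀ c' : T, c' * c' = z ^ n * z ^ n → c' ∈ Subgroup.center T := by
      intro c' hc'
      have hzc : ∀ g : T, g * (z ^ n)⁻¹ = (z ^ n)⁻¹ * g :=
        fun g => Subgroup.mem_center_iff.mp (Subgroup.inv_mem _ hz1Z) g
      have hw : (c' * (z ^ n)⁻¹) * (c' * (z ^ n)⁻¹) = 1 := by
        calc (c' * (z ^ n)⁻¹) * (c' * (z ^ n)⁻¹) = c' * ((z ^ n)⁻¹ * c') * (z ^ n)⁻¹ := by group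
          _ = c' * (c' * (z ^ n)⁻¹) * (z ^ n)⁻¹ := by rw [hzc c']
          _ = (c' * c') * ((z ^ n) * (z ^ n))⁻¹ := by group
          _ = 1 := by rw [hc']; group
      have hwZ : c' * (z ^ n)⁻¹ ∈ Subgroup.center T := hVc ((hV _).mpr hw)
      have : c' = (c' * (z ^ n)⁻¹) * z ^ n := by group
      rw [this]
      exact Subgroup.mul_mem _ hwZ hz1Z
    rcases htrans _ hccV hcc1 _ hn2 hv1 with h | h | h
    · exact hcZ (key _ h.symm)
    · rw [map_mul] at h
      exact hcZ (hZψ' _ (key _ h.symm))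
    · rw [map_mul, map_mul] at h
      exact hcZ (hZψ' _ (hZψ' _ (key _ h.symm)))
  -- (7)
  apply hC2
  · intro x; exact hZV _ (hsqZ x)
  · intro x hx; exact hZV _ (h4 x (hVc hx))
  · exact ⟨x0, fun h => hx0 (hVc h)⟩

end Cfsg.Agent.Lib.helper50.S1237
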