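import Mathlib
import Cfsg.Agent.Lib.helper50.S1237C1a
import Cfsg.Agent.Lib.helper50.S1237C1b

/-!
# S1237 piece C1, part c: `ψ ^ 3 = 1` by induction on the order of the group, modulo the counting
lemma (piece C2) taken as a hypothesis.
-/

set_option autoImplicit false

namespace Cfsg.Agent.Lib.helper50.S1237

universe u

theorem cube_eq_one_of
    (hC2 : ∀ (T : Type u) [Group T] [Finite T], IsPGroup 2 T → ∀ V : Subgroup T,
      (∀ x : T, x ∈ V ↔ x * x = 1) → Nat.card V = 4 → V ≤ Subgroup.center T →
      (∀ x : T, x * x ∈ V) → ∀ ψ τ : MulAut T, (∀ y : T, ψ y = y → y = 1) →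
      (∀ y : T, τ (τ (τ y)) = y) → (∀ v ∈ V, τ v = v) →
      (∀ x : T, x⁻¹ * τ x ∈ V → x ∈ V) → (∃ x : T, x ∉ V) → False)
    {T : Type u} [Group T] [Finite T] (hT : IsPGroup 2 T) (V : Subgroup T)
    (hV : ∀ x : T, x ∈ V ↔ x * x = 1) (hV4 : Nat.card V = 4) (hVc : V ≤ Subgroup.center T)
    (ψ : MulAut T) (k : ℕ) (hψk : ψ ^ 3 ^ k = 1) (hψ : ∀ y : T, ψ y = y → y = 1) (y : T) :
    ψ (ψ (ψ y)) = y := by
  have main : ∀ n : ℕ, ∀ (T : Type u) [Group T] [Finite T], Nat.card T = n → IsPGroup 2 T →
      ∀ V : Subgroup T, (∀ x : T, x ∈ V ↔ x * x = 1) → Nat.card V = 4 →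
      V ≤ Subgroup.center T → ∀ (ψ : MulAut T) (k : ℕ), ψ ^ 3 ^ k = 1 →
      (∀ y : T, ψ y = y → y = 1) → ∀ y : T, ψ (ψ (ψ y)) = y := by
    intro n
    induction n using Nat.strong_induction_on with
    | _ n IH =>
      intro T _ _ hn hT V hV hV4 hVc ψ k hψk hψ
      -- (F1) proper invariant subgroups
      have hF1 : ∀ S : Subgroup T, (∀ s ∈ S, ψ s ∈ S) → S ≠ ⊤ →
          ∀ s ∈ S, ψ (ψ (ψ s)) = s := by
        intro S hSψ hStop s hs
        by_cases hSbot : S = ⊥
        · rw [hSbot, Subgroup.mem_bot] at hs
          rw [hs, map_one, map_one, map_one]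
        · have hVS : V ≤ S := c1_V_le hT V hV hV4 ψ hψ S hSψ hSbot
          have hSψ' := c1_inv_mem ψ k hψk S hSψ
          obtain ⟨ψ', hψ'⟩ := c1_restrict ψ S hSψ hSψ'
          have hlt : Nat.card S < n := by
            rw [← hn]
            exact lt_of_le_of_ne (Subgroup.card_le_card_group S)
              (fun h => hStop ((Subgroup.card_eq_iff_eq_top S).mp h))
          have hpow : ∀ (m : ℕ) (t : S), ((ψ' ^ m) t : T) = (ψ ^ m) t := by
            intro m
            induction m with
            | zero => intro t; simp
            | succ m ih =>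
              intro t
              rw [pow_succ', MulAut.mul_apply, hψ', ih, pow_succ', MulAut.mul_apply]
          have h := IH (Nat.card S) hlt (↥S) rfl (hT.to_subgroup S) (V.subgroupOf S) ?_ ?_ ?_
            ψ' k ?_ ?_ ⟨s, hs⟩
          · have h' := congrArg Subtype.val h
            rw [hψ', hψ', hψ'] at h'
            exact h'
          · intro x
            rw [Subgroup.mem_subgroupOf, hV]
            constructor
            · intro hx
              apply Subtype.ext
              rw [Subgroup.coe_mul, Subgroup.coe_one]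
              exact hx
            · intro hx
              have hx' := congrArg Subtype.val hx
              rw [Subgroup.coe_mul, Subgroup.coe_one] at hx'
              exact hx'
          · rw [Nat.card_congr (Subgroup.subgroupOfEquivOfLe hVS).toEquiv, hV4]
          · intro x hx
            rw [Subgroup.mem_center_iff]
            intro g
            apply Subtype.ext
            rw [Subgroup.coe_mul, Subgroup.coe_mul]
            exact Subgroup.mem_center_iff.mp (hVc (Subgroup.mem_subgroupOf.mp hx)) g
          · ext t
            rw [hpow, hψk]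
            rfl
          · intro t ht
            have ht' := congrArg Subtype.val ht
            rw [hψ'] at ht'
            exact Subtype.ext (hψ _ ht')
      have htrans := c1_V_trans V hV hV4 ψ k hψk hψ
      have hV3 : ∀ v ∈ V, ψ (ψ (ψ v)) = v := fun v hv => c1_psi3_V V hV hV4 ψ k hψk hψ v hv
      -- inner induction on the exponent
      have inner : ∀ j : ℕ, ψ ^ 3 ^ j = 1 → ∀ y : T, ψ (ψ (ψ y)) = y := by
        intro j
        induction j with
        | zero =>
          intro h y
          rw [pow_zero, pow_one] at h
          rw [h]; rfl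
        | succ j ih =>
          intro h y
          rcases Nat.eq_zero_or_pos j with hj0 | hjpos
          · subst hj0
            have h3 : (ψ ^ 3) y = y := by
              have : ψ ^ 3 = 1 := by simpa using h
              rw [this]; rfl
            have h4 : (ψ ^ 3) y = ψ (ψ (ψ y)) := by
              simp [pow_succ, MulAut.mul_apply]
            rw [← h4, h3]
          · apply ih
            obtain ⟨τ, hτdef⟩ : ∃ τ : MulAut T, τ = ψ ^ 3 ^ j := ⟨_, rfl⟩
            have hτψ : ∀ x, τ (ψ x) = ψ (τ x) := by
              intro x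
              have hc : τ * ψ = ψ * τ := by rw [hτdef, ← pow_succ, ← pow_succ']
              have := congrArg (fun f : MulAut T => f x) hc
              simpa [MulAut.mul_apply] using this
            have hτ3 : ∀ x, τ (τ (τ x)) = x := by
              intro x
              have hc : τ ^ 3 = 1 := by rw [hτdef, ← pow_mul, ← pow_succ, h]
              have h4 : (τ ^ 3) x = τ (τ (τ x)) := by
                simp [pow_succ, MulAut.mul_apply]
              rw [← h4, hc]; rfl
            obtain ⟨i, hi⟩ : ∃ i, j = i + 1 := Nat.exists_eq_succ_of_ne_zero hjpos.ne'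
            have hτfix : ∀ S : Set T, (∀ s ∈ S, ψ (ψ (ψ s)) = s) → ∀ s ∈ S, τ s = s := by
              intro S hS s hs
              have h5 := c1_pow3 ψ S hS (3 ^ i) s hs
              rw [hτdef, hi, pow_succ, mul_comm]
              exact h5
            have hτV : ∀ v ∈ V, τ v = v := hτfix (V : Set T) hV3
            have hF : ∀ S : Subgroup T, (∀ s ∈ S, ψ s ∈ S) → S ≠ ⊤ → ∀ s ∈ S, τ s = s :=
              fun S hSψ hStop => hτfix (S : Set T) (hF1 S hSψ hStop)
            have hτall : ∀ x, τ x = x :=
              c1_core hT V hV hV4 hVc ψ htrans τ hτψ hτ3 hτV hF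
                (fun hsq h4 hex => hC2 T hT V hV hV4 hVc hsq ψ τ hψ hτ3 hτV h4 hex)
            ext x
            rw [← hτdef]
            exact hτall x
      exact inner k hψk
  exact main _ T rfl hT V hV hV4 hVc ψ k hψk hψ y

end Cfsg.Agent.Lib.helper50.S1237
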