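import Mathlib
import Cfsg.Agent.Lib.helper50.S1237C1c
import Cfsg.Agent.Lib.helper11.S1237C2

/-!
# S1237 piece C1 (CUBE): `ψ ^ 3 = 1`, verbatim skeleton statement
-/

set_option autoImplicit false

namespace Cfsg.Agent.Lib.helper50.S1237

universe u

/-- PIECE C1 (CUBE). Uses C2. -/
theorem cube_eq_one {T : Type u} [Group T] [Finite T] (hT : IsPGroup 2 T) (V : Subgroup T)
    (hV : ∀ x : T, x ∈ V ↔ x * x = 1) (hV4 : Nat.card V = 4) (hVc : V ≤ Subgroup.center T)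
    (ψ : MulAut T) (k : ℕ) (hψk : ψ ^ 3 ^ k = 1) (hψ : ∀ y : T, ψ y = y → y = 1) (y : T) :
    ψ (ψ (ψ y)) = y :=
  cube_eq_one_of
    (fun T _ _ hT V hV hV4 hVc hsq ψ τ hψ hτ3 hτV hτ hne =>
      Cfsg.Agent.Lib.helper11.S1237.count_contra hT V hV hV4 hVc hsq ψ τ hψ hτ3 hτV hτ hne)
    hT V hV hV4 hVc ψ k hψk hψ y

end Cfsg.Agent.Lib.helper50.S1237
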