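import Mathlib
import Cfsg.Prelude.Def_Classical
import Cfsg.Agent.Lib.helper17.Isom

/-!
# Transport of isometry groups along an invertible (rectangular) matrix

`isoP P P' h1 h2 Q : isometryGroup F Q ≃* isometryGroup F (fun v => Q (P *ᵥ v))`, `g ↦ P' g P`.
Also: monomial matrices, transfer of ranks, commutator subgroups and class counts.
-/

set_option autoImplicit false

namespace Cfsg.Agent.Lib.helper50

open Matrix Cfsg Cfsg.Agent.Lib.helper17

section
variable {ι₁ ι₂ : Type} [Fintype ι₁] [DecidableEq ι₁] [Fintype ι₂] [DecidableEq ι₂]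
variable {F : Type*} [Field F]

/-- conjugation by a rectangular invertible matrix -/
def matConj (P : Matrix ι₁ ι₂ F) (P' : Matrix ι₂ ι₁ F) (h1 : P * P' = 1) (h2 : P' * P = 1) :
    Matrix ι₁ ι₁ F ≃* Matrix ι₂ ι₂ F where
  toFun A := P' * A * P
  invFun B := P * B * P'
  left_inv A := by
    calc P * (P' * A * P) * P' = (P * P') * A * (P * P') := by simp only [Matrix.mul_assoc]
      _ = A := by rw [h1, Matrix.one_mul, Matrix.mul_one]
  right_inv B := by
    calc P' * (P * B * P') * P = (P' * P) * B * (P' * P) := by simp only [Matrix.mul_assoc]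
      _ = B := by rw [h2, Matrix.one_mul, Matrix.mul_one]
  map_mul' A B := by
    calc P' * (A * B) * P = P' * A * (P * P') * B * P := by
          rw [h1, Matrix.mul_one]; simp only [Matrix.mul_assoc]
      _ = P' * A * P * (P' * B * P) := by simp only [Matrix.mul_assoc]

/-- the induced isomorphism of general linear groups -/
def glConj (P : Matrix ι₁ ι₂ F) (P' : Matrix ι₂ ι₁ F) (h1 : P * P' = 1) (h2 : P' * P = 1) :
    GL ι₁ F ≃* GL ι₂ F := Units.mapEquiv (matConj P P' h1 h2)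

theorem glConj_val (P : Matrix ι₁ ι₂ F) (P' : Matrix ι₂ ι₁ F) (h1 : P * P' = 1) (h2 : P' * P = 1)
    (g : GL ι₁ F) : ((glConj P P' h1 h2 g : GL ι₂ F) : Matrix ι₂ ι₂ F) = P' * g.1 * P := rfl

theorem glConj_symm_val (P : Matrix ι₁ ι₂ F) (P' : Matrix ι₂ ι₁ F) (h1 : P * P' = 1)
    (h2 : P' * P = 1) (g : GL ι₂ F) :
    (((glConj P P' h1 h2).symm g : GL ι₁ F) : Matrix ι₁ ι₁ F) = P * g.1 * P' := rfl

theorem glConj_mem_iff (P : Matrix ι₁ ι₂ F) (P' : Matrix ι₂ ι₁ F) (h1 : P * P' = 1)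
    (h2 : P' * P = 1) (Q : (ι₁ → F) → F) (g : GL ι₁ F) :
    glConj P P' h1 h2 g ∈ isometryGroup F (fun v : ι₂ → F => Q (P *ᵥ v)) ↔
      g ∈ isometryGroup F Q := by
  rw [mem_isometryGroup_iff, mem_isometryGroup_iff]
  constructor
  · intro h u
    have h3 := h (P' *ᵥ u)
    rw [glConj_val] at h3
    simp only [Matrix.mulVec_mulVec] at h3
    have e1 : P * (P' * g.1 * P * P') = g.1 := by
      calc P * (P' * g.1 * P * P') = (P * P') * g.1 * (P * P') := by simp only [Matrix.mul_assoc]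
        _ = g.1 := by rw [h1, Matrix.one_mul, Matrix.mul_one]
    rw [e1, h1, Matrix.one_mulVec] at h3
    exact h3
  · intro h v
    rw [glConj_val]
    have e1 : P *ᵥ ((P' * g.1 * P) *ᵥ v) = g.1 *ᵥ (P *ᵥ v) := by
      rw [Matrix.mulVec_mulVec, Matrix.mulVec_mulVec]
      congr 1
      calc P * (P' * g.1 * P) = (P * P') * g.1 * P := by simp only [Matrix.mul_assoc]
        _ = g.1 * P := by rw [h1, Matrix.one_mul]
    rw [e1]
    exact h _

/-- transport of the isometry group along an invertible matrix -/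
def isoP (P : Matrix ι₁ ι₂ F) (P' : Matrix ι₂ ι₁ F) (h1 : P * P' = 1) (h2 : P' * P = 1)
    (Q : (ι₁ → F) → F) :
    isometryGroup F Q ≃* isometryGroup F (fun v : ι₂ → F => Q (P *ᵥ v)) where
  toFun g := ⟨glConj P P' h1 h2 g.1, (glConj_mem_iff P P' h1 h2 Q g.1).2 g.2⟩
  invFun g := ⟨(glConj P P' h1 h2).symm g.1, (glConj_mem_iff P P' h1 h2 Q _).1 (by
    rw [MulEquiv.apply_symm_apply]; exact g.2)⟩
  left_inv g := by
    apply Subtype.ext
    simp
  right_inv g := by
    apply Subtype.ext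
    simp
  map_mul' g h := by
    apply Subtype.ext
    simp

theorem isoP_val (P : Matrix ι₁ ι₂ F) (P' : Matrix ι₂ ι₁ F) (h1 : P * P' = 1) (h2 : P' * P = 1)
    (Q : (ι₁ → F) → F) (g : isometryGroup F Q) :
    (isoP P P' h1 h2 Q g).1.1 = P' * g.1.1 * P := rfl

theorem isoP_symm_val (P : Matrix ι₁ ι₂ F) (P' : Matrix ι₂ ι₁ F) (h1 : P * P' = 1)
    (h2 : P' * P = 1) (Q : (ι₁ → F) → F) (g : isometryGroup F (fun v : ι₂ → F => Q (P *ᵥ v))) :
    ((isoP P P' h1 h2 Q).symm g).1.1 = P * g.1.1 * P' := rfl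

theorem rank_conjP (P : Matrix ι₁ ι₂ F) (P' : Matrix ι₂ ι₁ F) (h1 : P * P' = 1)
    (A : Matrix ι₁ ι₁ F) : (P' * A * P).rank = A.rank := by
  apply le_antisymm
  · exact le_trans (Matrix.rank_mul_le_left _ _) (Matrix.rank_mul_le_right _ _)
  · have e : A = P * (P' * A * P) * P' := by
      calc A = (P * P') * A * (P * P') := by rw [h1, Matrix.one_mul, Matrix.mul_one]
        _ = P * (P' * A * P) * P' := by simp only [Matrix.mul_assoc]
    calc A.rank = (P * (P' * A * P) * P').rank := by rw [← e]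
      _ ≤ (P * (P' * A * P)).rank := Matrix.rank_mul_le_left _ _
      _ ≤ (P' * A * P).rank := Matrix.rank_mul_le_right _ _

theorem isoP_rank (P : Matrix ι₁ ι₂ F) (P' : Matrix ι₂ ι₁ F) (h1 : P * P' = 1) (h2 : P' * P = 1)
    (Q : (ι₁ → F) → F) (g : isometryGroup F Q) :
    ((isoP P P' h1 h2 Q g).1.1 - 1).rank = (g.1.1 - 1).rank := by
  rw [isoP_val]
  have e : P' * g.1.1 * P - 1 = P' * (g.1.1 - 1) * P := by
    rw [Matrix.mul_sub, Matrix.sub_mul, Matrix.mul_one, h2]
  rw [e, rank_conjP P P' h1]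

/-- a monomial matrix -/
def monoMat (σ : ι₁ ≃ ι₂) (lam : ι₁ → F) : Matrix ι₁ ι₂ F :=
  Matrix.of fun j i => if i = σ j then lam j else 0

/-- the inverse of a monomial matrix -/
def monoMatInv (σ : ι₁ ≃ ι₂) (lam : ι₁ → F) : Matrix ι₂ ι₁ F :=
  Matrix.of fun i j => if j = σ.symm i then (lam j)⁻¹ else 0

theorem monoMat_mulVec (σ : ι₁ ≃ ι₂) (lam : ι₁ → F) (v : ι₂ → F) (j : ι₁) :
    (monoMat σ lam *ᵥ v) j = lam j * v (σ j) := by
  simp [monoMat, Matrix.mulVec, dotProduct]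

theorem monoMatInv_mulVec (σ : ι₁ ≃ ι₂) (lam : ι₁ → F) (w : ι₁ → F) (i : ι₂) :
    (monoMatInv σ lam *ᵥ w) i = (lam (σ.symm i))⁻¹ * w (σ.symm i) := by
  simp [monoMatInv, Matrix.mulVec, dotProduct]

theorem monoMat_mul_inv (σ : ι₁ ≃ ι₂) (lam : ι₁ → F) (hlam : ∀ j, lam j ≠ 0) :
    monoMat σ lam * monoMatInv σ lam = 1 := by
  rw [Matrix.ext_iff_mulVec]
  intro w
  rw [← Matrix.mulVec_mulVec, Matrix.one_mulVec]
  funext j
  rw [monoMat_mulVec, monoMatInv_mulVec, Equiv.symm_apply_apply, ← mul_assoc,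
    mul_inv_cancel₀ (hlam j), one_mul]

theorem monoMatInv_mul (σ : ι₁ ≃ ι₂) (lam : ι₁ → F) (hlam : ∀ j, lam j ≠ 0) :
    monoMatInv σ lam * monoMat σ lam = 1 := by
  rw [Matrix.ext_iff_mulVec]
  intro v
  rw [← Matrix.mulVec_mulVec, Matrix.one_mulVec]
  funext i
  rw [monoMatInv_mulVec, monoMat_mulVec, Equiv.apply_symm_apply, ← mul_assoc,
    inv_mul_cancel₀ (hlam _), one_mul]

end

section grp
variable {G H : Type*} [Group G] [Group H]

theorem map_commutator_of_mulEquiv (Φ : G ≃* H) :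
    (commutator G).map (Φ : G →* H) = commutator H := by
  rw [commutator_def, commutator_def, Subgroup.map_commutator,
    Subgroup.map_top_of_surjective _ Φ.surjective]

theorem mem_commutator_iff_of_mulEquiv (Φ : G ≃* H) (g : G) :
    Φ g ∈ commutator H ↔ g ∈ commutator G := by
  rw [← map_commutator_of_mulEquiv Φ]
  exact Subgroup.mem_map_iff_mem (f := (Φ : G →* H)) Φ.injective

/-- the induced isomorphism of commutator subgroups -/
def commEquiv (Φ : G ≃* H) : commutator G ≃* commutator H :=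
  (Φ.subgroupMap (commutator G)).trans (MulEquiv.subgroupCongr (map_commutator_of_mulEquiv Φ))

theorem commEquiv_val (Φ : G ≃* H) (g : commutator G) : (commEquiv Φ g).1 = Φ g.1 := rfl

theorem card_inv_classes_congr (Φ : G ≃* H) :
    Nat.card {C : ConjClasses G // ∃ g : G, ConjClasses.mk g = C ∧ orderOf g = 2}
      = Nat.card {C : ConjClasses H // ∃ g : H, ConjClasses.mk g = C ∧ orderOf g = 2} := by
  apply Nat.card_congr
  refine Equiv.subtypeEquiv ⟨ConjClasses.map (Φ : G →* H), ConjClasses.map (Φ.symm : H →* G),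
    ?_, ?_⟩ ?_
  · rintro ⟨a⟩
    change ConjClasses.mk (Φ.symm (Φ a)) = ConjClasses.mk a
    rw [MulEquiv.symm_apply_apply]
  · rintro ⟨a⟩
    change ConjClasses.mk (Φ (Φ.symm a)) = ConjClasses.mk a
    rw [MulEquiv.apply_symm_apply]
  · rintro ⟨a⟩
    constructor
    · rintro ⟨g, hg, ho⟩
      refine ⟨Φ g, ?_, by rw [MulEquiv.orderOf_eq]; exact ho⟩
      rw [← hg]
      rfl
    · rintro ⟨h, hh, ho⟩
      refine ⟨Φ.symm h, ?_, by rw [MulEquiv.orderOf_eq]; exact ho⟩
      have h1 : IsConj h (Φ a) := ConjClasses.mk_eq_mk_iff_isConj.1 hh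
      have h2 := (Φ.symm : H →* G).map_isConj h1
      have h3 : (Φ.symm : H →* G) (Φ a) = a := Φ.symm_apply_apply a
      rw [h3] at h2
      exact ConjClasses.mk_eq_mk_iff_isConj.2 h2

end grp

end Cfsg.Agent.Lib.helper50
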