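import Mathlib
import Cfsg.Prelude.Def_Involutions
import Cfsg.Prelude.Def_LieExceptional
import Cfsg.Agent.Lib.helper42.AICDefs
import Cfsg.Agent.Lib.helper42.AIC_A

/-!
helper50: S2202 piece CS, core (`cit_struct_core`): the structure of a group in which the centralizer of every
involution is an elementary abelian 2-group, in the Sylow model (from the Wave 2 pieces).
-/

set_option autoImplicit false

open Cfsg.Agent.Lib.helper42.AIC

namespace Cfsg.Agent.Lib.helper50.AIC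


/-- `CITH → AIC`. -/
theorem cs_aic {X : Type*} [Group X] (hC : CITH X) : AIC X := fun t ht => (hC t ht).1

/-- a non-cyclic Sylow 2-subgroup contains an involution. -/
theorem cs_exists_inv {X : Type*} [Group X] [Finite X] (hnc : NCyc X) (P : Sylow 2 X) :
    ∃ t : X, t ∈ (P : Subgroup X) ∧ orderOf t = 2 := by
  have hnt : ∃ x : X, x ∈ (P : Subgroup X) ∧ x ≠ 1 := by
    by_contra hcon
    push Not at hcon
    apply hnc P
    have : Subsingleton ↥(P : Subgroup X) :=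
      ⟨fun a b => Subtype.ext ((hcon a a.2).trans (hcon b b.2).symm)⟩
    exact isCyclic_of_subsingleton
  obtain ⟨x, hxP, hx1⟩ := hnt
  obtain ⟨n, hn⟩ := exists_pow_inv P hxP hx1
  exact ⟨x ^ n, pow_mem hxP n, hn⟩

/-- in a `CITH` group, `CP P` has exponent 2. -/
theorem cs_sq {X : Type*} [Group X] [Finite X] (hC : CITH X) (hnc : NCyc X) (P : Sylow 2 X) :
    ∀ x ∈ CP P, x ^ 2 = 1 := by
  obtain ⟨t, htP, ht⟩ := cs_exists_inv hnc P
  intro x hx
  apply (hC t ht).2
  rw [Subgroup.mem_centralizer_iff]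
  intro h hh
  rw [Set.mem_singleton_iff] at hh
  rw [hh]
  exact (Subgroup.mem_centralizer_iff.1 hx) t htP

/-- `CITH → KTI` (odd elements of `CP P` are trivial). -/
theorem cs_kti {X : Type*} [Group X] [Finite X] (hC : CITH X) (hnc : NCyc X) : KTI X := by
  intro P Q _ x hxo hxP _
  have h2 := cs_sq hC hnc P x hxP
  have hd : orderOf x ∣ 2 := orderOf_dvd_of_pow_eq_one h2
  rcases (Nat.dvd_prime Nat.prime_two).1 hd with h | h
  · exact orderOf_eq_one_iff.1 h
  · rw [h] at hxo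
    exact absurd hxo (by decide)

/-- in a `CITH` group, `CP P ≤ P`. -/
theorem cs_cp_le {X : Type*} [Group X] [Finite X] (hC : CITH X) (hnc : NCyc X) (P : Sylow 2 X) :
    CP P ≤ (P : Subgroup X) := by
  intro x hx
  exact mem_of_np P (cp_le_np P hx) 1 (by rw [pow_one]; exact cs_sq hC hnc P x hx)

/-- if no Sylow 2-subgroup is normal, there is a second one. -/
theorem cs_exists_ne {X : Type*} [Group X] (hnn : NNor X) (P : Sylow 2 X) :
    ∃ Q : Sylow 2 X, Q ≠ P := by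
  by_contra hcon
  push Not at hcon
  apply hnn P
  have h1 : Subgroup.normalizer ((P : Subgroup X) : Set X) = ⊤ := by
    rw [eq_top_iff]
    intro g _
    exact Sylow.smul_eq_iff_mem_normalizer.1 (hcon (g • P))
  exact Subgroup.normalizer_eq_top_iff.1 h1

/-- CS core : structure of a CIT group in the Sylow model, the Wave 2 pieces B2, B3a, B3b, C5, C6
for `X` being given as hypotheses. -/
theorem cit_struct_core {X : Type*} [Group X] [Finite X] (hC : CITH X) (hnc : NCyc X)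
    (hnn : NNor X)
    (hB2 : ∀ P Q : Sylow 2 X, P ≠ Q → ∀ x : X, x ∈ CP P → x ∈ NP Q → x = 1)
    (hB3a : ∀ P Q : Sylow 2 X, P ≠ Q →
      Nat.card ↥(NP P ⊓ NP Q) = Nat.card {t : X // orderOf t = 2 ∧ t ∈ (P : Subgroup X)})
    (hB3b : ∀ P Q : Sylow 2 X, P ≠ Q → ∀ w : X, orderOf w = 2 → w • P = Q →
      ∀ d ∈ NP P ⊓ NP Q, w * d * w⁻¹ = d⁻¹)
    (hC5 : ∀ P Q : Sylow 2 X, P ≠ Q → ∀ R : Sylow 2 X, R ≠ P → ∃ c ∈ CP P, c • Q = R)
    (hC6 : ∀ P Q R : Sylow 2 X, P ≠ Q → P ≠ R → Q ≠ R → ∀ g : X, g ∈ NP P → g ∈ NP Q →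
      g ∈ NP R → g = 1) :
    (∀ P : Sylow 2 X, Nat.card (Sylow 2 X) = Nat.card (P : Subgroup X) + 1) ∧
    (∀ P Q R : Sylow 2 X, P ≠ Q → P ≠ R → Q ≠ R → ∀ g : X, g ∈ NP P → g ∈ NP Q → g ∈ NP R →
      g = 1) ∧
    (∀ P Q R : Sylow 2 X, Q ≠ P → R ≠ P → ∃ s ∈ (P : Subgroup X), s • Q = R) ∧
    (∀ P Q : Sylow 2 X, P ≠ Q → ∀ w : X, orderOf w = 2 → w • P = Q →
      ∀ d ∈ NP P ⊓ NP Q, w * d * w⁻¹ = d⁻¹) ∧
    (∀ P Q : Sylow 2 X, P ≠ Q →
      Nat.card ↥(NP P ⊓ NP Q) = Nat.card (P : Subgroup X) - 1) := by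
  classical
  have : Fact (Nat.Prime 2) := ⟨Nat.prime_two⟩
  have hA := cs_aic hC
  have h3 : ∀ P Q R : Sylow 2 X, Q ≠ P → R ≠ P → ∃ s ∈ (P : Subgroup X), s • Q = R := by
    intro P Q R hQP hRP
    obtain ⟨c, hc, hcQ⟩ := hC5 P Q (Ne.symm hQP) R hRP
    exact ⟨c, cs_cp_le hC hnc P hc, hcQ⟩
  refine ⟨?_, ?_, h3, ?_, ?_⟩
  · intro P
    obtain ⟨Q, hQP⟩ := cs_exists_ne hnn P
    have hne' : ∀ s : X, s ∈ (P : Subgroup X) → s • Q ≠ P := by
      intro s hsP hs
      apply hQP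
      have h1 : s⁻¹ • P = P :=
        Sylow.smul_eq_iff_mem_normalizer.2 (Subgroup.le_normalizer (inv_mem hsP))
      have h2 : Q = s⁻¹ • P := by rw [← hs, inv_smul_smul]
      rw [h2, h1]
    have hne : ∀ s : ↥(P : Subgroup X), (s : X) • Q ≠ P := fun s => hne' s.1 s.2
    have hbij : Function.Bijective
        (fun s : ↥(P : Subgroup X) => (⟨(s : X) • Q, hne s⟩ : {R : Sylow 2 X // R ≠ P})) := by
      constructor
      · intro s s' hss
        have h1 : (s : X) • Q = (s' : X) • Q := congrArg Subtype.val hss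
        have h2 : ((s' : X)⁻¹ * (s : X)) • Q = Q := by rw [mul_smul, h1, inv_smul_smul]
        have h3' : (s' : X)⁻¹ * (s : X) ∈ NP Q := Sylow.smul_eq_iff_mem_normalizer.1 h2
        have h4 : (s' : X)⁻¹ * (s : X) ∈ CP P :=
          sylow_le_cp hA hnc P (mul_mem (inv_mem s'.2) s.2)
        have h5 := hB2 P Q (Ne.symm hQP) _ h4 h3'
        rw [inv_mul_eq_one] at h5
        exact Subtype.ext h5.symm
      · rintro ⟨R, hR⟩
        obtain ⟨s, hs, hsQ⟩ := h3 P Q R hQP hR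
        exact ⟨⟨s, hs⟩, Subtype.ext hsQ⟩
    rw [← Nat.card_congr (Equiv.optionSubtypeNe P), Finite.card_option,
      ← Nat.card_congr (Equiv.ofBijective _ hbij)]
  · exact hC6
  · exact hB3b
  · intro P Q hPQ
    rw [hB3a P Q hPQ]
    have hone : ∀ x : X, x ∈ (P : Subgroup X) → x ≠ 1 → orderOf x = 2 := by
      intro x hx hx1
      exact orderOf_eq_prime (cs_sq hC hnc P x (sylow_le_cp hA hnc P hx)) hx1
    let e : {t : X // orderOf t = 2 ∧ t ∈ (P : Subgroup X)} ≃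
        {x : ↥(P : Subgroup X) // x ≠ 1} :=
      { toFun := fun t => ⟨⟨t.1, t.2.2⟩, fun h => by
          have h1 : (t.1 : X) = 1 := congrArg Subtype.val h
          have h2 := t.2.1
          rw [h1, orderOf_one] at h2
          exact absurd h2 (by norm_num)⟩
        invFun := fun x => ⟨x.1.1, hone x.1.1 x.1.2 (fun h => x.2 (Subtype.ext h)), x.1.2⟩
        left_inv := fun _ => rfl
        right_inv := fun _ => rfl }
    have h1 : Nat.card {x : ↥(P : Subgroup X) // x ≠ 1} + 1 = Nat.card ↥(P : Subgroup X) := by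
      rw [← Finite.card_option, Nat.card_congr (Equiv.optionSubtypeNe (1 : ↥(P : Subgroup X)))]
    rw [Nat.card_congr e]
    omega

end Cfsg.Agent.Lib.helper50.AIC
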