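import Mathlib
import Cfsg.Prelude.Def_Involutions
import Cfsg.Prelude.Def_LieExceptional
import Cfsg.Agent.Lib.helper42.AICDefs
import Cfsg.Agent.Lib.helper50.AIC_CScore
import Cfsg.Agent.Lib.helper18.AIC_B2
import Cfsg.Agent.Lib.helper13.AIC_B3
import Cfsg.Agent.Lib.helper13.AIC_C5
import Cfsg.Agent.Lib.helper13.AIC_C6

/-!
helper50: S2202 piece CS (`cit_struct`), verbatim wrapper of `cit_struct_core`.
-/

set_option autoImplicit false

open Cfsg.Agent.Lib.helper42.AIC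

namespace Cfsg.Agent.Lib.helper50.AIC

/-- CS : structure of a CIT group in the Sylow model (from the Wave 2 pieces; `CITH → KTI`) -/
theorem cit_struct {X : Type*} [Group X] [Finite X] (hC : CITH X) (hnc : NCyc X) (hnn : NNor X) :
    (∀ P : Sylow 2 X, Nat.card (Sylow 2 X) = Nat.card (P : Subgroup X) + 1) ∧
    (∀ P Q R : Sylow 2 X, P ≠ Q → P ≠ R → Q ≠ R → ∀ g : X, g ∈ NP P → g ∈ NP Q → g ∈ NP R →
      g = 1) ∧
    (∀ P Q R : Sylow 2 X, Q ≠ P → R ≠ P → ∃ s ∈ (P : Subgroup X), s • Q = R) ∧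
    (∀ P Q : Sylow 2 X, P ≠ Q → ∀ w : X, orderOf w = 2 → w • P = Q →
      ∀ d ∈ NP P ⊓ NP Q, w * d * w⁻¹ = d⁻¹) ∧
    (∀ P Q : Sylow 2 X, P ≠ Q →
      Nat.card ↥(NP P ⊓ NP Q) = Nat.card (P : Subgroup X) - 1) := by
  have hA := cs_aic hC
  have hK := cs_kti hC hnc
  exact cit_struct_core hC hnc hnn
    (fun P Q h _ hx hx' => Cfsg.Agent.Lib.helper18.AIC.cp_inf_np hA hnc hnn hK P Q h hx hx')
    (fun P Q h => Cfsg.Agent.Lib.helper13.AIC.card_D hA hnc hnn hK P Q h)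
    (fun P Q h _ hw hwP => Cfsg.Agent.Lib.helper13.AIC.D_inverted hA hnc hnn hK P Q h hw hwP)
    (fun P Q h R hR => Cfsg.Agent.Lib.helper13.AIC.cp_trans hA hnc hnn hK P Q h R hR)
    (fun P Q R h1 h2 h3 _ hP hQ hR =>
      Cfsg.Agent.Lib.helper13.AIC.three_fix hA hnc hnn hK P Q R h1 h2 h3 hP hQ hR)

end Cfsg.Agent.Lib.helper50.AIC
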