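import Mathlib
import Cfsg.Prelude.Def_Involutions
import Cfsg.Prelude.Def_LieExceptional
import Cfsg.Agent.Lib.helper42.AICDefs
import Cfsg.Agent.Lib.helper42.AIC_A
import Cfsg.Agent.Lib.helper18.AIC_QB2
import Cfsg.Agent.Lib.helper50.AIC_CScore

/-!
helper50: S2202 piece ST, core: the structure `KStruct Z` of a group in which all `K_P` coincide,
transferred from the structure of the quotient `G ⧸ Z` (given as hypotheses) along the Sylow
correspondence QB2.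
-/

set_option autoImplicit false

open Cfsg.Agent.Lib.helper42.AIC

namespace Cfsg.Agent.Lib.helper50.AIC

/-- the order of the preimage of a subgroup of the quotient. -/
theorem st_card_comap {G : Type*} [Group G] [Finite G] (Z : Subgroup G) [Z.Normal]
    (D : Subgroup (G ⧸ Z)) :
    Nat.card ↥(D.comap (QuotientGroup.mk' Z)) = Nat.card ↥D * Nat.card ↥Z := by
  have h1 := Subgroup.card_mul_index (D.comap (QuotientGroup.mk' Z))
  have h2 := Subgroup.card_mul_index D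
  have h3 : (D.comap (QuotientGroup.mk' Z)).index = D.index :=
    Subgroup.index_comap_of_surjective D (QuotientGroup.mk'_surjective Z)
  have h4 : Nat.card G = Nat.card (G ⧸ Z) * Nat.card Z :=
    Subgroup.card_eq_card_quotient_mul_card_subgroup Z
  have h5 : D.index ≠ 0 := Subgroup.index_ne_zero_of_finite
  rw [h3] at h1
  have h6 : Nat.card ↥(D.comap (QuotientGroup.mk' Z)) * D.index =
      (Nat.card ↥D * Nat.card ↥Z) * D.index := by
    rw [h1, h4, ← h2]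
    ring
  exact Nat.eq_of_mul_eq_mul_right (Nat.pos_of_ne_zero h5) h6

/-- ST core: `KStruct Z` from the structure of `G ⧸ Z`. -/
theorem keq_struct_core {G : Type*} [Group G] [Finite G] (Z : Subgroup G) [Z.Normal]
    (hZ : IsKsub Z) (hncq : NCyc (G ⧸ Z)) (hCq : CITH (G ⧸ Z))
    (hCS : (∀ P : Sylow 2 (G ⧸ Z),
        Nat.card (Sylow 2 (G ⧸ Z)) = Nat.card (P : Subgroup (G ⧸ Z)) + 1) ∧
      (∀ P Q R : Sylow 2 (G ⧸ Z), P ≠ Q → P ≠ R → Q ≠ R → ∀ g : G ⧸ Z, g ∈ NP P → g ∈ NP Q →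
        g ∈ NP R → g = 1) ∧
      (∀ P Q R : Sylow 2 (G ⧸ Z), Q ≠ P → R ≠ P → ∃ s ∈ (P : Subgroup (G ⧸ Z)), s • Q = R) ∧
      (∀ P Q : Sylow 2 (G ⧸ Z), P ≠ Q → ∀ w : G ⧸ Z, orderOf w = 2 → w • P = Q →
        ∀ d ∈ NP P ⊓ NP Q, w * d * w⁻¹ = d⁻¹) ∧
      (∀ P Q : Sylow 2 (G ⧸ Z), P ≠ Q →
        Nat.card ↥(NP P ⊓ NP Q) = Nat.card (P : Subgroup (G ⧸ Z)) - 1)) : KStruct Z := by
  classical
  have hp2 : Fact (Nat.Prime 2) := ⟨Nat.prime_two⟩
  have hZo : ∀ z ∈ Z, Odd (orderOf z) := fun z hz => ((hZ z).1 hz).1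
  have hZc : ∀ z ∈ Z, ∀ P : Sylow 2 G, z ∈ CP P := fun z hz => ((hZ z).1 hz).2
  obtain ⟨φ, hφb, hφc, hφe, hφn, -⟩ := Cfsg.Agent.Lib.helper18.AIC.sylow_quot Z hZo hZc
  have hAq : AIC (G ⧸ Z) := fun t ht => (hCq t ht).1
  obtain ⟨c1, c2, c3, c4, c5⟩ := hCS
  have hker : ∀ g : G, QuotientGroup.mk' Z g = 1 ↔ g ∈ Z := by
    intro g
    rw [← MonoidHom.mem_ker, QuotientGroup.ker_mk' Z]
  have hnp : ∀ (g : G) (P : Sylow 2 G), g ∈ NP P ↔ (QuotientGroup.mk' Z g) ∈ NP (φ P) := by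
    intro g P
    constructor
    · intro h
      have h1 : g • P = P := Sylow.smul_eq_iff_mem_normalizer.2 h
      have h2 : (QuotientGroup.mk' Z g) • φ P = φ P := by rw [← hφe, h1]
      exact Sylow.smul_eq_iff_mem_normalizer.1 h2
    · intro h
      have h1 : (QuotientGroup.mk' Z g) • φ P = φ P := Sylow.smul_eq_iff_mem_normalizer.2 h
      rw [← hφe] at h1
      exact Sylow.smul_eq_iff_mem_normalizer.1 (hφb.1 h1)
  have hφne : ∀ P Q : Sylow 2 G, P ≠ Q → φ P ≠ φ Q := fun P Q h h' => h (hφb.1 h')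
  refine ⟨?_, ?_, ?_, ?_, ?_, ?_⟩
  · intro P
    rw [Nat.card_congr (Equiv.ofBijective φ hφb), c1 (φ P), hφn P]
  · intro P x hx
    have h1 : (QuotientGroup.mk' Z x) ^ 2 = 1 := by
      apply cs_sq hCq hncq (φ P)
      apply sylow_le_cp hAq hncq (φ P)
      rw [hφc P]
      exact Subgroup.mem_map_of_mem _ hx
    have h2 : x ^ 2 ∈ Z := by
      rw [← hker, map_pow]
      exact h1
    obtain ⟨k, hk⟩ := Cfsg.Agent.Lib.helper18.AIC.qb2_two_pow P (x ^ 2) (pow_mem hx 2)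
    exact Cfsg.Agent.Lib.helper18.AIC.qb2_odd_two (x ^ 2) (hZo _ h2) k hk
  · intro P Q R hPQ hPR hQR g hgP hgQ hgR
    rw [← hker]
    exact c2 (φ P) (φ Q) (φ R) (hφne P Q hPQ) (hφne P R hPR) (hφne Q R hQR)
      (QuotientGroup.mk' Z g) ((hnp g P).1 hgP) ((hnp g Q).1 hgQ) ((hnp g R).1 hgR)
  · intro P Q R hQP hRP
    obtain ⟨s', hs', hs'Q⟩ := c3 (φ P) (φ Q) (φ R) (hφne Q P hQP) (hφne R P hRP)
    rw [hφc P] at hs'
    obtain ⟨s, hs, rfl⟩ := Subgroup.mem_map.1 hs'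
    refine ⟨s, hs, hφb.1 ?_⟩
    rw [hφe]
    exact hs'Q
  · intro P Q hPQ w hw hwP d hd
    have hw' : orderOf (QuotientGroup.mk' Z w) = 2 := by
      apply orderOf_eq_prime
      · rw [← map_pow, ← hw, pow_orderOf_eq_one, map_one]
      · intro h
        have hwZ : w ∈ Z := (hker w).1 h
        have h1 := hZo w hwZ
        rw [hw] at h1
        exact absurd h1 (by decide)
    have hwP' : (QuotientGroup.mk' Z w) • φ P = φ Q := by rw [← hφe, hwP]
    have hd' : QuotientGroup.mk' Z d ∈ NP (φ P) ⊓ NP (φ Q) :=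
      ⟨(hnp d P).1 hd.1, (hnp d Q).1 hd.2⟩
    have h := c4 (φ P) (φ Q) (hφne P Q hPQ) _ hw' hwP' _ hd'
    refine ⟨d * (w * d * w⁻¹), ?_, by group⟩
    rw [← hker, map_mul, map_mul, map_mul, map_inv, h]
    exact mul_inv_cancel _
  · intro P Q hPQ
    have hDeq : NP P ⊓ NP Q = (NP (φ P) ⊓ NP (φ Q)).comap (QuotientGroup.mk' Z) := by
      ext g
      rw [Subgroup.mem_inf, Subgroup.mem_comap, Subgroup.mem_inf, hnp g P, hnp g Q]
    have hc5 := c5 (φ P) (φ Q) (hφne P Q hPQ)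
    rw [hφn P] at hc5
    rw [hDeq, st_card_comap, hc5]

end Cfsg.Agent.Lib.helper50.AIC
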