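import Mathlib

set_option autoImplicit false

namespace Cfsg.Agent.Lib.helper50.T97

/-- PIECE GS (Gauss sum square) of the S3797 split. -/
theorem gauss_sq {R : Type*} [Group R] (V : Subgroup R) (hVc : V ≤ Subgroup.center R)
    (hsq : ∀ a : R, a * a ∈ V) (hV2 : ∀ v ∈ V, v * v = 1)
    (f : R → ℤ) (hf1 : f 1 = 1) (hfm : ∀ v ∈ V, ∀ w ∈ V, f (v * w) = f v * f w)
    (U : Subgroup R) [Fintype U]
    [DecidablePred fun c : U => ∀ a : U, f ((c : R)⁻¹ * (a : R)⁻¹ * (c : R) * (a : R)) = 1] :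
    (∑ a : U, f ((a : R) * (a : R))) ^ 2 =
      (Fintype.card U : ℤ) * ∑ c : U,
        (if ∀ a : U, f ((c : R)⁻¹ * (a : R)⁻¹ * (c : R) * (a : R)) = 1 then f ((c : R) * (c : R))
          else 0) := by
  have hcen : ∀ v ∈ V, ∀ x : R, x * v = v * x := fun v hv x =>
    Subgroup.mem_center_iff.mp (hVc hv) x
  have hk : ∀ c a : R, c⁻¹ * a⁻¹ * c * a ∈ V := by
    intro c a
    have h1 : c⁻¹ * a⁻¹ * c * a = (c⁻¹ * a⁻¹) * (c⁻¹ * a⁻¹) * ((c * c) * (a * a)) := by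
      have h := hcen (c * c) (hsq c) a
      calc c⁻¹ * a⁻¹ * c * a = (c⁻¹ * a⁻¹) * (c⁻¹ * a⁻¹) * ((a * (c * c)) * a) := by group
        _ = (c⁻¹ * a⁻¹) * (c⁻¹ * a⁻¹) * ((c * c) * (a * a)) := by rw [h]; group
    rw [h1]
    exact V.mul_mem (hsq _) (V.mul_mem (hsq c) (hsq a))
  have hsq2 : ∀ a c : R, (a * c) * (a * c) = (a * a) * ((c * c) * (c⁻¹ * a⁻¹ * c * a)) := by
    intro a c
    have h := hcen _ (hk c a) c
    calc (a * c) * (a * c) = a * a * (c * ((c⁻¹ * a⁻¹ * c * a) * c)) := by group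
      _ = a * a * (c * (c * (c⁻¹ * a⁻¹ * c * a))) := by rw [← h]
      _ = (a * a) * ((c * c) * (c⁻¹ * a⁻¹ * c * a)) := by group
  have hfpm : ∀ v ∈ V, f v * f v = 1 := fun v hv => by rw [← hfm v hv v hv, hV2 v hv, hf1]
  have hfac : ∀ a c : R, f ((a * c) * (a * c)) =
      f (a * a) * (f (c * c) * f (c⁻¹ * a⁻¹ * c * a)) := by
    intro a c
    rw [hsq2, hfm _ (hsq a) _ (V.mul_mem (hsq c) (hk c a)), hfm _ (hsq c) _ (hk c a)]
  have hkm : ∀ c a b : R, f (c⁻¹ * (a * b)⁻¹ * c * (a * b)) =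
      f (c⁻¹ * b⁻¹ * c * b) * f (c⁻¹ * a⁻¹ * c * a) := by
    intro c a b
    have h := hcen _ (hk c a) b
    have h2 : c⁻¹ * (a * b)⁻¹ * c * (a * b) = (c⁻¹ * b⁻¹ * c * b) * (c⁻¹ * a⁻¹ * c * a) := by
      calc c⁻¹ * (a * b)⁻¹ * c * (a * b) = c⁻¹ * b⁻¹ * c * ((c⁻¹ * a⁻¹ * c * a) * b) := by group
        _ = c⁻¹ * b⁻¹ * c * (b * (c⁻¹ * a⁻¹ * c * a)) := by rw [← h]
        _ = (c⁻¹ * b⁻¹ * c * b) * (c⁻¹ * a⁻¹ * c * a) := by group
    rw [h2, hfm _ (hk c b) _ (hk c a)]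
  have hchar : ∀ c : U, ∑ a : U, f ((c : R)⁻¹ * (a : R)⁻¹ * (c : R) * (a : R)) =
      if ∀ a : U, f ((c : R)⁻¹ * (a : R)⁻¹ * (c : R) * (a : R)) = 1 then (Fintype.card U : ℤ)
        else 0 := by
    intro c
    split_ifs with h
    · rw [Finset.sum_congr rfl (fun a _ => h a)]; simp
    · simp only [not_forall] at h
      obtain ⟨b, hb⟩ := h
      have hb1 : f ((c : R)⁻¹ * (b : R)⁻¹ * (c : R) * (b : R)) = -1 := by
        have h3 := hfpm _ (hk (c : R) (b : R))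
        rcases Int.eq_one_or_neg_one_of_mul_eq_one h3 with h4 | h4
        · exact absurd h4 hb
        · exact h4
      have hS : ∑ a : U, f ((c : R)⁻¹ * (a : R)⁻¹ * (c : R) * (a : R)) =
          - ∑ a : U, f ((c : R)⁻¹ * (a : R)⁻¹ * (c : R) * (a : R)) := by
        calc ∑ a : U, f ((c : R)⁻¹ * (a : R)⁻¹ * (c : R) * (a : R))
            = ∑ a : U, f ((c : R)⁻¹ * ((a * b : U) : R)⁻¹ * (c : R) * ((a * b : U) : R)) :=
              (Fintype.sum_equiv (Equiv.mulRight b) _ _ (fun a => rfl)).symm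
          _ = ∑ a : U, -f ((c : R)⁻¹ * (a : R)⁻¹ * (c : R) * (a : R)) := by
              refine Finset.sum_congr rfl (fun a _ => ?_)
              rw [Subgroup.coe_mul, hkm, hb1]; ring
          _ = _ := by rw [Finset.sum_neg_distrib]
      linarith
  have hmain : (∑ a : U, f ((a : R) * (a : R))) ^ 2 =
      ∑ c : U, f ((c : R) * (c : R)) *
        ∑ a : U, f ((c : R)⁻¹ * (a : R)⁻¹ * (c : R) * (a : R)) := by
    rw [sq, Finset.sum_mul_sum]
    calc ∑ a : U, ∑ b : U, f ((a : R) * (a : R)) * f ((b : R) * (b : R))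
        = ∑ a : U, ∑ c : U, f ((a : R) * (a : R)) *
            f (((a * c : U) : R) * ((a * c : U) : R)) := by
          refine Finset.sum_congr rfl (fun a _ => ?_)
          exact (Fintype.sum_equiv (Equiv.mulLeft a) _ _ (fun c => rfl)).symm
      _ = ∑ a : U, ∑ c : U, f ((c : R) * (c : R)) *
            f ((c : R)⁻¹ * (a : R)⁻¹ * (c : R) * (a : R)) := by
          refine Finset.sum_congr rfl (fun a _ => Finset.sum_congr rfl (fun c _ => ?_))
          rw [Subgroup.coe_mul, hfac, ← mul_assoc, hfpm _ (hsq _), one_mul]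
      _ = ∑ c : U, ∑ a : U, f ((c : R) * (c : R)) *
            f ((c : R)⁻¹ * (a : R)⁻¹ * (c : R) * (a : R)) := Finset.sum_comm
      _ = _ := by
          refine Finset.sum_congr rfl (fun c _ => ?_)
          rw [Finset.mul_sum]
  rw [hmain, Finset.mul_sum]
  refine Finset.sum_congr rfl (fun c _ => ?_)
  rw [hchar c]
  split_ifs <;> ring

end Cfsg.Agent.Lib.helper50.T97
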