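import Mathlib
import Cfsg.Prelude.Def_LieTypeDatum
import Cfsg.Agent.Lib.helper50.GraphClass

/-!
# Involutory graph automorphisms of `PSL_n(F)`, `n` odd, `|F|` odd

* `cent_equiv_of_conj`: conjugate elements have isomorphic centralisers in `H`.
* `Aodd`, `cent_odd`: a representative whose centraliser is `PGO(quadFormOdd)`.
* `conj_all_odd`: all symmetric invertible matrices give conjugate graph automorphisms.
-/

set_option autoImplicit false

namespace Cfsg.Agent.Lib.helper50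

open Matrix Cfsg

/-- conjugate elements have isomorphic centralisers -/
theorem cent_equiv_of_conj {X : Type*} [Group X] (H : Subgroup X) {x y : X} (h : IsConjUnder H x y) :
    Nonempty (↥(H ⊓ Subgroup.centralizer {x}) ≃* ↥(H ⊓ Subgroup.centralizer {y})) := by
  obtain ⟨k, hk, rfl⟩ := h
  have hmap : (H ⊓ Subgroup.centralizer {x}).map (MulAut.conj k).toMonoidHom
      = H ⊓ Subgroup.centralizer {k * x * k⁻¹} := by
    ext g
    rw [Subgroup.mem_map, Subgroup.mem_inf, Subgroup.mem_centralizer_singleton_iff]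
    constructor
    · rintro ⟨s, hs, rfl⟩
      rw [Subgroup.mem_inf, Subgroup.mem_centralizer_singleton_iff] at hs
      refine ⟨H.mul_mem (H.mul_mem hk hs.1) (H.inv_mem hk), ?_⟩
      show k * s * k⁻¹ * (k * x * k⁻¹) = k * x * k⁻¹ * (k * s * k⁻¹)
      have h1 : k * s * k⁻¹ * (k * x * k⁻¹) = k * (s * x) * k⁻¹ := by group
      have h2 : k * x * k⁻¹ * (k * s * k⁻¹) = k * (x * s) * k⁻¹ := by group
      rw [h1, h2, hs.2]
    · rintro ⟨hg, hgc⟩
      refine ⟨k⁻¹ * g * k, ?_, ?_⟩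
      · rw [Subgroup.mem_inf, Subgroup.mem_centralizer_singleton_iff]
        refine ⟨H.mul_mem (H.mul_mem (H.inv_mem hk) hg) hk, ?_⟩
        have h1 : k⁻¹ * g * k * x = k⁻¹ * (g * (k * x * k⁻¹)) * k := by group
        have h2 : x * (k⁻¹ * g * k) = k⁻¹ * (k * x * k⁻¹ * g) * k := by group
        rw [h1, h2, hgc]
      · show k * (k⁻¹ * g * k) * k⁻¹ = g
        group
  exact ⟨((MulAut.conj k).subgroupMap (H ⊓ Subgroup.centralizer {x})).trans
    (MulEquiv.subgroupCongr hmap)⟩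

section
variable {n : ℕ} {F : Type*} [Field F]

/-- twice the Gram matrix of `quadFormOdd` -/
def oddMat (m : ℕ) (F : Type*) [Field F] :
    Matrix (Unit ⊕ (Fin m ⊕ Fin m)) (Unit ⊕ (Fin m ⊕ Fin m)) F :=
  Matrix.fromBlocks ((2 : F) • (1 : Matrix Unit Unit F)) 0 0 (plusMat m F)

/-- its inverse -/
def oddMatInv (m : ℕ) (F : Type*) [Field F] :
    Matrix (Unit ⊕ (Fin m ⊕ Fin m)) (Unit ⊕ (Fin m ⊕ Fin m)) F :=
  Matrix.fromBlocks ((2 : F)⁻¹ • (1 : Matrix Unit Unit F)) 0 0 (plusMat m F)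

theorem oddMatInv_mul (m : ℕ) (h2 : (2 : F) ≠ 0) : oddMatInv m F * oddMat m F = 1 := by
  unfold oddMatInv oddMat
  rw [Matrix.fromBlocks_multiply]
  have e1 : ((2 : F)⁻¹ • (1 : Matrix Unit Unit F)) * ((2 : F) • (1 : Matrix Unit Unit F))
      + (0 : Matrix Unit (Fin m ⊕ Fin m) F) * (0 : Matrix (Fin m ⊕ Fin m) Unit F) = 1 := by
    rw [Matrix.zero_mul, add_zero, Matrix.smul_mul, Matrix.mul_smul, Matrix.one_mul, smul_smul,
      inv_mul_cancel₀ h2, one_smul]
  have e4 : (0 : Matrix (Fin m ⊕ Fin m) Unit F) * (0 : Matrix Unit (Fin m ⊕ Fin m) F)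
      + plusMat m F * plusMat m F = 1 := by
    rw [Matrix.zero_mul, zero_add, plusMat_mul_self]
  rw [e1, e4]
  simp [Matrix.fromBlocks_one]

theorem oddMat_transpose (m : ℕ) : (oddMat m F)ᵀ = oddMat m F := by
  unfold oddMat
  rw [Matrix.fromBlocks_transpose, plusMat_transpose]
  simp

theorem oddMatInv_transpose (m : ℕ) : (oddMatInv m F)ᵀ = oddMatInv m F := by
  unfold oddMatInv
  rw [Matrix.fromBlocks_transpose, plusMat_transpose]
  simp

theorem quadFormOdd_eq (m : ℕ) (v : Unit ⊕ (Fin m ⊕ Fin m) → F) :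
    quadFormOdd m F v = v (Sum.inl ()) * v (Sum.inl ()) + quadFormPlus m F (v ∘ Sum.inr) := by
  unfold quadFormOdd quadFormPlus
  rw [pow_two]
  rfl

theorem oddMat_quad (m : ℕ) (v : Unit ⊕ (Fin m ⊕ Fin m) → F) :
    v ⬝ᵥ oddMat m F *ᵥ v = 2 * quadFormOdd m F v := by
  rw [quadFormOdd_eq]
  unfold oddMat
  rw [Matrix.fromBlocks_mulVec]
  simp only [Matrix.zero_mulVec, zero_add, add_zero]
  rw [dotProduct, Fintype.sum_sum_type]
  simp only [Sum.elim_inl, Sum.elim_inr]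
  have e1 : ∑ x : Unit, v (Sum.inl x) * (((2 : F) • (1 : Matrix Unit Unit F)) *ᵥ (v ∘ Sum.inl)) x
      = 2 * (v (Sum.inl ()) * v (Sum.inl ())) := by
    rw [Fintype.sum_unique, Matrix.smul_mulVec, Matrix.one_mulVec]
    simp only [Pi.smul_apply, Function.comp_apply, smul_eq_mul]
    show v (Sum.inl ()) * (2 * v (Sum.inl ())) = _
    ring
  have e2 : ∑ x : Fin m ⊕ Fin m, v (Sum.inr x) * (plusMat m F *ᵥ (v ∘ Sum.inr)) x
      = (v ∘ Sum.inr) ⬝ᵥ plusMat m F *ᵥ (v ∘ Sum.inr) := rfl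
  rw [e1, e2, plusMat_quad]
  ring

/-- the representative for `n` odd, `2 ≠ 0` -/
def Aodd {m : ℕ} (h2 : (2 : F) ≠ 0) (e : Fin n ≃ Unit ⊕ (Fin m ⊕ Fin m)) : GL (Fin n) F :=
  reGL e (oddMatInv m F) (oddMat m F) (oddMatInv_mul m h2)

theorem cent_odd (h2 : (2 : F) ≠ 0) {m : ℕ} (e : Fin n ≃ Unit ⊕ (Fin m ⊕ Fin m)) :
    Nonempty (↥(inndiagPSL n F ⊓ Subgroup.centralizer {graphAut (Aodd h2 e)})
      ≃* PGO F (quadFormOdd m F)) := by
  obtain ⟨e₀⟩ := graph_cent_quad h2 (Aodd h2 e) ((oddMat m F).submatrix e e)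
    (by rw [Matrix.transpose_submatrix, oddMat_transpose]) (reGL_mul e _ _ _)
  obtain ⟨e₁⟩ := pgo_congr_of_linearEquiv
    (fun v : Fin n → F => v ⬝ᵥ ((oddMat m F).submatrix e e) *ᵥ v) (quadFormOdd m F)
    (LinearEquiv.funCongrLeft F F e.symm) (2⁻¹) (inv_ne_zero h2) (fun v => by
      rw [dot_submatrix, oddMat_quad, inv_mul_cancel_left₀ h2]
      rfl)
  exact ⟨e₀.trans e₁⟩

theorem Aodd_transpose (h2 : (2 : F) ≠ 0) {m : ℕ} (e : Fin n ≃ Unit ⊕ (Fin m ⊕ Fin m)) :
    (Aodd h2 e : Matrix (Fin n) (Fin n) F)ᵀ = (Aodd h2 e : Matrix (Fin n) (Fin n) F) := by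
  show ((oddMatInv m F).submatrix e e)ᵀ = (oddMatInv m F).submatrix e e
  rw [Matrix.transpose_submatrix, oddMatInv_transpose]

/-- there is no invertible skew-symmetric matrix of odd size when `2 ≠ 0` -/
theorem not_skew_of_odd (h2 : (2 : F) ≠ 0) {m : ℕ} (hn : n = 2 * m + 1) (A : GL (Fin n) F)
    (hA : (A : Matrix (Fin n) (Fin n) F)ᵀ = -(A : Matrix (Fin n) (Fin n) F)) : False := by
  subst hn
  have h1 := congrArg Matrix.det hA
  rw [Matrix.det_transpose, Matrix.det_neg, Fintype.card_fin, pow_succ, pow_mul] at h1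
  have h4 : ((-1 : F) ^ 2) ^ m = 1 := by simp
  rw [h4] at h1
  have h3 : (2 : F) * (A : Matrix (Fin (2 * m + 1)) (Fin (2 * m + 1)) F).det = 0 := by
    linear_combination h1
  rcases mul_eq_zero.mp h3 with h | h
  · exact h2 h
  · exact Matrix.GeneralLinearGroup.det_ne_zero A h

/-- For `n` odd and `|F|` odd, any two symmetric invertible matrices give `Inndiag`-conjugate graph
automorphisms. -/
theorem conj_all_odd [Finite F] (h2 : (2 : F) ≠ 0) {m : ℕ} (hn : n = 2 * m + 1) (A A' : GL (Fin n) F)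
    (hA : (A : Matrix (Fin n) (Fin n) F)ᵀ = (A : Matrix (Fin n) (Fin n) F))
    (hA' : (A' : Matrix (Fin n) (Fin n) F)ᵀ = (A' : Matrix (Fin n) (Fin n) F)) :
    IsConjUnder (inndiagPSL n F) (graphAut A) (graphAut A') := by
  subst hn
  have hchar : ringChar F ≠ 2 := by
    intro h
    apply h2
    have := CharP.cast_eq_zero F (ringChar F)
    rw [h] at this
    exact_mod_cast this
  have : Fintype F := Fintype.ofFinite F
  obtain ⟨α, hα⟩ := FiniteField.exists_nonsquare hchar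
  have hα0 : α ≠ 0 := by
    rintro rfl
    exact hα ⟨0, by simp⟩
  obtain ⟨g, δ, hδ, hg⟩ := exists_cong_diag h2 α hα A hA
  obtain ⟨g', δ', hδ', hg'⟩ := exists_cong_diag h2 α hα A' hA'
  by_cases hδδ : δ = δ'
  · rw [hδδ] at hg
    exact conj_of_same A' A g' g _ hg' hg
  · obtain ⟨Aα, hAα⟩ : ∃ Aα : GL (Fin (2 * m + 1)) F,
        (Aα : Matrix (Fin (2 * m + 1)) (Fin (2 * m + 1)) F)
          = α • (A : Matrix (Fin (2 * m + 1)) (Fin (2 * m + 1)) F) :=
      ⟨Matrix.GeneralLinearGroup.mkOfDetNeZero (α • (A : Matrix (Fin (2 * m + 1)) (Fin (2 * m + 1)) F))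
        (by
          rw [Matrix.det_smul]
          exact mul_ne_zero (pow_ne_zero _ hα0) (Matrix.GeneralLinearGroup.det_ne_zero A)), rfl⟩
    have hAαT : (Aα : Matrix (Fin (2 * m + 1)) (Fin (2 * m + 1)) F)ᵀ
        = (Aα : Matrix (Fin (2 * m + 1)) (Fin (2 * m + 1)) F) := by
      rw [hAα, Matrix.transpose_smul, hA]
    obtain ⟨g₂, δ₂, hδ₂, hg₂⟩ := exists_cong_diag h2 α hα Aα hAαT
    have hne : δ₂ ≠ δ := by
      intro h
      rw [h] at hg₂
      have hdet := congrArg Matrix.det (hg₂.trans hg.symm)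
      rw [Matrix.det_mul, Matrix.det_mul, Matrix.det_transpose, Matrix.det_mul, Matrix.det_mul,
        Matrix.det_transpose, hAα, Matrix.det_smul, Fintype.card_fin] at hdet
      have hdA := Matrix.GeneralLinearGroup.det_ne_zero A
      have hdg₂ := Matrix.GeneralLinearGroup.det_ne_zero g₂
      apply hα
      refine ⟨(g : Matrix (Fin (2 * m + 1)) (Fin (2 * m + 1)) F).det
        / ((g₂ : Matrix (Fin (2 * m + 1)) (Fin (2 * m + 1)) F).det * α ^ m), ?_⟩
      have hαm : α ^ m ≠ 0 := pow_ne_zero _ hα0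
      field_simp
      have h5 : (g₂ : Matrix (Fin (2 * m + 1)) (Fin (2 * m + 1)) F).det ^ 2 * α ^ (2 * m + 1)
          = (g : Matrix (Fin (2 * m + 1)) (Fin (2 * m + 1)) F).det ^ 2 := by
        apply mul_right_cancel₀ hdA
        linear_combination hdet
      rw [← h5]
      ring
    have hδ₂' : δ₂ = δ' := by
      rcases hδ with h | h <;> rcases hδ' with h' | h' <;> rcases hδ₂ with h₂ | h₂
      · exact absurd (h.trans h'.symm) hδδ
      · exact absurd (h.trans h'.symm) hδδ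
      · exact absurd (h₂.trans h.symm) hne
      · exact h₂.trans h'.symm
      · exact h₂.trans h'.symm
      · exact absurd (h₂.trans h.symm) hne
      · exact absurd (h.trans h'.symm) hδδ
      · exact absurd (h.trans h'.symm) hδδ
    rw [hδ₂'] at hg₂
    have c1 : IsConjUnder (inndiagPSL (2 * m + 1) F) (graphAut Aα) (graphAut A') :=
      conj_of_same A' Aα g' g₂ _ hg' hg₂
    have c2 : IsConjUnder (inndiagPSL (2 * m + 1) F) (graphAut A) (graphAut Aα) :=
      (isConjUnder_graphAut_iff A Aα).mpr ⟨1, Units.mk0 α hα0, by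
        rw [hAα]
        simp⟩
    exact isConjUnder_trans _ c2 c1

end

end Cfsg.Agent.Lib.helper50
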