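import Cfsg.Agent.Lib.helper50.S2686OCOREa
import Cfsg.Agent.Lib.helper65.S2686OREFL
import Cfsg.Agent.Lib.helper27.S2686OGEO
import Cfsg.Agent.Lib.helper39.S2686FX

/-!
# S2686, piece O-CORE

`NoCore 2 x` for the orthogonal-type graph automorphism `x = cAut (dlast N δ) * gAut` of
`PSL_{N+1}(F)` (`N ≥ 2`, odd characteristic): exact statement of `tools/S2686_SPEC.md`.
-/

set_option autoImplicit false

namespace Cfsg.Agent.Lib.helper50.S2686

open Matrix Cfsg
open Cfsg.Agent.Lib.helper47.PSLn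
open Cfsg.Agent.Lib.helper48.LB
open Cfsg.Agent.Lib.helper48.AbsBal (fixG)

variable {n : ℕ} {F : Type*} [Field F] [Fintype F]

theorem orth_noCore {r f : ℕ} [Fact r.Prime] (hF : Fintype.card F = r ^ f) {N : ℕ} (hN : 2 ≤ N)
    (h2 : (2 : F) ≠ 0) (δ : Fˣ) (hδN : (δ : F) = 1 ∨ 3 ≤ N) :
    NoCore 2 (cAut (dlast N δ) * gAut : MulAut (ProjectiveSpecialLinearGroup (Fin (N + 1)) F)) := by
  have hG : (Dlast N ((δ⁻¹ : Fˣ) : F))ᵀ = Dlast N ((δ⁻¹ : Fˣ) : F) := Dlast_transpose N _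
  have h3 : 3 ≤ Fintype.card (Fin (N + 1)) := by rw [Fintype.card_fin]; omega
  have hGD : Dlast N ((δ⁻¹ : Fˣ) : F) * (dlast N δ).1 = 1 := (dlast N δ).inv_val
  have hdet : (Dlast N ((δ⁻¹ : Fˣ) : F)).det ≠ 0 := by
    intro h0
    have h1 := congrArg Matrix.det hGD
    rw [Matrix.det_mul, h0, zero_mul, Matrix.det_one] at h1
    exact zero_ne_one h1
  exact orth_noCore_of hN δ _ rfl
    (fun v hv => Cfsg.Agent.Lib.helper65.S2686.refl_mul_self _ hG v hv)
    (fun v hv => Cfsg.Agent.Lib.helper65.S2686.refl_isometry _ hG v hv)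
    (fun h h' hh c hc hsim v =>
      Cfsg.Agent.Lib.helper65.S2686.refl_conj _ hG h h' hh c hc hsim v)
    (fun a b ha hb hab => Cfsg.Agent.Lib.helper65.S2686.refl_perp_sq _ hG a b ha hb hab)
    (fun a b ha hb hab c =>
      Cfsg.Agent.Lib.helper65.S2686.refl_perp_not_scalar h2 _ hG h3 a b ha hb hab c)
    (fun v w hv hw hvw =>
      Cfsg.Agent.Lib.helper27.S2686.exists_perp_image h2 _ hG hdet h3 v w hv hw hvw)
    (fun s hs => (Cfsg.Agent.Lib.helper39.S2686.graph_fix_iff (by omega) (dlast N δ) s).mp hs)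
    (fun g c hg => Cfsg.Agent.Lib.helper39.S2686.graph_comm (dlast N δ) g c hg)

end Cfsg.Agent.Lib.helper50.S2686
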