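import Cfsg.Agent.Lib.helper48.LBRefl
import Cfsg.Agent.Lib.helper50.PSUTransfer
import Cfsg.Agent.Lib.helper50.PSUF4
import Cfsg.Agent.Lib.helper48.PSUOut
import Cfsg.Agent.S0283

/-!
# S2687, piece LOC

A unitary transvection `s` whose image in `PSU_n` is fixed by `phiPSU g * fieldPSU τ`: the
semilinear map `x ↦ g τ(x)` fixes the isotropic line of `s`.  (Local version of
`fix_isotropic_of_eq_one`.)
-/

set_option autoImplicit false

namespace Cfsg.Agent.Lib.helper50.S2687

open Matrix Cfsg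
open Cfsg.Agent.Lib.helper50
open Cfsg.Agent.Lib.helper48.LB
open Cfsg.Agent.Lib.helper48.AbsBal (fixG)
open Cfsg.Agent.Lib.helper99 (suMat)

universe u v

variable {n q : ℕ} {F : Type u} [Field F] [Fintype F]

/-- LOC -/
theorem fix_isotropic_of_fix_transv (hF : Fintype.card F = q ^ 2) (hn : 3 ≤ n) (g : ↥(GU n F q))
    (τ : F ≃+* F) (v : Fin n → F) (hv : hermForm n F q v v = 0) (c : F) (hc0 : c ≠ 0)
    (s : ↥(SU n F q)) (hs : suMat s = unitaryTransvection n q v c)
    (h : (phiPSU g * fieldPSU τ : MulAut (PSU n F q)) (QuotientGroup.mk s) = QuotientGroup.mk s) :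
    ∃ μ : F, ((g : GL (Fin n) F) : Matrix (Fin n) (Fin n) F) *ᵥ (fun i => τ (v i)) = μ • v := by
  classical
  by_cases hv0 : v = 0
  · refine ⟨0, ?_⟩
    subst hv0
    have : (fun i : Fin n => τ ((0 : Fin n → F) i)) = 0 := by
      funext i
      simp
    rw [this, Matrix.mulVec_zero, zero_smul]
  have hq0 : q ≠ 0 := by
    have := Cfsg.Agent.Lib.helper17.two_le_of_card_eq_sq hF
    omega
  have i0 : Fin n := ⟨0, by omega⟩
  have h1 := h
  rw [MulAut.mul_apply, fieldPSU_mk, phiPSU_mk, QuotientGroup.eq] at h1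
  obtain ⟨ζ, hζ⟩ := central_scalar hF i0 _ h1
  obtain ⟨G, hG⟩ : ∃ G : Matrix (Fin n) (Fin n) F,
      G = ((g : GL (Fin n) F) : Matrix (Fin n) (Fin n) F) := ⟨_, rfl⟩
  obtain ⟨Gi, hGi⟩ : ∃ Gi : Matrix (Fin n) (Fin n) F,
      Gi = (((g⁻¹ : ↥(GU n F q)) : GL (Fin n) F) : Matrix (Fin n) (Fin n) F) := ⟨_, rfl⟩
  have hGGi : G * Gi = 1 := by
    rw [hG, hGi]
    exact Units.mul_inv (g : GL (Fin n) F)
  have hGiso : ∀ u w : Fin n → F, hermForm n F q (G *ᵥ u) (G *ᵥ w) = hermForm n F q u w := by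
    rw [hG]
    exact (mem_GU_iff' _).mp g.2
  obtain ⟨w, hw⟩ : ∃ w : Fin n → F, w = G *ᵥ (fun i => τ (v i)) := ⟨_, rfl⟩
  -- the matrix identity
  have hW : (((conjSU g (fieldSU τ s) : ↥(SU n F q)) : Matrix.SpecialLinearGroup (Fin n) F)
      : Matrix (Fin n) (Fin n) F) = unitaryTransvection n q w (τ c) := by
    rw [conjSU_coe, fieldSU_coe, ← hG, ← hGi]
    have e1 : ((s : Matrix.SpecialLinearGroup (Fin n) F) : Matrix (Fin n) (Fin n) F)
        = unitaryTransvection n q v c := hs
    rw [e1, transv_map, ← transv_conj_isom G hGiso, ← hw, Matrix.mul_assoc, hGGi, Matrix.mul_one]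
  have hmat : unitaryTransvection n q v c = ζ • unitaryTransvection n q w (τ c) := by
    have e2 : s = conjSU g (fieldSU τ s) * ((conjSU g (fieldSU τ s))⁻¹ * s) := by group
    have e3 := congrArg (fun t : ↥(SU n F q) =>
      ((t : Matrix.SpecialLinearGroup (Fin n) F) : Matrix (Fin n) (Fin n) F)) e2
    have e4 : ((s : Matrix.SpecialLinearGroup (Fin n) F) : Matrix (Fin n) (Fin n) F)
        = (((conjSU g (fieldSU τ s) : ↥(SU n F q)) : Matrix.SpecialLinearGroup (Fin n) F)
          : Matrix (Fin n) (Fin n) F)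
          * ((((conjSU g (fieldSU τ s))⁻¹ * s : ↥(SU n F q)) : Matrix.SpecialLinearGroup (Fin n) F)
          : Matrix (Fin n) (Fin n) F) := e3
    rw [hζ, hW, Matrix.mul_smul, Matrix.mul_one] at e4
    rw [← e4]
    exact hs.symm
  have hvec : ∀ x : Fin n → F, x + (c * hermForm n F q x v) • v
      = ζ • (x + (τ c * hermForm n F q x w) • w) := by
    intro x
    have := congrArg (fun M : Matrix (Fin n) (Fin n) F => M *ᵥ x) hmat
    simp only [Matrix.smul_mulVec, Cfsg.Agent.Lib.helper17.unitaryTransvection_mulVec] at this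
    exact this
  -- a nonzero vector orthogonal to `v` and `w`
  let L : (Fin n → F) →ₗ[F] (Fin 2 → F) :=
    { toFun := fun x => ![hermForm n F q x v, hermForm n F q x w]
      map_add' := fun x y => by
        rw [Cfsg.Agent.Lib.helper17.hermForm_add_left, Cfsg.Agent.Lib.helper17.hermForm_add_left]
        funext k
        fin_cases k <;> simp
      map_smul' := fun a x => by
        rw [Cfsg.Agent.Lib.helper17.hermForm_smul_left, Cfsg.Agent.Lib.helper17.hermForm_smul_left]
        funext k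
        fin_cases k <;> simp }
  have hker : LinearMap.ker L ≠ ⊥ := by
    apply LinearMap.ker_ne_bot_of_finrank_lt
    rw [Module.finrank_fin_fun, Module.finrank_fin_fun]
    omega
  obtain ⟨x₀, hx₀mem, hx₀⟩ := (Submodule.ne_bot_iff _).mp hker
  have hx₀v : hermForm n F q x₀ v = 0 := by
    have := congrFun (LinearMap.mem_ker.mp hx₀mem) 0
    exact this
  have hx₀w : hermForm n F q x₀ w = 0 := by
    have := congrFun (LinearMap.mem_ker.mp hx₀mem) 1
    exact this
  have hζ1 : ζ = 1 := by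
    have e5 := hvec x₀
    simp only [hx₀v, hx₀w, mul_zero, zero_smul, add_zero] at e5
    obtain ⟨k, hk⟩ : ∃ k, x₀ k ≠ 0 := by
      by_contra hcon
      apply hx₀
      funext k
      by_contra hk
      exact hcon ⟨k, hk⟩
    have e6 := congrFun e5 k
    rw [Pi.smul_apply, smul_eq_mul] at e6
    have e7 : (ζ - 1) * x₀ k = 0 := by linear_combination -e6
    rcases mul_eq_zero.mp e7 with h7 | h7
    · exact sub_eq_zero.mp h7
    · exact absurd h7 hk
  have hvec' : ∀ x : Fin n → F, (c * hermForm n F q x v) • v = (τ c * hermForm n F q x w) • w := by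
    intro x
    have := hvec x
    rw [hζ1, one_smul] at this
    exact add_left_cancel this
  obtain ⟨j, hj⟩ : ∃ j, v j ≠ 0 := by
    by_contra hcon
    apply hv0
    funext k
    by_contra hk
    exact hcon ⟨k, hk⟩
  have hx₁ : hermForm n F q (Pi.single j 1) v = v j ^ q := by
    unfold hermForm
    rw [Finset.sum_eq_single j]
    · simp
    · intro k _ hk
      simp [Pi.single_apply, hk]
    · intro h
      exact absurd (Finset.mem_univ j) h
  have e8 := hvec' (Pi.single j 1)
  rw [hx₁] at e8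
  obtain ⟨a, ha⟩ : ∃ a : F, a = c * v j ^ q := ⟨_, rfl⟩
  obtain ⟨b', hb'⟩ : ∃ b' : F, b' = τ c * hermForm n F q (Pi.single j 1) w := ⟨_, rfl⟩
  rw [← ha, ← hb'] at e8
  have ha0 : a ≠ 0 := by
    rw [ha]
    exact mul_ne_zero hc0 (pow_ne_zero _ hj)
  have hb0 : b' ≠ 0 := by
    intro h0
    rw [h0, zero_smul] at e8
    have := congrFun e8 j
    rw [Pi.smul_apply, smul_eq_mul, Pi.zero_apply] at this
    rcases mul_eq_zero.mp this with h9 | h9
    · exact ha0 h9
    · exact hj h9
  refine ⟨b'⁻¹ * a, ?_⟩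
  rw [← hG, ← hw, ← smul_smul, e8, smul_smul, inv_mul_cancel₀ hb0, one_smul]

end Cfsg.Agent.Lib.helper50.S2687
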