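import Cfsg.Agent.Lib.helper48.LBRefl
import Cfsg.Agent.Lib.helper50.PSUTransfer
import Cfsg.Agent.Lib.helper50.PSUF4
import Cfsg.Agent.Lib.helper48.PSUOut
import Cfsg.Agent.S0283

/-!
# S2687, piece REL

A semilinear map `x ↦ M τ(x)` fixing every isotropic line spanned by a vector with coordinates in a
subfield `S` (with `|S| = q₀²` and `x ^ q = x ^ q₀` on `S`) is a scalar, and `τ` fixes `S`
pointwise.  (Relative version of `semilinear_fix_isotropic`.)
-/

set_option autoImplicit false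

namespace Cfsg.Agent.Lib.helper50.S2687

open Matrix Cfsg
open Cfsg.Agent.Lib.helper50
open Cfsg.Agent.Lib.helper48.LB
open Cfsg.Agent.Lib.helper48.AbsBal (fixG)
open Cfsg.Agent.Lib.helper99 (suMat)

universe u v

variable {n q : ℕ} {F : Type u} [Field F] [Fintype F]

/-- REL -/
theorem semilinear_fix_isotropic_rel (hF : Fintype.card F = q ^ 2) (hn : 3 ≤ n) (S : Subfield F)
    {q₀ : ℕ} (hS : Nat.card S = q₀ ^ 2) (hpow : ∀ x : S, (x : F) ^ q = (x : F) ^ q₀)
    (M : Matrix (Fin n) (Fin n) F) (hM : M.det ≠ 0) (τ : F ≃+* F)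
    (h : ∀ v : Fin n → F, (∀ i, v i ∈ S) → hermForm n F q v v = 0 →
      ∃ μ : F, M *ᵥ (fun i => τ (v i)) = μ • v) :
    (∀ x ∈ S, τ x = x) ∧ ∃ ρ : F, M = ρ • (1 : Matrix (Fin n) (Fin n) F) := by
  classical
  have hq2 : 2 ≤ q := Cfsg.Agent.Lib.helper17.two_le_of_card_eq_sq hF
  have hq0 : q ≠ 0 := by omega
  haveI : Fintype S := Fintype.ofFinite S
  have hS' : Fintype.card S = q₀ ^ 2 := by
    rw [← Nat.card_eq_fintype_card]
    exact hS
  -- surjectivity of the norm inside `S`
  have hnorm : ∀ β : F, β ∈ S → β ≠ 0 → β ^ q = β → ∃ c : F, c ∈ S ∧ c * c ^ q = β := by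
    intro β hβS hβ0 hβ
    have hβ' : (⟨β, hβS⟩ : S) ^ q₀ = ⟨β, hβS⟩ := by
      apply Subtype.ext
      rw [SubmonoidClass.coe_pow]
      show β ^ q₀ = β
      have h1 := hpow ⟨β, hβS⟩
      rw [← h1]
      exact hβ
    have hβ0' : (⟨β, hβS⟩ : S) ≠ 0 := by
      intro h0
      apply hβ0
      exact congrArg Subtype.val h0
    obtain ⟨c, hc⟩ := Cfsg.Agent.Lib.helper99.exists_norm_eq hS' (⟨β, hβS⟩ : S) hβ0' hβ'
    refine ⟨(c : F), c.2, ?_⟩
    rw [hpow c]
    have h1 := congrArg Subtype.val hc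
    rw [Subfield.coe_mul, SubmonoidClass.coe_pow] at h1
    exact h1
  obtain ⟨b, hbS, hb⟩ := hnorm (-1) (S.neg_mem S.one_mem) (neg_ne_zero.mpr one_ne_zero)
    (by rw [Cfsg.Agent.Lib.helper17.neg_pow_q hF, one_pow])
  have hb0 : b ≠ 0 := by
    rintro rfl
    rw [zero_mul] at hb
    exact one_ne_zero (neg_eq_zero.mp hb.symm)
  obtain ⟨ζ, hζS, hζ, hζ1⟩ : ∃ ζ : F, ζ ∈ S ∧ ζ * ζ ^ q = 1 ∧ ζ ≠ 1 := by
    obtain ⟨l, hl, hl1⟩ := Cfsg.Agent.Lib.helper7.exists_norm_one_ne_one hS'
    refine ⟨(l : F), l.2, ?_, ?_⟩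
    · rw [hpow l]
      have h1 := congrArg Subtype.val hl
      rw [Subfield.coe_mul, SubmonoidClass.coe_pow] at h1
      exact h1
    · intro h1
      apply hl1
      exact Subtype.ext h1
  -- coordinates in `S`
  have hone : ∀ (i k : Fin n), (Pi.single i (1 : F) : Fin n → F) k ∈ S := by
    intro i k
    rw [Pi.single_apply]
    split_ifs
    · exact S.one_mem
    · exact S.zero_mem
  have hmem2 : ∀ (i j : Fin n) (c : F), c ∈ S →
      ∀ k, (Pi.single i 1 + c • Pi.single j 1 : Fin n → F) k ∈ S := by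
    intro i j c hc k
    rw [Pi.add_apply, Pi.smul_apply, smul_eq_mul]
    exact S.add_mem (hone i k) (S.mul_mem hc (hone j k))
  have hmem3 : ∀ (i j k : Fin n) (x y : F), x ∈ S → y ∈ S →
      ∀ l, (x • Pi.single i 1 + y • Pi.single j 1 + Pi.single k 1 : Fin n → F) l ∈ S := by
    intro i j k x y hx hy l
    rw [Pi.add_apply, Pi.add_apply, Pi.smul_apply, Pi.smul_apply, smul_eq_mul, smul_eq_mul]
    exact S.add_mem (S.add_mem (S.mul_mem hx (hone i l)) (S.mul_mem hy (hone j l))) (hone k l)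
  -- isotropy of the two-term vectors
  have hiso2 : ∀ (i j : Fin n), i ≠ j → ∀ c : F, c * c ^ q = -1 →
      hermForm n F q (Pi.single i 1 + c • Pi.single j 1) (Pi.single i 1 + c • Pi.single j 1) = 0 := by
    intro i j hij c hc
    rw [Cfsg.Agent.Lib.helper17.hermForm_add_left, Cfsg.Agent.Lib.helper17.hermForm_add_right hF,
      Cfsg.Agent.Lib.helper17.hermForm_add_right hF, Cfsg.Agent.Lib.helper17.hermForm_smul_left,
      Cfsg.Agent.Lib.helper17.hermForm_smul_left, Cfsg.Agent.Lib.helper17.hermForm_smul_right,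
      Cfsg.Agent.Lib.helper17.hermForm_smul_right, herm_single_single hq0, herm_single_single hq0,
      herm_single_single hq0, herm_single_single hq0, if_pos rfl, if_pos rfl, if_neg hij,
      if_neg (Ne.symm hij)]
    linear_combination hc
  -- off-diagonal entries vanish
  have hoff : ∀ l j : Fin n, l ≠ j → M l j = 0 := by
    intro l j hlj
    obtain ⟨i, hil, hij⟩ := exists_third hn l j
    have key : ∀ c : F, c ∈ S → c * c ^ q = -1 → M l i + τ c * M l j = 0 := by
      intro c hcS hc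
      obtain ⟨μ, hμ⟩ := h _ (hmem2 i j c hcS) (hiso2 i j hij c hc)
      rw [tau_vec2, Matrix.mulVec_add, Matrix.mulVec_smul, Matrix.mulVec_single_one,
        Matrix.mulVec_single_one] at hμ
      have := congrFun hμ l
      simp only [Pi.add_apply, Pi.smul_apply, smul_eq_mul, Matrix.col_apply, Pi.single_apply,
        if_neg (Ne.symm hil), if_neg hlj, mul_zero, add_zero] at this
      exact this
    have h1 := key b hbS hb
    have h2 := key (b * ζ) (S.mul_mem hbS hζS) (by
      rw [mul_pow]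
      linear_combination ζ * ζ ^ q * hb - hζ)
    have h3 : τ b * (1 - τ ζ) * M l j = 0 := by
      rw [map_mul] at h2
      linear_combination h1 - h2
    have hτb : τ b ≠ 0 := by
      rw [Ne, map_eq_zero_iff τ τ.injective]
      exact hb0
    have hτζ : (1 : F) - τ ζ ≠ 0 := by
      intro h0
      apply hζ1
      apply τ.injective
      rw [map_one]
      exact (sub_eq_zero.mp h0).symm
    rcases mul_eq_zero.mp h3 with h4 | h4
    · rcases mul_eq_zero.mp h4 with h5 | h5
      · exact absurd h5 hτb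
      · exact absurd h5 hτζ
    · exact h4
  -- relation between diagonal entries
  have hdiag : ∀ i k : Fin n, i ≠ k → ∀ x : F, x ∈ S → τ x * M i i = M k k * x := by
    intro i k hik x hxS
    obtain ⟨j, hji, hjk⟩ := exists_third hn i k
    obtain ⟨y, hyS, hy⟩ : ∃ y : F, y ∈ S ∧ y * y ^ q = -1 - x * x ^ q := by
      by_cases h0 : -1 - x * x ^ q = 0
      · exact ⟨0, S.zero_mem, by rw [h0, zero_mul]⟩
      · exact hnorm _ (S.sub_mem (S.neg_mem S.one_mem) (S.mul_mem hxS (S.pow_mem hxS q))) h0 (by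
          rw [Cfsg.Agent.Lib.helper17.sub_pow_q hF, Cfsg.Agent.Lib.helper17.neg_pow_q hF, one_pow,
            mul_pow, Cfsg.Agent.Lib.helper17.pow_q_pow_q hF]
          ring)
    have hiso : hermForm n F q (x • Pi.single i 1 + y • Pi.single j 1 + Pi.single k 1)
        (x • Pi.single i 1 + y • Pi.single j 1 + Pi.single k 1) = 0 := by
      simp only [Cfsg.Agent.Lib.helper17.hermForm_add_left,
        Cfsg.Agent.Lib.helper17.hermForm_add_right hF,
        Cfsg.Agent.Lib.helper17.hermForm_smul_left, Cfsg.Agent.Lib.helper17.hermForm_smul_right,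
        herm_single_single hq0, if_neg hik, if_neg (Ne.symm hik), if_neg hji,
        if_neg (Ne.symm hji), if_neg hjk, if_neg (Ne.symm hjk), if_true]
      linear_combination hy
    obtain ⟨μ, hμ⟩ := h _ (hmem3 i j k x y hxS hyS) hiso
    rw [tau_vec3, Matrix.mulVec_add, Matrix.mulVec_add, Matrix.mulVec_smul, Matrix.mulVec_smul,
      Matrix.mulVec_single_one, Matrix.mulVec_single_one, Matrix.mulVec_single_one] at hμ
    have e1 := congrFun hμ k
    have e2 := congrFun hμ i
    simp only [Pi.add_apply, Pi.smul_apply, smul_eq_mul, Matrix.col_apply, Pi.single_apply,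
      if_neg (Ne.symm hik), if_neg (Ne.symm hjk), if_true, mul_zero, zero_add, add_zero, mul_one,
      hoff k i (Ne.symm hik), hoff k j (Ne.symm hjk)] at e1
    simp only [Pi.add_apply, Pi.smul_apply, smul_eq_mul, Matrix.col_apply, Pi.single_apply,
      if_neg hik, if_neg (Ne.symm hji), if_true, mul_zero, zero_add, add_zero, mul_one,
      hoff i j (Ne.symm hji), hoff i k hik] at e2
    linear_combination e2 - x * e1
  obtain ⟨i0, i1, h01⟩ : ∃ i0 i1 : Fin n, i0 ≠ i1 :=
    ⟨⟨0, by omega⟩, ⟨1, by omega⟩, by simp [Fin.ext_iff]⟩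
  have hρ : ∀ k : Fin n, M k k = M i0 i0 := by
    intro k
    by_cases hk : k = i0
    · rw [hk]
    · have := hdiag i0 k (Ne.symm hk) 1 S.one_mem
      rw [map_one, one_mul, mul_one] at this
      exact this.symm
  have hMeq : M = M i0 i0 • (1 : Matrix (Fin n) (Fin n) F) := by
    ext a c
    by_cases hac : a = c
    · subst hac
      rw [Matrix.smul_apply, Matrix.one_apply_eq, smul_eq_mul, mul_one, hρ]
    · rw [hoff a c hac, Matrix.smul_apply, Matrix.one_apply_ne hac, smul_zero]
  have hρ0 : M i0 i0 ≠ 0 := by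
    intro h0
    apply hM
    rw [hMeq, h0, zero_smul]
    haveI : Nonempty (Fin n) := ⟨i0⟩
    exact Matrix.det_zero
  refine ⟨?_, M i0 i0, hMeq⟩
  intro x hxS
  have := hdiag i0 i1 h01 x hxS
  rw [hρ i1] at this
  exact mul_right_cancel₀ hρ0 (by rw [this, mul_comm])

end Cfsg.Agent.Lib.helper50.S2687
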