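import Mathlib
import Cfsg.Prelude.Def_Involutions
import Cfsg.Prelude.Def_LieExceptional
import Cfsg.Agent.Lib.helper42.AICDefs
import Cfsg.Agent.Lib.helper50.AIC_STcore
import Cfsg.Agent.Lib.helper50.AIC_CS
import Cfsg.Agent.Lib.helper46.AIC_QB1
import Cfsg.Agent.Lib.helper5.AIC_QK
import Cfsg.Agent.Lib.helper69.AIC_Z2

/-!
helper50: S2202 piece ST (`keq_struct`), verbatim wrapper of `keq_struct_core`.
-/

set_option autoImplicit false

open Cfsg.Agent.Lib.helper42.AIC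

namespace Cfsg.Agent.Lib.helper50.AIC

/-- ST : structure when all `K_P` coincide (apply CS to `G ⧸ Z`, transfer with QB2 - QB5) -/
theorem keq_struct {G : Type*} [Group G] [Finite G] (hA : AIC G) (hnc : NCyc G) (hnn : NNor G)
    (hE : KEq G) (Z : Subgroup G) [Z.Normal] (hZ : IsKsub Z) : KStruct Z := by
  have hZo : ∀ z ∈ Z, Odd (orderOf z) := fun z hz => ((hZ z).1 hz).1
  have hZc : ∀ z ∈ Z, ∀ P : Sylow 2 G, z ∈ CP P := fun z hz => ((hZ z).1 hz).2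
  have hAq : AIC (G ⧸ Z) := Cfsg.Agent.Lib.helper46.AIC.aic_quot hA Z hZo hZc
  have hncq : NCyc (G ⧸ Z) := Cfsg.Agent.Lib.helper5.AIC.ncyc_quot hnc Z hZo hZc
  have hnnq : NNor (G ⧸ Z) := Cfsg.Agent.Lib.helper5.AIC.nnor_quot hnn Z hZo hZc
  have hKq : KTI (G ⧸ Z) := Cfsg.Agent.Lib.helper5.AIC.kti_quot hE Z hZ
  have hCq : CITH (G ⧸ Z) := Cfsg.Agent.Lib.helper69.AIC.cith_of_kti hAq hncq hnnq hKq
  exact keq_struct_core Z hZ hncq hCq (cit_struct hCq hncq hnnq)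

end Cfsg.Agent.Lib.helper50.AIC
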