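import Mathlib
import Cfsg.Agent.Lib.helper2.BFDefs
import Cfsg.Agent.Lib.helper82.BFA1
import Cfsg.Agent.Lib.helper83.D1ER1

/-!
helper50: S4503 piece B2 (`X_minus_ker`): a non-exceptional character of the principal block with
sign `-1` in which `x` has no fixed vector is trivial on the `p`-regular elements of `C(P)`.
-/

set_option autoImplicit false

open Cfsg Cfsg.Agent.Lib.helper20.D1E Cfsg.Agent.Lib.helper83.D1E
open scoped ComplexConjugate

namespace Cfsg.Agent.Lib.helper2.BF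

variable {G : Type*} [Group G] [Fintype G]

/-- `Σ_{i<p} ζ^{b i} = 0` for `b ≠ 0`. -/
theorem helper50_sum_range_zeta (p : ℕ) [Fact p.Prime] (b : ZMod p) (hb : b ≠ 0) :
    ∑ i ∈ Finset.range p, zeta p ^ (b.val * i) = 0 := by
  have e1 : ∀ i ∈ Finset.range p, zeta p ^ (b.val * i) = eZ p b ^ i := by
    intro i _
    rw [eZ, pow_mul]
  rw [Finset.sum_congr rfl e1]
  have hne : eZ p b - 1 ≠ 0 := sub_ne_zero.2 (fun h => hb ((eZ_eq_one_iff p b).1 h))
  have h := geom_sum_mul (eZ p b) p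
  rw [eZ_pow_p, sub_self] at h
  exact (mul_eq_zero.1 h).resolve_right hne

/-- B2. -/
theorem helper50_X_minus_ker (p : ℕ) [Fact p.Prime] (P : Sylow p G) (hP : Nat.card P = p)
    (x : G) (hx : x ∈ (P : Subgroup G)) (hx1 : x ≠ 1) (H : Subgroup (ZMod p)ˣ)
    (M : Ideal AlgInt) (X Y : Set (IrrCharacter G))
    (εX : IrrCharacter G → ℤ) (ε : ℤ) (hD : PBData p M P (Nat.card H) X Y εX ε)
    (ξ : IrrCharacter G) (hξ : ξ ∈ X) (hε : εX ξ = -1) (h0 : mu p x (ξ : G → ℂ) 0 = 0) :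
    (ξ : G → ℂ) x ≠ (ξ : G → ℂ) 1 ∧
      ∀ y ∈ Subgroup.centralizer ((P : Subgroup G) : Set G), ¬ p ∣ orderOf y →
        (ξ : G → ℂ) y = (ξ : G → ℂ) 1 := by
  classical
  have hp : p.Prime := Fact.out
  have hpc : (p : ℂ) ≠ 0 := by exact_mod_cast hp.ne_zero
  have hχ : IsCharacter G (ξ : G → ℂ) := by
    obtain ⟨n, ρ, -, hρ⟩ := ξ.2
    exact ⟨n, ρ, hρ⟩
  have hxp : x ^ p = 1 := by
    have h1 : (⟨x, hx⟩ : ↥(P : Subgroup G)) ^ Nat.card ↥(P : Subgroup G) = 1 := pow_card_eq_one'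
    rw [hP] at h1
    exact congrArg Subtype.val h1
  have hxi : ∀ j : ℕ, j + 1 < p → x ^ (j + 1) ≠ 1 := by
    intro j hj h1
    have hdvd : orderOf x ∣ j + 1 := orderOf_dvd_of_pow_eq_one h1
    have ho : orderOf x = p := orderOf_eq_prime hxp hx1
    rw [ho] at hdvd
    exact absurd (Nat.le_of_dvd (Nat.succ_pos j) hdvd) (not_le.2 hj)
  have hval : ∀ j : ℕ, j + 1 < p → ∀ y ∈ Subgroup.centralizer ((P : Subgroup G) : Set G),
      ¬ p ∣ orderOf y → (ξ : G → ℂ) (x ^ (j + 1) * y) = -1 := by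
    intro j hj y hy hyp
    have h1 := hD.valX ξ hξ (x ^ (j + 1)) (pow_mem hx _) (hxi j hj) y hy hyp
    rw [h1, hε]
    push_cast
    rfl
  -- the key value
  have hkey : ∀ y ∈ Subgroup.centralizer ((P : Subgroup G) : Set G), ¬ p ∣ orderOf y →
      (ξ : G → ℂ) y = (p : ℂ) - 1 := by
    intro y hy hyp
    have hcomm : Commute x y := by
      have h1 := (Subgroup.mem_centralizer_iff.1 hy) x hx
      exact h1
    obtain ⟨τ, hτ0, hτ⟩ := mu_twist p x hxp (ξ : G → ℂ) hχ y hcomm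
    have hτz : τ 0 = 0 := hτ0 0 h0
    have hsum : ∑ i ∈ Finset.range p, (ξ : G → ℂ) (x ^ i * y) = 0 := by
      rw [Finset.sum_congr rfl (fun i _ => hτ i), Finset.sum_comm]
      refine Finset.sum_eq_zero (fun b _ => ?_)
      rw [← Finset.mul_sum]
      by_cases hb : b = 0
      · rw [hb, hτz, zero_mul]
      · rw [helper50_sum_range_zeta p b hb, mul_zero]
    obtain ⟨q, hq⟩ : ∃ q, p = q + 1 := ⟨p - 1, (Nat.sub_add_cancel hp.one_le).symm⟩
    have hsum2 : ∑ i ∈ Finset.range p, (ξ : G → ℂ) (x ^ i * y) =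
        -(q : ℂ) + (ξ : G → ℂ) y := by
      rw [hq, Finset.sum_range_succ', pow_zero, one_mul]
      congr 1
      have e1 : ∀ j ∈ Finset.range q, (ξ : G → ℂ) (x ^ (j + 1) * y) = -1 := by
        intro j hj
        exact hval j (by rw [hq]; exact Nat.succ_lt_succ (Finset.mem_range.1 hj)) y hy hyp
      rw [Finset.sum_congr rfl e1, Finset.sum_const, Finset.card_range]
      simp
    rw [hsum2] at hsum
    have hpq : (p : ℂ) = (q : ℂ) + 1 := by rw [hq]; push_cast; rfl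
    rw [hpq]
    linear_combination hsum
  have hone : (ξ : G → ℂ) 1 = (p : ℂ) - 1 :=
    hkey 1 (Subgroup.one_mem _) (by
      rw [orderOf_one]
      exact fun h => hp.one_lt.ne' (Nat.dvd_one.1 h))
  refine ⟨?_, ?_⟩
  · have h1 : (ξ : G → ℂ) x = -1 := by
      have h2 := hval 0 (by rw [zero_add]; exact hp.one_lt) 1 (Subgroup.one_mem _) (by
        rw [orderOf_one]
        exact fun h => hp.one_lt.ne' (Nat.dvd_one.1 h))
      rw [zero_add, pow_one, mul_one] at h2
      exact h2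
    rw [h1, hone]
    intro h2
    apply hpc
    linear_combination -h2
  · intro y hy hyp
    rw [hkey y hy hyp, hone]

end Cfsg.Agent.Lib.helper2.BF
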