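import Mathlib
import Cfsg.Agent.Lib.helper2.BFDefs
import Cfsg.Agent.Lib.helper82.BFA1
import Cfsg.Agent.Lib.helper83.D1ER1

/-!
helper50: S4503 piece B5a (`supp_orth`): the twisted values of a character whose `x`-spectrum is
one `H`-coset are orthogonal to those of a Galois conjugate by `c ∉ H`.
-/

set_option autoImplicit false

open Cfsg Cfsg.Agent.Lib.helper20.D1E Cfsg.Agent.Lib.helper83.D1E
open scoped ComplexConjugate

namespace Cfsg.Agent.Lib.helper2.BF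

variable {G : Type*} [Group G] [Fintype G]

/-- geometric sum of the standard additive character. -/
theorem helper50_sum_range_eZ (p : ℕ) [Fact p.Prime] (a : ZMod p) (ha : a ≠ 0) :
    ∑ i ∈ Finset.range p, eZ p (a * (i : ZMod p)) = 0 := by
  have e1 : ∀ i ∈ Finset.range p, eZ p (a * (i : ZMod p)) = eZ p a ^ i := by
    intro i hi
    rw [eZ_mul, ZMod.val_natCast, Nat.mod_eq_of_lt (Finset.mem_range.1 hi)]
  rw [Finset.sum_congr rfl e1]
  have hne : eZ p a - 1 ≠ 0 := sub_ne_zero.2 (fun h => ha ((eZ_eq_one_iff p a).1 h))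
  have h := geom_sum_mul (eZ p a) p
  rw [eZ_pow_p, sub_self] at h
  exact (mul_eq_zero.1 h).resolve_right hne

/-- B5a. -/
theorem helper50_supp_orth (p : ℕ) [Fact p.Prime] (x : G) (hxp : x ^ p = 1) (H : Subgroup (ZMod p)ˣ)
    (ψ : G → ℂ) (hψ : IsCharacter G ψ) (a₀ : (ZMod p)ˣ) (m : ℕ)
    (hmu : OrbitMu p x H ψ a₀ m) (c : (ZMod p)ˣ) (hc : c ∉ H) (mp : ℕ)
    (hmc : (mp : ZMod p) = (c : ZMod p)) (k : G) (hk : Commute x k) (hkm : k ^ mp = k) :
    ∑ i ∈ Finset.range p, ψ (x ^ i * k) * conj (ψ ((x ^ i * k) ^ mp)) = 0 := by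
  classical
  obtain ⟨τ, hτ0, hτ⟩ := mu_twist p x hxp ψ hψ k hk
  have h1 : ∀ i : ℕ, ψ (x ^ i * k) = ∑ b : ZMod p, τ b * eZ p (b * (i : ZMod p)) := by
    intro i
    rw [hτ i]
    refine Finset.sum_congr rfl (fun b _ => ?_)
    rw [← eZ_natCast, Nat.cast_mul, ZMod.natCast_zmod_val]
  have h2 : ∀ i : ℕ, ψ ((x ^ i * k) ^ mp) =
      ∑ b : ZMod p, τ b * eZ p (b * (c : ZMod p) * (i : ZMod p)) := by
    intro i
    have e1 : (x ^ i * k) ^ mp = x ^ (i * mp) * k := by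
      rw [(hk.pow_left i).mul_pow, ← pow_mul, hkm]
    rw [e1, hτ (i * mp)]
    refine Finset.sum_congr rfl (fun b _ => ?_)
    rw [← eZ_natCast, Nat.cast_mul, Nat.cast_mul, ZMod.natCast_zmod_val, hmc]
    congr 2
    ring
  have hsupp : ∀ b : ZMod p, τ b ≠ 0 →
      ∃ h ∈ H, b = (a₀ : ZMod p) * ((h : (ZMod p)ˣ) : ZMod p) := by
    intro b hb
    by_contra hcon
    apply hb
    apply hτ0
    rw [hmu b, Set.indicator_of_notMem]
    exact hcon
  have hterm : ∀ i ∈ Finset.range p, ψ (x ^ i * k) * conj (ψ ((x ^ i * k) ^ mp)) =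
      ∑ b : ZMod p, ∑ b' : ZMod p,
        τ b * conj (τ b') * eZ p ((b - b' * (c : ZMod p)) * (i : ZMod p)) := by
    intro i _
    rw [h1 i, h2 i, map_sum, Finset.sum_mul_sum]
    refine Finset.sum_congr rfl (fun b _ => Finset.sum_congr rfl (fun b' _ => ?_))
    rw [map_mul, eZ_conj, ← eZ_neg, sub_mul, sub_eq_add_neg, eZ_add]
    ring
  rw [Finset.sum_congr rfl hterm, Finset.sum_comm]
  refine Finset.sum_eq_zero (fun b _ => ?_)
  rw [Finset.sum_comm]
  refine Finset.sum_eq_zero (fun b' _ => ?_)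
  rw [← Finset.mul_sum]
  by_cases hb : τ b = 0
  · rw [hb, zero_mul, zero_mul]
  by_cases hb' : τ b' = 0
  · rw [hb', map_zero, mul_zero, zero_mul]
  obtain ⟨h, hh, rfl⟩ := hsupp b hb
  obtain ⟨h', hh', rfl⟩ := hsupp b' hb'
  have hne : (a₀ : ZMod p) * ((h : (ZMod p)ˣ) : ZMod p) -
      (a₀ : ZMod p) * ((h' : (ZMod p)ˣ) : ZMod p) * (c : ZMod p) ≠ 0 := by
    intro h0
    apply hc
    have e1 : ((a₀ * h : (ZMod p)ˣ) : ZMod p) = ((a₀ * h' * c : (ZMod p)ˣ) : ZMod p) := by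
      push_cast
      exact sub_eq_zero.1 h0
    have e2 : a₀ * h = a₀ * h' * c := Units.ext e1
    have e3 : c = h'⁻¹ * h := by
      rw [mul_assoc] at e2
      have e4 := mul_left_cancel e2
      rw [e4]
      group
    rw [e3]
    exact H.mul_mem (H.inv_mem hh') hh
  rw [helper50_sum_range_eZ p _ hne, mul_zero]

end Cfsg.Agent.Lib.helper2.BF
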