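import Mathlib
import Cfsg.Agent.Lib.helper2.BGDefs
import Cfsg.Agent.Lib.helper20.D1EFinal
import Cfsg.Agent.Lib.helper4.CharDecomp
import Cfsg.Agent.Lib.helper81.Kernel
import Cfsg.Agent.Lib.helper81.CharOrtho
import Cfsg.Agent.Lib.helper82.CharSums
import Cfsg.Agent.Lib.helper97.BGI
import Cfsg.Agent.Lib.helper48.BGJ
import Cfsg.Agent.Lib.helper48.BGBC

/-!
S4504 split, piece N (`psi_bound`, insurance copy under the prefixed name `helper50_psi_bound`):
Burnside positivity of the class multiplication constants bounds `|ψ(h)|` off the centre.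
-/

set_option autoImplicit false
set_option linter.unusedVariables false
set_option linter.unusedSectionVars false

open Cfsg Cfsg.Agent.Lib.helper20.D1E Cfsg.Agent.Lib.helper2.BF
open scoped ComplexConjugate

namespace Cfsg.Agent.Lib.helper2.BG

universe u

variable {G : Type*} [Group G] [Fintype G]

/-- Real arithmetic at the end of piece N. -/
theorem helper50_psi_arith (P r d nZ : ℝ) (hP : 5 ≤ P) (hd : 2 * d + 1 = P) (hr0 : 0 ≤ r)
    (hrd : r ≤ d) (hne : r ≠ d) (hnZ : 0 < nZ)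
    (hineq : nZ * (P * r ^ 2 / d) ≤
      r * (nZ * (2 * (1 + (r ^ 2 - 1) / (P + 1) + r ^ 2 / (P - 1))))) : r ≤ 1 := by
  by_contra hlt
  push Not at hlt
  have hd0 : 0 < d := by linarith
  have hP1 : 0 < P - 1 := by linarith
  have hP2 : 0 < P + 1 := by linarith
  have hdP : d = (P - 1) / 2 := by linarith
  -- cancel `nZ`
  have h1 : P * r ^ 2 / d ≤ r * (2 * (1 + (r ^ 2 - 1) / (P + 1) + r ^ 2 / (P - 1))) := by
    have h2 : nZ * (P * r ^ 2 / d) ≤
        nZ * (r * (2 * (1 + (r ^ 2 - 1) / (P + 1) + r ^ 2 / (P - 1)))) := by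
      calc nZ * (P * r ^ 2 / d) ≤ r * (nZ * (2 * (1 + (r ^ 2 - 1) / (P + 1) + r ^ 2 / (P - 1)))) :=
            hineq
        _ = nZ * (r * (2 * (1 + (r ^ 2 - 1) / (P + 1) + r ^ 2 / (P - 1)))) := by ring
    exact le_of_mul_le_mul_left h2 hnZ
  -- clear denominators
  have e1 : P * r ^ 2 / d * ((P - 1) * (P + 1)) = 2 * P * r ^ 2 * (P + 1) := by
    rw [hdP]
    field_simp
  have e2 : r * (2 * (1 + (r ^ 2 - 1) / (P + 1) + r ^ 2 / (P - 1))) * ((P - 1) * (P + 1)) =
      2 * P * r * (P - 1 + 2 * r ^ 2) := by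
    field_simp
    ring
  have h3 : 2 * P * r ^ 2 * (P + 1) ≤ 2 * P * r * (P - 1 + 2 * r ^ 2) := by
    rw [← e1, ← e2]
    exact mul_le_mul_of_nonneg_right h1 (le_of_lt (mul_pos hP1 hP2))
  have hPr : 0 < 2 * P * r := by nlinarith
  have h4 : 0 ≤ (2 * P * r) * ((2 * r - (P - 1)) * (r - 1)) := by
    have e3 : (2 * P * r) * ((2 * r - (P - 1)) * (r - 1)) =
        2 * P * r * (P - 1 + 2 * r ^ 2) - 2 * P * r ^ 2 * (P + 1) := by ring
    rw [e3]
    linarith
  have h5 : 0 ≤ (2 * r - (P - 1)) * (r - 1) := by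
    by_contra hneg
    push Not at hneg
    have := mul_neg_of_pos_of_neg hPr hneg
    linarith
  have h6 : 0 ≤ 2 * r - (P - 1) := by
    by_contra hneg
    push Not at hneg
    have := mul_neg_of_neg_of_pos hneg (by linarith : 0 < r - 1)
    linarith
  apply hne
  linarith

/-- N (insurance copy). -/
theorem helper50_psi_bound (p : ℕ) [Fact p.Prime] (hp5 : 5 ≤ p) (ψ : IrrCharacter G)
    (hfaith : ∀ g : G, (ψ : G → ℂ) g = (ψ : G → ℂ) 1 → g = 1)
    (hdeg : 2 * charDegree (ψ : G → ℂ) + 1 = p) (x : G) (mp : ℕ)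
    (hgauss : ((ψ : G → ℂ) x - (ψ : G → ℂ) (x ^ mp)) *
      conj ((ψ : G → ℂ) x - (ψ : G → ℂ) (x ^ mp)) = (p : ℂ))
    (h : G) (hh : h ∉ Subgroup.center G)
    (hDl : ∑ χ : IrrCharacter G, Set.indicator
        {χ : IrrCharacter G | SameCentral (χ : G → ℂ) (ψ : G → ℂ)}
        (fun χ => (χ : G → ℂ) x * ((χ : G → ℂ) x - (χ : G → ℂ) (x ^ mp)) *
          conj ((χ : G → ℂ) h) / (χ : G → ℂ) 1) χ
      = ((ψ : G → ℂ) x - (ψ : G → ℂ) (x ^ mp)) ^ 2 * conj ((ψ : G → ℂ) h) / (ψ : G → ℂ) 1)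
    (hS1 : ∑ χ : IrrCharacter G, Set.indicator
        {χ : IrrCharacter G | ∀ z ∈ Subgroup.center G, (χ : G → ℂ) z = (χ : G → ℂ) 1}
        (fun χ => (χ : G → ℂ) x * ((χ : G → ℂ) x + (χ : G → ℂ) (x ^ mp)) *
          conj ((χ : G → ℂ) h) / (χ : G → ℂ) 1) χ
      = 2 * (1 + ((ψ : G → ℂ) h * conj ((ψ : G → ℂ) h) - 1) / ((p : ℂ) + 1)
          + (ψ : G → ℂ) h * conj ((ψ : G → ℂ) h) / ((p : ℂ) - 1))) :
    ‖(ψ : G → ℂ) h‖ ≤ 1 := by
  classical
  -- Burnside: the class multiplication constants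
  choose a ha0 ha using fun g : G => class_mult_nonneg x x g
  choose b hb0 hb using fun g : G => class_mult_nonneg x (x ^ mp) g
  have hD : ∀ g : G, ∑ χ : IrrCharacter G, (χ : G → ℂ) x *
      ((χ : G → ℂ) x - (χ : G → ℂ) (x ^ mp)) * conj ((χ : G → ℂ) g) / (χ : G → ℂ) 1 =
      ((a g - b g : ℝ) : ℂ) := by
    intro g
    rw [Complex.ofReal_sub, ← ha g, ← hb g, ← Finset.sum_sub_distrib]
    refine Finset.sum_congr rfl (fun χ _ => ?_)
    ring
  have hS : ∀ g : G, ∑ χ : IrrCharacter G, (χ : G → ℂ) x *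
      ((χ : G → ℂ) x + (χ : G → ℂ) (x ^ mp)) * conj ((χ : G → ℂ) g) / (χ : G → ℂ) 1 =
      ((a g + b g : ℝ) : ℂ) := by
    intro g
    rw [Complex.ofReal_add, ← ha g, ← hb g, ← Finset.sum_add_distrib]
    refine Finset.sum_congr rfl (fun χ _ => ?_)
    ring
  -- the square of the absolute value
  have hw : (ψ : G → ℂ) h * conj ((ψ : G → ℂ) h) = ((‖(ψ : G → ℂ) h‖ ^ 2 : ℝ) : ℂ) := by
    rw [Complex.mul_conj, Complex.normSq_eq_norm_sq]
  -- first evaluation: `T`
  have hT1 : ∑ z : G, Set.indicator ((Subgroup.center G : Subgroup G) : Set G)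
      (fun z => (ψ : G → ℂ) (h * z) * ((a (h * z) - b (h * z) : ℝ) : ℂ)) z =
      (Nat.card (Subgroup.center G) : ℂ) * (((ψ : G → ℂ) x - (ψ : G → ℂ) (x ^ mp)) ^ 2 *
        ((ψ : G → ℂ) h * conj ((ψ : G → ℂ) h)) / (ψ : G → ℂ) 1) := by
    have e1 : ∀ z : G, Set.indicator ((Subgroup.center G : Subgroup G) : Set G)
        (fun z => (ψ : G → ℂ) (h * z) * ((a (h * z) - b (h * z) : ℝ) : ℂ)) z =
        ∑ χ : IrrCharacter G, ((χ : G → ℂ) x * ((χ : G → ℂ) x - (χ : G → ℂ) (x ^ mp)) /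
          (χ : G → ℂ) 1) * Set.indicator ((Subgroup.center G : Subgroup G) : Set G)
            (fun z => (ψ : G → ℂ) (h * z) * conj ((χ : G → ℂ) (h * z))) z := by
      intro z
      by_cases hz : z ∈ ((Subgroup.center G : Subgroup G) : Set G)
      · rw [Set.indicator_of_mem hz, ← hD (h * z), Finset.mul_sum]
        refine Finset.sum_congr rfl (fun χ _ => ?_)
        rw [Set.indicator_of_mem hz]
        ring
      · rw [Set.indicator_of_notMem hz]
        symm
        apply Finset.sum_eq_zero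
        intro χ _
        rw [Set.indicator_of_notMem hz, mul_zero]
    rw [Finset.sum_congr rfl (fun z _ => e1 z), Finset.sum_comm]
    have e2 : ∀ χ : IrrCharacter G, ∑ z : G, ((χ : G → ℂ) x *
        ((χ : G → ℂ) x - (χ : G → ℂ) (x ^ mp)) / (χ : G → ℂ) 1) *
        Set.indicator ((Subgroup.center G : Subgroup G) : Set G)
          (fun z => (ψ : G → ℂ) (h * z) * conj ((χ : G → ℂ) (h * z))) z =
        ((Nat.card (Subgroup.center G) : ℂ) * (ψ : G → ℂ) h) *
          Set.indicator {χ : IrrCharacter G | SameCentral (χ : G → ℂ) (ψ : G → ℂ)}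
            (fun χ => (χ : G → ℂ) x * ((χ : G → ℂ) x - (χ : G → ℂ) (x ^ mp)) *
              conj ((χ : G → ℂ) h) / (χ : G → ℂ) 1) χ := by
      intro χ
      rw [← Finset.mul_sum]
      by_cases hs : SameCentral (χ : G → ℂ) (ψ : G → ℂ)
      · rw [helper48_central_orth_same χ ψ h hs, Set.indicator_of_mem (show χ ∈
          {χ : IrrCharacter G | SameCentral (χ : G → ℂ) (ψ : G → ℂ)} from hs)]
        ring
      · rw [helper48_central_orth_ne χ ψ h hs, Set.indicator_of_notMem (show χ ∉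
          {χ : IrrCharacter G | SameCentral (χ : G → ℂ) (ψ : G → ℂ)} from hs)]
        ring
    rw [Finset.sum_congr rfl (fun χ _ => e2 χ), ← Finset.mul_sum, hDl]
    ring
  -- second evaluation
  have hT2 : ∑ z : G, Set.indicator ((Subgroup.center G : Subgroup G) : Set G)
      (fun z => ((a (h * z) + b (h * z) : ℝ) : ℂ)) z =
      (Nat.card (Subgroup.center G) : ℂ) *
        (2 * (1 + ((ψ : G → ℂ) h * conj ((ψ : G → ℂ) h) - 1) / ((p : ℂ) + 1)
          + (ψ : G → ℂ) h * conj ((ψ : G → ℂ) h) / ((p : ℂ) - 1))) := by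
    have e1 : ∀ z : G, Set.indicator ((Subgroup.center G : Subgroup G) : Set G)
        (fun z => ((a (h * z) + b (h * z) : ℝ) : ℂ)) z =
        ∑ χ : IrrCharacter G, ((χ : G → ℂ) x * ((χ : G → ℂ) x + (χ : G → ℂ) (x ^ mp)) /
          (χ : G → ℂ) 1) * Set.indicator ((Subgroup.center G : Subgroup G) : Set G)
            (fun z => conj ((χ : G → ℂ) (h * z))) z := by
      intro z
      by_cases hz : z ∈ ((Subgroup.center G : Subgroup G) : Set G)
      · rw [Set.indicator_of_mem hz, ← hS (h * z)]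
        refine Finset.sum_congr rfl (fun χ _ => ?_)
        rw [Set.indicator_of_mem hz]
        ring
      · rw [Set.indicator_of_notMem hz]
        symm
        apply Finset.sum_eq_zero
        intro χ _
        rw [Set.indicator_of_notMem hz, mul_zero]
    rw [Finset.sum_congr rfl (fun z _ => e1 z), Finset.sum_comm]
    have e2 : ∀ χ : IrrCharacter G, ∑ z : G, ((χ : G → ℂ) x *
        ((χ : G → ℂ) x + (χ : G → ℂ) (x ^ mp)) / (χ : G → ℂ) 1) *
        Set.indicator ((Subgroup.center G : Subgroup G) : Set G)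
          (fun z => conj ((χ : G → ℂ) (h * z))) z =
        (Nat.card (Subgroup.center G) : ℂ) *
          Set.indicator {χ : IrrCharacter G | ∀ z ∈ Subgroup.center G,
              (χ : G → ℂ) z = (χ : G → ℂ) 1}
            (fun χ => (χ : G → ℂ) x * ((χ : G → ℂ) x + (χ : G → ℂ) (x ^ mp)) *
              conj ((χ : G → ℂ) h) / (χ : G → ℂ) 1) χ := by
      intro χ
      rw [← Finset.mul_sum]
      by_cases hs : ∀ z ∈ Subgroup.center G, (χ : G → ℂ) z = (χ : G → ℂ) 1
      · rw [helper48_central_sum_triv χ h hs, Set.indicator_of_mem (show χ ∈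
          {χ : IrrCharacter G | ∀ z ∈ Subgroup.center G, (χ : G → ℂ) z = (χ : G → ℂ) 1} from hs)]
        ring
      · rw [helper48_central_sum_ne χ h hs, Set.indicator_of_notMem (show χ ∉
          {χ : IrrCharacter G | ∀ z ∈ Subgroup.center G, (χ : G → ℂ) z = (χ : G → ℂ) 1} from hs)]
        ring
    rw [Finset.sum_congr rfl (fun χ _ => e2 χ), ← Finset.mul_sum, hS1]
  -- real versions
  have hnZ : (0 : ℝ) < (Nat.card (Subgroup.center G) : ℝ) := by
    exact_mod_cast Nat.card_pos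
  have hd1 : (ψ : G → ℂ) 1 = ((charDegree (ψ : G → ℂ) : ℝ) : ℂ) := by
    rw [Cfsg.Agent.Lib.helper81.irr_one_eq_charDegree]
    norm_cast
  have hdP : 2 * (charDegree (ψ : G → ℂ) : ℝ) + 1 = (p : ℝ) := by exact_mod_cast hdeg
  have hP5 : (5 : ℝ) ≤ (p : ℝ) := by exact_mod_cast hp5
  have hd0 : (0 : ℝ) < (charDegree (ψ : G → ℂ) : ℝ) := by linarith
  have hgn : ‖(ψ : G → ℂ) x - (ψ : G → ℂ) (x ^ mp)‖ ^ 2 = (p : ℝ) := by
    rw [Complex.mul_conj, Complex.normSq_eq_norm_sq] at hgauss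
    exact_mod_cast hgauss
  -- the real sum of `a + b` over the coset `h Z`
  have hSR : ∑ z : G, (if z ∈ Subgroup.center G then a (h * z) + b (h * z) else 0) =
      (Nat.card (Subgroup.center G) : ℝ) * (2 * (1 + (‖(ψ : G → ℂ) h‖ ^ 2 - 1) / ((p : ℝ) + 1)
        + ‖(ψ : G → ℂ) h‖ ^ 2 / ((p : ℝ) - 1))) := by
    apply Complex.ofReal_injective
    rw [Complex.ofReal_sum]
    have e3 : ∀ z : G, (((if z ∈ Subgroup.center G then a (h * z) + b (h * z) else 0 : ℝ)) : ℂ) =
        Set.indicator ((Subgroup.center G : Subgroup G) : Set G)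
          (fun z => ((a (h * z) + b (h * z) : ℝ) : ℂ)) z := by
      intro z
      by_cases hz : z ∈ Subgroup.center G
      · rw [if_pos hz, Set.indicator_of_mem (show z ∈ ((Subgroup.center G : Subgroup G) : Set G)
          from hz)]
      · rw [if_neg hz, Set.indicator_of_notMem (show z ∉
          ((Subgroup.center G : Subgroup G) : Set G) from hz), Complex.ofReal_zero]
    rw [Finset.sum_congr rfl (fun z _ => e3 z), hT2, hw]
    push_cast
    ring
  -- the norm of `T`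
  have hTn : ‖∑ z : G, Set.indicator ((Subgroup.center G : Subgroup G) : Set G)
      (fun z => (ψ : G → ℂ) (h * z) * ((a (h * z) - b (h * z) : ℝ) : ℂ)) z‖ =
      (Nat.card (Subgroup.center G) : ℝ) * ((p : ℝ) * ‖(ψ : G → ℂ) h‖ ^ 2 /
        (charDegree (ψ : G → ℂ) : ℝ)) := by
    rw [hT1, hw, hd1, norm_mul, norm_div, norm_mul, norm_pow, hgn, Complex.norm_natCast,
      Complex.norm_real, Complex.norm_real, Real.norm_eq_abs, Real.norm_eq_abs,
      abs_of_nonneg (sq_nonneg _), abs_of_pos hd0]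
  have hTle : ‖∑ z : G, Set.indicator ((Subgroup.center G : Subgroup G) : Set G)
      (fun z => (ψ : G → ℂ) (h * z) * ((a (h * z) - b (h * z) : ℝ) : ℂ)) z‖ ≤
      ‖(ψ : G → ℂ) h‖ *
        ∑ z : G, (if z ∈ Subgroup.center G then a (h * z) + b (h * z) else 0) := by
    rw [Finset.mul_sum]
    refine le_trans (norm_sum_le _ _) (Finset.sum_le_sum (fun z _ => ?_))
    by_cases hz : z ∈ Subgroup.center G
    · rw [if_pos hz, Set.indicator_of_mem (show z ∈ ((Subgroup.center G : Subgroup G) : Set G)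
        from hz), norm_mul, Complex.norm_real, Real.norm_eq_abs]
      obtain ⟨μ, hμ, hμz⟩ := helper48_central_scalar ψ z hz
      have hn : ‖(ψ : G → ℂ) (h * z)‖ = ‖(ψ : G → ℂ) h‖ := by
        rw [hμz h, norm_mul, hμ, one_mul]
      rw [hn]
      apply mul_le_mul_of_nonneg_left _ (norm_nonneg _)
      rw [abs_le]
      constructor
      · linarith [ha0 (h * z), hb0 (h * z)]
      · linarith [ha0 (h * z), hb0 (h * z)]
    · rw [if_neg hz, Set.indicator_of_notMem (show z ∉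
        ((Subgroup.center G : Subgroup G) : Set G) from hz), norm_zero, mul_zero]
  rw [hTn, hSR] at hTle
  -- `|ψ(h)| ≤ ψ(1)` with equality only on the centre
  have hrd : ‖(ψ : G → ℂ) h‖ ≤ (charDegree (ψ : G → ℂ) : ℝ) :=
    Cfsg.Agent.Lib.helper82.irr_norm_le ψ h
  have hne : ‖(ψ : G → ℂ) h‖ ≠ (charDegree (ψ : G → ℂ) : ℝ) := by
    intro he
    apply hh
    apply helper48_norm_central (ψ : G → ℂ) (Cfsg.Agent.Lib.helper81.irr_isCharacter ψ) hfaith h
    rw [he, hd1, Complex.norm_real, Real.norm_eq_abs, abs_of_pos hd0]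
  exact helper50_psi_arith (p : ℝ) ‖(ψ : G → ℂ) h‖ (charDegree (ψ : G → ℂ) : ℝ)
    (Nat.card (Subgroup.center G) : ℝ) hP5 hdP (norm_nonneg _) hrd hne hnZ hTle

end Cfsg.Agent.Lib.helper2.BG
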