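/-
helper50: the centralizer of the root elements `x_r(±1)` in a Chevalley group is trivial (generic part).
An element of `G` commuting with the `x_r(1)`, `r` positive, lies in `B` (canonical form `g = b n u` with
uniqueness: a non-trivial `n` makes some positive root negative).  Commuting also with a product `n₀` of
the `n_p` with `n₀ U n₀⁻¹ ≤ V` it lies in `H`, and a diagonal element centralizing the `x_r(1)` is `1`.
-/
import Cfsg.Agent.Lib.helper22.ChevCanon

set_option autoImplicit false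

namespace Cfsg.Agent.Lib.helper50.ChevFix

open Cfsg.Lie Cfsg.Agent.Lib.helper22

universe u

section Cent

variable {D : ChevalleyDatum} {F : Type u} [Field F]

/-- every `n ∈ N` outside `H` makes some positive root negative -/
theorem negSet_nontrivial {η : ℕ → ℕ → ℤ} (I : BNInput D F η)
    (hpn : ∀ r, r < D.nroots → D.IsPosRoot r ∨ D.IsNegRoot r)
    (hBG : D.borelSubgroup F ≤ D.group F) (hNG : D.monomialSubgroup F ≤ D.group F)
    (hG : D.group F ≤ D.borelSubgroup F ⊔ D.monomialSubgroup F) :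
    ∀ n ∈ D.monomialSubgroup F, n ∈ D.diagonalSubgroup F ∨ ∃ x ∈ negSet D F n, x ≠ 1 := by
  apply monomial_induction I hBG hNG hG
    (fun n => n ∈ D.diagonalSubgroup F ∨ ∃ x ∈ negSet D F n, x ≠ 1)
  · intro h hh
    exact Or.inl hh
  · intro m _ h hh hQ
    rcases hQ with hQ | ⟨x, hx, hx1⟩
    · exact Or.inl (mul_mem hh hQ)
    · exact Or.inr ⟨x, negSet_diag_mul I hh m hx, hx1⟩
  · intro m hm i hi np hnp hroot _
    right
    have hp : D.simple i < D.nroots := (I.hS ⟨i, hi⟩).1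
    obtain ⟨S⟩ := I.hSD' ⟨D.simple i, hp⟩
    obtain ⟨π, c, hπ⟩ := rootAct_of_mem_monomial I (inv_mem hm)
    have hpos := hroot π c hπ
    obtain ⟨hπlt, _, _⟩ := hπ (D.simple i) hp
    have ex : ((m⁻¹ * sl2Hom S (sl2u (1 : F)) * m : GL D.Idx F) : Matrix D.Idx D.Idx F) =
        D.x F (π (D.simple i)) (c (D.simple i) * 1) := by
      have e := rootAct_conj hπ hp (sl2Hom_sl2u S (1 : F))
      rw [inv_inv] at e
      exact e
    have hcne := rootAct_ne_zero I hπ hp (simple_pos I hi)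
    refine ⟨m⁻¹ * sl2Hom S (sl2u (1 : F)) * m, ?_, ?_⟩
    · refine ⟨π (D.simple i), c (D.simple i) * 1, (I.hU.pos_iff _).mpr ⟨hpos, hπlt⟩, ?_, ex⟩
      rw [map_conj_le_iff]
      intro z hz
      obtain ⟨Sq⟩ := I.hSD' ⟨π (D.simple i), hπlt⟩
      obtain ⟨t', rfl⟩ := rootSubgroup_elt Sq hz
      have e1 : sl2Hom Sq (sl2u t') = m⁻¹ * sl2Hom S (sl2u (t' / c (D.simple i))) * m := by
        apply Units.ext
        have e := rootAct_conj hπ hp (sl2Hom_sl2u S (t' / c (D.simple i)))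
        rw [inv_inv] at e
        rw [e, mul_div_cancel₀ _ hcne]
        exact sl2Hom_sl2u Sq t'
      have hnp' : np = sl2Hom S (sl2n 1 one_ne_zero) :=
        Units.ext (hnp.trans (sl2Hom_sl2n S 1 one_ne_zero).symm)
      have e2 : np * m * sl2Hom Sq (sl2u t') * (np * m)⁻¹ =
          sl2Hom S (sl2l (-(t' / c (D.simple i)))) := by
        rw [e1]
        have : np * m * (m⁻¹ * sl2Hom S (sl2u (t' / c (D.simple i))) * m) * (np * m)⁻¹ =
            np * sl2Hom S (sl2u (t' / c (D.simple i))) * np⁻¹ := by group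
        rw [this, hnp', ← map_mul, sl2n_mul_sl2u, map_mul, mul_inv_cancel_right]
      rw [e2]
      have hnegp : D.neg (D.simple i) < D.nroots := I.neg_lt hp
      have h1 := I.hU.negrev _ hp
      have h2 := I.hU.even
      have h3 := simple_pos I hi
      exact x_mem_neg I hpn hnegp (by omega) (sl2Hom_sl2l S _)
    · intro h1
      have h2 : sl2Hom S (sl2u (1 : F)) = 1 := by
        have : sl2Hom S (sl2u (1 : F)) = m * (m⁻¹ * sl2Hom S (sl2u (1 : F)) * m) * m⁻¹ := by group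
        rw [this, h1]
        group
      have h3 := sl2Hom_sl2u S (1 : F)
      rw [h2, Units.val_one] at h3
      exact one_ne_zero (x_eq_one_imp I (simple_pos I hi) hp h3.symm)

/-- an element of `G` commuting with the `x_r(1)`, `r` positive, lies in `B` -/
theorem cent_le_borel {η : ℕ → ℕ → ℤ} (I : BNInput D F η)
    (hpn : ∀ r, r < D.nroots → D.IsPosRoot r ∨ D.IsNegRoot r) (hN : ∀ r, D.IsNegRoot r → NegOK D r)
    (hBG : D.borelSubgroup F ≤ D.group F) (hNG : D.monomialSubgroup F ≤ D.group F)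
    (hG : D.group F ≤ D.borelSubgroup F ⊔ D.monomialSubgroup F) {g : GL D.Idx F}
    (hg : g ∈ D.group F)
    (hc : ∀ r, D.IsPosRoot r → ∀ x : GL D.Idx F, (x : Matrix D.Idx D.Idx F) = D.x F r 1 →
      g * x = x * g) : g ∈ D.borelSubgroup F := by
  obtain ⟨b, hb, n, hn, u, hu, rfl⟩ := canon_exists I hpn hN hBG hNG hG hg
  rcases negSet_nontrivial I hpn hBG hNG hG n hn with hd | ⟨x, hx, -⟩
  · exact mul_mem (mul_mem hb (Subgroup.mem_sup_right hd))
      (Subgroup.mem_sup_left (negSet_le_pos n hu))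
  · exfalso
    obtain ⟨r, t, hr, hmap, -⟩ := hx
    obtain ⟨hrpos, hrlt⟩ := (I.hU.pos_iff r).mp hr
    obtain ⟨S⟩ := I.hSD' ⟨r, hrlt⟩
    have hym : ((sl2Hom S (sl2u (1 : F)) : GL D.Idx F) : Matrix D.Idx D.Idx F) = D.x F r 1 :=
      sl2Hom_sl2u S 1
    have hyneg : sl2Hom S (sl2u (1 : F)) ∈ negSet D F n := ⟨r, 1, hr, hmap, hym⟩
    have hyU : sl2Hom S (sl2u (1 : F)) ∈ D.posUnipotent F := x_mem_pos I hrlt hrpos hym
    have hcomm := hc r hr _ hym
    have heq : b * n * (u * sl2Hom S (sl2u (1 : F))) = (sl2Hom S (sl2u (1 : F)) * b) * n * u := by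
      calc b * n * (u * sl2Hom S (sl2u (1 : F))) = (b * n * u) * sl2Hom S (sl2u (1 : F)) := by group
        _ = sl2Hom S (sl2u (1 : F)) * (b * n * u) := hcomm
        _ = (sl2Hom S (sl2u (1 : F)) * b) * n * u := by group
    obtain ⟨-, h2⟩ := canon_unique I hN hBG hNG hG hb (mul_mem (Subgroup.mem_sup_left hyU) hb) hn hn
      (mul_mem hu (Subgroup.subset_closure hyneg)) hu heq
    obtain ⟨h3, -⟩ := h2 rfl
    have hy1 : sl2Hom S (sl2u (1 : F)) = 1 := by
      have : sl2Hom S (sl2u (1 : F)) = (sl2Hom S (sl2u (1 : F)) * b) * b⁻¹ := by group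
      rw [this, ← h3]
      group
    rw [hy1, Units.val_one] at hym
    exact one_ne_zero (x_eq_one_imp I hrpos hrlt hym.symm)

/-- there is a product `n₀` of the `n_p` with `n₀ U n₀⁻¹ ≤ V` -/
def LongOK (D : ChevalleyDatum) (F : Type u) [Field F] : Prop :=
  ∃ n₀ ∈ Subgroup.closure (simpleNSet D F), ∀ x ∈ D.posUnipotent F, n₀ * x * n₀⁻¹ ∈ D.negUnipotent F

/-- the action of a word in the fundamental reflections on the root indices -/
def wordAct (D : ChevalleyDatum) (w : List ℕ) (s : ℕ) : ℕ := w.foldr (fun i s => D.reflectRoot i s) s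

theorem wordAct_cons (i : ℕ) (w : List ℕ) (s : ℕ) :
    wordAct D (i :: w) s = D.reflectRoot i (wordAct D w s) := rfl

theorem exists_rootAct_word {η : ℕ → ℕ → ℤ} (I : BNInput D F η) :
    ∀ w : List ℕ, (∀ i ∈ w, i < D.rank) → ∃ n ∈ Subgroup.closure (simpleNSet D F), ∃ c : ℕ → F,
      RootAct D F (n : Matrix D.Idx D.Idx F) (wordAct D w) c := by
  intro w
  induction w with
  | nil =>
    intro _
    exact ⟨1, one_mem _, fun _ => 1, rootAct_one⟩
  | cons i w ih =>
    intro hw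
    obtain ⟨n, hn, c, hc⟩ := ih (fun j hj => hw j (List.mem_cons_of_mem _ hj))
    have hi : i < D.rank := hw i List.mem_cons_self
    obtain ⟨S⟩ := I.hSD' ⟨D.simple i, (I.hS ⟨i, hi⟩).1⟩
    refine ⟨sl2Hom S (sl2n 1 one_ne_zero) * n,
      mul_mem (Subgroup.subset_closure ⟨i, hi, sl2Hom_sl2n S 1 one_ne_zero⟩) hn,
      fun s => (η i (wordAct D w s) : F) * c s, ?_⟩
    rw [Units.val_mul, sl2Hom_sl2n S 1 one_ne_zero]
    exact (rootAct_simple I.R i hi).mul hc

/-- a word sending every positive root to a negative root gives `n₀` -/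
theorem longOK_of_word {η : ℕ → ℕ → ℤ} (I : BNInput D F η)
    (hpn : ∀ r, r < D.nroots → D.IsPosRoot r ∨ D.IsNegRoot r) (w : List ℕ)
    (hw : ∀ i ∈ w, i < D.rank)
    (hneg : ∀ r, D.nroots / 2 ≤ r → r < D.nroots → wordAct D w r < D.nroots / 2) : LongOK D F := by
  obtain ⟨n, hn, c, hc⟩ := exists_rootAct_word I w hw
  refine ⟨n, hn, fun x hx => ?_⟩
  unfold ChevalleyDatum.posUnipotent at hx
  induction hx using Subgroup.closure_induction with
  | mem x hx =>
    obtain ⟨r, t, hr, hx⟩ := hx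
    obtain ⟨hrpos, hrlt⟩ := (I.hU.pos_iff r).mp hr
    have e := rootAct_conj hc hrlt hx
    exact x_mem_neg I hpn (hc r hrlt).1 (hneg r hrpos hrlt) e
  | one => simp
  | mul x y _ _ hx hy =>
    have : n * (x * y) * n⁻¹ = (n * x * n⁻¹) * (n * y * n⁻¹) := by group
    rw [this]
    exact Subgroup.mul_mem _ hx hy
  | inv x _ hx =>
    have : n * x⁻¹ * n⁻¹ = (n * x * n⁻¹)⁻¹ := by group
    rw [this]
    exact Subgroup.inv_mem _ hx

/-- an element of `G` commuting with the `x_r(1)`, `r` positive, and with the `n_p` lies in `H` -/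
theorem cent_le_diag {η : ℕ → ℕ → ℤ} (I : BNInput D F η)
    (hpn : ∀ r, r < D.nroots → D.IsPosRoot r ∨ D.IsNegRoot r) (hN : ∀ r, D.IsNegRoot r → NegOK D r)
    (hBG : D.borelSubgroup F ≤ D.group F) (hNG : D.monomialSubgroup F ≤ D.group F)
    (hG : D.group F ≤ D.borelSubgroup F ⊔ D.monomialSubgroup F) (hL : LongOK D F)
    {g : GL D.Idx F} (hg : g ∈ D.group F)
    (hc : ∀ r, D.IsPosRoot r → ∀ x : GL D.Idx F, (x : Matrix D.Idx D.Idx F) = D.x F r 1 →
      g * x = x * g)
    (hcn : ∀ n ∈ Subgroup.closure (simpleNSet D F), g * n = n * g) : g ∈ D.diagonalSubgroup F := by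
  have hB := cent_le_borel I hpn hN hBG hNG hG hg hc
  obtain ⟨n₀, hn₀, hconj⟩ := hL
  have hcomm := hcn n₀ hn₀
  obtain ⟨y₁, hy₁, y₂, hy₂, rfl⟩ := borel_decomp I hB
  have hn₀N : n₀ ∈ D.monomialSubgroup F := (Subgroup.closure_le _).mpr (simpleNSet_subset I) hn₀
  have h1 : n₀ * (y₁ * y₂) * n₀⁻¹ = y₁ * y₂ := by
    rw [← hcomm]
    group
  have hv := hconj y₁ hy₁
  have hd := conj_mem_diag I hn₀N hy₂
  have h2 : n₀ * y₁ * n₀⁻¹ = y₁ * y₂ * (n₀ * y₂ * n₀⁻¹)⁻¹ := by
    rw [← h1]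
    group
  have h3 : n₀ * y₁ * n₀⁻¹ ∈ D.borelSubgroup F := by
    rw [h2]
    exact mul_mem (mul_mem (Subgroup.mem_sup_left hy₁) (Subgroup.mem_sup_right hy₂))
      (inv_mem (Subgroup.mem_sup_right hd))
  have h4 := borel_inf_neg I hN h3 hv
  have h5 : y₁ = 1 := by
    have : y₁ = n₀⁻¹ * (n₀ * y₁ * n₀⁻¹) * n₀ := by group
    rw [this, h4]
    group
  rw [h5, one_mul]
  exact hy₂

/-- a diagonal element commuting with the `x_r(1)`, `r` positive, is `1` -/
theorem diag_cent_eq_one {η : ℕ → ℕ → ℤ} (I : BNInput D F η) {g : GL D.Idx F}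
    (hg : g ∈ D.diagonalSubgroup F)
    (hc : ∀ r, D.IsPosRoot r → ∀ x : GL D.Idx F, (x : Matrix D.Idx D.Idx F) = D.x F r 1 →
      g * x = x * g) : g = 1 := by
  obtain ⟨c, hc0, hgc⟩ := diagonalSubgroup_le_torus I.hSD' hg
  have hpos : ∀ r, D.nroots / 2 ≤ r → r < D.nroots → torusChar D F c r = 1 := by
    intro r hr1 hr2
    obtain ⟨S, hS⟩ := I.hSD ⟨r, hr2⟩
    have hcomm := hc r ((I.hU.pos_iff r).mpr ⟨hr1, hr2⟩) (sl2Hom S (sl2u 1)) (sl2Hom_sl2u S 1)
    have h1 := congrArg (fun y : GL D.Idx F => (y : Matrix D.Idx D.Idx F)) hcomm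
    simp only [Units.val_mul] at h1
    rw [hgc, sl2Hom_sl2u S 1, x_eq D F ⟨r, hr2⟩ 1, torusMat_mul_xMat S hS c hc0 1, ← hgc] at h1
    have h2 : D.xMat F ⟨r, hr2⟩ (torusChar D F c r) = D.xMat F ⟨r, hr2⟩ 1 := by
      have h := congrArg (fun M => M * ((g⁻¹ : GL D.Idx F) : Matrix D.Idx D.Idx F)) h1
      simp only [mul_assoc, ← Units.val_mul, mul_inv_cancel, Units.val_one, mul_one] at h
      exact h
    have h3 : D.x F r (torusChar D F c r + -1) = 1 := by
      rw [← x_add' I.hSD' r, x_eq D F ⟨r, hr2⟩, h2, ← x_eq D F ⟨r, hr2⟩, x_add' I.hSD' r,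
        add_neg_cancel, x_zero I.hSD']
    have h4 := x_eq_one_imp I hr1 hr2 h3
    linear_combination h4
  have hall : ∀ r, r < D.nroots → torusChar D F c r = 1 := by
    intro r hr
    by_cases h : D.nroots / 2 ≤ r
    · exact hpos r h hr
    · obtain ⟨S, -⟩ := I.hSD ⟨r, hr⟩
      have h1 : torusChar D F c S.nr.val * torusChar D F c r = 1 := by
        unfold torusChar
        rw [← Finset.prod_mul_distrib]
        apply Finset.prod_eq_one
        intro i _
        rw [S.cartan_neg i, zpow_neg, inv_mul_cancel₀ (zpow_ne_zero _ (hc0 i))]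
      have h2 : D.nroots / 2 ≤ S.nr.val := by
        have h3 := I.hU.negrev r hr
        have h4 : S.nr.val = D.neg r := S.nr_val
        have h5 := I.hU.even
        omega
      rw [hpos S.nr.val h2 S.nr.isLt, one_mul] at h1
      exact h1
  apply Units.ext
  rw [hgc, Units.val_one, ← torusMat_one]
  unfold torusMat
  congr 1
  funext x
  rcases x with j | s
  · rfl
  · simp [hall s.val s.isLt, torusChar_one]

/-- **Trivial centralizer**: an element of `G` commuting with all `x_r(1)` and `x_r(-1⁻¹)` is `1`. -/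
theorem cent_eq_one {η : ℕ → ℕ → ℤ} (I : BNInput D F η)
    (hpn : ∀ r, r < D.nroots → D.IsPosRoot r ∨ D.IsNegRoot r) (hN : ∀ r, D.IsNegRoot r → NegOK D r)
    (hBG : D.borelSubgroup F ≤ D.group F) (hNG : D.monomialSubgroup F ≤ D.group F)
    (hG : D.group F ≤ D.borelSubgroup F ⊔ D.monomialSubgroup F) (hL : LongOK D F)
    {g : GL D.Idx F} (hg : g ∈ D.group F)
    (hc : ∀ (r : ℕ) (t : F), (t = 1 ∨ t = -1⁻¹) → ∀ x : GL D.Idx F,
      (x : Matrix D.Idx D.Idx F) = D.x F r t → g * x = x * g) : g = 1 := by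
  have hc1 : ∀ r, D.IsPosRoot r → ∀ x : GL D.Idx F, (x : Matrix D.Idx D.Idx F) = D.x F r 1 →
      g * x = x * g := fun r _ x hx => hc r 1 (Or.inl rfl) x hx
  have hcn : ∀ n ∈ Subgroup.closure (simpleNSet D F), g * n = n * g := by
    intro n hn
    induction hn using Subgroup.closure_induction with
    | mem x hx =>
      obtain ⟨i, hi, hx⟩ := hx
      have hp : D.simple i < D.nroots := (I.hS ⟨i, hi⟩).1
      obtain ⟨S⟩ := I.hSD' ⟨D.simple i, hp⟩
      have e : x = sl2Hom S (sl2u 1) * sl2Hom S (sl2l (-1⁻¹)) * sl2Hom S (sl2u 1) := by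
        apply Units.ext
        rw [hx, Units.val_mul, Units.val_mul, sl2Hom_sl2u S 1, sl2Hom_sl2l S (-1⁻¹), nMat_eq_three,
          mul_assoc]
      have e1 := hc (D.simple i) 1 (Or.inl rfl) _ (sl2Hom_sl2u S 1)
      have e2 := hc (D.neg (D.simple i)) (-1⁻¹) (Or.inr rfl) _ (sl2Hom_sl2l S (-1⁻¹))
      rw [e, ← mul_assoc, ← mul_assoc, e1, mul_assoc _ g, e2, ← mul_assoc, mul_assoc _ g, e1]
      group
    | one => simp
    | mul x y _ _ hx hy => rw [← mul_assoc, hx, mul_assoc, hy, mul_assoc]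
    | inv x _ hx =>
      have : g * x⁻¹ = x⁻¹ * (x * g) * x⁻¹ := by group
      rw [this, ← hx]
      group
  exact diag_cent_eq_one I (cent_le_diag I hpn hN hBG hNG hG hL hg hc1 hcn) hc1

end Cent

end Cfsg.Agent.Lib.helper50.ChevFix
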