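/-
helper50: centralizer and normalizer of a subgroup `K` of a Chevalley group `G` lying between the group
generated by the root elements with parameters fixed by a field endomorphism `τ` and the group of all
`τ`-fixed elements of `G`: `C_G(K) = 1` and `N_G(K)` is the group of `τ`-fixed elements (generic part).
-/
import Cfsg.Agent.Lib.helper50.ChevFix1
import Cfsg.Agent.Lib.helper50.ChevFix7

set_option autoImplicit false

namespace Cfsg.Agent.Lib.helper50.ChevFix

open Cfsg.Lie Cfsg.Agent.Lib.helper22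

universe u

section Norm

variable {D : ChevalleyDatum} {F : Type u} [Field F]

/-- the subgroup generated by the root elements with parameter fixed by `τ` -/
def fixRoot (D : ChevalleyDatum) {F : Type u} [Field F] (τ : F →+* F) : Subgroup (GL D.Idx F) :=
  Subgroup.closure {g : GL D.Idx F | ∃ (s : ℕ) (t : F), τ t = t ∧
    (g : Matrix D.Idx D.Idx F) = D.x F s t}

theorem fixRoot_fixed (τ : F →+* F) {g : GL D.Idx F} (hg : g ∈ fixRoot D τ) : glMap D τ g = g := by
  unfold fixRoot at hg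
  induction hg using Subgroup.closure_induction with
  | mem x hx =>
    obtain ⟨s, t, ht, hx⟩ := hx
    apply Units.ext
    rw [glMap_val, hx, x_map D τ s t, ht]
  | one => exact map_one _
  | mul x y _ _ hx hy => rw [map_mul, hx, hy]
  | inv x _ hx => rw [map_inv, hx]

theorem group_glMap_mem (τ : F →+* F) {g : GL D.Idx F} (hg : g ∈ D.group F) :
    glMap D τ g ∈ D.group F := by
  unfold ChevalleyDatum.group at hg ⊢
  induction hg using Subgroup.closure_induction with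
  | mem x hx =>
    obtain ⟨r, t, hx⟩ := hx
    exact Subgroup.subset_closure ⟨r, τ t, by rw [glMap_val, hx, xMat_map]⟩
  | one => rw [map_one]; exact one_mem _
  | mul x y _ _ hx hy => rw [map_mul]; exact mul_mem hx hy
  | inv x _ hx => rw [map_inv]; exact inv_mem hx

/-- a `τ`-fixed element of `U` is a product of root elements with fixed parameters -/
theorem pos_fixed_mem {η : ℕ → ℕ → ℤ} (I : BNInput D F η) (τ : F →+* F) {x : GL D.Idx F}
    (hx : x ∈ D.posUnipotent F) (hfix : glMap D τ x = x) : x ∈ fixRoot D τ := by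
  obtain ⟨h1, -⟩ := posUnipotent_ordProd I.hSD' I.hU I.hcomm
  obtain ⟨t, ⟨ht0, ht⟩, huniq⟩ := h1 x hx
  have hτt : (fun r => τ (t r)) = t := by
    apply huniq
    refine ⟨fun r hr => by rw [ht0 r hr, map_zero], ?_⟩
    have h3 := congrArg (fun y : GL D.Idx F => (y : Matrix D.Idx D.Idx F)) hfix
    simp only [glMap_val] at h3
    rw [← h3, ht, wordMat_map D τ, List.map_map]
    rfl
  obtain ⟨h, hh, hh'⟩ := wordMat_mem_closure I.hSD'
    {g : GL D.Idx F | ∃ (s : ℕ) (t : F), τ t = t ∧ (g : Matrix D.Idx D.Idx F) = D.x F s t}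
    (D.posRoots.map fun r => (r, t r)) (by
      intro q hq
      obtain ⟨r, hr, rfl⟩ := List.mem_map.mp hq
      have hr' : D.IsPosRoot r := by
        unfold ChevalleyDatum.posRoots at hr
        exact of_decide_eq_true (List.mem_filter.mp hr).2
      exact ⟨hr'.1, fun g hg => ⟨r, t r, congrFun hτt r, hg⟩⟩)
  have e : x = h := Units.ext (ht.trans hh'.symm)
  rw [e]
  exact hh

/-- the `n_p` are products of root elements with parameters `±1` -/
theorem simpleN_le_fixRoot {η : ℕ → ℕ → ℤ} (I : BNInput D F η) (τ : F →+* F) :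
    Subgroup.closure (simpleNSet D F) ≤ fixRoot D τ := by
  rw [Subgroup.closure_le]
  rintro x ⟨i, hi, hx⟩
  have hp : D.simple i < D.nroots := (I.hS ⟨i, hi⟩).1
  obtain ⟨S⟩ := I.hSD' ⟨D.simple i, hp⟩
  have e : x = sl2Hom S (sl2u 1) * sl2Hom S (sl2l (-1⁻¹)) * sl2Hom S (sl2u 1) := by
    apply Units.ext
    rw [hx, Units.val_mul, Units.val_mul, sl2Hom_sl2u S 1, sl2Hom_sl2l S (-1⁻¹), nMat_eq_three,
      mul_assoc]
  have e1 : sl2Hom S (sl2u (1 : F)) ∈ fixRoot D τ :=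
    Subgroup.subset_closure ⟨D.simple i, 1, map_one τ, sl2Hom_sl2u S 1⟩
  have e2 : sl2Hom S (sl2l (-1⁻¹ : F)) ∈ fixRoot D τ :=
    Subgroup.subset_closure ⟨D.neg (D.simple i), -1⁻¹, by simp, sl2Hom_sl2l S (-1⁻¹)⟩
  rw [SetLike.mem_coe, e]
  exact mul_mem (mul_mem e1 e2) e1

/-- the diagonal subgroup is commutative -/
theorem diag_comm {η : ℕ → ℕ → ℤ} (I : BNInput D F η) {y y' : GL D.Idx F}
    (hy : y ∈ D.diagonalSubgroup F) (hy' : y' ∈ D.diagonalSubgroup F) : y * y' = y' * y := by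
  obtain ⟨c, -, hc⟩ := diagonalSubgroup_le_torus I.hSD' hy
  obtain ⟨c', -, hc'⟩ := diagonalSubgroup_le_torus I.hSD' hy'
  apply Units.ext
  rw [Units.val_mul, Units.val_mul, hc, hc']
  unfold torusMat
  rw [Matrix.diagonal_mul_diagonal, Matrix.diagonal_mul_diagonal]
  congr 1
  funext x
  exact mul_comm _ _

/-- a `τ`-fixed diagonal element normalizes `fixRoot` -/
theorem diag_conj_fixRoot {η : ℕ → ℕ → ℤ} (I : BNInput D F η) (τ : F →+* F) {y : GL D.Idx F}
    (hy : y ∈ D.diagonalSubgroup F) (hfix : glMap D τ y = y) :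
    ∀ l ∈ fixRoot D τ, y * l * y⁻¹ ∈ fixRoot D τ := by
  apply conj_mem_closure
  rintro x ⟨s, t, ht, hx⟩
  by_cases hs : s < D.nroots
  · obtain ⟨c, hc0, hyc⟩ := diagonalSubgroup_le_torus I.hSD' hy
    obtain ⟨S, hS⟩ := I.hSD ⟨s, hs⟩
    have e : ((y * x * y⁻¹ : GL D.Idx F) : Matrix D.Idx D.Idx F) =
        D.x F s (torusChar D F c s * t) := by
      rw [Units.val_mul, Units.val_mul, hx, hyc, x_eq D F ⟨s, hs⟩ t, torusMat_mul_xMat S hS c hc0 t,
        mul_assoc, ← hyc, ← Units.val_mul, mul_inv_cancel, Units.val_one, mul_one,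
        x_eq D F ⟨s, hs⟩]
    have hχ : τ (torusChar D F c s) = torusChar D F c s := by
      have h3 := congrArg (fun z : GL D.Idx F =>
        (z : Matrix D.Idx D.Idx F) (Sum.inr ⟨s, hs⟩) (Sum.inr ⟨s, hs⟩)) hfix
      simp only [glMap_val, Matrix.map_apply] at h3
      rw [hyc] at h3
      simpa [torusMat] using h3
    exact Subgroup.subset_closure ⟨s, torusChar D F c s * t, by rw [map_mul, hχ, ht], e⟩
  · have hx1 : x = 1 := by
      apply Units.ext
      rw [hx]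
      unfold ChevalleyDatum.x
      rw [dif_neg hs]
      rfl
    rw [hx1]
    simp

/-- a `τ`-fixed element of `G` is `l₁ y l₂` with `l₁, l₂` products of fixed root elements and `y` a
`τ`-fixed diagonal element -/
theorem fixed_decomp {η : ℕ → ℕ → ℤ} (I : BNInput D F η)
    (hpn : ∀ r, r < D.nroots → D.IsPosRoot r ∨ D.IsNegRoot r) (hN : ∀ r, D.IsNegRoot r → NegOK D r)
    (hBG : D.borelSubgroup F ≤ D.group F) (hNG : D.monomialSubgroup F ≤ D.group F)
    (hG : D.group F ≤ D.borelSubgroup F ⊔ D.monomialSubgroup F) (τ : F →+* F)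
    {g : GL D.Idx F} (hg : g ∈ D.group F) (hfix : glMap D τ g = g) :
    ∃ l₁ ∈ fixRoot D τ, ∃ y ∈ D.diagonalSubgroup F, ∃ l₂ ∈ fixRoot D τ,
      glMap D τ y = y ∧ g = l₁ * y * l₂ := by
  obtain ⟨b, hb, n, hn, x, hx, rfl⟩ := canon_exists I hpn hN hBG hNG hG hg
  obtain ⟨h, hh, n₁, hn₁, rfl⟩ := monomial_decomp I hn
  have hx₁ : x ∈ Subgroup.closure (negSet D F n₁) := by
    have h1 : negSet D F (h * n₁) ⊆ negSet D F (h⁻¹ * (h * n₁)) := negSet_diag_mul I (inv_mem hh) _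
    rw [inv_mul_cancel_left] at h1
    exact Subgroup.closure_mono h1 hx
  have hn₁L : n₁ ∈ fixRoot D τ := simpleN_le_fixRoot I τ hn₁
  have hn₁fix : glMap D τ n₁ = n₁ := fixRoot_fixed τ hn₁L
  have hn₁N : n₁ ∈ D.monomialSubgroup F :=
    (Subgroup.closure_le _).mpr (simpleNSet_subset I) hn₁
  have hbh : b * h ∈ D.borelSubgroup F := mul_mem hb (Subgroup.mem_sup_right hh)
  have hborel : ∀ y ∈ D.borelSubgroup F, glMap D τ y ∈ D.borelSubgroup F := by
    intro y hy
    obtain ⟨y₁, hy₁, y₂, hy₂, rfl⟩ := borel_decomp I hy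
    rw [map_mul]
    exact mul_mem (Subgroup.mem_sup_left (pos_stable τ hy₁)) (Subgroup.mem_sup_right (diag_stable τ hy₂))
  have hτb := hborel _ hbh
  have hτx := negSet_stable τ n₁ hx₁
  have heq : glMap D τ (b * h) * n₁ * glMap D τ x = (b * h) * n₁ * x := by
    have h1 : b * (h * n₁) * x = (b * h) * n₁ * x := by group
    rw [h1, map_mul, map_mul, hn₁fix] at hfix
    exact hfix
  obtain ⟨-, huniq⟩ := canon_unique I hN hBG hNG hG hτb hbh hn₁N hn₁N hτx hx₁ heq
  obtain ⟨hb', hx'⟩ := huniq rfl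
  obtain ⟨y₁, hy₁, y₂, hy₂, hy⟩ := borel_decomp I hbh
  rw [hy, map_mul] at hb'
  have hUN := posUnipotent_inf_monomialSubgroup (F := F) I.hSD' I.posOK
  have h5 : y₁⁻¹ * glMap D τ y₁ = y₂ * (glMap D τ y₂)⁻¹ := by
    have : glMap D τ y₁ = y₁ * y₂ * (glMap D τ y₂)⁻¹ := by rw [← hb']; group
    rw [this]; group
  have h6 : y₁⁻¹ * glMap D τ y₁ ∈ D.posUnipotent F ⊓ D.monomialSubgroup F := by
    refine Subgroup.mem_inf.mpr ⟨mul_mem (inv_mem hy₁) (pos_stable τ hy₁), ?_⟩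
    rw [h5]
    exact Subgroup.mem_sup_left (mul_mem hy₂ (inv_mem (diag_stable τ hy₂)))
  rw [hUN, Subgroup.mem_bot] at h6
  have hy₁fix : glMap D τ y₁ = y₁ := by
    have : glMap D τ y₁ = y₁ * (y₁⁻¹ * glMap D τ y₁) := by group
    rw [this, h6, mul_one]
  have hy₂fix : glMap D τ y₂ = y₂ := by
    rw [hy₁fix] at hb'
    exact mul_left_cancel hb'
  refine ⟨y₁, pos_fixed_mem I τ hy₁ hy₁fix, y₂, hy₂, n₁ * x,
    mul_mem hn₁L (pos_fixed_mem I τ (negSet_le_pos n₁ hx₁) hx'), hy₂fix, ?_⟩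
  have e : b * (h * n₁) * x = (b * h) * (n₁ * x) := by group
  rw [e, hy]

/-- the `τ`-fixed elements of `G` normalize every subgroup between `fixRoot` and the fixed points -/
theorem fixed_normalizes {η : ℕ → ℕ → ℤ} (I : BNInput D F η)
    (hpn : ∀ r, r < D.nroots → D.IsPosRoot r ∨ D.IsNegRoot r) (hN : ∀ r, D.IsNegRoot r → NegOK D r)
    (hBG : D.borelSubgroup F ≤ D.group F) (hNG : D.monomialSubgroup F ≤ D.group F)
    (hG : D.group F ≤ D.borelSubgroup F ⊔ D.monomialSubgroup F) (τ : F →+* F)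
    (K : Subgroup (GL D.Idx F)) (hKG : K ≤ D.group F) (hLK : fixRoot D τ ≤ K)
    (hKfix : ∀ κ ∈ K, glMap D τ κ = κ) {g : GL D.Idx F} (hg : g ∈ D.group F)
    (hfix : glMap D τ g = g) : ∀ κ ∈ K, g * κ * g⁻¹ ∈ K := by
  intro κ hκ
  obtain ⟨l₁, hl₁, y, hy, l₂, hl₂, hyfix, rfl⟩ := fixed_decomp I hpn hN hBG hNG hG τ hg hfix
  have hκ' : l₂ * κ * l₂⁻¹ ∈ K := mul_mem (mul_mem (hLK hl₂) hκ) (inv_mem (hLK hl₂))
  obtain ⟨l₃, hl₃, y', hy', l₄, hl₄, -, e⟩ :=
    fixed_decomp I hpn hN hBG hNG hG τ (hKG hκ') (hKfix _ hκ')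
  have hy'K : y' ∈ K := by
    have : y' = l₃⁻¹ * (l₂ * κ * l₂⁻¹) * l₄⁻¹ := by rw [e]; group
    rw [this]
    exact mul_mem (mul_mem (inv_mem (hLK hl₃)) hκ') (inv_mem (hLK hl₄))
  have hcomm : y * y' = y' * y := diag_comm I hy hy'
  have h1 : y * (l₂ * κ * l₂⁻¹) * y⁻¹ = (y * l₃ * y⁻¹) * y' * (y * l₄ * y⁻¹) := by
    rw [e]
    have : y * (l₃ * y' * l₄) * y⁻¹ = (y * l₃ * y⁻¹) * (y * y') * y⁻¹ * (y * l₄ * y⁻¹) := by group
    rw [this, hcomm]
    group
  have h2 : y * (l₂ * κ * l₂⁻¹) * y⁻¹ ∈ K := by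
    rw [h1]
    exact mul_mem (mul_mem (hLK (diag_conj_fixRoot I τ hy hyfix l₃ hl₃)) hy'K)
      (hLK (diag_conj_fixRoot I τ hy hyfix l₄ hl₄))
  have h3 : l₁ * y * l₂ * κ * (l₁ * y * l₂)⁻¹ = l₁ * (y * (l₂ * κ * l₂⁻¹) * y⁻¹) * l₁⁻¹ := by group
  rw [h3]
  exact mul_mem (mul_mem (hLK hl₁) h2) (inv_mem (hLK hl₁))

/-- **Centralizer and normalizer** of a subgroup `K` between the group generated by the `τ`-fixed root
elements and the group of `τ`-fixed elements of `G`. -/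
theorem cent_norm {η : ℕ → ℕ → ℤ} (I : BNInput D F η)
    (hpn : ∀ r, r < D.nroots → D.IsPosRoot r ∨ D.IsNegRoot r) (hN : ∀ r, D.IsNegRoot r → NegOK D r)
    (hBG : D.borelSubgroup F ≤ D.group F) (hNG : D.monomialSubgroup F ≤ D.group F)
    (hG : D.group F ≤ D.borelSubgroup F ⊔ D.monomialSubgroup F) (hL : LongOK D F) (τ : F →+* F)
    (K : Subgroup (GL D.Idx F)) (hKG : K ≤ D.group F) (hLK : fixRoot D τ ≤ K)
    (hKfix : ∀ κ ∈ K, glMap D τ κ = κ) :
    D.group F ⊓ Subgroup.centralizer (K : Set (GL D.Idx F)) = ⊥ ∧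
    ∀ g : GL D.Idx F, g ∈ D.group F →
      (g ∈ Subgroup.normalizer (K : Set (GL D.Idx F)) ↔ glMap D τ g = g) := by
  have hcent : ∀ g ∈ D.group F, g ∈ Subgroup.centralizer (K : Set (GL D.Idx F)) → g = 1 := by
    intro g hg hgc
    apply cent_eq_one I hpn hN hBG hNG hG hL hg
    intro r t ht x hx
    have hxK : x ∈ K :=
      hLK (Subgroup.subset_closure ⟨r, t, by rcases ht with rfl | rfl <;> simp, hx⟩)
    exact (Subgroup.mem_centralizer_iff.mp hgc x hxK).symm
  refine ⟨?_, ?_⟩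
  · rw [eq_bot_iff]
    intro g hg
    obtain ⟨h1, h2⟩ := Subgroup.mem_inf.mp hg
    exact Subgroup.mem_bot.mpr (hcent g h1 h2)
  · intro g hg
    constructor
    · intro hnorm
      have hz : g⁻¹ * glMap D τ g ∈ Subgroup.centralizer (K : Set (GL D.Idx F)) := by
        rw [Subgroup.mem_centralizer_iff]
        intro κ hκ
        have h1 : g * κ * g⁻¹ ∈ K := (Subgroup.mem_normalizer_iff.mp hnorm κ).mp hκ
        have h2 := hKfix _ h1
        rw [map_mul, map_mul, map_inv, hKfix κ hκ] at h2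
        have e : κ * (g⁻¹ * glMap D τ g) = g⁻¹ * (g * κ * g⁻¹) * glMap D τ g := by group
        rw [e, ← h2]
        group
      have hzG : g⁻¹ * glMap D τ g ∈ D.group F := mul_mem (inv_mem hg) (group_glMap_mem τ hg)
      have h3 := hcent _ hzG hz
      calc glMap D τ g = g * (g⁻¹ * glMap D τ g) := by group
        _ = g := by rw [h3, mul_one]
    · intro hfix
      rw [Subgroup.mem_normalizer_iff]
      intro κ
      constructor
      · exact fixed_normalizes I hpn hN hBG hNG hG τ K hKG hLK hKfix hg hfix κ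
      · intro h
        have hfix' : glMap D τ g⁻¹ = g⁻¹ := by rw [map_inv, hfix]
        have h4 := fixed_normalizes I hpn hN hBG hNG hG τ K hKG hLK hKfix (inv_mem hg) hfix' _ h
        have e : g⁻¹ * (g * κ * g⁻¹) * g⁻¹⁻¹ = κ := by group
        rwa [e] at h4

end Norm

end Cfsg.Agent.Lib.helper50.ChevFix
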