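/-
helper50: for each of the seven tabulated types a word in the fundamental reflections sending every
positive root to a negative root (the longest element of the Weyl group), checked on the root indices
in small chunks; hence a product `n₀` of the `n_p` with `n₀ U n₀⁻¹ ≤ V`.
-/
import Cfsg.Agent.Lib.helper50.ChevFix7
import Cfsg.Agent.S1043
import Cfsg.Agent.Lib.helper22.ChevBNAll

set_option autoImplicit false
set_option maxRecDepth 100000

namespace Cfsg.Agent.Lib.helper50.ChevFix

open Cfsg.Lie Cfsg.Agent.Lib.helper22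

universe u

/-- the word `w` sends the roots `a, …, a + b - 1` to negative roots -/
def longChk (D : ChevalleyDatum) (w : List ℕ) (a b : ℕ) : Bool :=
  (List.range' a b).all fun r => decide (wordAct D w r < D.nroots / 2)

theorem longChk_spec {D : ChevalleyDatum} {w : List ℕ} {a b : ℕ} (h : longChk D w a b = true)
    (r : ℕ) (h1 : a ≤ r) (h2 : r < a + b) : wordAct D w r < D.nroots / 2 := by
  unfold longChk at h
  rw [List.all_eq_true] at h
  exact of_decide_eq_true (h r (List.mem_range'_1.mpr ⟨h1, h2⟩))

def longG2 : List ℕ := [0, 1, 0, 1, 0, 1]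

theorem longChk_G2_0 : longChk chevG2 longG2 6 6 = true := by decide +kernel

theorem long_G2 (r : ℕ) (h1 : chevG2.nroots / 2 ≤ r) (h2 : r < chevG2.nroots) :
    wordAct chevG2 longG2 r < chevG2.nroots / 2 := by
  have h1' : 6 ≤ r := h1
  have h2' : r < 12 := h2
  exact longChk_spec longChk_G2_0 r (by omega) (by omega)

def longB2 : List ℕ := [0, 1, 0, 1]

theorem longChk_B2_0 : longChk chevB2 longB2 4 4 = true := by decide +kernel

theorem long_B2 (r : ℕ) (h1 : chevB2.nroots / 2 ≤ r) (h2 : r < chevB2.nroots) :
    wordAct chevB2 longB2 r < chevB2.nroots / 2 := by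
  have h1' : 4 ≤ r := h1
  have h2' : r < 8 := h2
  exact longChk_spec longChk_B2_0 r (by omega) (by omega)

def longD4 : List ℕ := [0, 1, 0, 2, 1, 0, 3, 1, 0, 2, 1, 3]

theorem longChk_D4_0 : longChk chevD4 longD4 12 12 = true := by decide +kernel

theorem long_D4 (r : ℕ) (h1 : chevD4.nroots / 2 ≤ r) (h2 : r < chevD4.nroots) :
    wordAct chevD4 longD4 r < chevD4.nroots / 2 := by
  have h1' : 12 ≤ r := h1
  have h2' : r < 24 := h2
  exact longChk_spec longChk_D4_0 r (by omega) (by omega)

def longF4 : List ℕ := [0, 1, 0, 2, 1, 0, 2, 1, 2, 3, 2, 1, 0, 2, 1, 2, 3, 2, 1, 0, 2, 1, 2, 3]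

theorem longChk_F4_0 : longChk chevF4 longF4 24 12 = true := by decide +kernel

theorem longChk_F4_1 : longChk chevF4 longF4 36 12 = true := by decide +kernel

theorem long_F4 (r : ℕ) (h1 : chevF4.nroots / 2 ≤ r) (h2 : r < chevF4.nroots) :
    wordAct chevF4 longF4 r < chevF4.nroots / 2 := by
  have h1' : 24 ≤ r := h1
  have h2' : r < 48 := h2
  rcases Nat.lt_or_ge r 36 with h | h
  · exact longChk_spec longChk_F4_0 r (by omega) (by omega)
  exact longChk_spec longChk_F4_1 r (by omega) (by omega)

def longE6 : List ℕ := [0, 1, 2, 0, 3, 1, 2, 0, 3, 2, 4, 3, 1, 2, 0, 3, 2, 4, 3, 1, 5, 4, 3, 1, 2, 0, 3, 2, 4, 3, 1, 5, 4,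
  3, 2, 0]

theorem longChk_E6_0 : longChk chevE6 longE6 36 9 = true := by decide +kernel

theorem longChk_E6_1 : longChk chevE6 longE6 45 9 = true := by decide +kernel

theorem longChk_E6_2 : longChk chevE6 longE6 54 9 = true := by decide +kernel

theorem longChk_E6_3 : longChk chevE6 longE6 63 9 = true := by decide +kernel

theorem long_E6 (r : ℕ) (h1 : chevE6.nroots / 2 ≤ r) (h2 : r < chevE6.nroots) :
    wordAct chevE6 longE6 r < chevE6.nroots / 2 := by
  have h1' : 36 ≤ r := h1
  have h2' : r < 72 := h2
  rcases Nat.lt_or_ge r 45 with h | h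
  · exact longChk_spec longChk_E6_0 r (by omega) (by omega)
  rcases Nat.lt_or_ge r 54 with h | h
  · exact longChk_spec longChk_E6_1 r (by omega) (by omega)
  rcases Nat.lt_or_ge r 63 with h | h
  · exact longChk_spec longChk_E6_2 r (by omega) (by omega)
  exact longChk_spec longChk_E6_3 r (by omega) (by omega)

def longE7 : List ℕ := [0, 1, 2, 0, 3, 1, 2, 0, 3, 2, 4, 3, 1, 2, 0, 3, 2, 4, 3, 1, 5, 4, 3, 1, 2, 0, 3, 2, 4, 3, 1, 5, 4,
  3, 2, 0, 6, 5, 4, 3, 1, 2, 0, 3, 2, 4, 3, 1, 5, 4, 3, 2, 0, 6, 5, 4, 3, 1, 2, 3, 4, 5, 6]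

theorem longChk_E7_0 : longChk chevE7 longE7 63 7 = true := by decide +kernel

theorem longChk_E7_1 : longChk chevE7 longE7 70 7 = true := by decide +kernel

theorem longChk_E7_2 : longChk chevE7 longE7 77 7 = true := by decide +kernel

theorem longChk_E7_3 : longChk chevE7 longE7 84 7 = true := by decide +kernel

theorem longChk_E7_4 : longChk chevE7 longE7 91 7 = true := by decide +kernel

theorem longChk_E7_5 : longChk chevE7 longE7 98 7 = true := by decide +kernel

theorem longChk_E7_6 : longChk chevE7 longE7 105 7 = true := by decide +kernel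

theorem longChk_E7_7 : longChk chevE7 longE7 112 7 = true := by decide +kernel

theorem longChk_E7_8 : longChk chevE7 longE7 119 7 = true := by decide +kernel

theorem long_E7 (r : ℕ) (h1 : chevE7.nroots / 2 ≤ r) (h2 : r < chevE7.nroots) :
    wordAct chevE7 longE7 r < chevE7.nroots / 2 := by
  have h1' : 63 ≤ r := h1
  have h2' : r < 126 := h2
  rcases Nat.lt_or_ge r 70 with h | h
  · exact longChk_spec longChk_E7_0 r (by omega) (by omega)
  rcases Nat.lt_or_ge r 77 with h | h
  · exact longChk_spec longChk_E7_1 r (by omega) (by omega)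
  rcases Nat.lt_or_ge r 84 with h | h
  · exact longChk_spec longChk_E7_2 r (by omega) (by omega)
  rcases Nat.lt_or_ge r 91 with h | h
  · exact longChk_spec longChk_E7_3 r (by omega) (by omega)
  rcases Nat.lt_or_ge r 98 with h | h
  · exact longChk_spec longChk_E7_4 r (by omega) (by omega)
  rcases Nat.lt_or_ge r 105 with h | h
  · exact longChk_spec longChk_E7_5 r (by omega) (by omega)
  rcases Nat.lt_or_ge r 112 with h | h
  · exact longChk_spec longChk_E7_6 r (by omega) (by omega)
  rcases Nat.lt_or_ge r 119 with h | h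
  · exact longChk_spec longChk_E7_7 r (by omega) (by omega)
  exact longChk_spec longChk_E7_8 r (by omega) (by omega)

def longE8 : List ℕ := [0, 1, 2, 0, 3, 1, 2, 0, 3, 2, 4, 3, 1, 2, 0, 3, 2, 4, 3, 1, 5, 4, 3, 1, 2, 0, 3, 2, 4, 3, 1, 5, 4,
  3, 2, 0, 6, 5, 4, 3, 1, 2, 0, 3, 2, 4, 3, 1, 5, 4, 3, 2, 0, 6, 5, 4, 3, 1, 2, 3, 4, 5, 6, 7, 6, 5,
  4, 3, 1, 2, 0, 3, 2, 4, 3, 1, 5, 4, 3, 2, 0, 6, 5, 4, 3, 1, 2, 3, 4, 5, 6, 7, 6, 5, 4, 3, 1, 2, 0,
  3, 2, 4, 3, 1, 5, 4, 3, 2, 0, 6, 5, 4, 3, 1, 2, 3, 4, 5, 6, 7]

theorem longChk_E8_0 : longChk chevE8 longE8 120 4 = true := by decide +kernel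

theorem longChk_E8_1 : longChk chevE8 longE8 124 4 = true := by decide +kernel

theorem longChk_E8_2 : longChk chevE8 longE8 128 4 = true := by decide +kernel

theorem longChk_E8_3 : longChk chevE8 longE8 132 4 = true := by decide +kernel

theorem longChk_E8_4 : longChk chevE8 longE8 136 4 = true := by decide +kernel

theorem longChk_E8_5 : longChk chevE8 longE8 140 4 = true := by decide +kernel

theorem longChk_E8_6 : longChk chevE8 longE8 144 4 = true := by decide +kernel

theorem longChk_E8_7 : longChk chevE8 longE8 148 4 = true := by decide +kernel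

theorem longChk_E8_8 : longChk chevE8 longE8 152 4 = true := by decide +kernel

theorem longChk_E8_9 : longChk chevE8 longE8 156 4 = true := by decide +kernel

theorem longChk_E8_10 : longChk chevE8 longE8 160 4 = true := by decide +kernel

theorem longChk_E8_11 : longChk chevE8 longE8 164 4 = true := by decide +kernel

theorem longChk_E8_12 : longChk chevE8 longE8 168 4 = true := by decide +kernel

theorem longChk_E8_13 : longChk chevE8 longE8 172 4 = true := by decide +kernel

theorem longChk_E8_14 : longChk chevE8 longE8 176 4 = true := by decide +kernel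

theorem longChk_E8_15 : longChk chevE8 longE8 180 4 = true := by decide +kernel

theorem longChk_E8_16 : longChk chevE8 longE8 184 4 = true := by decide +kernel

theorem longChk_E8_17 : longChk chevE8 longE8 188 4 = true := by decide +kernel

theorem longChk_E8_18 : longChk chevE8 longE8 192 4 = true := by decide +kernel

theorem longChk_E8_19 : longChk chevE8 longE8 196 4 = true := by decide +kernel

theorem longChk_E8_20 : longChk chevE8 longE8 200 4 = true := by decide +kernel

theorem longChk_E8_21 : longChk chevE8 longE8 204 4 = true := by decide +kernel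

theorem longChk_E8_22 : longChk chevE8 longE8 208 4 = true := by decide +kernel

theorem longChk_E8_23 : longChk chevE8 longE8 212 4 = true := by decide +kernel

theorem longChk_E8_24 : longChk chevE8 longE8 216 4 = true := by decide +kernel

theorem longChk_E8_25 : longChk chevE8 longE8 220 4 = true := by decide +kernel

theorem longChk_E8_26 : longChk chevE8 longE8 224 4 = true := by decide +kernel

theorem longChk_E8_27 : longChk chevE8 longE8 228 4 = true := by decide +kernel

theorem longChk_E8_28 : longChk chevE8 longE8 232 4 = true := by decide +kernel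

theorem longChk_E8_29 : longChk chevE8 longE8 236 4 = true := by decide +kernel

theorem long_E8 (r : ℕ) (h1 : chevE8.nroots / 2 ≤ r) (h2 : r < chevE8.nroots) :
    wordAct chevE8 longE8 r < chevE8.nroots / 2 := by
  have h1' : 120 ≤ r := h1
  have h2' : r < 240 := h2
  rcases Nat.lt_or_ge r 124 with h | h
  · exact longChk_spec longChk_E8_0 r (by omega) (by omega)
  rcases Nat.lt_or_ge r 128 with h | h
  · exact longChk_spec longChk_E8_1 r (by omega) (by omega)
  rcases Nat.lt_or_ge r 132 with h | h
  · exact longChk_spec longChk_E8_2 r (by omega) (by omega)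
  rcases Nat.lt_or_ge r 136 with h | h
  · exact longChk_spec longChk_E8_3 r (by omega) (by omega)
  rcases Nat.lt_or_ge r 140 with h | h
  · exact longChk_spec longChk_E8_4 r (by omega) (by omega)
  rcases Nat.lt_or_ge r 144 with h | h
  · exact longChk_spec longChk_E8_5 r (by omega) (by omega)
  rcases Nat.lt_or_ge r 148 with h | h
  · exact longChk_spec longChk_E8_6 r (by omega) (by omega)
  rcases Nat.lt_or_ge r 152 with h | h
  · exact longChk_spec longChk_E8_7 r (by omega) (by omega)
  rcases Nat.lt_or_ge r 156 with h | h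
  · exact longChk_spec longChk_E8_8 r (by omega) (by omega)
  rcases Nat.lt_or_ge r 160 with h | h
  · exact longChk_spec longChk_E8_9 r (by omega) (by omega)
  rcases Nat.lt_or_ge r 164 with h | h
  · exact longChk_spec longChk_E8_10 r (by omega) (by omega)
  rcases Nat.lt_or_ge r 168 with h | h
  · exact longChk_spec longChk_E8_11 r (by omega) (by omega)
  rcases Nat.lt_or_ge r 172 with h | h
  · exact longChk_spec longChk_E8_12 r (by omega) (by omega)
  rcases Nat.lt_or_ge r 176 with h | h
  · exact longChk_spec longChk_E8_13 r (by omega) (by omega)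
  rcases Nat.lt_or_ge r 180 with h | h
  · exact longChk_spec longChk_E8_14 r (by omega) (by omega)
  rcases Nat.lt_or_ge r 184 with h | h
  · exact longChk_spec longChk_E8_15 r (by omega) (by omega)
  rcases Nat.lt_or_ge r 188 with h | h
  · exact longChk_spec longChk_E8_16 r (by omega) (by omega)
  rcases Nat.lt_or_ge r 192 with h | h
  · exact longChk_spec longChk_E8_17 r (by omega) (by omega)
  rcases Nat.lt_or_ge r 196 with h | h
  · exact longChk_spec longChk_E8_18 r (by omega) (by omega)
  rcases Nat.lt_or_ge r 200 with h | h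
  · exact longChk_spec longChk_E8_19 r (by omega) (by omega)
  rcases Nat.lt_or_ge r 204 with h | h
  · exact longChk_spec longChk_E8_20 r (by omega) (by omega)
  rcases Nat.lt_or_ge r 208 with h | h
  · exact longChk_spec longChk_E8_21 r (by omega) (by omega)
  rcases Nat.lt_or_ge r 212 with h | h
  · exact longChk_spec longChk_E8_22 r (by omega) (by omega)
  rcases Nat.lt_or_ge r 216 with h | h
  · exact longChk_spec longChk_E8_23 r (by omega) (by omega)
  rcases Nat.lt_or_ge r 220 with h | h
  · exact longChk_spec longChk_E8_24 r (by omega) (by omega)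
  rcases Nat.lt_or_ge r 224 with h | h
  · exact longChk_spec longChk_E8_25 r (by omega) (by omega)
  rcases Nat.lt_or_ge r 228 with h | h
  · exact longChk_spec longChk_E8_26 r (by omega) (by omega)
  rcases Nat.lt_or_ge r 232 with h | h
  · exact longChk_spec longChk_E8_27 r (by omega) (by omega)
  rcases Nat.lt_or_ge r 236 with h | h
  · exact longChk_spec longChk_E8_28 r (by omega) (by omega)
  exact longChk_spec longChk_E8_29 r (by omega) (by omega)

/-- the longest element for the seven tabulated types -/
theorem longOK_all (D : ChevalleyDatum)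
    (hD : D ∈ [chevG2, chevB2, chevD4, chevF4, chevE6, chevE7, chevE8]) (F : Type u) [Field F] :
    LongOK D F := by
  obtain ⟨η, I⟩ := bnInput_all D hD F
  have hpn := Cfsg.Agent.S1041.posNegOK_spec D (Cfsg.Agent.S1041.posNegOK_all D hD)
  simp only [List.mem_cons, List.not_mem_nil, or_false] at hD
  rcases hD with rfl | rfl | rfl | rfl | rfl | rfl | rfl
  · exact longOK_of_word I hpn longG2 (by decide) long_G2
  · exact longOK_of_word I hpn longB2 (by decide) long_B2
  · exact longOK_of_word I hpn longD4 (by decide) long_D4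
  · exact longOK_of_word I hpn longF4 (by decide) long_F4
  · exact longOK_of_word I hpn longE6 (by decide) long_E6
  · exact longOK_of_word I hpn longE7 (by decide) long_E7
  · exact longOK_of_word I hpn longE8 (by decide) long_E8

end Cfsg.Agent.Lib.helper50.ChevFix
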