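/-
helper50: centralizer and normalizer, in a Chevalley group `G` of one of the seven tabulated types over a
field `k` of prime characteristic `p`, of a subgroup `K` containing the root elements `x_s(t)` with
`t ^ (p ^ a) = t` and consisting of matrices with entries fixed by `c ↦ c ^ (p ^ a)`:
`C_G(K) = 1` and `N_G(K)` is the set of the elements of `G` with all entries fixed.
-/
import Cfsg.Agent.Lib.helper50.ChevFix8
import Cfsg.Agent.Lib.helper50.ChevFix9

set_option autoImplicit false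

namespace Cfsg.Agent.Lib.helper50.ChevFix

open Cfsg.Lie Cfsg.Agent.Lib.helper22

universe u

theorem cent_norm_all {k : Type u} [Field k] (p : ℕ) [Fact p.Prime] [CharP k p]
    (D : ChevalleyDatum) (hD : D ∈ [chevG2, chevB2, chevD4, chevF4, chevE6, chevE7, chevE8]) (a : ℕ)
    (K : Subgroup (GL D.Idx k)) (hKG : K ≤ D.group k)
    (hLK : Subgroup.closure {g : GL D.Idx k | ∃ (s : ℕ) (t : k), t ^ (p ^ a) = t ∧
      (g : Matrix D.Idx D.Idx k) = D.x k s t} ≤ K)
    (hKfix : ∀ g ∈ K, ∀ i j : D.Idx,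
      ((g : Matrix D.Idx D.Idx k) i j) ^ (p ^ a) = (g : Matrix D.Idx D.Idx k) i j) :
    D.group k ⊓ Subgroup.centralizer (K : Set (GL D.Idx k)) = ⊥ ∧
    ∀ g : GL D.Idx k, g ∈ D.group k → (g ∈ Subgroup.normalizer (K : Set (GL D.Idx k)) ↔
      ∀ i j : D.Idx, ((g : Matrix D.Idx D.Idx k) i j) ^ (p ^ a) = (g : Matrix D.Idx D.Idx k) i j) := by
  have : ExpChar k p := ExpChar.prime Fact.out
  obtain ⟨η, I⟩ := bnInput_all D hD k
  obtain ⟨hBG, hNG, hG⟩ := Cfsg.Agent.S1043.result (F := k) D hD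
  have hpn := Cfsg.Agent.S1041.posNegOK_spec D (Cfsg.Agent.S1041.posNegOK_all D hD)
  have hN := negOK_of_triOK D (triOK_all D hD)
  have hL := longOK_all D hD k
  obtain ⟨τ, hτa⟩ : ∃ τ : k →+* k, ∀ t : k, τ t = t ^ (p ^ a) :=
    ⟨iterateFrobenius k p a, fun t => iterateFrobenius_def p a t⟩
  have hfixiff : ∀ g : GL D.Idx k, glMap D τ g = g ↔ ∀ i j : D.Idx,
      ((g : Matrix D.Idx D.Idx k) i j) ^ (p ^ a) = (g : Matrix D.Idx D.Idx k) i j := by
    intro g
    constructor
    · intro h i j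
      have h3 := congrArg (fun z : GL D.Idx k => (z : Matrix D.Idx D.Idx k) i j) h
      simp only [glMap_val, Matrix.map_apply] at h3
      rw [← hτa]
      exact h3
    · intro h
      apply Units.ext
      rw [glMap_val]
      ext i j
      rw [Matrix.map_apply, hτa]
      exact h i j
  have hLK' : fixRoot D τ ≤ K := by
    unfold fixRoot
    rw [Subgroup.closure_le]
    rintro x ⟨s, t, ht, hx⟩
    exact hLK (Subgroup.subset_closure ⟨s, t, by rw [← hτa]; exact ht, hx⟩)
  have hKfix' : ∀ κ ∈ K, glMap D τ κ = κ := fun κ hκ => (hfixiff κ).mpr (hKfix κ hκ)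
  obtain ⟨h1, h2⟩ := cent_norm I hpn hN hBG hNG hG.ge hL τ K hKG hLK' hKfix'
  exact ⟨h1, fun g hg => (h2 g hg).trans (hfixiff g)⟩

end Cfsg.Agent.Lib.helper50.ChevFix
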