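/-
helper50: fixed points of a field automorphism of prime order on the Chevalley groups of the tabulated
types with unimodular Cartan matrix (G₂, F₄, E₈): instantiation of `ChevFix.fixed_points`.
-/
import Cfsg.Agent.Lib.helper50.ChevFix2
import Cfsg.Agent.S1043
import Cfsg.Agent.Lib.helper22.ChevBNAll
import Cfsg.Agent.Lib.helper22.ChevCardAll

set_option autoImplicit false

namespace Cfsg.Agent.Lib.helper50.ChevFix

open Cfsg.Lie Cfsg.Agent.Lib.helper22

universe u

theorem fixed_points_all (D : ChevalleyDatum)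
    (hD : D ∈ [chevG2, chevB2, chevD4, chevF4, chevE6, chevE7, chevE8])
    (C : KerCert) (hC : C.ok D = true) (hd1 : C.d1 = 1) (hd2 : C.d2 = 1) (hnr : 0 < D.nroots)
    {F : Type u} [Field F] [Fintype F] (φ : MulAut ↥(D.group F)) (hφ : D.IsFieldAut φ) (r : ℕ)
    (hr : r.Prime) (ho : orderOf φ = r) :
    ∃ (F₀ : Type) (_ : Field F₀) (_ : Fintype F₀), Fintype.card F = Fintype.card F₀ ^ r ∧
      Nonempty (↥((MulEquiv.toMonoidHom φ).eqLocus (MonoidHom.id ↥(D.group F))) ≃* ↥(D.group F₀)) := by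
  obtain ⟨η, I⟩ := bnInput_all D hD F
  obtain ⟨hBG, hNG, hG⟩ := Cfsg.Agent.S1043.result (F := F) D hD
  have hpn := Cfsg.Agent.S1041.posNegOK_spec D (Cfsg.Agent.S1041.posNegOK_all D hD)
  have hN := negOK_of_triOK D (triOK_all D hD)
  exact fixed_points (C.toData D hC) ((KerCert.toData_d1 C D hC).trans hd1)
    ((KerCert.toData_d2 C D hC).trans hd2) hnr hpn hN I (fun K _ => bnInput_all D hD K) hBG hNG hG.ge
    (fun K _ => ⟨(Cfsg.Agent.S1043.result (F := K) D hD).1, (Cfsg.Agent.S1043.result (F := K) D hD).2.1⟩)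
    φ hφ r hr ho

theorem fixed_points_G2 {F : Type u} [Field F] [Fintype F] (φ : MulAut ↥(chevG2.group F))
    (hφ : chevG2.IsFieldAut φ) (r : ℕ) (hr : r.Prime) (ho : orderOf φ = r) :
    ∃ (F₀ : Type) (_ : Field F₀) (_ : Fintype F₀), Fintype.card F = Fintype.card F₀ ^ r ∧
      Nonempty (↥((MulEquiv.toMonoidHom φ).eqLocus (MonoidHom.id ↥(chevG2.group F))) ≃*
        ↥(chevG2.group F₀)) :=
  fixed_points_all chevG2 (by simp) kerCertG2 kerCertG2_ok rfl rfl (by decide) φ hφ r hr ho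

theorem fixed_points_F4 {F : Type u} [Field F] [Fintype F] (φ : MulAut ↥(chevF4.group F))
    (hφ : chevF4.IsFieldAut φ) (r : ℕ) (hr : r.Prime) (ho : orderOf φ = r) :
    ∃ (F₀ : Type) (_ : Field F₀) (_ : Fintype F₀), Fintype.card F = Fintype.card F₀ ^ r ∧
      Nonempty (↥((MulEquiv.toMonoidHom φ).eqLocus (MonoidHom.id ↥(chevF4.group F))) ≃*
        ↥(chevF4.group F₀)) :=
  fixed_points_all chevF4 (by simp) kerCertF4 kerCertF4_ok rfl rfl (by decide) φ hφ r hr ho

theorem fixed_points_E8 {F : Type u} [Field F] [Fintype F] (φ : MulAut ↥(chevE8.group F))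
    (hφ : chevE8.IsFieldAut φ) (r : ℕ) (hr : r.Prime) (ho : orderOf φ = r) :
    ∃ (F₀ : Type) (_ : Field F₀) (_ : Fintype F₀), Fintype.card F = Fintype.card F₀ ^ r ∧
      Nonempty (↥((MulEquiv.toMonoidHom φ).eqLocus (MonoidHom.id ↥(chevE8.group F))) ≃*
        ↥(chevE8.group F₀)) :=
  fixed_points_all chevE8 (by simp) kerCertE8 kerCertE8_ok rfl rfl (by decide) φ hφ r hr ho

end Cfsg.Agent.Lib.helper50.ChevFix
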