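import Cfsg.Agent.Lib.helper23.ChevNorm
import Cfsg.Agent.Lib.helper23.ChevLeviAll
import Cfsg.Agent.Lib.helper41.ChevAll
import Cfsg.Agent.Lib.helper54.FStar2

set_option autoImplicit false

/-!
# The centralizer of the unipotent radical of a proper parabolic subgroup is a `p`-group

For a proper standard parabolic subgroup `P_J` of a Chevalley group, `C = C_{P_J}(U_J)` is a normal subgroup of
`P_J`, so `C B` is a subgroup containing `B`, hence a standard parabolic subgroup; it contains no fundamental `n_i`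
(an element `n_i b⁻¹`, `b ∈ B`, cannot centralize `U_J`: it would give `b x_r(t) b⁻¹ = x_{w_i r}(± t)` for a root
`r` of `U_J` with `w_i r` of larger height, which the height grading forbids), so `C ≤ B`.  An element `u h` of
`B` centralizing `U_J` has `χ_h(r) = 1` for the roots `r` of `U_J` (height grading again), hence for all roots, so
`h = 1`.  Therefore `C ≤ U`, and `Q = U_J C` is a normal `p`-subgroup of `P_J` containing its centralizer in `P_J`.
-/

namespace Cfsg.Agent.Lib.helper50

open Cfsg Cfsg.Lie Cfsg.Agent.Lib.helper22 Cfsg.Agent.Lib.helper23 Cfsg.Agent.Lib.helper41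

universe u

/-! ### Group-theoretic preliminaries -/

theorem le_normalizer_inf_centralizer {G : Type*} [Group G] (P U : Subgroup G)
    (h : P ≤ Subgroup.normalizer (U : Set G)) :
    P ≤ Subgroup.normalizer ((P ⊓ Subgroup.centralizer (U : Set G) : Subgroup G) : Set G) := by
  have key : ∀ g ∈ P, ∀ x ∈ P ⊓ Subgroup.centralizer (U : Set G),
      g * x * g⁻¹ ∈ P ⊓ Subgroup.centralizer (U : Set G) := by
    intro g hg x hx
    have hx1 : x ∈ P := (Subgroup.mem_inf.mp hx).1
    have hx2 : x ∈ Subgroup.centralizer (U : Set G) := (Subgroup.mem_inf.mp hx).2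
    refine Subgroup.mem_inf.mpr ⟨P.mul_mem (P.mul_mem hg hx1) (P.inv_mem hg), ?_⟩
    rw [Subgroup.mem_centralizer_iff]
    intro y hy
    have hy' : g⁻¹ * y * g ∈ U := by
      have h1 := (Subgroup.mem_normalizer_iff.mp (h (P.inv_mem hg)) y).mp hy
      rwa [inv_inv] at h1
    have hcomm := (Subgroup.mem_centralizer_iff.mp hx2) _ hy'
    calc y * (g * x * g⁻¹) = g * ((g⁻¹ * y * g) * x) * g⁻¹ := by group
      _ = g * (x * (g⁻¹ * y * g)) * g⁻¹ := by rw [hcomm]
      _ = g * x * g⁻¹ * y := by group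
  intro g hg
  rw [Subgroup.mem_normalizer_iff]
  intro x
  constructor
  · exact key g hg x
  · intro hx
    have h1 := key g⁻¹ (P.inv_mem hg) _ hx
    have e : g⁻¹ * (g * x * g⁻¹) * g⁻¹⁻¹ = x := by group
    rwa [e] at h1

theorem mem_normalizer_sup' {G : Type*} [Group G] {A B : Subgroup G} {g : G}
    (hA : g ∈ Subgroup.normalizer (A : Set G)) (hB : g ∈ Subgroup.normalizer (B : Set G)) :
    g ∈ Subgroup.normalizer ((A ⊔ B : Subgroup G) : Set G) := by
  have key : ∀ g : G, g ∈ Subgroup.normalizer (A : Set G) → g ∈ Subgroup.normalizer (B : Set G) →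
      ∀ x ∈ A ⊔ B, g * x * g⁻¹ ∈ A ⊔ B := by
    intro g hA hB x hx
    have h1 : A ⊔ B ≤ (A ⊔ B).comap (MulAut.conj g).toMonoidHom := by
      refine sup_le ?_ ?_
      · intro a ha
        exact Subgroup.mem_sup_left ((Subgroup.mem_normalizer_iff.mp hA a).mp ha)
      · intro b hb
        exact Subgroup.mem_sup_right ((Subgroup.mem_normalizer_iff.mp hB b).mp hb)
    exact h1 hx
  rw [Subgroup.mem_normalizer_iff]
  intro x
  constructor
  · exact key g hA hB x
  · intro hx
    have h1 := key g⁻¹ (Subgroup.inv_mem _ hA) (Subgroup.inv_mem _ hB) _ hx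
    have e : g⁻¹ * (g * x * g⁻¹) * g⁻¹⁻¹ = x := by group
    rwa [e] at h1

/-! ### Gradings -/

theorem gradeNat_lt_imp {ι : Type*} [Fintype ι] (γ : ι → ℤ) {x z : ι}
    (h : gradeNat γ z + 1 ≤ gradeNat γ x) : γ z < γ x := by
  unfold gradeNat at h
  have hz : -γ z ≤ ∑ y : ι, |γ y| :=
    (neg_le_abs (γ z)).trans (Finset.single_le_sum (f := fun y => |γ y|) (fun y _ => abs_nonneg _)
      (Finset.mem_univ z))
  have hx : -γ x ≤ ∑ y : ι, |γ y| :=
    (neg_le_abs (γ x)).trans (Finset.single_le_sum (f := fun y => |γ y|) (fun y _ => abs_nonneg _)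
      (Finset.mem_univ x))
  omega

theorem uniK_entry {ι : Type*} [Fintype ι] [DecidableEq ι] {F : Type*} [Field F] (γ : ι → ℤ)
    {g : GL ι F} (hg : g ∈ uniK F (gradeNat γ) 0) (x z : ι) :
    (x = z → (g : Matrix ι ι F) x z = 1) ∧ (x ≠ z → (g : Matrix ι ι F) x z ≠ 0 → γ z < γ x) := by
  have h : TriK (gradeNat γ) (0 + 1) ((g : Matrix ι ι F) - 1) := hg
  constructor
  · intro hxz
    subst hxz
    by_contra hne
    have h1 : ((g : Matrix ι ι F) - 1) x x ≠ 0 := by
      rw [Matrix.sub_apply, Matrix.one_apply_eq]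
      exact sub_ne_zero.mpr hne
    have h2 := h x x h1
    omega
  · intro hxz hne
    have h1 : ((g : Matrix ι ι F) - 1) x z ≠ 0 := by
      rw [Matrix.sub_apply, Matrix.one_apply_ne hxz, sub_zero]
      exact hne
    exact gradeNat_lt_imp γ (h x z h1)

section Chev

variable {D : ChevalleyDatum} {F : Type*} [Field F]

/-- The key computation: if `u x_s(t₁) = x_{s'}(t₂) u` with `u` unitriangular for the grading and `s` of positive
degree, then `t₁ = t₂` when `s' = s`, and `t₁ = 0` when `s'` has larger degree than `s`. -/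
theorem conj_x_grade (hp : PrimHyp D F) (a : Fin D.rank → ℤ) {s s' : Fin D.nroots}
    (S : StringData D s) (S' : StringData D s') (hs : 0 < gradeOf D a (Sum.inr s))
    {g : GL D.Idx F} (hg : g ∈ uniK F (gradeNat (gradeOf D a)) 0) {t₁ t₂ : F}
    (h : (g : Matrix D.Idx D.Idx F) * D.xMat F s t₁ = D.xMat F s' t₂ * (g : Matrix D.Idx D.Idx F)) :
    (s' = s → t₁ = t₂) ∧ (gradeOf D a (Sum.inr s) < gradeOf D a (Sum.inr s') → t₁ = 0) := by
  have hnr : gradeOf D a (Sum.inr S.nr) = - gradeOf D a (Sum.inr s) := gradeOf_nr S a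
  have hnr' : gradeOf D a (Sum.inr S'.nr) = - gradeOf D a (Sum.inr s') := gradeOf_nr S' a
  have hnrne : S.nr ≠ s := S.nr_ne
  have hnrv : S.nr.val = D.neg s.val := (eq_nr_iff S S.nr).mpr rfl
  have hnrv' : S'.nr.val = D.neg s'.val := (eq_nr_iff S' S'.nr).mpr rfl
  have key : ∀ i : Fin D.rank,
      (corootZ D s.val i.val : F) * t₁ + (g : Matrix D.Idx D.Idx F) (Sum.inl i) (Sum.inr S.nr) =
      (g : Matrix D.Idx D.Idx F) (Sum.inl i) (Sum.inr S.nr) +
        (corootZ D s'.val i.val : F) * t₂ * (g : Matrix D.Idx D.Idx F) (Sum.inr S'.nr) (Sum.inr S.nr) := by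
    intro i
    have e := congrFun (congrFun h (Sum.inl i)) (Sum.inr S.nr)
    rw [Matrix.mul_apply, Matrix.mul_apply, Fintype.sum_sum_type, Fintype.sum_sum_type] at e
    have l1 : ∑ i' : Fin D.rank, (g : Matrix D.Idx D.Idx F) (Sum.inl i) (Sum.inl i') *
        D.xMat F s t₁ (Sum.inl i') (Sum.inr S.nr) = (corootZ D s.val i.val : F) * t₁ := by
      rw [Finset.sum_eq_single i]
      · rw [(uniK_entry _ hg _ _).1 rfl, one_mul, xMat_inl_inr, if_neg hnrne, if_pos hnrv]
      · intro i' _ hi'
        have h0 : (g : Matrix D.Idx D.Idx F) (Sum.inl i) (Sum.inl i') = 0 := by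
          by_contra hne
          have hne' : (Sum.inl i : D.Idx) ≠ Sum.inl i' := fun hh => hi' (Sum.inl.inj hh).symm
          have h1 := (uniK_entry _ hg (Sum.inl i) (Sum.inl i')).2 hne' hne
          rw [gradeOf_inl, gradeOf_inl] at h1
          exact lt_irrefl _ h1
        rw [h0, zero_mul]
      · intro hh
        exact absurd (Finset.mem_univ _) hh
    have l2 : ∑ w : Fin D.nroots, (g : Matrix D.Idx D.Idx F) (Sum.inl i) (Sum.inr w) *
        D.xMat F s t₁ (Sum.inr w) (Sum.inr S.nr) = (g : Matrix D.Idx D.Idx F) (Sum.inl i) (Sum.inr S.nr) := by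
      rw [Finset.sum_eq_single S.nr]
      · rw [xMat_inr_inr, if_neg hnrne, if_pos hnrv, if_pos rfl, mul_one]
      · intro w _ hw
        by_cases hu0 : (g : Matrix D.Idx D.Idx F) (Sum.inl i) (Sum.inr w) = 0
        · rw [hu0, zero_mul]
        · have hne' : (Sum.inl i : D.Idx) ≠ Sum.inr w := fun hh => by cases hh
          have hlt := (uniK_entry _ hg (Sum.inl i) (Sum.inr w)).2 hne' hu0
          rw [gradeOf_inl] at hlt
          have hws : w ≠ s := by
            intro hh
            rw [hh] at hlt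
            exact lt_irrefl _ (lt_trans hlt hs)
          rw [xMat_inr_inr, if_neg hnrne, if_pos hnrv, if_neg hw, if_neg hws, mul_zero]
      · intro hh
        exact absurd (Finset.mem_univ _) hh
    have r1 : ∑ i' : Fin D.rank, D.xMat F s' t₂ (Sum.inl i) (Sum.inl i') *
        (g : Matrix D.Idx D.Idx F) (Sum.inl i') (Sum.inr S.nr) =
        (g : Matrix D.Idx D.Idx F) (Sum.inl i) (Sum.inr S.nr) := by
      rw [Finset.sum_eq_single i]
      · rw [xMat_inl_inl, if_pos rfl, one_mul]
      · intro i' _ hi'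
        rw [xMat_inl_inl, if_neg (Ne.symm hi'), zero_mul]
      · intro hh
        exact absurd (Finset.mem_univ _) hh
    have r2 : ∑ w : Fin D.nroots, D.xMat F s' t₂ (Sum.inl i) (Sum.inr w) *
        (g : Matrix D.Idx D.Idx F) (Sum.inr w) (Sum.inr S.nr) =
        (corootZ D s'.val i.val : F) * t₂ * (g : Matrix D.Idx D.Idx F) (Sum.inr S'.nr) (Sum.inr S.nr) := by
      rw [Finset.sum_eq_single S'.nr]
      · rw [xMat_inl_inr, if_neg S'.nr_ne, if_pos hnrv']
      · intro w _ hw
        rw [xMat_inl_inr]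
        by_cases hws : w = s'
        · rw [if_pos hws, zero_mul]
        · rw [if_neg hws, if_neg (fun hh => hw ((eq_nr_iff S' w).mp hh)), zero_mul]
      · intro hh
        exact absurd (Finset.mem_univ _) hh
    rw [l1, l2, r1, r2] at e
    exact e
  constructor
  · intro hss
    have hnn : S'.nr = S.nr := Fin.ext (by rw [S'.nr_val, S.nr_val, hss])
    have h1 : (g : Matrix D.Idx D.Idx F) (Sum.inr S'.nr) (Sum.inr S.nr) = 1 := by
      rw [hnn]
      exact (uniK_entry _ hg _ _).1 rfl
    have h2 : t₁ - t₂ = 0 := by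
      apply hp s.val s.isLt
      intro i
      have h3 := key i
      rw [h1, mul_one, hss] at h3
      linear_combination h3
    exact sub_eq_zero.mp h2
  · intro hlt
    have h1 : (g : Matrix D.Idx D.Idx F) (Sum.inr S'.nr) (Sum.inr S.nr) = 0 := by
      by_contra hne
      have hne' : (Sum.inr S'.nr : D.Idx) ≠ Sum.inr S.nr := by
        intro hh
        have h2 : S'.nr = S.nr := Sum.inr.inj hh
        rw [h2, hnr] at hnr'
        omega
      have h3 := (uniK_entry _ hg _ _).2 hne' hne
      rw [hnr, hnr'] at h3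
      omega
    apply hp s.val s.isLt
    intro i
    have h3 := key i
    rw [h1, mul_zero, add_zero] at h3
    linear_combination h3

theorem not_inRootSub_empty (hp : PrimHyp D F) {r : ℕ} (hr : r < D.nroots) : ¬ D.InRootSub ∅ r := by
  intro h
  have h1 : (1 : F) = 0 := by
    apply hp r hr
    intro i
    have h2 : corootZ D r i.val = 0 := h.2 i.val i.isLt (fun hh => hh)
    rw [h2]
    simp
  exact one_ne_zero h1

theorem pos_le_uniK (hSD : ∀ r : Fin D.nroots, ∃ S : StringData D r, S.CartanCompat)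
    (hp : PrimHyp D F) {Mc : List (List ℤ)} (hMc : coordOK D Mc = true) :
    D.posUnipotent F ≤ uniK F (gradeNat (gradeOf D (jCoef D Mc ∅))) 0 := by
  refine le_trans ?_ (radical_le_uniK hSD hMc ∅)
  unfold ChevalleyDatum.posUnipotent ChevalleyDatum.unipotentRadical
  apply Subgroup.closure_mono
  rintro g ⟨r, t, hpos, hg⟩
  exact ⟨r, t, hpos, not_inRootSub_empty hp hpos.1, hg⟩

/-- Conjugation of a root element by `u h`, `h` in the torus, reduces to conjugation by `u`. -/
theorem borel_conj_x (hSD : ∀ r : Fin D.nroots, ∃ S : StringData D r, S.CartanCompat)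
    {g hh : GL D.Idx F} {c : Fin D.rank → F} (hc0 : ∀ i, c i ≠ 0)
    (hhc : (hh : Matrix D.Idx D.Idx F) = torusMat D F c) (r r' : Fin D.nroots) (t t' : F)
    (h : ((g * hh : GL D.Idx F) : Matrix D.Idx D.Idx F) * D.xMat F r t =
      D.xMat F r' t' * ((g * hh : GL D.Idx F) : Matrix D.Idx D.Idx F)) :
    (g : Matrix D.Idx D.Idx F) * D.xMat F r (torusChar D F c r.val * t) =
      D.xMat F r' t' * (g : Matrix D.Idx D.Idx F) := by
  obtain ⟨S, hS⟩ := hSD r
  rw [Units.val_mul, mul_assoc, hhc, torusMat_mul_xMat S hS c hc0 t, ← hhc, ← mul_assoc, ← mul_assoc] at h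
  have h2 := congrArg (fun M => M * ((hh⁻¹ : GL D.Idx F) : Matrix D.Idx D.Idx F)) h
  simp only [mul_assoc, ← Units.val_mul, mul_inv_cancel, Units.val_one, mul_one] at h2
  exact h2

/-- A torus matrix with trivial character values on the positive roots is `1`. -/
theorem torusMat_eq_one_of_pos {η : ℕ → ℕ → ℤ} (I : BNInput D F η) (c : Fin D.rank → F)
    (hc0 : ∀ i, c i ≠ 0)
    (hpos : ∀ r, D.nroots / 2 ≤ r → r < D.nroots → torusChar D F c r = 1) : torusMat D F c = 1 := by
  have hall : ∀ r, r < D.nroots → torusChar D F c r = 1 := by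
    intro r hr
    by_cases h : D.nroots / 2 ≤ r
    · exact hpos r h hr
    · obtain ⟨S, -⟩ := I.hSD ⟨r, hr⟩
      have h1 : torusChar D F c S.nr.val * torusChar D F c r = 1 := by
        unfold torusChar
        rw [← Finset.prod_mul_distrib]
        apply Finset.prod_eq_one
        intro i _
        rw [S.cartan_neg i, zpow_neg, inv_mul_cancel₀ (zpow_ne_zero _ (hc0 i))]
      have h2 : D.nroots / 2 ≤ S.nr.val := by
        have h3 := I.hU.negrev r hr
        have h4 : S.nr.val = D.neg r := S.nr_val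
        have h5 := I.hU.even
        omega
      rw [hpos S.nr.val h2 S.nr.isLt, one_mul] at h1
      exact h1
  rw [← torusMat_one]
  unfold torusMat
  congr 1
  funext x
  rcases x with j | s
  · rfl
  · simp [hall s.val s.isLt, torusChar_one]

theorem torusChar_add (c : Fin D.rank → F) (hc0 : ∀ i, c i ≠ 0) (s s' : ℕ) (n : ℤ) (q : ℕ)
    (h : ∀ m : Fin D.rank, cartanZ D m.val s = cartanZ D m.val s' + n * cartanZ D m.val q) :
    torusChar D F c s = torusChar D F c s' * torusChar D F c q ^ n := by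
  unfold torusChar
  rw [← Finset.prod_zpow, ← Finset.prod_mul_distrib]
  refine Finset.prod_congr rfl fun m _ => ?_
  rw [h m, zpow_add₀ (hc0 m), mul_comm n, zpow_mul]

end Chev

/-! ### The table conditions -/

/-- For fundamental roots `p_i ≠ p_k`: a positive root `r` involving `p_k` with `r + p_i` a root and
`w_i r = r + c p_i`, `c ≥ 1`. -/
def ParOK (D : ChevalleyDatum) : Prop :=
  ∀ i, i < D.rank → ∀ k, k < D.rank → k ≠ i → ∃ r r' c : ℕ,
    D.nroots / 2 ≤ r ∧ r < D.nroots ∧ D.nroots / 2 ≤ r' ∧ r' < D.nroots ∧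
    (D.coroot.getD r #[]).getD k 0 ≠ 0 ∧ (D.coroot.getD r' #[]).getD k 0 ≠ 0 ∧ 1 ≤ c ∧
    D.reflectRoot i r < D.nroots ∧
    ∀ m, m < D.rank → D.cartan m r' = D.cartan m r + D.cartan m (D.simple i) ∧
      D.cartan m (D.reflectRoot i r) = D.cartan m r + (c : ℤ) * D.cartan m (D.simple i)

/-- Every positive root is fundamental or the sum of a smaller positive root and a fundamental root. -/
def HtOK (D : ChevalleyDatum) : Prop :=
  ∀ s, D.nroots / 2 ≤ s → s < D.nroots → ∃ j s' : ℕ, j < D.rank ∧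
    (s = D.simple j ∨ (D.nroots / 2 ≤ s' ∧ s' < s ∧
      ∀ m, m < D.rank → D.cartan m s = D.cartan m s' + D.cartan m (D.simple j)))

/-- The decidable form of `ParOK` for the fundamental root `i`. -/
def parTabOK (D : ChevalleyDatum) (T : List (List (ℕ × ℕ × ℕ))) (i : ℕ) : Bool :=
  (List.range D.rank).all fun k =>
    decide (k = i) ||
      (decide (D.nroots / 2 ≤ ((T.getD i []).getD k (0, 0, 0)).1) &&
       decide (((T.getD i []).getD k (0, 0, 0)).1 < D.nroots) &&
       decide (D.nroots / 2 ≤ ((T.getD i []).getD k (0, 0, 0)).2.1) &&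
       decide (((T.getD i []).getD k (0, 0, 0)).2.1 < D.nroots) &&
       decide ((D.coroot.getD ((T.getD i []).getD k (0, 0, 0)).1 #[]).getD k 0 ≠ 0) &&
       decide ((D.coroot.getD ((T.getD i []).getD k (0, 0, 0)).2.1 #[]).getD k 0 ≠ 0) &&
       decide (1 ≤ ((T.getD i []).getD k (0, 0, 0)).2.2) &&
       decide (D.reflectRoot i ((T.getD i []).getD k (0, 0, 0)).1 < D.nroots) &&
       (List.range D.rank).all fun m =>
         decide (D.cartan m ((T.getD i []).getD k (0, 0, 0)).2.1 =
           D.cartan m ((T.getD i []).getD k (0, 0, 0)).1 + D.cartan m (D.simple i)) &&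
         decide (D.cartan m (D.reflectRoot i ((T.getD i []).getD k (0, 0, 0)).1) =
           D.cartan m ((T.getD i []).getD k (0, 0, 0)).1 +
             (((T.getD i []).getD k (0, 0, 0)).2.2 : ℤ) * D.cartan m (D.simple i)))

theorem parOK_of_tab (D : ChevalleyDatum) (T : List (List (ℕ × ℕ × ℕ)))
    (h : ∀ i, i < D.rank → parTabOK D T i = true) : ParOK D := by
  intro i hi k hk hki
  have h0 := h i hi
  unfold parTabOK at h0
  rw [List.all_eq_true] at h0
  have h1 := h0 k (List.mem_range.mpr hk)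
  simp only [Bool.or_eq_true, decide_eq_true_eq, Bool.and_eq_true, List.all_eq_true, List.mem_range] at h1
  rcases h1 with h1 | h1
  · exact absurd h1 hki
  · obtain ⟨⟨⟨⟨⟨⟨⟨⟨a1, a2⟩, a3⟩, a4⟩, a5⟩, a6⟩, a7⟩, a8⟩, a9⟩ := h1
    exact ⟨_, _, _, a1, a2, a3, a4, a5, a6, a7, a8, fun m hm => a9 m hm⟩

/-- The decidable form of `HtOK` for the roots `a ≤ s < a + n` (negative roots pass trivially). -/
def htTabOK (D : ChevalleyDatum) (W : List (ℕ × ℕ)) (a n : ℕ) : Bool :=
  (List.range' a n).all fun s =>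
    decide (s < D.nroots / 2) ||
      (decide ((W.getD s (0, 0)).1 < D.rank) &&
        (decide (s = D.simple (W.getD s (0, 0)).1) ||
          (decide (D.nroots / 2 ≤ (W.getD s (0, 0)).2) && decide ((W.getD s (0, 0)).2 < s) &&
            (List.range D.rank).all fun m =>
              decide (D.cartan m s =
                D.cartan m (W.getD s (0, 0)).2 + D.cartan m (D.simple (W.getD s (0, 0)).1)))))

theorem htOK_of_tab (D : ChevalleyDatum) (W : List (ℕ × ℕ)) (L : List (ℕ × ℕ))
    (hL : ∀ q ∈ L, htTabOK D W q.1 q.2 = true)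
    (hcov : ∀ s, s < D.nroots → ∃ q ∈ L, q.1 ≤ s ∧ s < q.1 + q.2) : HtOK D := by
  intro s hs1 hs2
  obtain ⟨q, hq, h1, h2⟩ := hcov s hs2
  have h0 := hL q hq
  unfold htTabOK at h0
  rw [List.all_eq_true] at h0
  have h3 := h0 s (List.mem_range'_1.mpr ⟨h1, h2⟩)
  simp only [Bool.or_eq_true, decide_eq_true_eq, Bool.and_eq_true, List.all_eq_true, List.mem_range] at h3
  rcases h3 with h3 | ⟨b1, b2⟩
  · omega
  · refine ⟨(W.getD s (0, 0)).1, (W.getD s (0, 0)).2, b1, ?_⟩
    rcases b2 with b2 | ⟨⟨b2, b3⟩, b4⟩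
    · exact Or.inl b2
    · exact Or.inr ⟨b2, b3, fun m hm => b4 m hm⟩

end Cfsg.Agent.Lib.helper50
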