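import Cfsg.Agent.Lib.helper50.ChevPar1

set_option autoImplicit false

/-! The centralizer of `U_J` in a proper parabolic subgroup `P_J` lies in `U`, and `F*(P_J)` is a `p`-group. -/

namespace Cfsg.Agent.Lib.helper50

open Cfsg Cfsg.Lie Cfsg.Agent.Lib.helper22 Cfsg.Agent.Lib.helper23 Cfsg.Agent.Lib.helper41

universe u

/-- A fundamental `n_i` normalising `U_J` has `i ∈ J`. -/
theorem simple_mem_of_normalizes {F : Type u} [Field F] (D : ChevalleyDatum)
    (hD : D ∈ [chevG2, chevB2, chevD4, chevF4, chevE6, chevE7, chevE8]) (J : Set ℕ)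
    (i : ℕ) (hi : i < D.rank) (s : GL D.Idx F)
    (hsv : (s : Matrix D.Idx D.Idx F) = D.nMat F (D.simple i) 1)
    (hsN : s ∈ Subgroup.normalizer (D.unipotentRadical F J : Set (GL D.Idx F))) : i ∈ J := by
  have hS := simpleCorootOK D hD
  have hSD : ∀ r : Fin D.nroots, Nonempty (StringData D r) :=
    fun r => (exists_stringData D hD r).elim fun S _ => ⟨S⟩
  have hUJU : D.unipotentRadical F J ≤ D.posUnipotent F := by
    unfold ChevalleyDatum.unipotentRadical
    rw [Subgroup.closure_le]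
    rintro x ⟨r, t, hr, -, hx⟩
    exact Subgroup.subset_closure ⟨r, t, hr, hx⟩
  have hp : D.simple i < D.nroots := (hS ⟨i, hi⟩).1
  by_contra hiJ
  obtain ⟨η, I⟩ := bnInput_all D hD F
  have hpos : D.IsPosRoot (D.simple i) := by
    have h1 := I.hNorm
    unfold simpleNormOK at h1
    rw [List.all_eq_true] at h1
    have h2 := h1 i (List.mem_range.mpr hi)
    rw [Bool.and_eq_true, decide_eq_true_eq] at h2
    exact h2.1
  have hnJ : ¬ D.InRootSub J (D.simple i) := by
    intro h
    have h1 := h.2 i hi hiJ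
    have h2 := (hS ⟨i, hi⟩).2 ⟨i, hi⟩
    rw [if_pos rfl] at h2
    have h3 : corootZ D (D.simple i) i = (D.coroot.getD (D.simple i) #[]).getD i 0 := rfl
    rw [h3, h1] at h2
    exact zero_ne_one h2
  obtain ⟨g0, hg0⟩ := exists_x (F := F) hSD (D.simple i) hp 1
  have hg0U : g0 ∈ D.unipotentRadical F J :=
    Subgroup.subset_closure ⟨D.simple i, 1, hpos, hnJ, hg0⟩
  have hy := (Subgroup.mem_normalizer_iff.mp hsN g0).mp hg0U
  obtain ⟨ε, hε, hconj⟩ := chev_conj_all (F := F) D hD i hi (D.simple i) hp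
  have hval : ((s * g0 * s⁻¹ : GL D.Idx F) : Matrix D.Idx D.Idx F) =
      D.x F (D.neg (D.simple i)) ((ε : F) * 1) := by
    rw [Units.val_mul, Units.val_mul, hsv, hg0, hconj, reflectRoot_self i rfl, mul_assoc, ← hsv,
      ← Units.val_mul, mul_inv_cancel, Units.val_one, mul_one]
    rfl
  have hnegr := neg_isNegRoot_all D hD _ hpos
  have hV : s * g0 * s⁻¹ ∈ D.negUnipotent F :=
    Subgroup.subset_closure ⟨_, _, hnegr, hval⟩
  have h1 : s * g0 * s⁻¹ ∈ D.borelSubgroup F ⊓ D.negUnipotent F :=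
    ⟨Subgroup.mem_sup_left (hUJU hy), hV⟩
  rw [(Cfsg.Agent.S1037.result D hD).1, Subgroup.mem_bot] at h1
  rw [h1, Units.val_one] at hval
  have h2 := (Cfsg.Agent.S1024.result D hD _ hnegr.1 _).mp hval.symm
  rcases hε with rfl | rfl
  · simp at h2
  · simp at h2

/-- `C_{P_J}(U_J) ≤ U` for a proper standard parabolic subgroup. -/
theorem cent_radical_le_pos {F : Type u} [Field F] (D : ChevalleyDatum)
    (hD : D ∈ [chevG2, chevB2, chevD4, chevF4, chevE6, chevE7, chevE8])
    (hPar : ParOK D) (hHt : HtOK D) (J : Set ℕ) (hJ : ∃ i, i < D.rank ∧ i ∉ J) :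
    D.parabolicSubgroup F J ⊓ Subgroup.centralizer (D.unipotentRadical F J : Set (GL D.Idx F)) ≤
      D.posUnipotent F := by
  classical
  obtain ⟨η, I⟩ := bnInput_all D hD F
  have hp : PrimHyp D F := primHyp_all D hD F
  obtain ⟨Mc, hMc⟩ := exists_coordOK D hD
  obtain ⟨hBG, hNG, -⟩ := Cfsg.Agent.S1043.result (F := F) D hD
  have h48 := (Cfsg.Agent.S1048.result (F := F) D hD J).1
  have hSc := simpleCorootOK D hD
  have hSD' : ∀ r : Fin D.nroots, Nonempty (StringData D r) := I.hSD'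
  have hBP : D.borelSubgroup F ≤ D.parabolicSubgroup F J := le_sup_left
  have hPG : D.parabolicSubgroup F J ≤ D.group F := by
    unfold ChevalleyDatum.parabolicSubgroup
    refine sup_le hBG ?_
    rw [Subgroup.closure_le]
    rintro g ⟨j, -, hjr, hg⟩
    apply hNG
    exact Subgroup.mem_sup_right (Subgroup.subset_closure ⟨D.simple j, (hSc ⟨j, hjr⟩).1, hg⟩)
  obtain ⟨k, hk, hkJ⟩ := hJ
  have hUK : D.posUnipotent F ≤ uniK F (gradeNat (gradeOf D (jCoef D Mc ∅))) 0 := pos_le_uniK I.hSD hp hMc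
  have hgpos : ∀ r (hr : r < D.nroots), D.nroots / 2 ≤ r →
      0 < gradeOf D (jCoef D Mc ∅) (Sum.inr ⟨r, hr⟩) :=
    fun r hr h => gradeJ_pos hMc ∅ ⟨r, hr⟩ ((I.hU.pos_iff r).mpr ⟨h, hr⟩) (not_inRootSub_empty hp hr)
  have hsimple_pos : ∀ i, i < D.rank → D.IsPosRoot (D.simple i) := by
    intro i hi
    have h1 := I.hNorm
    unfold simpleNormOK at h1
    rw [List.all_eq_true] at h1
    have h2 := h1 i (List.mem_range.mpr hi)
    rw [Bool.and_eq_true, decide_eq_true_eq] at h2
    exact h2.1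
  have hxU : ∀ r, D.nroots / 2 ≤ r → r < D.nroots → (D.coroot.getD r #[]).getD k 0 ≠ 0 →
      ∀ g : GL D.Idx F, (g : Matrix D.Idx D.Idx F) = D.x F r 1 → g ∈ D.unipotentRadical F J := by
    intro r h1 h2 h3 g hg
    exact Subgroup.subset_closure ⟨r, 1, (I.hU.pos_iff r).mpr ⟨h1, h2⟩, fun hin => h3 (hin.2 k hk hkJ), hg⟩
  have hBN : D.borelSubgroup F ≤ Subgroup.normalizer
      ((D.parabolicSubgroup F J ⊓ Subgroup.centralizer (D.unipotentRadical F J : Set (GL D.Idx F)) :
        Subgroup (GL D.Idx F)) : Set (GL D.Idx F)) :=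
    hBP.trans (le_normalizer_inf_centralizer _ _ h48)
  -- Step A: the centralizer lies in `B`
  have hCB : D.parabolicSubgroup F J ⊓ Subgroup.centralizer (D.unipotentRadical F J : Set (GL D.Idx F)) ≤
      D.borelSubgroup F := by
    obtain ⟨P, hPB, -, hPS⟩ := chev_bn_all (F := F) D hD
    have hMP : D.parabolicSubgroup F J ⊓ Subgroup.centralizer (D.unipotentRadical F J : Set (GL D.Idx F)) ⊔
        D.borelSubgroup F ≤ D.parabolicSubgroup F J := sup_le inf_le_left hBP
    have hBM : P.B ≤ (D.parabolicSubgroup F J ⊓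
        Subgroup.centralizer (D.unipotentRadical F J : Set (GL D.Idx F)) ⊔
        D.borelSubgroup F).subgroupOf (D.group F) := by
      rw [hPB]
      intro g hg
      rw [Subgroup.mem_subgroupOf] at hg ⊢
      exact Subgroup.mem_sup_right hg
    have hpar := Cfsg.Agent.Lib.helper8.eq_parabolic_of_le P hBM
    have hempty : P.S ∩ (((D.parabolicSubgroup F J ⊓
        Subgroup.centralizer (D.unipotentRadical F J : Set (GL D.Idx F)) ⊔
        D.borelSubgroup F).subgroupOf (D.group F) : Subgroup ↥(D.group F)) : Set ↥(D.group F)) = ∅ := by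
      rw [Set.eq_empty_iff_forall_notMem]
      rintro s ⟨hs1, hs2⟩
      rw [hPS] at hs1
      obtain ⟨i, hi, hsv⟩ := hs1
      have hsM : (s : GL D.Idx F) ∈ D.parabolicSubgroup F J ⊓
          Subgroup.centralizer (D.unipotentRadical F J : Set (GL D.Idx F)) ⊔ D.borelSubgroup F :=
        Subgroup.mem_subgroupOf.mp hs2
      have hsM' : (s : GL D.Idx F) ∈ ((D.parabolicSubgroup F J ⊓
          Subgroup.centralizer (D.unipotentRadical F J : Set (GL D.Idx F)) ⊔ D.borelSubgroup F :
          Subgroup (GL D.Idx F)) : Set (GL D.Idx F)) := hsM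
      rw [Subgroup.coe_mul_of_right_le_normalizer_left _ _ hBN] at hsM'
      obtain ⟨c, hc, b, hb, hcb⟩ := hsM'
      have hiJ : i ∈ J := simple_mem_of_normalizes D hD J i hi (s : GL D.Idx F) hsv (h48 (hMP hsM))
      have hki : k ≠ i := fun h => hkJ (h ▸ hiJ)
      obtain ⟨r, r', cc, hr1, hr2, hr1', hr2', hck, hck', hcc, hrr, hcart⟩ := hPar i hi k hk hki
      obtain ⟨g0, hg0⟩ := exists_x (F := F) hSD' r hr2 1
      have hg0U := hxU r hr1 hr2 hck g0 hg0
      have hy : b * g0 * b⁻¹ ∈ D.unipotentRadical F J :=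
        (Subgroup.mem_normalizer_iff.mp (h48 (hBP hb)) g0).mp hg0U
      have hcy := (Subgroup.mem_centralizer_iff.mp hc.2) _ hy
      have hcs : c = (s : GL D.Idx F) * b⁻¹ := by
        have hcb' : c * b = (s : GL D.Idx F) := hcb
        rw [← hcb']
        group
      rw [hcs] at hcy
      have h1 : b * g0 * b⁻¹ * (s : GL D.Idx F) = (s : GL D.Idx F) * g0 := by
        calc b * g0 * b⁻¹ * (s : GL D.Idx F)
            = b * g0 * b⁻¹ * ((s : GL D.Idx F) * b⁻¹) * b := by group
          _ = (s : GL D.Idx F) * b⁻¹ * (b * g0 * b⁻¹) * b := by rw [hcy]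
          _ = (s : GL D.Idx F) * g0 := by group
      obtain ⟨ε, hε, hconj⟩ := chev_conj_all (F := F) D hD i hi r hr2
      obtain ⟨g1, hg1⟩ := exists_x (F := F) hSD' (D.reflectRoot i r) hrr ((ε : F) * 1)
      have h2 : (s : GL D.Idx F) * g0 = g1 * (s : GL D.Idx F) := by
        apply Units.ext
        rw [Units.val_mul, Units.val_mul, hsv, hg0, hg1]
        exact hconj 1
      have h3 : b * g0 = g1 * b := by
        have h3a : b * g0 * b⁻¹ * (s : GL D.Idx F) = g1 * (s : GL D.Idx F) := h1.trans h2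
        have h3b : b * g0 * b⁻¹ = g1 := mul_right_cancel h3a
        rw [← h3b]
        group
      obtain ⟨g, hgU, hh, hhH, hbuh⟩ := borel_decomp I hb
      obtain ⟨c0, hc0, hhc⟩ := diagonalSubgroup_le_torus hSD' hhH
      have h4 : ((g * hh : GL D.Idx F) : Matrix D.Idx D.Idx F) * D.xMat F ⟨r, hr2⟩ 1 =
          D.xMat F ⟨D.reflectRoot i r, hrr⟩ ((ε : F) * 1) * ((g * hh : GL D.Idx F) : Matrix D.Idx D.Idx F) := by
        have e := congrArg (fun z : GL D.Idx F => (z : Matrix D.Idx D.Idx F)) h3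
        simp only [Units.val_mul] at e
        rw [hg0, hg1, x_eq D F ⟨r, hr2⟩, x_eq D F ⟨D.reflectRoot i r, hrr⟩] at e
        rw [← hbuh]
        exact e
      have h5 := borel_conj_x I.hSD hc0 hhc ⟨r, hr2⟩ ⟨D.reflectRoot i r, hrr⟩ 1 ((ε : F) * 1) h4
      obtain ⟨S⟩ := hSD' ⟨r, hr2⟩
      obtain ⟨S'⟩ := hSD' ⟨D.reflectRoot i r, hrr⟩
      have hgr : gradeOf D (jCoef D Mc ∅) (Sum.inr ⟨r, hr2⟩) <
          gradeOf D (jCoef D Mc ∅) (Sum.inr ⟨D.reflectRoot i r, hrr⟩) := by
        have hsi := hsimple_pos i hi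
        have hpos_i := hgpos (D.simple i) hsi.1 ((I.hU.pos_iff _).mp hsi).1
        rw [gradeOf_inr] at hpos_i
        have e1 : ∑ m : Fin D.rank, jCoef D Mc ∅ m * cartanZ D m.val (D.reflectRoot i r) =
            ∑ m : Fin D.rank, jCoef D Mc ∅ m * cartanZ D m.val r +
              (cc : ℤ) * ∑ m : Fin D.rank, jCoef D Mc ∅ m * cartanZ D m.val (D.simple i) := by
          rw [Finset.mul_sum, ← Finset.sum_add_distrib]
          refine Finset.sum_congr rfl fun m _ => ?_
          have e2 : cartanZ D m.val (D.reflectRoot i r) =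
              cartanZ D m.val r + (cc : ℤ) * cartanZ D m.val (D.simple i) := (hcart m.val m.isLt).2
          rw [e2]
          ring
        rw [gradeOf_inr, gradeOf_inr]
        show (∑ m : Fin D.rank, jCoef D Mc ∅ m * cartanZ D m.val r) <
          ∑ m : Fin D.rank, jCoef D Mc ∅ m * cartanZ D m.val (D.reflectRoot i r)
        rw [e1]
        have hcc' : (1 : ℤ) ≤ (cc : ℤ) := by exact_mod_cast hcc
        have hpos_i' : 0 < ∑ m : Fin D.rank, jCoef D Mc ∅ m * cartanZ D m.val (D.simple i) := hpos_i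
        nlinarith
      have h6 := (conj_x_grade hp (jCoef D Mc ∅) S S' (hgpos r hr2 hr1) (hUK hgU) h5).2 hgr
      have h7 : torusChar D F c0 r = 0 := by
        have h8 : torusChar D F c0 r * 1 = 0 := h6
        rwa [mul_one] at h8
      exact torusChar_ne_zero D F c0 hc0 r h7
    rw [hempty] at hpar
    intro c hc
    have hcG : c ∈ D.group F := hPG hc.1
    have h1 : (⟨c, hcG⟩ : ↥(D.group F)) ∈ (D.parabolicSubgroup F J ⊓
        Subgroup.centralizer (D.unipotentRadical F J : Set (GL D.Idx F)) ⊔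
        D.borelSubgroup F).subgroupOf (D.group F) :=
      Subgroup.mem_subgroupOf.mpr (Subgroup.mem_sup_left hc)
    rw [hpar] at h1
    unfold BNPair.parabolic at h1
    rw [Subgroup.closure_empty, sup_bot_eq, hPB] at h1
    exact Subgroup.mem_subgroupOf.mp h1
  -- Step B: an element of `B` centralizing `U_J` lies in `U`
  intro c hc
  obtain ⟨g, hgU, hh, hhH, hcuh⟩ := borel_decomp I (hCB hc)
  obtain ⟨c0, hc0, hhc⟩ := diagonalSubgroup_le_torus hSD' hhH
  have hχ : ∀ r, D.nroots / 2 ≤ r → r < D.nroots → (D.coroot.getD r #[]).getD k 0 ≠ 0 →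
      torusChar D F c0 r = 1 := by
    intro r hr1 hr2 hck
    obtain ⟨g0, hg0⟩ := exists_x (F := F) hSD' r hr2 1
    have hg0U := hxU r hr1 hr2 hck g0 hg0
    have hcomm := (Subgroup.mem_centralizer_iff.mp hc.2) g0 hg0U
    have h4 : ((g * hh : GL D.Idx F) : Matrix D.Idx D.Idx F) * D.xMat F ⟨r, hr2⟩ 1 =
        D.xMat F ⟨r, hr2⟩ 1 * ((g * hh : GL D.Idx F) : Matrix D.Idx D.Idx F) := by
      have e := congrArg (fun z : GL D.Idx F => (z : Matrix D.Idx D.Idx F)) hcomm
      simp only [Units.val_mul] at e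
      rw [hg0, x_eq D F ⟨r, hr2⟩] at e
      rw [← hcuh]
      exact e.symm
    have h5 := borel_conj_x I.hSD hc0 hhc ⟨r, hr2⟩ ⟨r, hr2⟩ 1 1 h4
    obtain ⟨S⟩ := hSD' ⟨r, hr2⟩
    have h6 := (conj_x_grade hp (jCoef D Mc ∅) S S (hgpos r hr2 hr1) (hUK hgU) h5).1 rfl
    have h8 : torusChar D F c0 r * 1 = 1 := h6
    rwa [mul_one] at h8
  have hχs : ∀ j, j < D.rank → torusChar D F c0 (D.simple j) = 1 := by
    intro j hj
    by_cases hjk : j = k
    · have hsj := hsimple_pos j hj
      apply hχ _ ((I.hU.pos_iff _).mp hsj).1 hsj.1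
      have h2 := (hSc ⟨j, hj⟩).2 ⟨j, hj⟩
      rw [if_pos rfl] at h2
      have h3 : corootZ D (D.simple j) j = (D.coroot.getD (D.simple j) #[]).getD j 0 := rfl
      rw [← hjk, ← h3, h2]
      exact one_ne_zero
    · obtain ⟨r, r', cc, hr1, hr2, hr1', hr2', hck, hck', hcc, hrr, hcart⟩ :=
        hPar j hj k hk (fun h => hjk h.symm)
      have e := torusChar_add (F := F) c0 hc0 r' r 1 (D.simple j) (fun m => by
        have e2 : cartanZ D m.val r' = cartanZ D m.val r + cartanZ D m.val (D.simple j) :=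
          (hcart m.val m.isLt).1
        rw [one_mul]
        exact e2)
      rw [hχ r hr1 hr2 hck, hχ r' hr1' hr2' hck', one_mul, zpow_one] at e
      exact e.symm
  have hχall : ∀ s, D.nroots / 2 ≤ s → s < D.nroots → torusChar D F c0 s = 1 := by
    intro s
    induction s using Nat.strong_induction_on with
    | _ s ih =>
      intro hs1 hs2
      obtain ⟨j, s', hj, hor⟩ := hHt s hs1 hs2
      rcases hor with hor | ⟨h1, h2, h3⟩
      · rw [hor]
        exact hχs j hj
      · have e := torusChar_add (F := F) c0 hc0 s s' 1 (D.simple j) (fun m => by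
          have e2 : cartanZ D m.val s = cartanZ D m.val s' + cartanZ D m.val (D.simple j) :=
            h3 m.val m.isLt
          rw [one_mul]
          exact e2)
        rw [ih s' h2 h1 (lt_trans h2 hs2), hχs j hj, one_mul, zpow_one] at e
        exact e
  have hh1 : hh = 1 := by
    apply Units.ext
    rw [hhc, Units.val_one]
    exact torusMat_eq_one_of_pos I c0 hc0 hχall
  rw [hcuh, hh1, mul_one]
  exact hgU

/-- `F*(P_J)` is a `p`-group for a proper standard parabolic subgroup `P_J`. -/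
theorem parabolic_fstar {F : Type u} [Field F] [Fintype F] (p : ℕ) [Fact p.Prime] [CharP F p]
    (D : ChevalleyDatum) (hD : D ∈ [chevG2, chevB2, chevD4, chevF4, chevE6, chevE7, chevE8])
    (hPar : ParOK D) (hHt : HtOK D) (J : Set ℕ) (hJ : ∃ i, i < D.rank ∧ i ∉ J) :
    IsPGroup p ↥(Cfsg.generalizedFittingSubgroup ↥(D.parabolicSubgroup F J)) := by
  classical
  rw [← Cfsg.Agent.Lib.helper54.charPIn_iff_isPGroup_fstar]
  obtain ⟨η, I⟩ := bnInput_all D hD F
  have hCU := cent_radical_le_pos (F := F) D hD hPar hHt J hJ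
  have h48 := Cfsg.Agent.S1048.result (F := F) D hD J
  have hUp : IsPGroup p (D.posUnipotent F) := by
    obtain ⟨k, -, hq⟩ := FiniteField.card F p
    apply IsPGroup.of_card (n := (k : ℕ) * (D.nroots / 2))
    rw [card_posUnipotent I.hSD' I.hU I.hcomm, hq, pow_mul]
  have hUJU : D.unipotentRadical F J ≤ D.posUnipotent F := by
    unfold ChevalleyDatum.unipotentRadical
    rw [Subgroup.closure_le]
    rintro x ⟨r, t, hr, -, hx⟩
    exact Subgroup.subset_closure ⟨r, t, hr, hx⟩
  have hUJP : D.unipotentRadical F J ≤ D.parabolicSubgroup F J := by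
    rw [← h48.2.1]
    exact le_sup_left
  refine ⟨D.unipotentRadical F J ⊔ (D.parabolicSubgroup F J ⊓
    Subgroup.centralizer (D.unipotentRadical F J : Set (GL D.Idx F))), sup_le hUJP inf_le_left, ?_, ?_, ?_⟩
  · intro g hg
    exact mem_normalizer_sup' (h48.1 hg) (le_normalizer_inf_centralizer _ _ h48.1 hg)
  · exact hUp.to_le (sup_le hUJU hCU)
  · refine le_trans ?_ le_sup_right
    refine inf_le_inf_left _ ?_
    exact Subgroup.centralizer_le (by
      intro x hx
      exact (le_sup_left : D.unipotentRadical F J ≤ _) hx)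

end Cfsg.Agent.Lib.helper50
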