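import Cfsg.Agent.Lib.helper50.ChevPar1

set_option autoImplicit false
set_option maxRecDepth 100000

/-! Witness tables for `ParOK` and `HtOK` (generated), verified by kernel evaluation. -/

namespace Cfsg.Agent.Lib.helper50

open Cfsg Cfsg.Lie Cfsg.Agent.Lib.helper23

def parTabG2 : List (List (ℕ × ℕ × ℕ)) :=
  [[(0, 0, 0), (6, 8, 3)],
   [(7, 8, 1), (0, 0, 0)]]

def htTabG2 : List (ℕ × ℕ) :=
  [(0, 0), (0, 0), (0, 0), (0, 0), (0, 0), (0, 0), (1, 0), (0, 0), (0, 6), (0, 8), (0, 9), (1, 10)]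

theorem parTabOK_G2_0 : parTabOK chevG2 parTabG2 0 = true := by decide +kernel

theorem parTabOK_G2_1 : parTabOK chevG2 parTabG2 1 = true := by decide +kernel

theorem parOK_G2 : ParOK chevG2 := by
  apply parOK_of_tab chevG2 parTabG2
  intro i hi
  have hi' : i < 2 := hi
  interval_cases i
  · exact parTabOK_G2_0
  · exact parTabOK_G2_1

theorem htTabOK_G2_0 : htTabOK chevG2 htTabG2 0 12 = true := by decide +kernel

theorem htOK_G2 : HtOK chevG2 := by
  apply htOK_of_tab chevG2 htTabG2 ((List.range 1).map (fun k => (k * 12, 12)))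
  · intro q hq
    have hq' : q ∈ [(0, 12)] := hq
    simp only [List.mem_cons, List.not_mem_nil, or_false] at hq'
    rcases hq' with rfl
    · exact htTabOK_G2_0
  · intro s hs
    exact chunk_cover_levi 12 12 (by norm_num) s hs

def parTabB2 : List (List (ℕ × ℕ × ℕ)) :=
  [[(0, 0, 0), (4, 6, 2)],
   [(5, 6, 1), (0, 0, 0)]]

def htTabB2 : List (ℕ × ℕ) :=
  [(0, 0), (0, 0), (0, 0), (0, 0), (1, 0), (0, 0), (0, 4), (0, 6)]

theorem parTabOK_B2_0 : parTabOK chevB2 parTabB2 0 = true := by decide +kernel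

theorem parTabOK_B2_1 : parTabOK chevB2 parTabB2 1 = true := by decide +kernel

theorem parOK_B2 : ParOK chevB2 := by
  apply parOK_of_tab chevB2 parTabB2
  intro i hi
  have hi' : i < 2 := hi
  interval_cases i
  · exact parTabOK_B2_0
  · exact parTabOK_B2_1

theorem htTabOK_B2_0 : htTabOK chevB2 htTabB2 0 8 = true := by decide +kernel

theorem htOK_B2 : HtOK chevB2 := by
  apply htOK_of_tab chevB2 htTabB2 ((List.range 1).map (fun k => (k * 8, 8)))
  · intro q hq
    have hq' : q ∈ [(0, 8)] := hq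
    simp only [List.mem_cons, List.not_mem_nil, or_false] at hq'
    rcases hq' with rfl
    · exact htTabOK_B2_0
  · intro s hs
    exact chunk_cover_levi 8 8 (by norm_num) s hs

def parTabD4 : List (List (ℕ × ℕ × ℕ)) :=
  [[(0, 0, 0), (14, 19, 1), (16, 21, 1), (15, 20, 1)],
   [(18, 19, 1), (0, 0, 0), (13, 16, 1), (12, 15, 1)],
   [(19, 21, 1), (14, 16, 1), (0, 0, 0), (15, 17, 1)],
   [(19, 20, 1), (14, 15, 1), (16, 17, 1), (0, 0, 0)]]

def htTabD4 : List (ℕ × ℕ) :=
  [(0, 0), (0, 0), (0, 0), (0, 0), (0, 0), (0, 0), (0, 0), (0, 0), (0, 0), (0, 0), (0, 0), (0, 0),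
   (3, 0), (2, 0), (1, 0), (1, 12), (1, 13), (2, 15), (0, 0), (0, 14), (0, 15), (0, 16), (0, 17), (1, 22)]

theorem parTabOK_D4_0 : parTabOK chevD4 parTabD4 0 = true := by decide +kernel

theorem parTabOK_D4_1 : parTabOK chevD4 parTabD4 1 = true := by decide +kernel

theorem parTabOK_D4_2 : parTabOK chevD4 parTabD4 2 = true := by decide +kernel

theorem parTabOK_D4_3 : parTabOK chevD4 parTabD4 3 = true := by decide +kernel

theorem parOK_D4 : ParOK chevD4 := by
  apply parOK_of_tab chevD4 parTabD4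
  intro i hi
  have hi' : i < 4 := hi
  interval_cases i
  · exact parTabOK_D4_0
  · exact parTabOK_D4_1
  · exact parTabOK_D4_2
  · exact parTabOK_D4_3

theorem htTabOK_D4_0 : htTabOK chevD4 htTabD4 0 24 = true := by decide +kernel

theorem htOK_D4 : HtOK chevD4 := by
  apply htOK_of_tab chevD4 htTabD4 ((List.range 1).map (fun k => (k * 24, 24)))
  · intro q hq
    have hq' : q ∈ [(0, 24)] := hq
    simp only [List.mem_cons, List.not_mem_nil, or_false] at hq'
    rcases hq' with rfl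
    · exact htTabOK_D4_0
  · intro s hs
    exact chunk_cover_levi 24 24 (by norm_num) s hs

def parTabF4 : List (List (ℕ × ℕ × ℕ)) :=
  [[(0, 0, 0), (27, 34, 1), (28, 35, 1), (29, 36, 1)],
   [(33, 34, 1), (0, 0, 0), (25, 28, 2), (26, 29, 2)],
   [(34, 35, 1), (27, 28, 1), (0, 0, 0), (24, 26, 1)],
   [(35, 36, 1), (28, 29, 1), (25, 26, 1), (0, 0, 0)]]

def htTabF4 : List (ℕ × ℕ) :=
  [(0, 0), (0, 0), (0, 0), (0, 0), (0, 0), (0, 0), (0, 0), (0, 0), (0, 0), (0, 0), (0, 0), (0, 0),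
   (0, 0), (0, 0), (0, 0), (0, 0), (0, 0), (0, 0), (0, 0), (0, 0), (0, 0), (0, 0), (0, 0), (0, 0),
   (3, 0), (2, 0), (2, 24), (1, 0), (1, 25), (1, 26), (1, 28), (1, 29), (2, 31), (0, 0), (0, 27), (0, 28),
   (0, 29), (0, 30), (0, 31), (0, 32), (1, 39), (0, 37), (0, 38), (0, 39), (0, 40), (1, 44), (2, 45), (3, 46)]

theorem parTabOK_F4_0 : parTabOK chevF4 parTabF4 0 = true := by decide +kernel

theorem parTabOK_F4_1 : parTabOK chevF4 parTabF4 1 = true := by decide +kernel

theorem parTabOK_F4_2 : parTabOK chevF4 parTabF4 2 = true := by decide +kernel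

theorem parTabOK_F4_3 : parTabOK chevF4 parTabF4 3 = true := by decide +kernel

theorem parOK_F4 : ParOK chevF4 := by
  apply parOK_of_tab chevF4 parTabF4
  intro i hi
  have hi' : i < 4 := hi
  interval_cases i
  · exact parTabOK_F4_0
  · exact parTabOK_F4_1
  · exact parTabOK_F4_2
  · exact parTabOK_F4_3

theorem htTabOK_F4_0 : htTabOK chevF4 htTabF4 0 48 = true := by decide +kernel

theorem htOK_F4 : HtOK chevF4 := by
  apply htOK_of_tab chevF4 htTabF4 ((List.range 1).map (fun k => (k * 48, 48)))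
  · intro q hq
    have hq' : q ∈ [(0, 48)] := hq
    simp only [List.mem_cons, List.not_mem_nil, or_false] at hq'
    rcases hq' with rfl
    · exact htTabOK_F4_0
  · intro s hs
    exact chunk_cover_levi 48 48 (by norm_num) s hs

def parTabE6 : List (List (ℕ × ℕ × ℕ)) :=
  [[(0, 0, 0), (50, 61, 1), (42, 57, 1), (43, 58, 1), (44, 59, 1), (45, 60, 1)],
   [(58, 61, 1), (0, 0, 0), (43, 50, 1), (39, 47, 1), (40, 48, 1), (41, 49, 1)],
   [(56, 57, 1), (47, 50, 1), (0, 0, 0), (39, 43, 1), (40, 44, 1), (41, 45, 1)],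
   [(57, 58, 1), (46, 47, 1), (42, 43, 1), (0, 0, 0), (37, 40, 1), (38, 41, 1)],
   [(58, 59, 1), (47, 48, 1), (43, 44, 1), (39, 40, 1), (0, 0, 0), (36, 38, 1)],
   [(59, 60, 1), (48, 49, 1), (44, 45, 1), (40, 41, 1), (37, 38, 1), (0, 0, 0)]]

def htTabE6 : List (ℕ × ℕ) :=
  [(0, 0), (0, 0), (0, 0), (0, 0), (0, 0), (0, 0), (0, 0), (0, 0), (0, 0), (0, 0), (0, 0), (0, 0),
   (0, 0), (0, 0), (0, 0), (0, 0), (0, 0), (0, 0), (0, 0), (0, 0), (0, 0), (0, 0), (0, 0), (0, 0),
   (0, 0), (0, 0), (0, 0), (0, 0), (0, 0), (0, 0), (0, 0), (0, 0), (0, 0), (0, 0), (0, 0), (0, 0),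
   (5, 0), (4, 0), (4, 36), (3, 0), (3, 37), (3, 38), (2, 0), (2, 39), (2, 40), (2, 41), (1, 0), (1, 39),
   (1, 40), (1, 41), (1, 43), (1, 44), (1, 45), (3, 51), (3, 52), (4, 54), (0, 0), (0, 42), (0, 43), (0, 44),
   (0, 45), (0, 50), (0, 51), (0, 52), (0, 53), (0, 54), (0, 55), (2, 64), (2, 65), (2, 66), (3, 69), (1, 70)]

theorem parTabOK_E6_0 : parTabOK chevE6 parTabE6 0 = true := by decide +kernel

theorem parTabOK_E6_1 : parTabOK chevE6 parTabE6 1 = true := by decide +kernel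

theorem parTabOK_E6_2 : parTabOK chevE6 parTabE6 2 = true := by decide +kernel

theorem parTabOK_E6_3 : parTabOK chevE6 parTabE6 3 = true := by decide +kernel

theorem parTabOK_E6_4 : parTabOK chevE6 parTabE6 4 = true := by decide +kernel

theorem parTabOK_E6_5 : parTabOK chevE6 parTabE6 5 = true := by decide +kernel

theorem parOK_E6 : ParOK chevE6 := by
  apply parOK_of_tab chevE6 parTabE6
  intro i hi
  have hi' : i < 6 := hi
  interval_cases i
  · exact parTabOK_E6_0
  · exact parTabOK_E6_1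
  · exact parTabOK_E6_2
  · exact parTabOK_E6_3
  · exact parTabOK_E6_4
  · exact parTabOK_E6_5

theorem htTabOK_E6_0 : htTabOK chevE6 htTabE6 0 36 = true := by decide +kernel

theorem htTabOK_E6_1 : htTabOK chevE6 htTabE6 36 36 = true := by decide +kernel

theorem htOK_E6 : HtOK chevE6 := by
  apply htOK_of_tab chevE6 htTabE6 ((List.range 2).map (fun k => (k * 36, 36)))
  · intro q hq
    have hq' : q ∈ [(0, 36), (36, 36)] := hq
    simp only [List.mem_cons, List.not_mem_nil, or_false] at hq'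
    rcases hq' with rfl | rfl
    · exact htTabOK_E6_0
    · exact htTabOK_E6_1
  · intro s hs
    exact chunk_cover_levi 72 36 (by norm_num) s hs

end Cfsg.Agent.Lib.helper50
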