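import Cfsg.Agent.Lib.helper50.ChevPar3

set_option autoImplicit false
set_option maxRecDepth 100000

/-! Witness tables for `ParOK` and `HtOK` (generated), verified by kernel evaluation. -/

namespace Cfsg.Agent.Lib.helper50

open Cfsg Cfsg.Lie Cfsg.Agent.Lib.helper23

def parTabE7 : List (List (ℕ × ℕ × ℕ)) :=
  [[(0, 0, 0), (83, 99, 1), (73, 94, 1), (74, 95, 1), (75, 96, 1), (76, 97, 1), (77, 98, 1)],
   [(95, 99, 1), (0, 0, 0), (74, 83, 1), (69, 79, 1), (70, 80, 1), (71, 81, 1), (72, 82, 1)],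
   [(93, 94, 1), (79, 83, 1), (0, 0, 0), (69, 74, 1), (70, 75, 1), (71, 76, 1), (72, 77, 1)],
   [(94, 95, 1), (78, 79, 1), (73, 74, 1), (0, 0, 0), (66, 70, 1), (67, 71, 1), (68, 72, 1)],
   [(95, 96, 1), (79, 80, 1), (74, 75, 1), (69, 70, 1), (0, 0, 0), (64, 67, 1), (65, 68, 1)],
   [(96, 97, 1), (80, 81, 1), (75, 76, 1), (70, 71, 1), (66, 67, 1), (0, 0, 0), (63, 65, 1)],
   [(97, 98, 1), (81, 82, 1), (76, 77, 1), (71, 72, 1), (67, 68, 1), (64, 65, 1), (0, 0, 0)]]

def htTabE7 : List (ℕ × ℕ) :=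
  [(0, 0), (0, 0), (0, 0), (0, 0), (0, 0), (0, 0), (0, 0), (0, 0), (0, 0), (0, 0), (0, 0), (0, 0),
   (0, 0), (0, 0), (0, 0), (0, 0), (0, 0), (0, 0), (0, 0), (0, 0), (0, 0), (0, 0), (0, 0), (0, 0),
   (0, 0), (0, 0), (0, 0), (0, 0), (0, 0), (0, 0), (0, 0), (0, 0), (0, 0), (0, 0), (0, 0), (0, 0),
   (0, 0), (0, 0), (0, 0), (0, 0), (0, 0), (0, 0), (0, 0), (0, 0), (0, 0), (0, 0), (0, 0), (0, 0),
   (0, 0), (0, 0), (0, 0), (0, 0), (0, 0), (0, 0), (0, 0), (0, 0), (0, 0), (0, 0), (0, 0), (0, 0),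
   (0, 0), (0, 0), (0, 0), (6, 0), (5, 0), (5, 63), (4, 0), (4, 64), (4, 65), (3, 0), (3, 66), (3, 67),
   (3, 68), (2, 0), (2, 69), (2, 70), (2, 71), (2, 72), (1, 0), (1, 69), (1, 70), (1, 71), (1, 72), (1, 74),
   (1, 75), (1, 76), (1, 77), (3, 84), (3, 85), (3, 86), (4, 88), (4, 89), (5, 91), (0, 0), (0, 73), (0, 74),
   (0, 75), (0, 76), (0, 77), (0, 83), (0, 84), (0, 85), (0, 86), (0, 87), (0, 88), (0, 89), (0, 90), (0, 91),
   (0, 92), (2, 103), (2, 104), (2, 105), (2, 106), (2, 107), (2, 108), (3, 112), (3, 113), (3, 114), (4, 117), (1, 115),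
   (1, 116), (1, 117), (1, 118), (3, 122), (2, 123), (0, 124)]

theorem parTabOK_E7_0 : parTabOK chevE7 parTabE7 0 = true := by decide +kernel

theorem parTabOK_E7_1 : parTabOK chevE7 parTabE7 1 = true := by decide +kernel

theorem parTabOK_E7_2 : parTabOK chevE7 parTabE7 2 = true := by decide +kernel

theorem parTabOK_E7_3 : parTabOK chevE7 parTabE7 3 = true := by decide +kernel

theorem parTabOK_E7_4 : parTabOK chevE7 parTabE7 4 = true := by decide +kernel

theorem parTabOK_E7_5 : parTabOK chevE7 parTabE7 5 = true := by decide +kernel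

theorem parTabOK_E7_6 : parTabOK chevE7 parTabE7 6 = true := by decide +kernel

theorem parOK_E7 : ParOK chevE7 := by
  apply parOK_of_tab chevE7 parTabE7
  intro i hi
  have hi' : i < 7 := hi
  interval_cases i
  · exact parTabOK_E7_0
  · exact parTabOK_E7_1
  · exact parTabOK_E7_2
  · exact parTabOK_E7_3
  · exact parTabOK_E7_4
  · exact parTabOK_E7_5
  · exact parTabOK_E7_6

theorem htTabOK_E7_0 : htTabOK chevE7 htTabE7 0 42 = true := by decide +kernel

theorem htTabOK_E7_1 : htTabOK chevE7 htTabE7 42 42 = true := by decide +kernel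

theorem htTabOK_E7_2 : htTabOK chevE7 htTabE7 84 42 = true := by decide +kernel

theorem htOK_E7 : HtOK chevE7 := by
  apply htOK_of_tab chevE7 htTabE7 ((List.range 3).map (fun k => (k * 42, 42)))
  · intro q hq
    have hq' : q ∈ [(0, 42), (42, 42), (84, 42)] := hq
    simp only [List.mem_cons, List.not_mem_nil, or_false] at hq'
    rcases hq' with rfl | rfl | rfl
    · exact htTabOK_E7_0
    · exact htTabOK_E7_1
    · exact htTabOK_E7_2
  · intro s hs
    exact chunk_cover_levi 126 42 (by norm_num) s hs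

def parTabE8 : List (List (ℕ × ℕ × ℕ)) :=
  [[(0, 0, 0), (147, 169, 1), (135, 163, 1), (136, 164, 1), (137, 165, 1), (138, 166, 1), (139, 167, 1), (140, 168, 1)],
   [(164, 169, 1), (0, 0, 0), (136, 147, 1), (130, 142, 1), (131, 143, 1), (132, 144, 1), (133, 145, 1), (134, 146, 1)],
   [(162, 163, 1), (142, 147, 1), (0, 0, 0), (130, 136, 1), (131, 137, 1), (132, 138, 1), (133, 139, 1), (134, 140, 1)],
   [(163, 164, 1), (141, 142, 1), (135, 136, 1), (0, 0, 0), (126, 131, 1), (127, 132, 1), (128, 133, 1), (129, 134, 1)],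
   [(164, 165, 1), (142, 143, 1), (136, 137, 1), (130, 131, 1), (0, 0, 0), (123, 127, 1), (124, 128, 1), (125, 129, 1)],
   [(165, 166, 1), (143, 144, 1), (137, 138, 1), (131, 132, 1), (126, 127, 1), (0, 0, 0), (121, 124, 1), (122, 125, 1)],
   [(166, 167, 1), (144, 145, 1), (138, 139, 1), (132, 133, 1), (127, 128, 1), (123, 124, 1), (0, 0, 0), (120, 122, 1)],
   [(167, 168, 1), (145, 146, 1), (139, 140, 1), (133, 134, 1), (128, 129, 1), (124, 125, 1), (121, 122, 1), (0, 0, 0)]]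

def htTabE8 : List (ℕ × ℕ) :=
  [(0, 0), (0, 0), (0, 0), (0, 0), (0, 0), (0, 0), (0, 0), (0, 0), (0, 0), (0, 0), (0, 0), (0, 0),
   (0, 0), (0, 0), (0, 0), (0, 0), (0, 0), (0, 0), (0, 0), (0, 0), (0, 0), (0, 0), (0, 0), (0, 0),
   (0, 0), (0, 0), (0, 0), (0, 0), (0, 0), (0, 0), (0, 0), (0, 0), (0, 0), (0, 0), (0, 0), (0, 0),
   (0, 0), (0, 0), (0, 0), (0, 0), (0, 0), (0, 0), (0, 0), (0, 0), (0, 0), (0, 0), (0, 0), (0, 0),
   (0, 0), (0, 0), (0, 0), (0, 0), (0, 0), (0, 0), (0, 0), (0, 0), (0, 0), (0, 0), (0, 0), (0, 0),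
   (0, 0), (0, 0), (0, 0), (0, 0), (0, 0), (0, 0), (0, 0), (0, 0), (0, 0), (0, 0), (0, 0), (0, 0),
   (0, 0), (0, 0), (0, 0), (0, 0), (0, 0), (0, 0), (0, 0), (0, 0), (0, 0), (0, 0), (0, 0), (0, 0),
   (0, 0), (0, 0), (0, 0), (0, 0), (0, 0), (0, 0), (0, 0), (0, 0), (0, 0), (0, 0), (0, 0), (0, 0),
   (0, 0), (0, 0), (0, 0), (0, 0), (0, 0), (0, 0), (0, 0), (0, 0), (0, 0), (0, 0), (0, 0), (0, 0),
   (0, 0), (0, 0), (0, 0), (0, 0), (0, 0), (0, 0), (0, 0), (0, 0), (0, 0), (0, 0), (0, 0), (0, 0),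
   (7, 0), (6, 0), (6, 120), (5, 0), (5, 121), (5, 122), (4, 0), (4, 123), (4, 124), (4, 125), (3, 0), (3, 126),
   (3, 127), (3, 128), (3, 129), (2, 0), (2, 130), (2, 131), (2, 132), (2, 133), (2, 134), (1, 0), (1, 130), (1, 131),
   (1, 132), (1, 133), (1, 134), (1, 136), (1, 137), (1, 138), (1, 139), (1, 140), (3, 148), (3, 149), (3, 150), (3, 151),
   (4, 153), (4, 154), (4, 155), (5, 157), (5, 158), (6, 160), (0, 0), (0, 135), (0, 136), (0, 137), (0, 138), (0, 139),
   (0, 140), (0, 147), (0, 148), (0, 149), (0, 150), (0, 151), (0, 152), (0, 153), (0, 154), (0, 155), (0, 156), (0, 157),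
   (0, 158), (0, 159), (0, 160), (0, 161), (2, 174), (2, 175), (2, 176), (2, 177), (2, 178), (2, 179), (2, 180), (2, 181),
   (2, 182), (2, 183), (3, 188), (3, 189), (3, 190), (3, 191), (3, 192), (3, 193), (4, 197), (4, 198), (4, 199), (5, 202),
   (1, 194), (1, 195), (1, 196), (1, 197), (1, 198), (1, 199), (1, 200), (1, 201), (1, 202), (1, 203), (3, 210), (3, 211),
   (3, 212), (3, 213), (4, 217), (2, 214), (2, 215), (2, 216), (2, 217), (2, 218), (3, 223), (1, 224), (0, 219), (0, 220),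
   (0, 221), (0, 222), (0, 223), (0, 224), (2, 231), (0, 225), (1, 232), (3, 234), (4, 235), (5, 236), (6, 237), (7, 238)]

theorem parTabOK_E8_0 : parTabOK chevE8 parTabE8 0 = true := by decide +kernel

theorem parTabOK_E8_1 : parTabOK chevE8 parTabE8 1 = true := by decide +kernel

theorem parTabOK_E8_2 : parTabOK chevE8 parTabE8 2 = true := by decide +kernel

theorem parTabOK_E8_3 : parTabOK chevE8 parTabE8 3 = true := by decide +kernel

theorem parTabOK_E8_4 : parTabOK chevE8 parTabE8 4 = true := by decide +kernel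

theorem parTabOK_E8_5 : parTabOK chevE8 parTabE8 5 = true := by decide +kernel

theorem parTabOK_E8_6 : parTabOK chevE8 parTabE8 6 = true := by decide +kernel

theorem parTabOK_E8_7 : parTabOK chevE8 parTabE8 7 = true := by decide +kernel

theorem parOK_E8 : ParOK chevE8 := by
  apply parOK_of_tab chevE8 parTabE8
  intro i hi
  have hi' : i < 8 := hi
  interval_cases i
  · exact parTabOK_E8_0
  · exact parTabOK_E8_1
  · exact parTabOK_E8_2
  · exact parTabOK_E8_3
  · exact parTabOK_E8_4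
  · exact parTabOK_E8_5
  · exact parTabOK_E8_6
  · exact parTabOK_E8_7

theorem htTabOK_E8_0 : htTabOK chevE8 htTabE8 0 30 = true := by decide +kernel

theorem htTabOK_E8_1 : htTabOK chevE8 htTabE8 30 30 = true := by decide +kernel

theorem htTabOK_E8_2 : htTabOK chevE8 htTabE8 60 30 = true := by decide +kernel

theorem htTabOK_E8_3 : htTabOK chevE8 htTabE8 90 30 = true := by decide +kernel

theorem htTabOK_E8_4 : htTabOK chevE8 htTabE8 120 30 = true := by decide +kernel

theorem htTabOK_E8_5 : htTabOK chevE8 htTabE8 150 30 = true := by decide +kernel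

theorem htTabOK_E8_6 : htTabOK chevE8 htTabE8 180 30 = true := by decide +kernel

theorem htTabOK_E8_7 : htTabOK chevE8 htTabE8 210 30 = true := by decide +kernel

theorem htOK_E8 : HtOK chevE8 := by
  apply htOK_of_tab chevE8 htTabE8 ((List.range 8).map (fun k => (k * 30, 30)))
  · intro q hq
    have hq' : q ∈ [(0, 30), (30, 30), (60, 30), (90, 30), (120, 30), (150, 30), (180, 30), (210, 30)] := hq
    simp only [List.mem_cons, List.not_mem_nil, or_false] at hq'
    rcases hq' with rfl | rfl | rfl | rfl | rfl | rfl | rfl | rfl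
    · exact htTabOK_E8_0
    · exact htTabOK_E8_1
    · exact htTabOK_E8_2
    · exact htTabOK_E8_3
    · exact htTabOK_E8_4
    · exact htTabOK_E8_5
    · exact htTabOK_E8_6
    · exact htTabOK_E8_7
  · intro s hs
    exact chunk_cover_levi 240 30 (by norm_num) s hs

theorem parOK_all (D : ChevalleyDatum)
    (hD : D ∈ [chevG2, chevB2, chevD4, chevF4, chevE6, chevE7, chevE8]) : ParOK D := by
  simp only [List.mem_cons, List.not_mem_nil, or_false] at hD
  rcases hD with rfl | rfl | rfl | rfl | rfl | rfl | rfl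
  · exact parOK_G2
  · exact parOK_B2
  · exact parOK_D4
  · exact parOK_F4
  · exact parOK_E6
  · exact parOK_E7
  · exact parOK_E8

theorem htOK_all (D : ChevalleyDatum)
    (hD : D ∈ [chevG2, chevB2, chevD4, chevF4, chevE6, chevE7, chevE8]) : HtOK D := by
  simp only [List.mem_cons, List.not_mem_nil, or_false] at hD
  rcases hD with rfl | rfl | rfl | rfl | rfl | rfl | rfl
  · exact htOK_G2
  · exact htOK_B2
  · exact htOK_D4
  · exact htOK_F4
  · exact htOK_E6
  · exact htOK_E7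
  · exact htOK_E8

end Cfsg.Agent.Lib.helper50
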