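import Mathlib
import Cfsg.Agent.Lib.helper42.FGDefs

/-!
S1915 (helper42 split), piece F1 `norm_fixes_z`, core (racer copy by helper50): the conclusion of
F0 (`four_max`, for the given four-group `V`) enters as a hypothesis.
-/

set_option autoImplicit false

namespace Cfsg.Agent.Lib.helper42.FG

variable {G : Type*} [Group G]

/-- Sylow's theorem inside a subgroup `H`, stated in the ambient group. -/
theorem h50_exists_conj_le_sylow [Finite G] {p : ℕ} [Fact p.Prime]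
    (H : Subgroup G) (P : Sylow p ↥H) (T : Subgroup G) (hTH : T ≤ H) (hT : IsPGroup p T) :
    ∃ h ∈ H, ∀ x ∈ T, h * x * h⁻¹ ∈ (P : Subgroup ↥H).map H.subtype := by
  have hT' : IsPGroup p (T.subgroupOf H) := hT.comap_subtype
  obtain ⟨Q, hQ⟩ := hT'.exists_le_sylow
  obtain ⟨h, hh⟩ := MulAction.exists_smul_eq ↥H Q P
  refine ⟨h, h.2, fun x hx => ?_⟩
  have h1 : (⟨x, hTH hx⟩ : H) ∈ (Q : Subgroup H) := hQ (Subgroup.mem_subgroupOf.mpr hx)
  have h2 : h * ⟨x, hTH hx⟩ * h⁻¹ ∈ (P : Subgroup H) := by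
    rw [← hh, Sylow.coe_subgroup_smul, Subgroup.mem_pointwise_smul_iff_inv_smul_mem]
    have : (MulAut.conj h)⁻¹ • (h * ⟨x, hTH hx⟩ * h⁻¹) = (⟨x, hTH hx⟩ : H) := by
      simp only [MulAut.smul_def, MulAut.conj_inv_apply]
      group
    rw [this]; exact h1
  exact ⟨_, h2, rfl⟩

/-- the subgroup `A ∪ A c` for `c` normalizing `A` with `c * c ∈ A` -/
def h50_ext (A : Subgroup G) (c : G) (h1 : ∀ a ∈ A, c * a * c⁻¹ ∈ A)
    (h2 : ∀ a ∈ A, c⁻¹ * a * c ∈ A) (h3 : c * c ∈ A) : Subgroup G where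
  carrier := {x | x ∈ A ∨ x * c⁻¹ ∈ A}
  one_mem' := Or.inl A.one_mem
  mul_mem' := by
    rintro x y (hx | hx) (hy | hy)
    · exact Or.inl (A.mul_mem hx hy)
    · refine Or.inr ?_
      have e : x * y * c⁻¹ = x * (y * c⁻¹) := by group
      rw [e]; exact A.mul_mem hx hy
    · refine Or.inr ?_
      have e : x * y * c⁻¹ = (x * c⁻¹) * (c * y * c⁻¹) := by group
      rw [e]; exact A.mul_mem hx (h1 y hy)
    · refine Or.inl ?_
      have e : x * y = (x * c⁻¹) * (c * (y * c⁻¹) * c⁻¹) * (c * c) := by group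
      rw [e]; exact A.mul_mem (A.mul_mem hx (h1 _ hy)) h3
  inv_mem' := by
    rintro x (hx | hx)
    · exact Or.inl (A.inv_mem hx)
    · refine Or.inr ?_
      have e : x⁻¹ * c⁻¹ = (c⁻¹ * (x * c⁻¹)⁻¹ * c) * (c * c)⁻¹ := by group
      rw [e]; exact A.mul_mem (h2 _ (A.inv_mem hx)) (A.inv_mem h3)

theorem h50_mem_ext (A : Subgroup G) (c : G) (h1 : ∀ a ∈ A, c * a * c⁻¹ ∈ A)
    (h2 : ∀ a ∈ A, c⁻¹ * a * c ∈ A) (h3 : c * c ∈ A) (x : G) :
    x ∈ h50_ext A c h1 h2 h3 ↔ x ∈ A ∨ x * c⁻¹ ∈ A := Iff.rfl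

theorem h50_norm_fixes_z_core [Finite G] {A S : Subgroup G} (hSA : S ≤ A)
    (hSyl : Nat.card S = 2 ^ (Nat.card A).factorization 2) {z : G} (hz : ZData S z)
    (c : G) (hcA : c ∉ A) (hcN : ∀ a ∈ A, c * a * c⁻¹ ∈ A) (hcS : ∀ y ∈ S, c * y = y * c)
    (hcc : c * c = z) (V : Subgroup G) (hVS : V ≤ S) (hV : IsKleinFour V) (m : G) (hm : m ∈ A)
    (hmV : ∀ v ∈ V, m * v * m⁻¹ ∈ V)
    (hF0 : ∀ R : Subgroup G, R ≤ A → IsPGroup 2 R → V ≤ R →
      (∀ r ∈ R, ∀ v ∈ V, r * v = v * r) → R = V) :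
    m * z * m⁻¹ = z := by
  have hp2 : Fact (Nat.Prime 2) := ⟨Nat.prime_two⟩
  obtain ⟨hzV, -⟩ := hz.h4 V hVS hV
  have hzS : z ∈ S := hz.hzS
  have hzA : z ∈ A := hSA hzS
  have hz1 : z ≠ 1 := by
    intro h
    have h2 := hz.hz2
    rw [h, orderOf_one] at h2
    omega
  have hzz : z * z = 1 := by
    have h2 := pow_orderOf_eq_one z
    rw [hz.hz2, pow_two] at h2
    exact h2
  have hVsq : ∀ v ∈ V, v * v = 1 := by
    intro v hv
    have h1 : (⟨v, hv⟩ : V) ^ 2 = 1 := by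
      rw [← hV.exponent_two]
      exact Monoid.pow_exponent_eq_one _
    have h2 := congrArg Subtype.val h1
    simpa [pow_two] using h2
  have hVcomm : ∀ v ∈ V, ∀ w ∈ V, v * w = w * v := by
    intro v hv w hw
    have h1 := hVsq v hv
    have h2 := hVsq w hw
    have h3 := hVsq (v * w) (V.mul_mem hv hw)
    have hv' : v⁻¹ = v := inv_eq_of_mul_eq_one_left h1
    have hw' : w⁻¹ = w := inv_eq_of_mul_eq_one_left h2
    calc v * w = (v * w)⁻¹ := (inv_eq_of_mul_eq_one_left h3).symm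
      _ = w⁻¹ * v⁻¹ := mul_inv_rev v w
      _ = w * v := by rw [hv', hw']
  have hcV : ∀ v ∈ V, c * v = v * c := fun v hv => hcS v (hVS hv)
  have hcinv : c⁻¹ = c * z := by
    apply inv_eq_of_mul_eq_one_right
    rw [← mul_assoc, hcc, hzz]
  have hzc' : z * c⁻¹ = c := by
    rw [mul_inv_eq_iff_eq_mul]; exact hcc.symm
  have hcN' : ∀ a ∈ A, c⁻¹ * a * c ∈ A := by
    intro a ha
    have h1 : c⁻¹ * a * c = c * (z * a * z) * c⁻¹ := by
      have e1 : c * (z * a * z) * c⁻¹ = (c * z) * a * (z * c⁻¹) := by group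
      rw [e1, ← hcinv, hzc']
    rw [h1]
    exact hcN _ (A.mul_mem (A.mul_mem hzA ha) hzA)
  have h1V : ∀ v ∈ V, c * v * c⁻¹ ∈ V := by
    intro v hv
    rw [hcV v hv, mul_inv_cancel_right]; exact hv
  have h2V : ∀ v ∈ V, c⁻¹ * v * c ∈ V := by
    intro v hv
    rw [mul_assoc, ← hcV v hv, inv_mul_cancel_left]; exact hv
  have hccA : c * c ∈ A := by rw [hcc]; exact hzA
  have hccV : c * c ∈ V := by rw [hcc]; exact hzV
  obtain ⟨A1, hA1⟩ : ∃ A1 : Subgroup G, ∀ x, x ∈ A1 ↔ x ∈ A ∨ x * c⁻¹ ∈ A :=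
    ⟨h50_ext A c hcN hcN' hccA, fun x => h50_mem_ext A c hcN hcN' hccA x⟩
  obtain ⟨D, hD⟩ : ∃ D : Subgroup G, ∀ x, x ∈ D ↔ x ∈ V ∨ x * c⁻¹ ∈ V :=
    ⟨h50_ext V c h1V h2V hccV, fun x => h50_mem_ext V c h1V h2V hccV x⟩
  obtain ⟨C, hCdef⟩ : ∃ C : Subgroup G, C = A1 ⊓ Subgroup.centralizer (V : Set G) := ⟨_, rfl⟩
  have hCmem : ∀ x, x ∈ C ↔ x ∈ A1 ∧ x ∈ Subgroup.centralizer (V : Set G) := by
    intro x; rw [hCdef]; exact Subgroup.mem_inf
  have hDC : D ≤ C := by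
    intro x hx
    rcases (hD x).mp hx with hx | hx
    · refine (hCmem x).mpr ⟨(hA1 x).mpr (Or.inl (hSA (hVS hx))), ?_⟩
      rw [Subgroup.mem_centralizer_iff]
      intro v hv
      exact hVcomm v hv x hx
    · refine (hCmem x).mpr ⟨(hA1 x).mpr (Or.inr (hSA (hVS hx))), ?_⟩
      rw [Subgroup.mem_centralizer_iff]
      intro v hv
      calc v * x = (v * (x * c⁻¹)) * c := by group
        _ = ((x * c⁻¹) * v) * c := by rw [hVcomm v hv _ hx]
        _ = (x * c⁻¹) * (v * c) := by group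
        _ = (x * c⁻¹) * (c * v) := by rw [hcV v hv]
        _ = x * v := by group
  have hDsq : ∀ x ∈ D, x * x = 1 ∨ x * x = z := by
    intro x hx
    rcases (hD x).mp hx with h | h
    · exact Or.inl (hVsq x h)
    · right
      calc x * x = (x * c⁻¹) * (c * (x * c⁻¹)) * c := by group
        _ = (x * c⁻¹) * ((x * c⁻¹) * c) * c := by rw [hcV _ h]
        _ = ((x * c⁻¹) * (x * c⁻¹)) * (c * c) := by group
        _ = z := by rw [hVsq _ h, hcc, one_mul]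
  have hDp : IsPGroup 2 D := by
    rintro ⟨x, hx⟩
    refine ⟨2, ?_⟩
    apply Subtype.ext
    simp only [Subgroup.coe_pow, Subgroup.coe_one]
    have h4 : x ^ (2 ^ 2) = (x * x) * (x * x) := by
      rw [show (2 : ℕ) ^ 2 = 2 * 2 from rfl, pow_mul, pow_two, pow_two]
    rw [h4]
    rcases hDsq x hx with h | h
    · rw [h, mul_one]
    · rw [h, hzz]
  obtain ⟨c', hc'def⟩ : ∃ c' : G, c' = m * c * m⁻¹ := ⟨_, rfl⟩
  have hc'sq : c' * c' = m * z * m⁻¹ := by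
    rw [hc'def, ← hcc]; group
  have hmV' : ∀ v ∈ V, m⁻¹ * v * m ∈ V := by
    intro v hv
    let f : V → V := fun w => ⟨m * w * m⁻¹, hmV w w.2⟩
    have hinj : Function.Injective f := by
      intro a b hab
      have h1 : m * (a : G) * m⁻¹ = m * (b : G) * m⁻¹ := congrArg Subtype.val hab
      exact Subtype.ext (mul_left_cancel (mul_right_cancel h1))
    obtain ⟨w, hw⟩ := (Finite.injective_iff_surjective.mp hinj) ⟨v, hv⟩
    have h1 : m * (w : G) * m⁻¹ = v := congrArg Subtype.val hw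
    have h2 : m⁻¹ * v * m = w := by rw [← h1]; group
    rw [h2]; exact w.2
  have hc'C : c' ∈ C := by
    refine (hCmem c').mpr ⟨(hA1 c').mpr (Or.inr ?_), ?_⟩
    · have e : c' * c⁻¹ = m * (c * m⁻¹ * c⁻¹) := by rw [hc'def]; group
      rw [e]; exact A.mul_mem hm (hcN _ (A.inv_mem hm))
    · rw [Subgroup.mem_centralizer_iff]
      intro v hv
      have hw := hmV' v hv
      have h1 := hcV _ hw
      calc v * c' = m * ((m⁻¹ * v * m) * c) * m⁻¹ := by rw [hc'def]; group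
        _ = m * (c * (m⁻¹ * v * m)) * m⁻¹ := by rw [h1]
        _ = c' * v := by rw [hc'def]; group
  have hDC' : IsPGroup 2 (D.subgroupOf C) := hDp.comap_subtype
  obtain ⟨P, hP⟩ := hDC'.exists_le_sylow
  obtain ⟨R, hRdef⟩ : ∃ R : Subgroup G, R = (P : Subgroup C).map C.subtype := ⟨_, rfl⟩
  have hRC : R ≤ C := by
    rw [hRdef]
    rintro x ⟨y, -, rfl⟩
    exact y.2
  have hRp : IsPGroup 2 R := by
    rw [hRdef]; exact P.isPGroup'.map C.subtype
  have hDR : D ≤ R := by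
    intro x hx
    rw [hRdef]
    exact ⟨⟨x, hDC hx⟩, hP (Subgroup.mem_subgroupOf.mpr hx), rfl⟩
  have hVD : V ≤ D := fun x hx => (hD x).mpr (Or.inl hx)
  have hcD : c ∈ D := (hD c).mpr (Or.inr (by rw [mul_inv_cancel]; exact V.one_mem))
  have hRA : R ⊓ A = V := by
    apply hF0 (R ⊓ A) inf_le_right (hRp.to_le inf_le_left)
      (le_inf (hVD.trans hDR) (hVS.trans hSA))
    intro r hr v hv
    have h1 : r ∈ Subgroup.centralizer (V : Set G) :=
      ((hCmem r).mp (hRC (Subgroup.mem_inf.mp hr).1)).2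
    rw [Subgroup.mem_centralizer_iff] at h1
    exact (h1 v hv).symm
  have hRD : R ≤ D := by
    intro r hr
    rcases (hA1 r).mp ((hCmem r).mp (hRC hr)).1 with h | h
    · have h1 : r ∈ R ⊓ A := Subgroup.mem_inf.mpr ⟨hr, h⟩
      rw [hRA] at h1
      exact (hD r).mpr (Or.inl h1)
    · have h1 : r * c⁻¹ ∈ R ⊓ A :=
        Subgroup.mem_inf.mpr ⟨R.mul_mem hr (R.inv_mem (hDR hcD)), h⟩
      rw [hRA] at h1
      exact (hD r).mpr (Or.inr h1)
  have hc'4 : c' ^ (2 ^ 2) = 1 := by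
    rw [show (2 : ℕ) ^ 2 = 2 * 2 from rfl, pow_mul, pow_two, pow_two, hc'sq]
    calc m * z * m⁻¹ * (m * z * m⁻¹) = m * (z * z) * m⁻¹ := by group
      _ = 1 := by rw [hzz]; group
  have hT : IsPGroup 2 (Subgroup.zpowers c') := by
    rintro ⟨y, hy⟩
    obtain ⟨i, rfl⟩ := Subgroup.mem_zpowers_iff.mp hy
    refine ⟨2, ?_⟩
    apply Subtype.ext
    simp only [Subgroup.coe_pow, Subgroup.coe_one]
    rw [← zpow_natCast, ← zpow_mul, mul_comm, zpow_mul, zpow_natCast, hc'4, one_zpow]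
  have hTC : Subgroup.zpowers c' ≤ C := by
    rw [Subgroup.zpowers_le]; exact hc'C
  obtain ⟨k, hkC, hk⟩ := h50_exists_conj_le_sylow C P (Subgroup.zpowers c') hTC hT
  have hd : k * c' * k⁻¹ ∈ D := by
    apply hRD
    rw [hRdef]
    exact hk c' (Subgroup.mem_zpowers c')
  have hw : m * z * m⁻¹ ∈ V := hmV z hzV
  have hkw : k * (m * z * m⁻¹) * k⁻¹ = m * z * m⁻¹ := by
    have h1 : k ∈ Subgroup.centralizer (V : Set G) := ((hCmem k).mp hkC).2
    rw [Subgroup.mem_centralizer_iff] at h1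
    have h2 := h1 _ hw
    rw [← h2, mul_inv_cancel_right]
  have hsq : (k * c' * k⁻¹) * (k * c' * k⁻¹) = m * z * m⁻¹ := by
    calc (k * c' * k⁻¹) * (k * c' * k⁻¹) = k * (c' * c') * k⁻¹ := by group
      _ = k * (m * z * m⁻¹) * k⁻¹ := by rw [hc'sq]
      _ = m * z * m⁻¹ := hkw
  rcases hDsq _ hd with h | h
  · exfalso
    rw [hsq] at h
    apply hz1
    rw [mul_inv_eq_one] at h
    exact mul_left_cancel (h.trans (mul_one m).symm)
  · rw [hsq] at h; exact h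

end Cfsg.Agent.Lib.helper42.FG
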