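import Mathlib
import Cfsg.Agent.Lib.helper3.GfDefs

/-!
# S4395 piece FORMS (racing copy by helper50): invariant alternating forms on an irreducible module

`h50_forms` is the Skel statement `forms` verbatim under a prefixed name.

Proof without the field `E`: `s := T + T⁻¹` is self-adjoint for every invariant alternating form
`β`, and `β w (s^k w) = 0`.  Let `S` be the subgroup generated by the `s^k v₀` (`v₀ ≠ 0`).
* `S + T S` is `T`-invariant, so it is `V` and `|V| ≤ |S|²`.
* `β ↦ β v₀ ·` is injective into the annihilator of `S`, so `#InvAlt ≤ |V| / |S|`.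
* if some `β ≠ 0` exists it is nondegenerate, `S` is totally isotropic and `w ↦ β · w` is injective
  from `S` into the annihilator of `S`: `|S|² ≤ |V|`, hence `|V| = |S|²` and `a` is even.
-/

set_option autoImplicit false

namespace Cfsg.Agent.Lib.helper3.Gf

/-- the dual of a finite `ZMod p`-module has the same cardinality. -/
theorem h50_card_dual_eq (p : ℕ) [Fact p.Prime] {A : Type*} [AddCommGroup A] [Module (ZMod p) A]
    [Finite A] : Nat.card (A →ₗ[ZMod p] ZMod p) = Nat.card A := by
  have h1 : Nat.card (Module.Dual (ZMod p) A) =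
      Nat.card (ZMod p) ^ Module.finrank (ZMod p) (Module.Dual (ZMod p) A) :=
    Module.natCard_eq_pow_finrank
  have h2 : Nat.card A = Nat.card (ZMod p) ^ Module.finrank (ZMod p) A :=
    Module.natCard_eq_pow_finrank
  rw [Subspace.dual_finrank_eq] at h1
  exact h1.trans h2.symm

/-- the dual of a finite group of exponent `p` is not larger than the group. -/
theorem h50_card_dual_le (p : ℕ) [Fact p.Prime] {A : Type*} [AddCommGroup A] [Finite A]
    (hexp : ∀ x : A, p • x = 0) : Nat.card (A →+ ZMod p) ≤ Nat.card A := by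
  letI : Module (ZMod p) A := AddCommGroup.zmodModule hexp
  have e : (A →+ ZMod p) ≃ (A →ₗ[ZMod p] ZMod p) := (AddMonoidHom.toZModLinearMapEquiv p).toEquiv
  rw [Nat.card_congr e]
  exact (h50_card_dual_eq p).le

/-- an injective family of additive characters killing `W` has at most `|V| / |W|` members. -/
theorem h50_card_ann_le (p : ℕ) [Fact p.Prime] {V : Type*} [AddCommGroup V] [Finite V]
    (hexp : ∀ v : V, p • v = 0) (W : AddSubgroup V) {X : Type*} (F : X → (V →+ ZMod p))
    (hF : Function.Injective F) (hW : ∀ x, ∀ w ∈ W, F x w = 0) :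
    Nat.card X * Nat.card W ≤ Nat.card V := by
  have hinj : Function.Injective (fun x : X =>
      QuotientAddGroup.lift W (F x) (fun w hw => AddMonoidHom.mem_ker.mpr (hW x w hw))) := by
    intro x x' hxx
    apply hF
    ext v
    have h1 := DFunLike.congr_fun hxx (QuotientAddGroup.mk v)
    simpa using h1
  have hfin : Finite ((V ⧸ W) →+ ZMod p) :=
    Finite.of_injective (fun f : (V ⧸ W) →+ ZMod p => (⇑f : V ⧸ W → ZMod p)) DFunLike.coe_injective
  have h1 : Nat.card X ≤ Nat.card ((V ⧸ W) →+ ZMod p) := Nat.card_le_card_of_injective _ hinj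
  have hexpQ : ∀ x : V ⧸ W, p • x = 0 := by
    intro x
    obtain ⟨v, rfl⟩ := QuotientAddGroup.mk_surjective x
    rw [← QuotientAddGroup.mk_nsmul, hexp]
    rfl
  have h2 := h50_card_dual_le p hexpQ
  have h3 : Nat.card V = Nat.card (V ⧸ W) * Nat.card W :=
    AddSubgroup.card_eq_card_quotient_mul_card_addSubgroup W
  rw [h3]
  exact Nat.mul_le_mul_right _ (h1.trans h2)

/-- FORMS (racing copy) -/
theorem h50_forms (p q : ℕ) [Fact p.Prime] [Fact q.Prime] (_hpq : p ≠ q) {V : Type*} [AddCommGroup V] [Finite V]
    (T : V ≃+ V) (h : Irr p q T) (a : ℕ) (hcard : Nat.card V = p ^ a) :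
    (a % 2 = 1 → ∀ β : V → V → ZMod p, InvAlt p T β → β = 0) ∧
    (a % 2 = 0 → Nat.card {β : V → V → ZMod p // InvAlt p T β} ≤ p ^ (a / 2)) := by
  classical
  have hp : p.Prime := Fact.out
  obtain ⟨v₁, hv₁⟩ := h.ne
  obtain ⟨v₀, hv₀⟩ : ∃ v₀ : V, v₀ ≠ 0 := ⟨v₁, fun h0 => hv₁ (by rw [h0, map_zero])⟩
  obtain ⟨s, hs⟩ : ∃ s : V →+ V, ∀ v, s v = T v + T.symm v :=
    ⟨T.toAddMonoidHom + T.symm.toAddMonoidHom, fun v => rfl⟩
  obtain ⟨S, hSdef⟩ : ∃ S : AddSubgroup V,
      S = AddSubgroup.closure (Set.range fun k : ℕ => (⇑s)^[k] v₀) := ⟨_, rfl⟩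
  have hgenS : ∀ k : ℕ, (⇑s)^[k] v₀ ∈ S := by
    intro k
    rw [hSdef]
    exact AddSubgroup.subset_closure ⟨k, rfl⟩
  have hv₀S : v₀ ∈ S := hgenS 0
  have hsS : ∀ x ∈ S, s x ∈ S := by
    have h1 : S ≤ S.comap s := by
      rw [hSdef, AddSubgroup.closure_le]
      rintro _ ⟨k, rfl⟩
      rw [← hSdef]
      change s ((⇑s)^[k] v₀) ∈ S
      rw [← Function.iterate_succ_apply' (⇑s) k v₀]
      exact hgenS (k + 1)
    exact fun x hx => h1 hx
  -- `V = S + T S`
  have hVS : ∀ v : V, ∃ x ∈ S, ∃ y ∈ S, v = x + T y := by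
    have hW : (S ⊔ S.map T.toAddMonoidHom) = ⊤ := by
      have hinv : ∀ w ∈ S ⊔ S.map T.toAddMonoidHom, T w ∈ S ⊔ S.map T.toAddMonoidHom := by
        intro w hw
        rw [AddSubgroup.mem_sup] at hw ⊢
        obtain ⟨x, hx, y', hy', rfl⟩ := hw
        obtain ⟨y, hy, rfl⟩ := AddSubgroup.mem_map.mp hy'
        refine ⟨-y, S.neg_mem hy, T (x + s y),
          AddSubgroup.mem_map.mpr ⟨x + s y, S.add_mem hx (hsS y hy), rfl⟩, ?_⟩
        simp only [AddEquiv.coe_toAddMonoidHom, map_add, hs, AddEquiv.apply_symm_apply]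
        abel
      rcases h.irr _ hinv with h0 | h1
      · exfalso
        apply hv₀
        have h2 : v₀ ∈ S ⊔ S.map T.toAddMonoidHom := AddSubgroup.mem_sup_left hv₀S
        rw [h0] at h2
        exact AddSubgroup.mem_bot.mp h2
      · exact h1
    intro v
    have hv : v ∈ S ⊔ S.map T.toAddMonoidHom := by
      rw [hW]
      trivial
    rw [AddSubgroup.mem_sup] at hv
    obtain ⟨x, hx, y', hy', rfl⟩ := hv
    obtain ⟨y, hy, rfl⟩ := AddSubgroup.mem_map.mp hy'
    exact ⟨x, hx, y, hy, rfl⟩
  have hcard2 : Nat.card V ≤ Nat.card S * Nat.card S := by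
    have hsurj : Function.Surjective (fun xy : S × S => (xy.1 : V) + T (xy.2 : V)) := by
      intro v
      obtain ⟨x, hx, y, hy, rfl⟩ := hVS v
      exact ⟨(⟨x, hx⟩, ⟨y, hy⟩), rfl⟩
    have h1 := Nat.card_le_card_of_surjective _ hsurj
    rwa [Nat.card_prod] at h1
  -- `|S| = p ^ b` with `a ≤ 2 b`
  obtain ⟨b, hb, hSb⟩ : ∃ b, b ≤ a ∧ Nat.card S = p ^ b := by
    have h1 : Nat.card S ∣ p ^ a := by
      rw [← hcard]
      exact AddSubgroup.card_addSubgroup_dvd_card S
    exact (Nat.dvd_prime_pow hp).mp h1
  have hab : a ≤ 2 * b := by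
    rw [hcard, hSb, ← pow_add] at hcard2
    have h1 := (Nat.pow_le_pow_iff_right hp.one_lt).mp hcard2
    omega
  -- facts about an invariant alternating form
  have hexp := h.exp
  have key : ∀ β : V → V → ZMod p, InvAlt p T β →
      (∀ u v, β u v = - β v u) ∧ (∀ x ∈ S, ∀ y ∈ S, β x y = 0) ∧
      (∀ u, (∀ y ∈ S, β u y = 0) → ∀ j : ℕ, ∀ y ∈ S, β ((⇑s)^[j] u) y = 0) := by
    rintro β ⟨hl, hr, halt, hT⟩
    have hskew : ∀ u v, β u v = - β v u := by
      intro u v
      have h1 := halt (u + v)
      rw [hl, hr, hr, halt, halt] at h1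
      linear_combination h1
    have hT1 : ∀ u v, β (T u) v = β u (T.symm v) := by
      intro u v
      have h1 := hT u (T.symm v)
      rw [AddEquiv.apply_symm_apply] at h1
      exact h1
    have hT2 : ∀ u v, β (T.symm u) v = β u (T v) := by
      intro u v
      have h1 := hT (T.symm u) v
      rw [AddEquiv.apply_symm_apply] at h1
      exact h1.symm
    have hsa : ∀ u v, β (s u) v = β u (s v) := by
      intro u v
      rw [hs, hs, hl, hr, hT1, hT2]
      ring
    have hsaj : ∀ (j : ℕ) (u v : V), β ((⇑s)^[j] u) v = β u ((⇑s)^[j] v) := by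
      intro j
      induction j with
      | zero => intro u v; rfl
      | succ j ih =>
        intro u v
        rw [Function.iterate_succ_apply' (⇑s) j u, hsa, ih,
          ← Function.iterate_succ_apply (⇑s) j v]
    have hws : ∀ w, β w (s w) = 0 := by
      intro w
      rw [hs, hr]
      have h1 : β w (T.symm w) = β (T w) w := by
        have h2 := hT w (T.symm w)
        rw [AddEquiv.apply_symm_apply] at h2
        exact h2.symm
      rw [h1, hskew (T w) w]
      ring
    have hiso : ∀ (n : ℕ) (w : V), β w ((⇑s)^[n] w) = 0 := by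
      intro n w
      rcases Nat.even_or_odd' n with ⟨l, rfl | rfl⟩
      · rw [two_mul, Function.iterate_add_apply, ← hsaj]
        exact halt _
      · have h1 : 2 * l + 1 = l + (l + 1) := by ring
        rw [h1, Function.iterate_add_apply, ← hsaj, Function.iterate_succ_apply']
        exact hws _
    have hgen : ∀ j k : ℕ, β ((⇑s)^[j] v₀) ((⇑s)^[k] v₀) = 0 := by
      intro j k
      rw [hsaj, ← Function.iterate_add_apply]
      exact hiso _ _
    -- closure arguments
    have hright : ∀ u, (∀ k : ℕ, β u ((⇑s)^[k] v₀) = 0) → ∀ y ∈ S, β u y = 0 := by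
      intro u hu y hy
      have h1 : S ≤ (AddMonoidHom.mk' (β u) (hr u)).ker := by
        rw [hSdef, AddSubgroup.closure_le]
        rintro _ ⟨k, rfl⟩
        exact AddMonoidHom.mem_ker.mpr (hu k)
      exact AddMonoidHom.mem_ker.mp (h1 hy)
    have hleft : ∀ v, (∀ k : ℕ, β ((⇑s)^[k] v₀) v = 0) → ∀ x ∈ S, β x v = 0 := by
      intro v hv x hx
      have h1 : S ≤ (AddMonoidHom.mk' (fun u => β u v) (fun u u' => hl u u' v)).ker := by
        rw [hSdef, AddSubgroup.closure_le]
        rintro _ ⟨k, rfl⟩
        exact AddMonoidHom.mem_ker.mpr (hv k)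
      exact AddMonoidHom.mem_ker.mp (h1 hx)
    refine ⟨hskew, ?_, ?_⟩
    · intro x hx y hy
      exact hleft y (fun k => hright _ (fun k' => hgen k k') y hy) x hx
    · intro u hu j y hy
      rw [hsaj]
      have h1 : ∀ (j : ℕ), ∀ y ∈ S, (⇑s)^[j] y ∈ S := by
        intro j
        induction j with
        | zero => intro y hy; exact hy
        | succ j ih =>
          intro y hy
          rw [Function.iterate_succ_apply']
          exact hsS _ (ih y hy)
      exact hu _ (h1 j y hy)
  constructor
  · -- `a` odd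
    intro hodd β hβ
    by_contra hne
    obtain ⟨hskew, hisoS, -⟩ := key β hβ
    obtain ⟨hl, hr, halt, hT⟩ := hβ
    -- the radical is trivial
    have hrad : ∀ u, (∀ v, β u v = 0) → u = 0 := by
      have hr0 : ∀ u, β u 0 = 0 := by
        intro u
        have h1 := hr u 0 0
        rw [add_zero] at h1
        linear_combination -h1
      have hl0 : ∀ v, β 0 v = 0 := by
        intro v
        rw [hskew, hr0, neg_zero]
      have hlneg : ∀ u v, β (-u) v = - β u v := by
        intro u v
        have h1 := hl u (-u) v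
        rw [add_neg_cancel, hl0] at h1
        linear_combination -h1
      obtain ⟨R, hR⟩ : ∃ R : AddSubgroup V, ∀ u, u ∈ R ↔ ∀ v, β u v = 0 :=
        ⟨{ carrier := {u | ∀ v, β u v = 0}
           add_mem' := fun {x y} hx hy v => by rw [hl, hx v, hy v, add_zero]
           zero_mem' := fun v => hl0 v
           neg_mem' := fun {x} hx v => by rw [hlneg, hx v, neg_zero] }, fun u => Iff.rfl⟩
      have hRinv : ∀ w ∈ R, T w ∈ R := by
        intro w hw
        rw [hR] at hw ⊢
        intro v
        have h1 := hT w (T.symm v)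
        rw [AddEquiv.apply_symm_apply] at h1
        rw [h1]
        exact hw _
      rcases h.irr R hRinv with h0 | h1
      · intro u hu
        have h2 : u ∈ R := (hR u).mpr hu
        rw [h0] at h2
        exact AddSubgroup.mem_bot.mp h2
      · exfalso
        apply hne
        funext u v
        have h2 : u ∈ R := by
          rw [h1]
          trivial
        exact (hR u).mp h2 v
    -- `S → Ann S`
    have hle : Nat.card S * Nat.card S ≤ Nat.card V := by
      refine h50_card_ann_le p hexp S
        (fun w : S => AddMonoidHom.mk' (fun u => β u (w : V)) (fun u u' => hl u u' (w : V))) ?_ ?_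
      · intro w w' hww
        apply Subtype.ext
        have h1 : ∀ u, β u (w : V) = β u (w' : V) := fun u => DFunLike.congr_fun hww u
        have h2 : (w : V) - (w' : V) = 0 := by
          apply hrad
          intro v
          rw [hskew, sub_eq_add_neg, hr, h1 v]
          have h3 : β v (-(w' : V)) = - β v (w' : V) := by
            have h4 := hr v (w' : V) (-(w' : V))
            rw [add_neg_cancel] at h4
            have h5 : β v 0 = 0 := by
              have h6 := hr v 0 0
              rw [add_zero] at h6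
              linear_combination -h6
            rw [h5] at h4
            linear_combination -h4
          rw [h3]
          ring
        exact sub_eq_zero.mp h2
      · intro w x hx
        exact hisoS x hx (w : V) w.2
    rw [hcard, hSb, ← pow_add] at hle
    have h1 := (Nat.pow_le_pow_iff_right hp.one_lt).mp hle
    omega
  · -- `a` even
    intro heven
    have hle : Nat.card {β : V → V → ZMod p // InvAlt p T β} * Nat.card S ≤ Nat.card V := by
      refine h50_card_ann_le p hexp S
        (fun β : {β : V → V → ZMod p // InvAlt p T β} =>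
          AddMonoidHom.mk' (β.1 v₀) (β.2.2.1 v₀)) ?_ ?_
      · rintro ⟨β, hβ⟩ ⟨β', hβ'⟩ hbb
        apply Subtype.ext
        have h1 : ∀ v, β v₀ v = β' v₀ v := fun v => DFunLike.congr_fun hbb v
        obtain ⟨hl, hr, halt, hT⟩ := hβ
        obtain ⟨hl', hr', halt', hT'⟩ := hβ'
        have hl0 : ∀ (γ : V → V → ZMod p), (∀ u u' v, γ (u + u') v = γ u v + γ u' v) →
            ∀ v, γ 0 v = 0 := by
          intro γ hγ v
          have h2 := hγ 0 0 v
          rw [add_zero] at h2
          linear_combination -h2
        have hlneg : ∀ (γ : V → V → ZMod p), (∀ u u' v, γ (u + u') v = γ u v + γ u' v) →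
            ∀ u v, γ (-u) v = - γ u v := by
          intro γ hγ u v
          have h2 := hγ u (-u) v
          rw [add_neg_cancel, hl0 γ hγ] at h2
          linear_combination -h2
        obtain ⟨R, hR⟩ : ∃ R : AddSubgroup V, ∀ u, u ∈ R ↔ ∀ v, β u v = β' u v :=
          ⟨{ carrier := {u | ∀ v, β u v = β' u v}
             add_mem' := fun {x y} hx hy v => by rw [hl, hl', hx v, hy v]
             zero_mem' := fun v => by rw [hl0 β hl, hl0 β' hl']
             neg_mem' := fun {x} hx v => by rw [hlneg β hl, hlneg β' hl', hx v] },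
            fun u => Iff.rfl⟩
        have hRinv : ∀ w ∈ R, T w ∈ R := by
          intro w hw
          rw [hR] at hw ⊢
          intro v
          have h2 := hT w (T.symm v)
          have h3 := hT' w (T.symm v)
          rw [AddEquiv.apply_symm_apply] at h2 h3
          rw [h2, h3]
          exact hw _
        rcases h.irr R hRinv with h0 | h2
        · exfalso
          apply hv₀
          have h3 : v₀ ∈ R := (hR v₀).mpr h1
          rw [h0] at h3
          exact AddSubgroup.mem_bot.mp h3
        · funext u v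
          have h3 : u ∈ R := by
            rw [h2]
            trivial
          exact (hR u).mp h3 v
      · rintro ⟨β, hβ⟩ x hx
        obtain ⟨-, hisoS, -⟩ := key β hβ
        exact hisoS v₀ hv₀S x hx
    rw [hcard, hSb] at hle
    have h1 : p ^ a = p ^ (a - b) * p ^ b := by
      rw [← pow_add]
      congr 1
      omega
    rw [h1] at hle
    have h2 := Nat.le_of_mul_le_mul_right hle (pow_pos hp.pos b)
    refine le_trans h2 (Nat.pow_le_pow_right hp.pos ?_)
    omega

end Cfsg.Agent.Lib.helper3.Gf
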