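import Mathlib
import Cfsg.Agent.Lib.helper3.GfDefs

/-!
# S4395, EXB sub-splits: pieces XF1 (`exb_field`) and HFB (`hfb`), racing copies by helper50

* `h50_hfb` : in a field with `p ^ a` elements, `a = orderOf (p : ZMod q)`, an additive subgroup
  stable under multiplication by an element `lam` of order `q` is `⊥` or `⊤`
  (verbatim statement of `hfb` of `tools/S4395_HSkel.lean.txt`).
* `h50_exb_field` : existence of such a field and such an element
  (verbatim statement of `exb_field` of `tools/S4395B_Skel.lean.txt`).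

Proof of the first: the stabiliser `R` of the subgroup is closed under addition and multiplication;
the units of `L` lying in `R` form a subgroup of order `|R| - 1 = p ^ d - 1` containing `lam`, so
`q ∣ p ^ d - 1`, `a ∣ d`, `d = a`, `R = L`.
-/

set_option autoImplicit false

namespace Cfsg.Agent.Lib.helper3.Gf

universe u

/-- HFB (racing copy) -/
theorem h50_hfb (p q : ℕ) [Fact p.Prime] [Fact q.Prime] (_hpq : p ≠ q) (L : Type u) [Field L] [Finite L] [CharP L p]
    (hcard : Nat.card L = p ^ orderOf (p : ZMod q)) (lam : L) (hq : lam ^ q = 1) (hne : lam ≠ 1) :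
    ∀ W : AddSubgroup L, (∀ w ∈ W, lam * w ∈ W) → W = ⊥ ∨ W = ⊤ := by
  classical
  intro W hW
  have hp : p.Prime := Fact.out
  have hqp : q.Prime := Fact.out
  -- the stabiliser
  obtain ⟨R, hR⟩ : ∃ R : AddSubgroup L, ∀ c, c ∈ R ↔ ∀ w ∈ W, c * w ∈ W :=
    ⟨{ carrier := {c | ∀ w ∈ W, c * w ∈ W}
       add_mem' := fun {a b} ha hb w hw => by
        rw [add_mul]
        exact W.add_mem (ha w hw) (hb w hw)
       zero_mem' := fun w _ => by
        rw [zero_mul]
        exact W.zero_mem
       neg_mem' := fun {a} ha w hw => by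
        rw [neg_mul]
        exact W.neg_mem (ha w hw) }, fun c => Iff.rfl⟩
  have h1R : (1 : L) ∈ R := (hR 1).mpr (fun w hw => by rwa [one_mul])
  have hlamR : lam ∈ R := (hR lam).mpr hW
  have hmulR : ∀ c ∈ R, ∀ d ∈ R, c * d ∈ R := by
    intro c hc d hd
    rw [hR] at hc hd ⊢
    intro w hw
    rw [mul_assoc]
    exact hc _ (hd w hw)
  have hpowR : ∀ c ∈ R, ∀ k : ℕ, c ^ k ∈ R := by
    intro c hc k
    induction k with
    | zero =>
      rw [pow_zero]
      exact h1R
    | succ k ih =>
      rw [pow_succ]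
      exact hmulR _ ih _ hc
  obtain ⟨d, hd, hRd⟩ : ∃ d, d ≤ orderOf (p : ZMod q) ∧ Nat.card R = p ^ d := by
    have h1 : Nat.card R ∣ p ^ orderOf (p : ZMod q) := by
      rw [← hcard]
      exact AddSubgroup.card_addSubgroup_dvd_card R
    exact (Nat.dvd_prime_pow hp).mp h1
  -- the units of `L` lying in `R`
  obtain ⟨GR, hGR⟩ : ∃ GR : Subgroup Lˣ, ∀ u : Lˣ, u ∈ GR ↔ (u : L) ∈ R :=
    ⟨{ carrier := {u | (u : L) ∈ R}
       one_mem' := by
        change ((1 : Lˣ) : L) ∈ R
        rw [Units.val_one]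
        exact h1R
       mul_mem' := fun {a b} ha hb => by
        change ((a * b : Lˣ) : L) ∈ R
        rw [Units.val_mul]
        exact hmulR _ ha _ hb
       inv_mem' := fun {a} ha => by
        change ((a⁻¹ : Lˣ) : L) ∈ R
        have h2 : a ^ (Nat.card Lˣ - 1) = a⁻¹ := by
          have h3 : a * a ^ (Nat.card Lˣ - 1) = 1 := by
            rw [← pow_succ', Nat.sub_add_cancel Nat.card_pos, pow_card_eq_one']
          exact eq_inv_of_mul_eq_one_right h3
        rw [← h2, Units.val_pow_eq_pow_val]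
        exact hpowR _ ha _ }, fun u => Iff.rfl⟩
  have hcardGR : Nat.card GR = p ^ d - 1 := by
    have e : GR ≃ {r : R // r ≠ 0} :=
      { toFun := fun u => ⟨⟨((u : Lˣ) : L), (hGR u.1).mp u.2⟩, fun h0 =>
          Units.ne_zero (u : Lˣ) (congrArg Subtype.val h0)⟩
        invFun := fun r => ⟨Units.mk0 (r.1 : L) (fun h0 => r.2 (Subtype.ext h0)),
          (hGR _).mpr (by rw [Units.val_mk0]; exact r.1.2)⟩
        left_inv := fun u => by
          apply Subtype.ext
          apply Units.ext
          rfl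
        right_inv := fun r => by
          apply Subtype.ext
          apply Subtype.ext
          rfl }
    rw [Nat.card_congr e, ← hRd]
    have h4 : Nat.card {r : R // r ≠ 0} + 1 = Nat.card R := by
      have h5 := Nat.card_congr (Equiv.sumCompl (fun r : R => r ≠ 0))
      rw [Nat.card_sum] at h5
      have h6 : Nat.card {r : R // ¬ r ≠ 0} = 1 := by
        have e2 : {r : R // ¬ r ≠ 0} ≃ Unit :=
          { toFun := fun _ => ()
            invFun := fun _ => ⟨0, fun h => h rfl⟩
            left_inv := fun r => by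
              apply Subtype.ext
              have h7 := r.2
              push Not at h7
              exact h7.symm
            right_inv := fun _ => rfl }
        rw [Nat.card_congr e2]
        simp
      rw [h6] at h5
      exact h5
    omega
  -- `lam` as a unit
  have hlam0 : lam ≠ 0 := by
    intro h0
    rw [h0, zero_pow hqp.ne_zero] at hq
    exact zero_ne_one hq
  have hlamu : Units.mk0 lam hlam0 ∈ GR := (hGR _).mpr (by rw [Units.val_mk0]; exact hlamR)
  have hord : orderOf (Units.mk0 lam hlam0) = q := by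
    apply orderOf_eq_prime
    · apply Units.ext
      rw [Units.val_pow_eq_pow_val, Units.val_mk0, hq, Units.val_one]
    · intro h1
      apply hne
      have h2 := congrArg Units.val h1
      rw [Units.val_mk0, Units.val_one] at h2
      exact h2
  have hdvd : q ∣ p ^ d - 1 := by
    rw [← hcardGR, ← hord]
    exact Subgroup.orderOf_dvd_natCard GR hlamu
  have hpd : (p : ZMod q) ^ d = 1 := by
    have h1 : ((p ^ d - 1 : ℕ) : ZMod q) = 0 := (ZMod.natCast_eq_zero_iff _ _).mpr hdvd
    rw [Nat.cast_sub (Nat.one_le_pow _ _ hp.pos), Nat.cast_pow, Nat.cast_one, sub_eq_zero] at h1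
    exact h1
  have had : orderOf (p : ZMod q) ∣ d := orderOf_dvd_of_pow_eq_one hpd
  have hd0 : d ≠ 0 := by
    intro h0
    have h1 : 0 < Nat.card GR := Nat.card_pos
    rw [hcardGR, h0, pow_zero] at h1
    omega
  have hda : d = orderOf (p : ZMod q) :=
    le_antisymm hd (Nat.le_of_dvd (Nat.pos_of_ne_zero hd0) had)
  have hRtop : R = ⊤ := by
    apply AddSubgroup.eq_top_of_card_eq
    rw [hRd, hda, hcard]
  have hall : ∀ c : L, ∀ w ∈ W, c * w ∈ W := by
    intro c
    have h1 : c ∈ R := by
      rw [hRtop]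
      trivial
    exact (hR c).mp h1
  by_cases hW0 : W = ⊥
  · exact Or.inl hW0
  · right
    obtain ⟨w, hw, hw0⟩ : ∃ w ∈ W, w ≠ 0 := by
      by_contra hcon
      push Not at hcon
      apply hW0
      rw [eq_bot_iff]
      intro w hw
      exact AddSubgroup.mem_bot.mpr (hcon w hw)
    rw [eq_top_iff]
    intro y _
    have h1 := hall (y * w⁻¹) w hw
    rw [inv_mul_cancel_right₀ hw0] at h1
    exact h1

/-- XF1 (racing copy) -/
theorem h50_exb_field (p q : ℕ) [Fact p.Prime] [Fact q.Prime] (hpq : p ≠ q) :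
    ∃ (L : Type u) (_ : Field L) (_ : Finite L) (_ : CharP L p) (lam : L),
      Nat.card L = p ^ orderOf (p : ZMod q) ∧ lam ^ q = 1 ∧ lam ≠ 1 ∧
      (∀ X : AddSubgroup L, (∀ x ∈ X, lam * x ∈ X) → X = ⊥ ∨ X = ⊤) := by
  have hp : p.Prime := Fact.out
  have hqp : q.Prime := Fact.out
  have hpq0 : (p : ZMod q) ≠ 0 := by
    intro h0
    rw [ZMod.natCast_eq_zero_iff] at h0
    exact hpq ((Nat.prime_dvd_prime_iff_eq hqp hp).mp h0).symm
  have hpow : (p : ZMod q) ^ (q - 1) = 1 := ZMod.pow_card_sub_one_eq_one hpq0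
  have ha : 0 < orderOf (p : ZMod q) :=
    orderOf_pos_iff.mpr (isOfFinOrder_iff_pow_eq_one.mpr ⟨q - 1, Nat.sub_pos_of_lt hqp.one_lt, hpow⟩)
  have hcard : Nat.card (ULift.{u} (GaloisField p (orderOf (p : ZMod q)))) =
      p ^ orderOf (p : ZMod q) := by
    rw [Nat.card_ulift]
    exact GaloisField.card p _ ha.ne'
  have hdvd : q ∣ Nat.card (ULift.{u} (GaloisField p (orderOf (p : ZMod q))))ˣ := by
    rw [Nat.card_units, hcard]
    have h1 : ((p ^ orderOf (p : ZMod q) - 1 : ℕ) : ZMod q) = 0 := by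
      rw [Nat.cast_sub (Nat.one_le_pow _ _ hp.pos), Nat.cast_pow, Nat.cast_one, pow_orderOf_eq_one,
        sub_self]
    exact (ZMod.natCast_eq_zero_iff _ _).mp h1
  obtain ⟨x, hx⟩ := exists_prime_orderOf_dvd_card' q hdvd
  have hxq : (x : ULift.{u} (GaloisField p (orderOf (p : ZMod q)))) ^ q = 1 := by
    have h1 : x ^ q = 1 := by
      have h2 := pow_orderOf_eq_one x
      rw [hx] at h2
      exact h2
    rw [← Units.val_pow_eq_pow_val, h1, Units.val_one]
  have hx1 : (x : ULift.{u} (GaloisField p (orderOf (p : ZMod q)))) ≠ 1 := by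
    intro h1
    have h2 : x = 1 := Units.ext h1
    rw [h2, orderOf_one] at hx
    exact hqp.one_lt.ne' hx.symm
  exact ⟨ULift.{u} (GaloisField p (orderOf (p : ZMod q))), inferInstance, inferInstance,
    inferInstance, (x : ULift.{u} (GaloisField p (orderOf (p : ZMod q)))), hcard, hxq, hx1,
    h50_hfb p q hpq _ hcard _ hxq hx1⟩

end Cfsg.Agent.Lib.helper3.Gf
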