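import Mathlib
import Cfsg.Prelude.Def_LieTypeDatum
import Cfsg.Agent.Lib.helper50.QSim

/-!
# The sum-of-squares form and the standard plus/minus forms

`sumSq ι F` is `Σ vᵢ²`.  If `Lᵀ L = -1` for a matrix `L` of size `m`, then the sum of squares in dimension
`2m` is isometric to the hyperbolic form `quadFormPlus m F`; adding two more squares gives
`quadFormMinus m F 0 1`.
-/

set_option autoImplicit false

namespace Cfsg.Agent.Lib.helper50

open Matrix Cfsg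

/-- the sum-of-squares form -/
def sumSq (ι : Type) [Fintype ι] (F : Type*) [Field F] (v : ι → F) : F := ∑ i, v i ^ 2

section
variable {F : Type*} [Field F] {ι₀ ι₁ : Type} [Fintype ι₀] [DecidableEq ι₀] [Fintype ι₁] [DecidableEq ι₁]

/-- isometry of two forms, given by mutually inverse matrices -/
def QIso (Q₀ : (ι₀ → F) → F) (Q₁ : (ι₁ → F) → F) : Prop :=
  ∃ (P : Matrix ι₁ ι₀ F) (P' : Matrix ι₀ ι₁ F), P * P' = 1 ∧ P' * P = 1 ∧ ∀ v, Q₁ (P *ᵥ v) = Q₀ v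

theorem QIso.pgo {Q₀ : (ι₀ → F) → F} {Q₁ : (ι₁ → F) → F} (h : QIso Q₀ Q₁) :
    Nonempty (PGO F Q₀ ≃* PGO F Q₁) := by
  obtain ⟨P, P', h1, h2, hQ⟩ := h
  exact pgo_congr Q₀ Q₁ P P' h1 h2 1 one_ne_zero (fun v => by rw [hQ, one_mul])

theorem pgo_sumSq_reindex (e : ι₀ ≃ ι₁) : Nonempty (PGO F (sumSq ι₀ F) ≃* PGO F (sumSq ι₁ F)) := by
  refine pgo_congr_of_linearEquiv _ _ (LinearEquiv.funCongrLeft F F e.symm) 1 one_ne_zero (fun v => ?_)
  rw [one_mul]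
  unfold sumSq
  exact Equiv.sum_comp e.symm (fun j => v j ^ 2)

/-- adding a common orthogonal summand -/
theorem QIso.sum_right {Q₀ : (ι₀ → F) → F} {Q₁ : (ι₁ → F) → F} (h : QIso Q₀ Q₁)
    {κ : Type} [Fintype κ] [DecidableEq κ] (R : (κ → F) → F)
    (Q₀' : (ι₀ ⊕ κ → F) → F) (Q₁' : (ι₁ ⊕ κ → F) → F)
    (h0 : ∀ v, Q₀' v = Q₀ (v ∘ Sum.inl) + R (v ∘ Sum.inr))
    (h1 : ∀ v, Q₁' v = Q₁ (v ∘ Sum.inl) + R (v ∘ Sum.inr)) : QIso Q₀' Q₁' := by
  obtain ⟨P, P', hP1, hP2, hQ⟩ := h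
  refine ⟨Matrix.fromBlocks P (0 : Matrix ι₁ κ F) (0 : Matrix κ ι₀ F) (1 : Matrix κ κ F),
    Matrix.fromBlocks P' (0 : Matrix ι₀ κ F) (0 : Matrix κ ι₁ F) (1 : Matrix κ κ F), ?_, ?_, fun v => ?_⟩
  · rw [Matrix.fromBlocks_multiply]
    simp [hP1, Matrix.fromBlocks_one]
  · rw [Matrix.fromBlocks_multiply]
    simp [hP2, Matrix.fromBlocks_one]
  · rw [h1, h0, Matrix.fromBlocks_mulVec]
    simp only [Sum.elim_comp_inl, Sum.elim_comp_inr, Matrix.zero_mulVec, add_zero, zero_add,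
      Matrix.one_mulVec]
    rw [hQ]

end

section
variable {F : Type*} [Field F] {m : ℕ}

theorem qiso_sumSq_plus (h2 : (2 : F) ≠ 0) (L : Matrix (Fin m) (Fin m) F) (hL : Lᵀ * L = -1) :
    QIso (sumSq (Fin m ⊕ Fin m) F) (quadFormPlus m F) := by
  have hL' : L * Lᵀ = -1 := by
    have h3 : (-Lᵀ) * L = 1 := by rw [Matrix.neg_mul, hL, neg_neg]
    have h4 : L * (-Lᵀ) = 1 := mul_eq_one_comm.mp h3
    rw [Matrix.mul_neg] at h4
    rw [← h4, neg_neg]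
  have hhalf : (2 : F)⁻¹ + (2 : F)⁻¹ = 1 := by
    field_simp
    norm_num
  obtain ⟨h, hh⟩ : ∃ h : F, h = (2 : F)⁻¹ := ⟨_, rfl⟩
  rw [← hh] at hhalf
  have e1 : (1 : Matrix (Fin m) (Fin m) F) * (h • 1) + (-L) * (h • Lᵀ) = 1 := by
    rw [Matrix.one_mul, Matrix.mul_smul, Matrix.neg_mul, hL', neg_neg, ← add_smul, hhalf, one_smul]
  have e2 : (1 : Matrix (Fin m) (Fin m) F) * (h • 1) + (-L) * (-(h • Lᵀ)) = 0 := by
    rw [Matrix.one_mul, Matrix.neg_mul, Matrix.mul_neg, neg_neg, Matrix.mul_smul, hL', smul_neg, add_neg_cancel]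
  have e3 : (1 : Matrix (Fin m) (Fin m) F) * (h • 1) + L * (h • Lᵀ) = 0 := by
    rw [Matrix.one_mul, Matrix.mul_smul, hL', smul_neg, add_neg_cancel]
  have e4 : (1 : Matrix (Fin m) (Fin m) F) * (h • 1) + L * (-(h • Lᵀ)) = 1 := by
    rw [Matrix.one_mul, Matrix.mul_neg, Matrix.mul_smul, hL', smul_neg, neg_neg, ← add_smul, hhalf,
      one_smul]
  have f1 : (h • (1 : Matrix (Fin m) (Fin m) F)) * 1 + (h • 1) * 1 = 1 := by
    rw [Matrix.mul_one, ← add_smul, hhalf, one_smul]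
  have f2 : (h • (1 : Matrix (Fin m) (Fin m) F)) * (-L) + (h • 1) * L = 0 := by
    rw [Matrix.mul_neg, neg_add_cancel]
  have f3 : (h • Lᵀ) * (1 : Matrix (Fin m) (Fin m) F) + (-(h • Lᵀ)) * 1 = 0 := by
    rw [Matrix.mul_one, Matrix.mul_one, add_neg_cancel]
  have f4 : (h • Lᵀ) * (-L) + (-(h • Lᵀ)) * L = 1 := by
    rw [Matrix.mul_neg, Matrix.neg_mul, Matrix.smul_mul, hL, smul_neg, neg_neg, ← add_smul, hhalf,
      one_smul]
  refine ⟨Matrix.fromBlocks 1 (-L) 1 L,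
    Matrix.fromBlocks (h • (1 : Matrix (Fin m) (Fin m) F)) (h • (1 : Matrix (Fin m) (Fin m) F))
      (h • Lᵀ) (-(h • Lᵀ)), ?_, ?_, fun v => ?_⟩
  · rw [Matrix.fromBlocks_multiply, e1, e2, e3, e4, Matrix.fromBlocks_one]
  · rw [Matrix.fromBlocks_multiply, f1, f2, f3, f4, Matrix.fromBlocks_one]
  · obtain ⟨x, hx⟩ : ∃ x : Fin m → F, x = v ∘ Sum.inl := ⟨_, rfl⟩
    obtain ⟨y, hy⟩ : ∃ y : Fin m → F, y = v ∘ Sum.inr := ⟨_, rfl⟩
    have h5 : Matrix.fromBlocks 1 (-L) 1 L *ᵥ v = Sum.elim (x - L *ᵥ y) (x + L *ᵥ y) := by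
      rw [Matrix.fromBlocks_mulVec, ← hx, ← hy, Matrix.one_mulVec, Matrix.neg_mulVec, sub_eq_add_neg]
    have h6 : (L *ᵥ y) ⬝ᵥ (L *ᵥ y) = -(y ⬝ᵥ y) := by
      rw [Matrix.dotProduct_mulVec, ← Matrix.mulVec_transpose, Matrix.mulVec_mulVec, hL,
        Matrix.neg_mulVec, Matrix.one_mulVec, neg_dotProduct]
    unfold quadFormPlus sumSq
    rw [h5, Fintype.sum_sum_type]
    simp only [Sum.elim_inl, Sum.elim_inr, Pi.sub_apply, Pi.add_apply]
    have h7 : ∀ i, v (Sum.inl i) = x i := fun i => by rw [hx]; rfl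
    have h8 : ∀ i, v (Sum.inr i) = y i := fun i => by rw [hy]; rfl
    simp only [h7, h8]
    have h9 : ∑ i, (x i - (L *ᵥ y) i) * (x i + (L *ᵥ y) i)
        = ∑ i, x i ^ 2 - (L *ᵥ y) ⬝ᵥ (L *ᵥ y) := by
      unfold dotProduct
      rw [← Finset.sum_sub_distrib]
      refine Finset.sum_congr rfl fun i _ => by ring
    rw [h9, h6]
    unfold dotProduct
    rw [sub_neg_eq_add]
    congr 1
    refine Finset.sum_congr rfl fun i _ => by ring

theorem qiso_sumSq_minus (h2 : (2 : F) ≠ 0) (L : Matrix (Fin m) (Fin m) F) (hL : Lᵀ * L = -1) :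
    QIso (sumSq ((Fin m ⊕ Fin m) ⊕ Fin 2) F) (quadFormMinus m F 0 1) := by
  refine (qiso_sumSq_plus h2 L hL).sum_right (sumSq (Fin 2) F) _ _ (fun v => ?_) (fun v => ?_)
  · unfold sumSq
    rw [Fintype.sum_sum_type]
    rfl
  · unfold quadFormMinus quadFormPlus sumSq
    rw [Fin.sum_univ_two]
    simp

theorem exists_L_of_sq (i : F) (hi : i * i = -1) (m : ℕ) :
    ∃ L : Matrix (Fin m) (Fin m) F, Lᵀ * L = -1 := by
  refine ⟨i • 1, ?_⟩
  rw [Matrix.transpose_smul, Matrix.transpose_one, Matrix.smul_mul, Matrix.one_mul, smul_smul, hi,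
    neg_smul, one_smul]

theorem exists_L_of_even (a b : F) (hab : a ^ 2 + b ^ 2 = -1) (hm : Even m) :
    ∃ L : Matrix (Fin m) (Fin m) F, Lᵀ * L = -1 := by
  obtain ⟨k, rfl⟩ := hm
  obtain ⟨L₀, hL₀⟩ : ∃ L₀ : Matrix (Fin k ⊕ Fin k) (Fin k ⊕ Fin k) F, L₀ᵀ * L₀ = -1 := by
    refine ⟨Matrix.fromBlocks (a • 1) (b • 1) (b • 1) ((-a) • 1), ?_⟩
    have hsm : ∀ x y : F, (x • (1 : Matrix (Fin k) (Fin k) F)) * (y • 1) = (x * y) • 1 := fun x y => by
      rw [Matrix.smul_mul, Matrix.one_mul, smul_smul]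
    have hT : ∀ x : F, (x • (1 : Matrix (Fin k) (Fin k) F))ᵀ = x • 1 := fun x => by
      rw [Matrix.transpose_smul, Matrix.transpose_one]
    rw [Matrix.fromBlocks_transpose, Matrix.fromBlocks_multiply]
    simp only [hT, hsm, ← add_smul]
    have h1 : (-1 : Matrix (Fin k ⊕ Fin k) (Fin k ⊕ Fin k) F)
        = Matrix.fromBlocks (-1) 0 0 (-1) := by
      rw [← Matrix.fromBlocks_one, Matrix.fromBlocks_neg]
      simp
    rw [h1]
    have c1 : a * a + b * b = -1 := by rw [← hab]; ring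
    have c2 : a * b + b * -a = 0 := by ring
    have c3 : b * a + -a * b = 0 := by ring
    have c4 : b * b + -a * -a = -1 := by rw [← hab]; ring
    rw [c1, c2, c3, c4, zero_smul, neg_smul, one_smul]
  refine ⟨L₀.submatrix finSumFinEquiv.symm finSumFinEquiv.symm, ?_⟩
  rw [Matrix.transpose_submatrix, Matrix.submatrix_mul_equiv, hL₀]
  ext i j
  simp [Matrix.one_apply]

end

end Cfsg.Agent.Lib.helper50
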