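import Mathlib
import Cfsg.Prelude.Def_LieTypeDatum
import Cfsg.Agent.Lib.helper50.PSLAut
import Cfsg.Agent.Lib.helper50.SumSqForm

/-!
# The centraliser of the inverse-transpose automorphism in `Inndiag(PSL_n(F))`

For `2 ≠ 0` the centraliser is the image of the similarity group of the sum-of-squares form, hence is
`PGO` of that form.
-/

set_option autoImplicit false

namespace Cfsg.Agent.Lib.helper50

open Matrix Cfsg
open scoped MatrixGroups

universe u

section
variable {n : ℕ} {F : Type u} [Field F]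

theorem sumSq_eq_dot {κ : Type} [Fintype κ] (v : κ → F) : sumSq κ F v = v ⬝ᵥ v := by
  unfold sumSq dotProduct
  refine Finset.sum_congr rfl fun i _ => by ring

theorem mem_simSumSq_iff (h2 : (2 : F) ≠ 0) (g : GL (Fin n) F) :
    g ∈ Geo.quadSimilarityGroup (sumSq (Fin n) F) ↔
      ∃ c : Fˣ, (g : Matrix (Fin n) (Fin n) F) * (g : Matrix (Fin n) (Fin n) F)ᵀ
        = (c : F) • (1 : Matrix (Fin n) (Fin n) F) := by
  have hswap : ∀ c : F, (g : Matrix (Fin n) (Fin n) F)ᵀ * (g : Matrix (Fin n) (Fin n) F) = c • 1 ↔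
      (g : Matrix (Fin n) (Fin n) F) * (g : Matrix (Fin n) (Fin n) F)ᵀ = c • 1 := by
    intro c
    constructor
    · intro h
      have h1 : (g : Matrix (Fin n) (Fin n) F)ᵀ
          = c • ((g⁻¹ : GL (Fin n) F) : Matrix (Fin n) (Fin n) F) := by
        calc (g : Matrix (Fin n) (Fin n) F)ᵀ
            = (g : Matrix (Fin n) (Fin n) F)ᵀ * ((g : Matrix (Fin n) (Fin n) F)
              * ((g⁻¹ : GL (Fin n) F) : Matrix (Fin n) (Fin n) F)) := by rw [Units.mul_inv, mul_one]
          _ = c • ((g⁻¹ : GL (Fin n) F) : Matrix (Fin n) (Fin n) F) := by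
              rw [← mul_assoc, h, Matrix.smul_mul, Matrix.one_mul]
      rw [h1, Matrix.mul_smul, Units.mul_inv]
    · intro h
      have h1 : (g : Matrix (Fin n) (Fin n) F)ᵀ
          = c • ((g⁻¹ : GL (Fin n) F) : Matrix (Fin n) (Fin n) F) := by
        calc (g : Matrix (Fin n) (Fin n) F)ᵀ
            = ((g⁻¹ : GL (Fin n) F) : Matrix (Fin n) (Fin n) F) * (g : Matrix (Fin n) (Fin n) F)
              * (g : Matrix (Fin n) (Fin n) F)ᵀ := by rw [Units.inv_mul, one_mul]
          _ = c • ((g⁻¹ : GL (Fin n) F) : Matrix (Fin n) (Fin n) F) := by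
              rw [mul_assoc, h, Matrix.mul_smul, Matrix.mul_one]
      rw [h1, Matrix.smul_mul, Units.inv_mul]
  constructor
  · rintro ⟨c, hc⟩
    refine ⟨c, (hswap c).mp ?_⟩
    have hpol : ∀ u v : Fin n → F, ((g : Matrix (Fin n) (Fin n) F) *ᵥ u)
        ⬝ᵥ ((g : Matrix (Fin n) (Fin n) F) *ᵥ v) = (c : F) * (u ⬝ᵥ v) := by
      intro u v
      have e1 := hc (u + v)
      have e2 := hc u
      have e3 := hc v
      simp only [sumSq_eq_dot, Matrix.mulVec_add, dotProduct_add, add_dotProduct] at e1 e2 e3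
      have e4 : ((g : Matrix (Fin n) (Fin n) F) *ᵥ v) ⬝ᵥ ((g : Matrix (Fin n) (Fin n) F) *ᵥ u)
          = ((g : Matrix (Fin n) (Fin n) F) *ᵥ u) ⬝ᵥ ((g : Matrix (Fin n) (Fin n) F) *ᵥ v) :=
        dotProduct_comm _ _
      have e5 : v ⬝ᵥ u = u ⬝ᵥ v := dotProduct_comm _ _
      rw [e4, e5] at e1
      have e6 : 2 * (((g : Matrix (Fin n) (Fin n) F) *ᵥ u) ⬝ᵥ ((g : Matrix (Fin n) (Fin n) F) *ᵥ v))
          = 2 * ((c : F) * (u ⬝ᵥ v)) := by linear_combination e1 - e2 - e3
      exact mul_left_cancel₀ h2 e6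
    ext i j
    have h1 := hpol (Pi.single i 1) (Pi.single j 1)
    rw [Matrix.mulVec_single_one, Matrix.mulVec_single_one] at h1
    rw [Matrix.mul_apply, Matrix.smul_apply, Matrix.one_apply, smul_eq_mul]
    simp only [Matrix.transpose_apply]
    have h3 : (Pi.single i (1 : F) : Fin n → F) ⬝ᵥ Pi.single j 1 = if i = j then 1 else 0 := by
      rw [single_dotProduct, one_mul, Pi.single_apply]
    rw [h3] at h1
    rw [← h1]
    rfl
  · rintro ⟨c, hc⟩
    refine ⟨c, fun v => ?_⟩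
    have h1 := (hswap c).mpr hc
    rw [sumSq_eq_dot, sumSq_eq_dot, Matrix.dotProduct_mulVec, ← Matrix.mulVec_transpose,
      Matrix.mulVec_mulVec, h1, Matrix.smul_mulVec, Matrix.one_mulVec, smul_dotProduct, smul_eq_mul]

theorem comap_centralizer_iota (h2 : (2 : F) ≠ 0)
    {ι : MulAut (Matrix.ProjectiveSpecialLinearGroup (Fin n) F)} (hι : IsInverseTransposeAutPSL ι) :
    Geo.quadSimilarityGroup (sumSq (Fin n) F) = (Subgroup.centralizer {ι}).comap phiPSL := by
  ext g
  rw [Subgroup.mem_comap, Subgroup.mem_centralizer_singleton_iff, mem_simSumSq_iff h2]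
  have h := phi_comm_graph_iff hι 1 g
  rw [map_one, one_mul, Units.val_one, Matrix.mul_one] at h
  rw [← h]
  exact eq_comm

/-- The centraliser of the inverse-transpose automorphism in `Inndiag(PSL_n(F))`. -/
theorem graph_cent_iota (h2 : (2 : F) ≠ 0)
    {ι : MulAut (Matrix.ProjectiveSpecialLinearGroup (Fin n) F)} (hι : IsInverseTransposeAutPSL ι) :
    Nonempty (↥(inndiagPSL n F ⊓ Subgroup.centralizer {ι}) ≃* PGO F (sumSq (Fin n) F)) :=
  inndiag_inf_equiv _ _ (comap_centralizer_iota h2 hι)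

end

end Cfsg.Agent.Lib.helper50
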