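import Mathlib
import Cfsg.Prelude.Def_LieTypeDatum
import Cfsg.Agent.Lib.helper50.GraphChar2
import Cfsg.Agent.Lib.helper50.GraphOdd

/-!
# Involutory graph automorphisms of `PSL_n(F)`, `n` odd, characteristic 2

* `blkLin X lam`: the block-triangular map `(v₀, w) ↦ (v₀ + lam w, X w)` on `F ⊕ F^{2m}`.
* `sp_equiv_bil_odd`: `Sp_{2m}(F)` is the projective similarity group of the symmetric form `[1] ⊕ J`.
* `sp_equiv_pgo_odd`: `Sp_{2m}(F) ≃* PGO(x₀² + Σ xᵢ yᵢ)` in characteristic 2.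
* `exists_cong_odd2`: invertible symmetric matrices of odd size are congruent to `[1] ⊕ stdAlt`.
-/

set_option autoImplicit false

namespace Cfsg.Agent.Lib.helper50

open Matrix Cfsg

section blk
variable {F : Type*} [Field F] {m : ℕ}

/-- the block-triangular linear map `(v₀, w) ↦ (v₀ + lam w, X w)` -/
def blkLin (X : Matrix (Fin m ⊕ Fin m) (Fin m ⊕ Fin m) F) (lam : (Fin m ⊕ Fin m → F) →ₗ[F] F) :
    (Unit ⊕ (Fin m ⊕ Fin m) → F) →ₗ[F] (Unit ⊕ (Fin m ⊕ Fin m) → F) where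
  toFun v := Sum.elim (fun _ => v (Sum.inl ()) + lam (v ∘ Sum.inr)) (X *ᵥ (v ∘ Sum.inr))
  map_add' u v := by
    have h1 : (u + v) ∘ Sum.inr = u ∘ Sum.inr + v ∘ Sum.inr := rfl
    funext i
    rcases i with i | i
    · simp only [Sum.elim_inl, Pi.add_apply, h1, map_add]
      ring
    · simp only [Sum.elim_inr, Pi.add_apply, h1, Matrix.mulVec_add]
  map_smul' c v := by
    have h1 : (c • v) ∘ Sum.inr = c • (v ∘ Sum.inr) := rfl
    funext i
    rcases i with i | i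
    · simp only [Sum.elim_inl, Pi.smul_apply, h1, map_smul, smul_eq_mul, RingHom.id_apply]
      ring
    · simp only [Sum.elim_inr, Pi.smul_apply, h1, Matrix.mulVec_smul, RingHom.id_apply]

theorem blkLin_inl (X : Matrix (Fin m ⊕ Fin m) (Fin m ⊕ Fin m) F) (lam : (Fin m ⊕ Fin m → F) →ₗ[F] F)
    (v : Unit ⊕ (Fin m ⊕ Fin m) → F) :
    blkLin X lam v (Sum.inl ()) = v (Sum.inl ()) + lam (v ∘ Sum.inr) := rfl

theorem blkLin_inr (X : Matrix (Fin m ⊕ Fin m) (Fin m ⊕ Fin m) F) (lam : (Fin m ⊕ Fin m → F) →ₗ[F] F)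
    (v : Unit ⊕ (Fin m ⊕ Fin m) → F) :
    (blkLin X lam v) ∘ Sum.inr = X *ᵥ (v ∘ Sum.inr) := rfl

theorem blkLin_comp (X Y : Matrix (Fin m ⊕ Fin m) (Fin m ⊕ Fin m) F)
    (lam lam' lam'' : (Fin m ⊕ Fin m → F) →ₗ[F] F) (h : ∀ w, lam'' w = lam' w + lam (Y *ᵥ w)) :
    blkLin (X * Y) lam'' = (blkLin X lam).comp (blkLin Y lam') := by
  apply LinearMap.ext
  intro v
  funext i
  rcases i with i | i
  · cases i
    rw [LinearMap.comp_apply, blkLin_inl, blkLin_inl, blkLin_inr, blkLin_inl, h]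
    ring
  · show ((X * Y) *ᵥ (v ∘ Sum.inr)) i = (X *ᵥ ((blkLin Y lam' v) ∘ Sum.inr)) i
    rw [blkLin_inr, Matrix.mulVec_mulVec]

theorem blkLin_one : blkLin (1 : Matrix (Fin m ⊕ Fin m) (Fin m ⊕ Fin m) F) 0 = LinearMap.id := by
  apply LinearMap.ext
  intro v
  funext i
  rcases i with i | i
  · cases i
    rw [blkLin_inl]
    simp
  · show ((1 : Matrix (Fin m ⊕ Fin m) (Fin m ⊕ Fin m) F) *ᵥ (v ∘ Sum.inr)) i = v (Sum.inr i)
    rw [Matrix.one_mulVec]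
    rfl

/-- the first basis vector -/
def e0 (m : ℕ) (F : Type*) [Field F] : Unit ⊕ (Fin m ⊕ Fin m) → F := Sum.elim (fun _ => 1) 0

/-- extension by zero -/
def hatW (w : Fin m ⊕ Fin m → F) : Unit ⊕ (Fin m ⊕ Fin m) → F := Sum.elim 0 w

theorem e0_inl : e0 m F (Sum.inl ()) = 1 := rfl
theorem e0_inr : e0 m F ∘ Sum.inr = 0 := rfl
theorem hatW_inl (w : Fin m ⊕ Fin m → F) : hatW w (Sum.inl ()) = 0 := rfl
theorem hatW_inr (w : Fin m ⊕ Fin m → F) : hatW w ∘ Sum.inr = w := rfl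

theorem decomp_e0 (v : Unit ⊕ (Fin m ⊕ Fin m) → F) :
    v = v (Sum.inl ()) • e0 m F + hatW (v ∘ Sum.inr) := by
  funext i
  rcases i with i | i
  · cases i
    simp [e0, hatW]
  · simp [e0, hatW]

theorem mulVec_hat_inr (g : Matrix (Unit ⊕ (Fin m ⊕ Fin m)) (Unit ⊕ (Fin m ⊕ Fin m)) F)
    (w : Fin m ⊕ Fin m → F) : (g *ᵥ hatW w) ∘ Sum.inr = g.toBlocks₂₂ *ᵥ w := by
  funext i
  show (g *ᵥ hatW w) (Sum.inr i) = _
  simp only [Matrix.mulVec, dotProduct]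
  rw [Fintype.sum_sum_type]
  simp [hatW, Matrix.toBlocks₂₂]

/-- reconstruction of a block-triangular matrix -/
theorem eq_smul_blk (g : Matrix (Unit ⊕ (Fin m ⊕ Fin m)) (Unit ⊕ (Fin m ⊕ Fin m)) F) (μ : F)
    (X : Matrix (Fin m ⊕ Fin m) (Fin m ⊕ Fin m) F) (lam : (Fin m ⊕ Fin m → F) →ₗ[F] F)
    (h0 : g *ᵥ e0 m F = μ • e0 m F) (h1 : ∀ w, (g *ᵥ hatW w) (Sum.inl ()) = μ * lam w)
    (h2 : ∀ w, (g *ᵥ hatW w) ∘ Sum.inr = μ • (X *ᵥ w)) :
    g = μ • LinearMap.toMatrix' (blkLin X lam) := by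
  rw [Matrix.ext_iff_mulVec]
  intro v
  rw [Matrix.smul_mulVec, LinearMap.toMatrix'_mulVec]
  conv_lhs => rw [decomp_e0 v, Matrix.mulVec_add, Matrix.mulVec_smul, h0]
  funext i
  rcases i with i | i
  · cases i
    simp only [Pi.add_apply, Pi.smul_apply, smul_eq_mul]
    rw [h1, blkLin_inl, e0_inl]
    ring
  · have h3 := congrFun (h2 (v ∘ Sum.inr)) i
    have h4 : (g *ᵥ hatW (v ∘ Sum.inr)) (Sum.inr i) = μ * (X *ᵥ (v ∘ Sum.inr)) i := h3
    simp only [Pi.add_apply, Pi.smul_apply, smul_eq_mul]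
    rw [h4]
    have h5 : e0 m F (Sum.inr i) = 0 := rfl
    have h6 : blkLin X lam v (Sum.inr i) = (X *ᵥ (v ∘ Sum.inr)) i := rfl
    rw [h5, h6]
    ring

theorem blk_scalar (X : Matrix (Fin m ⊕ Fin m) (Fin m ⊕ Fin m) F) (lam : (Fin m ⊕ Fin m → F) →ₗ[F] F)
    (c : F) (h : LinearMap.toMatrix' (blkLin X lam)
      = c • (1 : Matrix (Unit ⊕ (Fin m ⊕ Fin m)) (Unit ⊕ (Fin m ⊕ Fin m)) F)) : X = 1 := by
  have h1 : ∀ v, blkLin X lam v = c • v := by
    intro v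
    rw [← LinearMap.toMatrix'_mulVec, h, Matrix.smul_mulVec, Matrix.one_mulVec]
  have hc : c = 1 := by
    have := congrFun (h1 (e0 m F)) (Sum.inl ())
    rw [blkLin_inl, e0_inr, map_zero, add_zero, Pi.smul_apply, e0_inl, smul_eq_mul, mul_one] at this
    exact this.symm
  rw [Matrix.ext_iff_mulVec]
  intro w
  have h2 := congrArg (fun f : Unit ⊕ (Fin m ⊕ Fin m) → F => f ∘ Sum.inr) (h1 (hatW w))
  have h3 : X *ᵥ w = (c • hatW w) ∘ Sum.inr := h2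
  rw [h3, hc, one_smul, hatW_inr, Matrix.one_mulVec]

theorem scalar_quot' {κ : Type} [Fintype κ] [DecidableEq κ] (g k : GL κ F) (μ : F) (hμ0 : μ ≠ 0)
    (h : (g : Matrix κ κ F) = μ • (k : Matrix κ κ F)) : k⁻¹ * g ∈ Geo.scalars κ F := by
  rw [Geo.mem_scalars_iff]
  refine ⟨Units.mk0 μ hμ0, ?_⟩
  rw [Units.val_mul, h, Matrix.mul_smul, Units.inv_mul]
  rfl

end blk

section bil
variable {F : Type*} [Field F] [Fintype F] [CharP F 2] {m : ℕ}

/-- the symmetric form `[1] ⊕ J` -/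
def M0 (m : ℕ) (F : Type*) [Field F] : Matrix (Unit ⊕ (Fin m ⊕ Fin m)) (Unit ⊕ (Fin m ⊕ Fin m)) F :=
  Matrix.fromBlocks 1 0 0 (Matrix.J (Fin m) F)

/-- its inverse `[1] ⊕ stdAlt` -/
def G0 (m : ℕ) (F : Type*) [Field F] : Matrix (Unit ⊕ (Fin m ⊕ Fin m)) (Unit ⊕ (Fin m ⊕ Fin m)) F :=
  Matrix.fromBlocks 1 0 0 (stdAlt m F)

omit [Fintype F] [CharP F 2] in
theorem G0_mul_M0 : G0 m F * M0 m F = 1 := by
  unfold G0 M0
  rw [Matrix.fromBlocks_multiply, stdAlt_mul_J]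
  simp [Matrix.fromBlocks_one]

omit [Fintype F] [CharP F 2] in
theorem M0_bil (u v : Unit ⊕ (Fin m ⊕ Fin m) → F) :
    u ⬝ᵥ M0 m F *ᵥ v = u (Sum.inl ()) * v (Sum.inl ())
      + (u ∘ Sum.inr) ⬝ᵥ Matrix.J (Fin m) F *ᵥ (v ∘ Sum.inr) := by
  unfold M0
  rw [Matrix.fromBlocks_mulVec]
  simp only [Matrix.zero_mulVec, zero_add, add_zero]
  rw [dotProduct, Fintype.sum_sum_type]
  simp only [Sum.elim_inl, Sum.elim_inr]
  rw [Fintype.sum_unique, Matrix.one_mulVec]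
  rfl

/-- `x ↦ [1] ⊕ x` -/
def j1 (m : ℕ) (F : Type*) [Field F] :
    ↥(Matrix.symplecticGroup (Fin m) F) →* GL (Unit ⊕ (Fin m ⊕ Fin m)) F :=
  ({ toFun := fun x => LinearMap.toMatrix' (blkLin (x : Matrix (Fin m ⊕ Fin m) (Fin m ⊕ Fin m) F) 0)
     map_one' := by
       show LinearMap.toMatrix' (blkLin (1 : Matrix (Fin m ⊕ Fin m) (Fin m ⊕ Fin m) F) 0) = 1
       rw [blkLin_one, LinearMap.toMatrix'_id]
     map_mul' := fun x y => by
       show LinearMap.toMatrix' (blkLin ((x : Matrix (Fin m ⊕ Fin m) (Fin m ⊕ Fin m) F)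
         * (y : Matrix (Fin m ⊕ Fin m) (Fin m ⊕ Fin m) F)) 0) = _
       rw [blkLin_comp _ _ 0 0 0 (fun w => by simp), LinearMap.toMatrix'_comp] } :
    ↥(Matrix.symplecticGroup (Fin m) F) →* Matrix (Unit ⊕ (Fin m ⊕ Fin m)) (Unit ⊕ (Fin m ⊕ Fin m)) F).toHomUnits

omit [Fintype F] [CharP F 2] in
theorem j1_coe (x : ↥(Matrix.symplecticGroup (Fin m) F)) :
    ((j1 m F x : GL (Unit ⊕ (Fin m ⊕ Fin m)) F) : Matrix (Unit ⊕ (Fin m ⊕ Fin m)) (Unit ⊕ (Fin m ⊕ Fin m)) F)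
      = LinearMap.toMatrix' (blkLin (x : Matrix (Fin m ⊕ Fin m) (Fin m ⊕ Fin m) F) 0) := rfl

omit [Fintype F] [CharP F 2] in
theorem sp_dot (x : ↥(Matrix.symplecticGroup (Fin m) F)) (w w' : Fin m ⊕ Fin m → F) :
    ((x : Matrix (Fin m ⊕ Fin m) (Fin m ⊕ Fin m) F) *ᵥ w) ⬝ᵥ Matrix.J (Fin m) F
      *ᵥ ((x : Matrix (Fin m ⊕ Fin m) (Fin m ⊕ Fin m) F) *ᵥ w') = w ⬝ᵥ Matrix.J (Fin m) F *ᵥ w' := by
  rw [dot_conj, SymplecticGroup.mem_iff'.mp x.2]

omit [Fintype F] [CharP F 2] in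
theorem J_mulVec_eq_zero (s : Fin m ⊕ Fin m → F)
    (h : ∀ w : Fin m ⊕ Fin m → F, w ⬝ᵥ Matrix.J (Fin m) F *ᵥ s = 0) : s = 0 := by
  have h1 : Matrix.J (Fin m) F *ᵥ s = 0 := by
    funext k
    have := h (Pi.single k 1)
    rw [single_dotProduct, one_mul] at this
    exact this
  have h2 : (Matrix.J (Fin m) F * Matrix.J (Fin m) F) *ᵥ s = 0 := by
    rw [← Matrix.mulVec_mulVec, h1, Matrix.mulVec_zero]
  rw [Matrix.J_squared, Matrix.neg_mulVec, Matrix.one_mulVec] at h2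
  exact neg_eq_zero.mp h2

theorem bil_surj (g : GL (Unit ⊕ (Fin m ⊕ Fin m)) F)
    (hg : g ∈ Geo.similarityGroup (fun u v : Unit ⊕ (Fin m ⊕ Fin m) → F => u ⬝ᵥ M0 m F *ᵥ v)) :
    ∃ x : ↥(Matrix.symplecticGroup (Fin m) F),
      (j1 m F x)⁻¹ * g ∈ Geo.scalars (Unit ⊕ (Fin m ⊕ Fin m)) F := by
  obtain ⟨c, hc⟩ := hg
  obtain ⟨G, hG⟩ : ∃ G : Matrix (Unit ⊕ (Fin m ⊕ Fin m)) (Unit ⊕ (Fin m ⊕ Fin m)) F,
      G = (g : Matrix (Unit ⊕ (Fin m ⊕ Fin m)) (Unit ⊕ (Fin m ⊕ Fin m)) F) := ⟨_, rfl⟩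
  have hc' : ∀ u v : Unit ⊕ (Fin m ⊕ Fin m) → F,
      (G *ᵥ u) ⬝ᵥ M0 m F *ᵥ (G *ᵥ v) = (c : F) * (u ⬝ᵥ M0 m F *ᵥ v) := by
    rw [hG]
    exact hc
  obtain ⟨μ, hμ⟩ := sq_surj2 (F := F) (c : F)
  have hμ' : μ * μ = (c : F) := hμ
  have hμ0 : μ ≠ 0 := by
    rintro rfl
    rw [zero_mul] at hμ'
    exact c.ne_zero hμ'.symm
  have key1 : ∀ u : Unit ⊕ (Fin m ⊕ Fin m) → F, (G *ᵥ u) (Sum.inl ()) = μ * u (Sum.inl ()) := by
    intro u
    apply sq_inj2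
    have := hc' u u
    rw [M0_bil, M0_bil, sympForm_self, sympForm_self, add_zero, add_zero] at this
    rw [this, ← hμ']
    ring
  have hsurj : ∀ y : Unit ⊕ (Fin m ⊕ Fin m) → F, ∃ u, G *ᵥ u = y := by
    intro y
    refine ⟨((g⁻¹ : GL (Unit ⊕ (Fin m ⊕ Fin m)) F) : Matrix (Unit ⊕ (Fin m ⊕ Fin m)) (Unit ⊕ (Fin m ⊕ Fin m)) F)
      *ᵥ y, ?_⟩
    rw [hG, Matrix.mulVec_mulVec, Units.mul_inv, Matrix.one_mulVec]
  have hs : (G *ᵥ e0 m F) ∘ Sum.inr = 0 := by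
    apply J_mulVec_eq_zero
    intro w
    obtain ⟨u, hu⟩ := hsurj (hatW w)
    have h1 := hc' u (e0 m F)
    have hu0 : u (Sum.inl ()) = 0 := by
      have h2 := key1 u
      rw [hu, hatW_inl] at h2
      rcases mul_eq_zero.mp h2.symm with h | h
      · exact absurd h hμ0
      · exact h
    rw [M0_bil, M0_bil, hu, hatW_inl, hatW_inr, zero_mul, zero_add, hu0, zero_mul, zero_add, e0_inr,
      Matrix.mulVec_zero, dotProduct_zero, mul_zero] at h1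
    exact h1
  have h0 : G *ᵥ e0 m F = μ • e0 m F := by
    funext i
    rcases i with i | i
    · cases i
      rw [key1, Pi.smul_apply, smul_eq_mul]
    · have := congrFun hs i
      rw [Pi.smul_apply, smul_eq_mul]
      have h5 : e0 m F (Sum.inr i) = 0 := rfl
      rw [h5, mul_zero]
      exact this
  obtain ⟨h, hh⟩ : ∃ h : Matrix (Fin m ⊕ Fin m) (Fin m ⊕ Fin m) F, h = G.toBlocks₂₂ := ⟨_, rfl⟩
  have hblk : ∀ w, (G *ᵥ hatW w) ∘ Sum.inr = h *ᵥ w := by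
    intro w
    rw [hh]
    exact mulVec_hat_inr _ w
  have h1 : ∀ w, (G *ᵥ hatW w) (Sum.inl ()) = 0 := by
    intro w
    rw [key1, hatW_inl, mul_zero]
  have hJ : hᵀ * Matrix.J (Fin m) F * h = (c : F) • Matrix.J (Fin m) F := by
    apply bil_ext
    intro w w'
    rw [← dot_conj, Matrix.smul_mulVec, dotProduct_smul, smul_eq_mul]
    have := hc' (hatW w) (hatW w')
    rw [M0_bil, M0_bil, h1, hblk, hblk, zero_mul, zero_add, hatW_inl, zero_mul, zero_add, hatW_inr,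
      hatW_inr] at this
    exact this
  have hμμ : μ⁻¹ * μ⁻¹ * (μ * μ) = 1 := by field_simp
  have hmem : μ⁻¹ • h ∈ Matrix.symplecticGroup (Fin m) F := by
    rw [SymplecticGroup.mem_iff', Matrix.transpose_smul, Matrix.smul_mul, Matrix.smul_mul,
      Matrix.mul_smul, hJ, smul_smul, smul_smul, ← hμ', hμμ, one_smul]
  obtain ⟨x, hx⟩ : ∃ x : ↥(Matrix.symplecticGroup (Fin m) F),
      (x : Matrix (Fin m ⊕ Fin m) (Fin m ⊕ Fin m) F) = μ⁻¹ • h := ⟨⟨_, hmem⟩, rfl⟩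
  refine ⟨x, scalar_quot' g (j1 m F x) μ hμ0 ?_⟩
  rw [j1_coe, ← hG]
  apply eq_smul_blk _ μ _ 0 h0
  · intro w
    rw [h1]
    simp
  · intro w
    rw [hblk, hx, Matrix.smul_mulVec, smul_smul, mul_inv_cancel₀ hμ0, one_smul]

/-- `Sp_{2m}(F)` is the projective similarity group of the form `[1] ⊕ J` in characteristic 2. -/
theorem sp_equiv_bil_odd :
    Nonempty (↥(Matrix.symplecticGroup (Fin m) F) ≃* projQuot (Geo.similarityGroup
      (fun u v : Unit ⊕ (Fin m ⊕ Fin m) → F => u ⬝ᵥ M0 m F *ᵥ v))) := by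
  apply projQuot_equiv_of_section (j1 m F)
  · intro x
    refine ⟨1, fun u v => ?_⟩
    show ((j1 m F x : GL (Unit ⊕ (Fin m ⊕ Fin m)) F)
      : Matrix (Unit ⊕ (Fin m ⊕ Fin m)) (Unit ⊕ (Fin m ⊕ Fin m)) F) *ᵥ u ⬝ᵥ M0 m F *ᵥ
        (((j1 m F x : GL (Unit ⊕ (Fin m ⊕ Fin m)) F)
      : Matrix (Unit ⊕ (Fin m ⊕ Fin m)) (Unit ⊕ (Fin m ⊕ Fin m)) F) *ᵥ v)
        = ((1 : Fˣ) : F) * (u ⬝ᵥ M0 m F *ᵥ v)
    rw [j1_coe, LinearMap.toMatrix'_mulVec, LinearMap.toMatrix'_mulVec, M0_bil, M0_bil, blkLin_inl,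
      blkLin_inl, blkLin_inr, blkLin_inr, sp_dot, Units.val_one, one_mul]
    simp
  · intro x hx
    rw [Geo.mem_scalars_iff] at hx
    obtain ⟨c, hc⟩ := hx
    rw [j1_coe] at hc
    exact Subtype.ext (blk_scalar _ _ _ hc)
  · exact fun g hg => bil_surj g hg

end bil

section quad
variable {F : Type*} [Field F] [Fintype F] [CharP F 2] {m : ℕ}

omit [Fintype F] [CharP F 2] in
theorem quadFormPlus_add (w w' : Fin m ⊕ Fin m → F) :
    quadFormPlus m F (w + w') = quadFormPlus m F w + quadFormPlus m F w'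
      + w ⬝ᵥ plusMat m F *ᵥ w' := by
  unfold plusMat quadFormPlus
  rw [Matrix.fromBlocks_mulVec]
  simp only [Matrix.zero_mulVec, Matrix.one_mulVec, zero_add, add_zero]
  unfold dotProduct
  rw [Fintype.sum_sum_type]
  simp only [Sum.elim_inl, Sum.elim_inr, Function.comp_apply, Pi.add_apply]
  rw [← Finset.sum_add_distrib, ← Finset.sum_add_distrib, ← Finset.sum_add_distrib]
  refine Finset.sum_congr rfl fun i _ => by ring

omit [Fintype F] [CharP F 2] in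
theorem quadFormPlus_smul (a : F) (w : Fin m ⊕ Fin m → F) :
    quadFormPlus m F (a • w) = a * a * quadFormPlus m F w := by
  unfold quadFormPlus
  rw [Finset.mul_sum]
  refine Finset.sum_congr rfl fun i _ => by
    simp only [Pi.smul_apply, smul_eq_mul]
    ring

theorem J_eq_plusMat : Matrix.J (Fin m) F = plusMat m F := by
  unfold Matrix.J plusMat
  have h1 : (-1 : Matrix (Fin m) (Fin m) F) = 1 := by
    have : (1 : Matrix (Fin m) (Fin m) F) + 1 = 0 := by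
      have h3 : (1 : Matrix (Fin m) (Fin m) F) + 1 = (2 : F) • (1 : Matrix (Fin m) (Fin m) F) := by
        rw [two_smul]
      rw [h3, two_eq_zero2, zero_smul]
    exact neg_eq_of_add_eq_zero_left this
  rw [h1]

/-- the square root of an additive, square-homogeneous function is linear -/
noncomputable def sqrtLin {X : Type*} [AddCommGroup X] [Module F X] (d : X → F)
    (hadd : ∀ x y, d (x + y) = d x + d y) (hsmul : ∀ (a : F) x, d (a • x) = a * a * d x) :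
    X →ₗ[F] F where
  toFun x := sqrt2 (d x)
  map_add' x y := by
    apply sqrt2_eq
    have h2 : (2 : F) = 0 := two_eq_zero2
    rw [hadd]
    linear_combination sqrt2_mul_self (d x) + sqrt2_mul_self (d y)
      + (sqrt2 (d x) * sqrt2 (d y)) * h2
  map_smul' c x := by
    apply sqrt2_eq
    rw [hsmul]
    simp only [smul_eq_mul, RingHom.id_apply]
    linear_combination (c * c) * sqrt2_mul_self (d x)

theorem sqrtLin_sq {X : Type*} [AddCommGroup X] [Module F X] (d : X → F)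
    (hadd : ∀ x y, d (x + y) = d x + d y) (hsmul : ∀ (a : F) x, d (a • x) = a * a * d x) (x : X) :
    sqrtLin d hadd hsmul x * sqrtLin d hadd hsmul x = d x :=
  sqrt2_mul_self (d x)

theorem sp_dot_plus (x : ↥(Matrix.symplecticGroup (Fin m) F)) (w w' : Fin m ⊕ Fin m → F) :
    ((x : Matrix (Fin m ⊕ Fin m) (Fin m ⊕ Fin m) F) *ᵥ w) ⬝ᵥ plusMat m F
      *ᵥ ((x : Matrix (Fin m ⊕ Fin m) (Fin m ⊕ Fin m) F) *ᵥ w') = w ⬝ᵥ plusMat m F *ᵥ w' := by
  rw [← J_eq_plusMat]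
  exact sp_dot x w w'

/-- the linear functional `w ↦ √(Q⁺(x w) + Q⁺(w))` -/
noncomputable def lamSp (x : ↥(Matrix.symplecticGroup (Fin m) F)) : (Fin m ⊕ Fin m → F) →ₗ[F] F :=
  sqrtLin (fun w => quadFormPlus m F ((x : Matrix (Fin m ⊕ Fin m) (Fin m ⊕ Fin m) F) *ᵥ w)
      + quadFormPlus m F w)
    (fun w w' => by
      have h2 : (2 : F) = 0 := two_eq_zero2
      show quadFormPlus m F ((x : Matrix (Fin m ⊕ Fin m) (Fin m ⊕ Fin m) F) *ᵥ (w + w'))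
        + quadFormPlus m F (w + w') = _
      rw [Matrix.mulVec_add, quadFormPlus_add, quadFormPlus_add, sp_dot_plus]
      linear_combination (w ⬝ᵥ plusMat m F *ᵥ w') * h2)
    (fun a w => by
      show quadFormPlus m F ((x : Matrix (Fin m ⊕ Fin m) (Fin m ⊕ Fin m) F) *ᵥ (a • w))
        + quadFormPlus m F (a • w) = _
      rw [Matrix.mulVec_smul, quadFormPlus_smul, quadFormPlus_smul]
      ring)

theorem lamSp_sq (x : ↥(Matrix.symplecticGroup (Fin m) F)) (w : Fin m ⊕ Fin m → F) :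
    lamSp x w * lamSp x w = quadFormPlus m F ((x : Matrix (Fin m ⊕ Fin m) (Fin m ⊕ Fin m) F) *ᵥ w)
      + quadFormPlus m F w :=
  sqrtLin_sq _ _ _ w

theorem lamSp_one : lamSp (1 : ↥(Matrix.symplecticGroup (Fin m) F)) = 0 := by
  apply LinearMap.ext
  intro w
  apply sq_inj2
  have h2 : (2 : F) = 0 := two_eq_zero2
  rw [lamSp_sq]
  have h1 : ((1 : ↥(Matrix.symplecticGroup (Fin m) F)) : Matrix (Fin m ⊕ Fin m) (Fin m ⊕ Fin m) F) = 1 := rfl
  rw [h1, Matrix.one_mulVec, LinearMap.zero_apply]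
  linear_combination (quadFormPlus m F w) * h2

theorem lamSp_mul (x y : ↥(Matrix.symplecticGroup (Fin m) F)) (w : Fin m ⊕ Fin m → F) :
    lamSp (x * y) w = lamSp y w + lamSp x ((y : Matrix (Fin m ⊕ Fin m) (Fin m ⊕ Fin m) F) *ᵥ w) := by
  apply sq_inj2
  have h2 : (2 : F) = 0 := two_eq_zero2
  have e1 := lamSp_sq (x * y) w
  have e2 := lamSp_sq y w
  have e3 := lamSp_sq x ((y : Matrix (Fin m ⊕ Fin m) (Fin m ⊕ Fin m) F) *ᵥ w)
  have h1 : ((x * y : ↥(Matrix.symplecticGroup (Fin m) F)) : Matrix (Fin m ⊕ Fin m) (Fin m ⊕ Fin m) F)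
      = (x : Matrix (Fin m ⊕ Fin m) (Fin m ⊕ Fin m) F) * (y : Matrix (Fin m ⊕ Fin m) (Fin m ⊕ Fin m) F) := rfl
  rw [h1, ← Matrix.mulVec_mulVec] at e1
  linear_combination e1 - e2 - e3
    - (quadFormPlus m F ((y : Matrix (Fin m ⊕ Fin m) (Fin m ⊕ Fin m) F) *ᵥ w)
      + lamSp y w * lamSp x ((y : Matrix (Fin m ⊕ Fin m) (Fin m ⊕ Fin m) F) *ᵥ w)) * h2

/-- the embedding of `Sp_{2m}(F)` in the orthogonal group of `x₀² + Σ xᵢ yᵢ` -/
noncomputable def j2 (m : ℕ) (F : Type*) [Field F] [Fintype F] [CharP F 2] :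
    ↥(Matrix.symplecticGroup (Fin m) F) →* GL (Unit ⊕ (Fin m ⊕ Fin m)) F :=
  ({ toFun := fun x => LinearMap.toMatrix'
       (blkLin (x : Matrix (Fin m ⊕ Fin m) (Fin m ⊕ Fin m) F) (lamSp x))
     map_one' := by
       rw [lamSp_one]
       show LinearMap.toMatrix' (blkLin (1 : Matrix (Fin m ⊕ Fin m) (Fin m ⊕ Fin m) F) 0) = 1
       rw [blkLin_one, LinearMap.toMatrix'_id]
     map_mul' := fun x y => by
       show LinearMap.toMatrix' (blkLin ((x : Matrix (Fin m ⊕ Fin m) (Fin m ⊕ Fin m) F)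
         * (y : Matrix (Fin m ⊕ Fin m) (Fin m ⊕ Fin m) F)) (lamSp (x * y))) = _
       rw [blkLin_comp _ _ (lamSp x) (lamSp y) (lamSp (x * y)) (fun w => lamSp_mul x y w),
         LinearMap.toMatrix'_comp] } :
    ↥(Matrix.symplecticGroup (Fin m) F) →* Matrix (Unit ⊕ (Fin m ⊕ Fin m)) (Unit ⊕ (Fin m ⊕ Fin m)) F).toHomUnits

theorem j2_coe (x : ↥(Matrix.symplecticGroup (Fin m) F)) :
    ((j2 m F x : GL (Unit ⊕ (Fin m ⊕ Fin m)) F) : Matrix (Unit ⊕ (Fin m ⊕ Fin m)) (Unit ⊕ (Fin m ⊕ Fin m)) F)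
      = LinearMap.toMatrix' (blkLin (x : Matrix (Fin m ⊕ Fin m) (Fin m ⊕ Fin m) F) (lamSp x)) := rfl

theorem quad_blk (x : ↥(Matrix.symplecticGroup (Fin m) F)) (v : Unit ⊕ (Fin m ⊕ Fin m) → F) :
    quadFormOdd m F (blkLin (x : Matrix (Fin m ⊕ Fin m) (Fin m ⊕ Fin m) F) (lamSp x) v)
      = quadFormOdd m F v := by
  have h2 : (2 : F) = 0 := two_eq_zero2
  rw [quadFormOdd_eq, quadFormOdd_eq, blkLin_inl, blkLin_inr]
  linear_combination lamSp_sq x (v ∘ Sum.inr)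
    + (v (Sum.inl ()) * lamSp x (v ∘ Sum.inr)
      + quadFormPlus m F ((x : Matrix (Fin m ⊕ Fin m) (Fin m ⊕ Fin m) F) *ᵥ (v ∘ Sum.inr))) * h2

omit [Fintype F] [CharP F 2] in
theorem quadFormPlus_zero : quadFormPlus m F 0 = 0 := by
  unfold quadFormPlus
  simp

omit [Fintype F] [CharP F 2] in
theorem plus_mulVec_eq_zero (s : Fin m ⊕ Fin m → F)
    (h : ∀ w : Fin m ⊕ Fin m → F, w ⬝ᵥ plusMat m F *ᵥ s = 0) : s = 0 := by
  have h1 : plusMat m F *ᵥ s = 0 := by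
    funext k
    have := h (Pi.single k 1)
    rw [single_dotProduct, one_mul] at this
    exact this
  have h2 : (plusMat m F * plusMat m F) *ᵥ s = 0 := by
    rw [← Matrix.mulVec_mulVec, h1, Matrix.mulVec_zero]
  rw [plusMat_mul_self, Matrix.one_mulVec] at h2
  exact h2

theorem quad_surj (g : GL (Unit ⊕ (Fin m ⊕ Fin m)) F)
    (hg : g ∈ Geo.quadSimilarityGroup (quadFormOdd m F)) :
    ∃ x : ↥(Matrix.symplecticGroup (Fin m) F),
      (j2 m F x)⁻¹ * g ∈ Geo.scalars (Unit ⊕ (Fin m ⊕ Fin m)) F := by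
  have h20 : (2 : F) = 0 := two_eq_zero2
  obtain ⟨c, hc⟩ := hg
  obtain ⟨G, hG⟩ : ∃ G : Matrix (Unit ⊕ (Fin m ⊕ Fin m)) (Unit ⊕ (Fin m ⊕ Fin m)) F,
      G = (g : Matrix (Unit ⊕ (Fin m ⊕ Fin m)) (Unit ⊕ (Fin m ⊕ Fin m)) F) := ⟨_, rfl⟩
  have hc' : ∀ v : Unit ⊕ (Fin m ⊕ Fin m) → F,
      quadFormOdd m F (G *ᵥ v) = (c : F) * quadFormOdd m F v := by
    rw [hG]
    exact hc
  obtain ⟨μ, hμ⟩ := sq_surj2 (F := F) (c : F)
  have hμ' : μ * μ = (c : F) := hμ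
  have hμ0 : μ ≠ 0 := by
    rintro rfl
    rw [zero_mul] at hμ'
    exact c.ne_zero hμ'.symm
  have hpolQ : ∀ u v : Unit ⊕ (Fin m ⊕ Fin m) → F, quadFormOdd m F (u + v)
      = quadFormOdd m F u + quadFormOdd m F v + (u ∘ Sum.inr) ⬝ᵥ plusMat m F *ᵥ (v ∘ Sum.inr) := by
    intro u v
    have h1 : (u + v) ∘ Sum.inr = u ∘ Sum.inr + v ∘ Sum.inr := rfl
    rw [quadFormOdd_eq, quadFormOdd_eq, quadFormOdd_eq, h1, quadFormPlus_add]
    simp only [Pi.add_apply]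
    linear_combination (u (Sum.inl ()) * v (Sum.inl ())) * h20
  have hpol : ∀ u v : Unit ⊕ (Fin m ⊕ Fin m) → F,
      ((G *ᵥ u) ∘ Sum.inr) ⬝ᵥ plusMat m F *ᵥ ((G *ᵥ v) ∘ Sum.inr)
        = (c : F) * ((u ∘ Sum.inr) ⬝ᵥ plusMat m F *ᵥ (v ∘ Sum.inr)) := by
    intro u v
    have h1 := hc' (u + v)
    rw [Matrix.mulVec_add, hpolQ, hpolQ, hc', hc'] at h1
    linear_combination h1
  have hsurj : ∀ y : Unit ⊕ (Fin m ⊕ Fin m) → F, ∃ u, G *ᵥ u = y := by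
    intro y
    refine ⟨((g⁻¹ : GL (Unit ⊕ (Fin m ⊕ Fin m)) F) : Matrix (Unit ⊕ (Fin m ⊕ Fin m)) (Unit ⊕ (Fin m ⊕ Fin m)) F)
      *ᵥ y, ?_⟩
    rw [hG, Matrix.mulVec_mulVec, Units.mul_inv, Matrix.one_mulVec]
  have hs : (G *ᵥ e0 m F) ∘ Sum.inr = 0 := by
    apply plus_mulVec_eq_zero
    intro w
    obtain ⟨u, hu⟩ := hsurj (hatW w)
    have h1 := hpol u (e0 m F)
    rw [hu, hatW_inr, e0_inr, Matrix.mulVec_zero, dotProduct_zero, mul_zero] at h1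
    exact h1
  have ha : (G *ᵥ e0 m F) (Sum.inl ()) = μ := by
    apply sq_inj2
    have h1 := hc' (e0 m F)
    rw [quadFormOdd_eq, quadFormOdd_eq, hs, e0_inr, quadFormPlus_zero, e0_inl, add_zero, add_zero,
      mul_one, mul_one] at h1
    rw [h1, hμ']
  have h0 : G *ᵥ e0 m F = μ • e0 m F := by
    funext i
    rcases i with i | i
    · cases i
      rw [ha, Pi.smul_apply, smul_eq_mul, e0_inl, mul_one]
    · have := congrFun hs i
      rw [Pi.smul_apply, smul_eq_mul]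
      have h5 : e0 m F (Sum.inr i) = 0 := rfl
      rw [h5, mul_zero]
      exact this
  obtain ⟨h, hh⟩ : ∃ h : Matrix (Fin m ⊕ Fin m) (Fin m ⊕ Fin m) F, h = G.toBlocks₂₂ := ⟨_, rfl⟩
  have hblk : ∀ w, (G *ᵥ hatW w) ∘ Sum.inr = h *ᵥ w := by
    intro w
    rw [hh]
    exact mulVec_hat_inr _ w
  have hP : hᵀ * plusMat m F * h = (c : F) • plusMat m F := by
    apply bil_ext
    intro w w'
    rw [← dot_conj, Matrix.smul_mulVec, dotProduct_smul, smul_eq_mul]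
    have := hpol (hatW w) (hatW w')
    rw [hblk, hblk, hatW_inr, hatW_inr] at this
    exact this
  have hμμ : μ⁻¹ * μ⁻¹ * (μ * μ) = 1 := by field_simp
  have hmem : μ⁻¹ • h ∈ Matrix.symplecticGroup (Fin m) F := by
    rw [SymplecticGroup.mem_iff', J_eq_plusMat, Matrix.transpose_smul, Matrix.smul_mul, Matrix.smul_mul,
      Matrix.mul_smul, hP, smul_smul, smul_smul, ← hμ', hμμ, one_smul]
  obtain ⟨x, hx⟩ : ∃ x : ↥(Matrix.symplecticGroup (Fin m) F),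
      (x : Matrix (Fin m ⊕ Fin m) (Fin m ⊕ Fin m) F) = μ⁻¹ • h := ⟨⟨_, hmem⟩, rfl⟩
  have e1 : ∀ w, h *ᵥ w = μ • ((x : Matrix (Fin m ⊕ Fin m) (Fin m ⊕ Fin m) F) *ᵥ w) := by
    intro w
    rw [hx, Matrix.smul_mulVec, smul_smul, mul_inv_cancel₀ hμ0, one_smul]
  have h1 : ∀ w, (G *ᵥ hatW w) (Sum.inl ()) = μ * lamSp x w := by
    intro w
    apply sq_inj2
    have h3 := hc' (hatW w)
    rw [quadFormOdd_eq, quadFormOdd_eq, hblk, e1, quadFormPlus_smul, hatW_inl, hatW_inr, mul_zero,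
      zero_add] at h3
    have e2 := lamSp_sq x w
    linear_combination h3 - (μ * μ) * e2
      - (μ * μ * quadFormPlus m F ((x : Matrix (Fin m ⊕ Fin m) (Fin m ⊕ Fin m) F) *ᵥ w)) * h20
      - quadFormPlus m F w * hμ'
  refine ⟨x, scalar_quot' g (j2 m F x) μ hμ0 ?_⟩
  rw [j2_coe, ← hG]
  exact eq_smul_blk _ μ _ _ h0 h1 (fun w => by rw [hblk, e1])

/-- `Sp_{2m}(F) ≃* PGO(x₀² + Σ xᵢ yᵢ)` over a finite field of characteristic 2. -/
theorem sp_equiv_pgo_odd :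
    Nonempty (↥(Matrix.symplecticGroup (Fin m) F) ≃* PGO F (quadFormOdd m F)) := by
  apply projQuot_equiv_of_section (j2 m F)
  · intro x
    refine ⟨1, fun v => ?_⟩
    rw [j2_coe, LinearMap.toMatrix'_mulVec, quad_blk, Units.val_one, one_mul]
  · intro x hx
    rw [Geo.mem_scalars_iff] at hx
    obtain ⟨c, hc⟩ := hx
    rw [j2_coe] at hc
    exact Subtype.ext (blk_scalar _ _ _ hc)
  · exact fun g hg => quad_surj g hg

end quad

section classify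
variable {F : Type*} [Field F] [Fintype F] [CharP F 2] {m : ℕ} {N : ℕ}

/-- An invertible symmetric matrix of odd size over a finite field of characteristic 2 is congruent to
`[1] ⊕ stdAlt`. -/
theorem exists_cong_odd2 (A : GL (Fin N) F)
    (hA : (A : Matrix (Fin N) (Fin N) F)ᵀ = (A : Matrix (Fin N) (Fin N) F))
    (e : Fin N ≃ Unit ⊕ (Fin m ⊕ Fin m)) :
    ∃ g : GL (Fin N) F, (g : Matrix (Fin N) (Fin N) F) * (A : Matrix (Fin N) (Fin N) F)
        * (g : Matrix (Fin N) (Fin N) F)ᵀ = (G0 m F).submatrix e e := by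
  classical
  have hcard : N = 2 * m + 1 := by
    have := Fintype.card_congr e
    simp at this
    omega
  obtain ⟨γ, hγ⟩ : ∃ γ : (Fin N → F) →ₗ[F] (Fin N → F) →ₗ[F] F,
      γ = Matrix.toBilin' (A : Matrix (Fin N) (Fin N) F) := ⟨_, rfl⟩
  have hγa : ∀ x y, γ x y = x ⬝ᵥ (A : Matrix (Fin N) (Fin N) F) *ᵥ y := by
    intro x y
    rw [hγ, Matrix.toBilin'_apply']
  have hsym : ∀ x y, γ x y = γ y x := by
    intro x y
    rw [hγa, hγa, Matrix.dotProduct_mulVec, ← Matrix.mulVec_transpose, hA, dotProduct_comm]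
  have hB : (Matrix.toBilin' (A : Matrix (Fin N) (Fin N) F)).Nondegenerate :=
    LinearMap.BilinForm.nondegenerate_toBilin'_of_det_ne_zero' _ (Matrix.GeneralLinearGroup.det_ne_zero A)
  have hnd : ∀ x, (∀ y, γ x y = 0) → x = 0 := by
    intro x hx
    rw [hγ] at hx
    exact hB.1 x hx
  obtain ⟨lam, hlam⟩ : ∃ lam : (Fin N → F) →ₗ[F] F, ∀ x, γ x x = lam x * lam x :=
    ⟨lamOf γ hsym, lamOf_sq γ hsym⟩
  obtain ⟨z, hz⟩ := exists_repr γ hsym hnd lam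
  have hfin : Module.finrank F (Fin N → F) = 2 * m + 1 := by rw [Module.finrank_fin_fun, hcard]
  have hz1 : lam z = 1 :=
    lam_z_eq_one_of_odd γ lam hsym hnd hlam z hz (by rw [hfin]; exact odd_two_mul_add_one m)
  have hK := finrank_ker_lam lam z hz1
  have hKfin : Module.finrank F (LinearMap.ker lam) = 2 * m := by omega
  obtain ⟨e', f', hee, hff, hef⟩ := Cfsg.Agent.Lib.helper17.exists_symp_basis m
    (γ.domRestrict₁₂ (LinearMap.ker lam) (LinearMap.ker lam)) (ker_lam_alt γ lam hlam)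
    (ker_lam_nondeg γ lam hnd z hz hz1) hKfin
  have hskew := Cfsg.Agent.Lib.helper17.alt_skew
    (γ.domRestrict₁₂ (LinearMap.ker lam) (LinearMap.ker lam)) (ker_lam_alt γ lam hlam)
  simp only [LinearMap.domRestrict₁₂_apply] at hee hff hef hskew
  have hlamE : ∀ a, lam (e' a : Fin N → F) = 0 := fun a => LinearMap.mem_ker.1 (e' a).2
  have hlamF : ∀ a, lam (f' a : Fin N → F) = 0 := fun a => LinearMap.mem_ker.1 (f' a).2
  have hD : ((G0 m F).submatrix e e).det ≠ 0 := by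
    rw [Matrix.det_submatrix_equiv_self]
    intro h0
    have h3 := congrArg Matrix.det (G0_mul_M0 (m := m) (F := F))
    rw [Matrix.det_mul, h0, zero_mul, Matrix.det_one] at h3
    exact zero_ne_one h3
  obtain ⟨g, hg⟩ := exists_gl_of_gram A _ hD
    (fun i => Sum.elim (fun _ => z) (Sum.elim (fun a => (e' a : Fin N → F))
      (fun a => (f' a : Fin N → F))) (e i)) (fun i j => by
    rw [← hγa, Matrix.submatrix_apply]
    unfold G0 stdAlt
    rcases e i with u | a | a <;> rcases e j with u' | b | b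
    · simp only [Sum.elim_inl, Matrix.fromBlocks_apply₁₁, Matrix.one_apply_eq]
      rw [hlam, hz1, mul_one]
    · simp only [Sum.elim_inl, Sum.elim_inr, Matrix.fromBlocks_apply₁₂, Matrix.zero_apply]
      rw [hsym, hz, hlamE]
    · simp only [Sum.elim_inl, Sum.elim_inr, Matrix.fromBlocks_apply₁₂, Matrix.zero_apply]
      rw [hsym, hz, hlamF]
    · simp only [Sum.elim_inl, Sum.elim_inr, Matrix.fromBlocks_apply₂₁, Matrix.zero_apply]
      rw [hz, hlamE]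
    · simp only [Sum.elim_inl, Sum.elim_inr, Matrix.fromBlocks_apply₂₂, Matrix.fromBlocks_apply₁₁,
        Matrix.zero_apply]
      exact hee a b
    · simp only [Sum.elim_inl, Sum.elim_inr, Matrix.fromBlocks_apply₂₂, Matrix.fromBlocks_apply₁₂,
        Matrix.one_apply]
      exact hef a b
    · simp only [Sum.elim_inl, Sum.elim_inr, Matrix.fromBlocks_apply₂₁, Matrix.zero_apply]
      rw [hz, hlamF]
    · simp only [Sum.elim_inl, Sum.elim_inr, Matrix.fromBlocks_apply₂₂, Matrix.fromBlocks_apply₂₁,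
        Matrix.neg_apply, Matrix.one_apply]
      rw [hskew, hef b a]
      by_cases hab : a = b
      · simp [hab]
      · rw [if_neg hab, if_neg (Ne.symm hab)]
    · simp only [Sum.elim_inr, Matrix.fromBlocks_apply₂₂, Matrix.zero_apply]
      exact hff a b)
  exact ⟨g, hg⟩

end classify

section final
variable {F : Type*} [Field F] [Fintype F] [CharP F 2] {n m : ℕ}

/-- the representative for `n` odd in characteristic 2 -/
def Aodd2 (e : Fin n ≃ Unit ⊕ (Fin m ⊕ Fin m)) : GL (Fin n) F :=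
  reGL e (G0 m F) (M0 m F) G0_mul_M0

theorem cent_odd2 (e : Fin n ≃ Unit ⊕ (Fin m ⊕ Fin m)) :
    Nonempty (↥(inndiagPSL n F ⊓ Subgroup.centralizer {graphAut (Aodd2 (F := F) e)})
      ≃* PGO F (quadFormOdd m F)) := by
  obtain ⟨e₀⟩ := graph_cent_bil (Aodd2 (F := F) e) ((M0 m F).submatrix e e) (reGL_mul e _ _ _)
  obtain ⟨e₁⟩ := pgs_congr_of_linearEquiv
    (fun u v : Fin n → F => u ⬝ᵥ ((M0 m F).submatrix e e) *ᵥ v)
    (fun u v : Unit ⊕ (Fin m ⊕ Fin m) → F => u ⬝ᵥ M0 m F *ᵥ v)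
    (LinearEquiv.funCongrLeft F F e.symm) 1 one_ne_zero (fun u v => by
      rw [one_mul, dot_submatrix]
      rfl)
  obtain ⟨e₂⟩ := sp_equiv_bil_odd (m := m) (F := F)
  obtain ⟨e₃⟩ := sp_equiv_pgo_odd (m := m) (F := F)
  exact ⟨((e₀.trans e₁).trans e₂.symm).trans e₃⟩

theorem conj_all_odd2 (e : Fin n ≃ Unit ⊕ (Fin m ⊕ Fin m)) (A : GL (Fin n) F)
    (hA : (A : Matrix (Fin n) (Fin n) F)ᵀ = (A : Matrix (Fin n) (Fin n) F)) :
    IsConjUnder (inndiagPSL n F) (graphAut (Aodd2 (F := F) e)) (graphAut A) := by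
  obtain ⟨g, hg⟩ := exists_cong_odd2 A hA e
  exact isConjUnder_symm _ (conj_of_cong A (Aodd2 (F := F) e) g hg)

end final

end Cfsg.Agent.Lib.helper50
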