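import Mathlib

/-!
# S3371 piece B: a half-transitive group with nontrivial stabilizers is indecomposable
-/

set_option autoImplicit false

namespace Cfsg.Agent.Lib.helper50

/-- PIECE B -/
theorem ht_no_decomp {q : ℕ} [Fact q.Prime] {V : Type*} [AddCommGroup V] [Module (ZMod q) V] [Finite V]
    {G : Type*} [Group G] [Finite G] (ρ : G →* (V ≃ₗ[ZMod q] V)) (hρ : Function.Injective ρ)
    (hst : ∀ v w : V, v ≠ 0 → w ≠ 0 → Nat.card {g : G // ρ g v = v} = Nat.card {g : G // ρ g w = w})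
    (hns : ∃ v : V, v ≠ 0 ∧ ∃ g : G, g ≠ 1 ∧ ρ g v = v)
    (W W' : Submodule (ZMod q) V) (hW : ∀ g : G, ∀ w ∈ W, ρ g w ∈ W)
    (hW' : ∀ g : G, ∀ w ∈ W', ρ g w ∈ W') (hc : IsCompl W W') : W = ⊥ ∨ W' = ⊥ := by
  classical
  by_contra hcon
  rw [not_or] at hcon
  obtain ⟨hWne, hW'ne⟩ := hcon
  have hcard : ∀ v w : V, v ≠ 0 → w ≠ 0 →
      Set.ncard {g : G | ρ g v = v} = Set.ncard {g : G | ρ g w = w} := by
    intro v w hv hw
    have h := hst v w hv hw
    rw [← Nat.card_coe_set_eq, ← Nat.card_coe_set_eq]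
    exact h
  have hinf : ∀ x : V, x ∈ W → x ∈ W' → x = 0 := by
    intro x hx hx'
    have : x ∈ W ⊓ W' := ⟨hx, hx'⟩
    rw [hc.inf_eq_bot] at this
    exact (Submodule.mem_bot _).mp this
  -- key: stabilizers of nonzero vectors of `W` and `W'` agree
  have key : ∀ w ∈ W, ∀ w' ∈ W', w ≠ 0 → w' ≠ 0 →
      {g : G | ρ g w = w} = {g : G | ρ g w' = w'} := by
    intro w hw w' hw' hw0 hw'0
    have hsum : w + w' ≠ 0 := by
      intro h
      have h1 : w = -w' := eq_neg_of_add_eq_zero_left h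
      have h2 : w ∈ W' := by rw [h1]; exact W'.neg_mem hw'
      exact hw0 (hinf w hw h2)
    have hsub : ∀ g : G, ρ g (w + w') = w + w' → ρ g w = w ∧ ρ g w' = w' := by
      intro g hg
      rw [map_add] at hg
      have h1 : ρ g w - w = w' - ρ g w' := by
        rw [sub_eq_sub_iff_add_eq_add]
        rw [hg, add_comm]
      have h2 : ρ g w - w ∈ W := W.sub_mem (hW g w hw) hw
      have h3 : ρ g w - w ∈ W' := by rw [h1]; exact W'.sub_mem hw' (hW' g w' hw')
      have h4 := hinf _ h2 h3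
      have h5 : ρ g w = w := sub_eq_zero.mp h4
      refine ⟨h5, ?_⟩
      rw [h4] at h1
      exact (sub_eq_zero.mp h1.symm).symm
    have e1 : {g : G | ρ g (w + w') = w + w'} = {g : G | ρ g w = w} :=
      Set.eq_of_subset_of_ncard_le (fun g hg => (hsub g hg).1)
        (le_of_eq (hcard w (w + w') hw0 hsum)) (Set.toFinite _)
    have e2 : {g : G | ρ g (w + w') = w + w'} = {g : G | ρ g w' = w'} :=
      Set.eq_of_subset_of_ncard_le (fun g hg => (hsub g hg).2)
        (le_of_eq (hcard w' (w + w') hw'0 hsum)) (Set.toFinite _)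
    rw [← e1, e2]
  obtain ⟨w0, hw0W, hw0⟩ := Submodule.exists_mem_ne_zero_of_ne_bot hWne
  obtain ⟨w0', hw0W', hw0'⟩ := Submodule.exists_mem_ne_zero_of_ne_bot hW'ne
  -- the stabilizer of `w0` is trivial
  have htriv : ∀ g : G, ρ g w0 = w0 → g = 1 := by
    intro g hg
    have hgW' : ∀ w' ∈ W', ρ g w' = w' := by
      intro w' hw'
      by_cases h0 : w' = 0
      · rw [h0, map_zero]
      · have h1 := key w0 hw0W w' hw' hw0 h0
        have h2 : g ∈ {g : G | ρ g w0 = w0} := hg
        rw [h1] at h2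
        exact h2
    have hgW : ∀ w ∈ W, ρ g w = w := by
      intro w hw
      by_cases h0 : w = 0
      · rw [h0, map_zero]
      · have h1 := key w hw w0' hw0W' h0 hw0'
        have h2 : g ∈ {g : G | ρ g w0' = w0'} := hgW' w0' hw0W'
        rw [← h1] at h2
        exact h2
    apply hρ
    rw [map_one]
    ext v
    have hv : v ∈ W ⊔ W' := by rw [hc.sup_eq_top]; exact Submodule.mem_top
    obtain ⟨w, hw, w', hw', rfl⟩ := Submodule.mem_sup.mp hv
    rw [map_add, hgW w hw, hgW' w' hw']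
    rfl
  obtain ⟨v, hv0, g, hg1, hgv⟩ := hns
  have h1 : Set.ncard {g : G | ρ g w0 = w0} ≤ 1 := by
    have hsub : {g : G | ρ g w0 = w0} ⊆ {1} := fun g hg => htriv g hg
    calc Set.ncard {g : G | ρ g w0 = w0} ≤ Set.ncard ({1} : Set G) :=
          Set.ncard_le_ncard hsub (Set.toFinite _)
      _ = 1 := Set.ncard_singleton 1
  have h2 : 2 ≤ Set.ncard {g : G | ρ g v = v} := by
    have hsub : ({1, g} : Set G) ⊆ {g : G | ρ g v = v} := by
      intro x hx
      rcases hx with rfl | rfl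
      · show ρ 1 v = v
        rw [map_one]; rfl
      · exact hgv
    calc 2 = Set.ncard ({1, g} : Set G) := (Set.ncard_pair (Ne.symm hg1)).symm
      _ ≤ Set.ncard {g : G | ρ g v = v} := Set.ncard_le_ncard hsub (Set.toFinite _)
  have h3 := hcard v w0 hv0 hw0
  omega

end Cfsg.Agent.Lib.helper50
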