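import Mathlib
import Cfsg.Agent.Lib.helper50.SymForm2

/-!
# Counting the matrices preserving a symmetric bilinear form in characteristic 2

For an invertible symmetric matrix `Γ` over a finite field `F` of characteristic 2 and order `q`,
`{A // Aᵀ * Γ * A = Γ}` has
* `|Sp_{2k}(q)|` elements if `Γ` is alternating of size `2k` (`card_OG_alt`, any characteristic);
* `|Sp_{2k}(q)|` elements if `Γ` has size `2k+1` (`card_OG_odd`);
* `q^(2k+1) |Sp_{2k}(q)|` elements if `Γ` is not alternating of size `2k+2` (`card_OG_nonalt`).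
-/

set_option autoImplicit false

namespace Cfsg.Agent.Lib.helper50

open Matrix Module

universe u

section matrix
variable {F : Type u} [Field F] {n : Type*} [Fintype n] [DecidableEq n]

/-- the bilinear form of a matrix -/
noncomputable def gform (Γ : Matrix n n F) : (n → F) →ₗ[F] (n → F) →ₗ[F] F := Matrix.toBilin' Γ

theorem gform_apply (Γ : Matrix n n F) (x y : n → F) : gform Γ x y = x ⬝ᵥ Γ *ᵥ y :=
  Matrix.toBilin'_apply' Γ x y

theorem gform_sym (Γ : Matrix n n F) (hsym : Γᵀ = Γ) (x y : n → F) :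
    gform Γ x y = gform Γ y x := by
  rw [gform_apply, gform_apply, Matrix.dotProduct_mulVec, dotProduct_comm,
    ← Matrix.mulVec_transpose, hsym]

theorem gform_nondeg (Γ : Matrix n n F) (hdet : Γ.det ≠ 0) (x : n → F)
    (h : ∀ y, gform Γ x y = 0) : x = 0 := by
  apply Matrix.eq_zero_of_vecMul_eq_zero hdet
  funext j
  have := h (Pi.single j 1)
  rw [gform_apply, Matrix.dotProduct_mulVec, dotProduct_single_one] at this
  exact this

theorem gform_col {ι : Type*} (Γ : Matrix n n F) (B : Matrix n ι F) (i j : ι) :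
    gform Γ (fun r => B r i) (fun r => B r j) = (Bᵀ * Γ * B) i j := by
  rw [gform_apply]
  simp only [Matrix.mul_apply, dotProduct, Matrix.mulVec, Matrix.transpose_apply, Finset.sum_mul,
    Finset.mul_sum]
  rw [Finset.sum_comm]
  refine Finset.sum_congr rfl fun l _ => Finset.sum_congr rfl fun i _ => by ring

theorem gform_mulVec (Γ A : Matrix n n F) (x y : n → F) :
    gform Γ (A *ᵥ x) (A *ᵥ y) = gform (Aᵀ * Γ * A) x y := by
  rw [gform_apply, gform_apply, Matrix.mul_assoc, ← Matrix.mulVec_mulVec, ← Matrix.mulVec_mulVec,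
    Matrix.dotProduct_mulVec x Aᵀ, Matrix.vecMul_transpose]

theorem OG_iff (Γ A : Matrix n n F) :
    Aᵀ * Γ * A = Γ ↔ ∀ x y, gform Γ (A *ᵥ x) (A *ᵥ y) = gform Γ x y := by
  constructor
  · intro h x y
    rw [gform_mulVec, h]
  · intro h
    have : gform (Aᵀ * Γ * A) = gform Γ := LinearMap.ext₂ (fun x y => by rw [← gform_mulVec, h])
    exact (Matrix.toBilin' (R₁ := F) (n := n)).injective this

theorem det_ne_zero_of_OG (Γ A : Matrix n n F) (hdet : Γ.det ≠ 0) (h : Aᵀ * Γ * A = Γ) :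
    A.det ≠ 0 := by
  intro h0
  apply hdet
  rw [← h, Matrix.det_mul, h0, mul_zero]

/-- the matrices preserving `Γ` (and fixing `z`) form a torsor over the frames with a given
invertible Gram matrix -/
theorem card_OG_torsor (Γ G₀ B₀ : Matrix n n F) (hG₀ : G₀.det ≠ 0) (hB₀ : B₀ᵀ * Γ * B₀ = G₀)
    (w z : n → F) (hw : B₀ *ᵥ w = z) :
    Nat.card {A : Matrix n n F // Aᵀ * Γ * A = Γ ∧ A *ᵥ z = z}
      = Nat.card {B : Matrix n n F // Bᵀ * Γ * B = G₀ ∧ B *ᵥ w = z} := by
  have hdet : B₀.det ≠ 0 := by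
    intro h0
    apply hG₀
    rw [← hB₀, Matrix.det_mul, h0, mul_zero]
  have hu : IsUnit B₀.det := isUnit_iff_ne_zero.2 hdet
  have h1 : B₀ * B₀⁻¹ = 1 := Matrix.mul_nonsing_inv B₀ hu
  have h2 : B₀⁻¹ * B₀ = 1 := Matrix.nonsing_inv_mul B₀ hu
  have hw' : B₀⁻¹ *ᵥ z = w := by rw [← hw, Matrix.mulVec_mulVec, h2, Matrix.one_mulVec]
  apply Nat.card_congr
  exact
    { toFun := fun A => ⟨A.1 * B₀, by
        rw [Matrix.transpose_mul]
        calc B₀ᵀ * A.1ᵀ * Γ * (A.1 * B₀) = B₀ᵀ * (A.1ᵀ * Γ * A.1) * B₀ := by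
              simp only [Matrix.mul_assoc]
          _ = G₀ := by rw [A.2.1, hB₀], by
        rw [← Matrix.mulVec_mulVec, hw, A.2.2]⟩
      invFun := fun B => ⟨B.1 * B₀⁻¹, by
        rw [Matrix.transpose_mul]
        calc B₀⁻¹ᵀ * B.1ᵀ * Γ * (B.1 * B₀⁻¹) = B₀⁻¹ᵀ * (B.1ᵀ * Γ * B.1) * B₀⁻¹ := by
              simp only [Matrix.mul_assoc]
          _ = B₀⁻¹ᵀ * (B₀ᵀ * Γ * B₀) * B₀⁻¹ := by rw [B.2.1, hB₀]
          _ = (B₀ * B₀⁻¹)ᵀ * Γ * (B₀ * B₀⁻¹) := by
              rw [Matrix.transpose_mul]; simp only [Matrix.mul_assoc]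
          _ = Γ := by rw [h1]; simp, by
        rw [← Matrix.mulVec_mulVec, hw', B.2.2]⟩
      left_inv := fun A => by
        apply Subtype.ext
        simp only [Matrix.mul_assoc, h1, Matrix.mul_one]
      right_inv := fun B => by
        apply Subtype.ext
        simp only [Matrix.mul_assoc, h2, Matrix.mul_one] }

theorem card_OG_torsor' (Γ G₀ B₀ : Matrix n n F) (hG₀ : G₀.det ≠ 0) (hB₀ : B₀ᵀ * Γ * B₀ = G₀) :
    Nat.card {A : Matrix n n F // Aᵀ * Γ * A = Γ}
      = Nat.card {B : Matrix n n F // Bᵀ * Γ * B = G₀} := by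
  have h := card_OG_torsor Γ G₀ B₀ hG₀ hB₀ 0 0 (by simp)
  have e1 : Nat.card {A : Matrix n n F // Aᵀ * Γ * A = Γ ∧ A *ᵥ (0 : n → F) = 0}
      = Nat.card {A : Matrix n n F // Aᵀ * Γ * A = Γ} :=
    Nat.card_congr (Equiv.subtypeEquivRight (fun A => by simp))
  have e2 : Nat.card {B : Matrix n n F // Bᵀ * Γ * B = G₀ ∧ B *ᵥ (0 : n → F) = 0}
      = Nat.card {B : Matrix n n F // Bᵀ * Γ * B = G₀} :=
    Nat.card_congr (Equiv.subtypeEquivRight (fun B => by simp))
  rw [← e1, ← e2]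
  exact h

/-- a vector orthogonal to all the columns of a frame with invertible Gram matrix vanishes -/
theorem col_forced (Γ B G₀ : Matrix n n F) (hB : Bᵀ * Γ * B = G₀) (hG₀ : G₀.det ≠ 0) (d : n → F)
    (hd : ∀ c, gform Γ (fun r => B r c) d = 0) : d = 0 := by
  have hdet : (Bᵀ * Γ).det ≠ 0 := by
    intro h0
    apply hG₀
    rw [← hB, Matrix.det_mul, h0, zero_mul]
  apply Matrix.eq_zero_of_mulVec_eq_zero hdet
  rw [← Matrix.mulVec_mulVec]
  funext c
  have := hd c
  rw [gform_apply] at this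
  exact this

end matrix

section J
variable {F : Type u} [Field F]

theorem J_ll (k : ℕ) (a b : Fin k) : J (Fin k) F (.inl a) (.inl b) = 0 := by simp [J]

theorem J_rr (k : ℕ) (a b : Fin k) : J (Fin k) F (.inr a) (.inr b) = 0 := by simp [J]

theorem J_lr (k : ℕ) (a b : Fin k) :
    J (Fin k) F (.inl a) (.inr b) = if a = b then -1 else 0 := by
  simp only [J, Matrix.fromBlocks_apply₁₂, Matrix.neg_apply, Matrix.one_apply]
  split_ifs <;> simp

theorem J_rl (k : ℕ) (a b : Fin k) :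
    J (Fin k) F (.inr a) (.inl b) = if a = b then 1 else 0 := by
  simp only [J, Matrix.fromBlocks_apply₂₁, Matrix.one_apply]

/-- matrices with Gram matrix `J` for an alternating form are symplectic frames (columns) -/
noncomputable def gramJEquivSFrame (k : ℕ) (Γ : Matrix (Fin k ⊕ Fin k) (Fin k ⊕ Fin k) F)
    (halt : ∀ x, gform Γ x x = 0) :
    {B : Matrix (Fin k ⊕ Fin k) (Fin k ⊕ Fin k) F // Bᵀ * Γ * B = J (Fin k) F} ≃
      SFrame (gform Γ) k where
  toFun B := ⟨(fun a i => B.1 i (.inl a), fun a i => B.1 i (.inr a)), by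
    have hB := B.2
    intro a b
    refine ⟨?_, ?_, ?_⟩
    · rw [gform_col, hB, J_ll]
    · rw [gform_col, hB, J_rr]
    · rw [gform_col, hB, J_lr]⟩
  invFun s := ⟨Matrix.of (fun i j => Sum.elim s.1.1 s.1.2 j i), by
    obtain ⟨⟨x, y⟩, h⟩ := s
    ext j l
    rw [← gform_col]
    rcases j with a | a <;> rcases l with b | b
    · simp only [Matrix.of_apply, Sum.elim_inl]
      rw [J_ll]; exact (h a b).1
    · simp only [Matrix.of_apply, Sum.elim_inl, Sum.elim_inr]
      rw [J_lr]; exact (h a b).2.2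
    · simp only [Matrix.of_apply, Sum.elim_inl, Sum.elim_inr]
      rw [J_rl]
      have h1 : gform Γ (y a) (x b) = - gform Γ (x b) (y a) := skew_of_alt _ halt _ _
      have h2 := (h b a).2.2
      change gform Γ (y a) (x b) = _
      rw [h1, h2]
      by_cases hab : a = b
      · subst hab; simp
      · rw [if_neg hab, if_neg (Ne.symm hab), neg_zero]
    · simp only [Matrix.of_apply, Sum.elim_inr]
      rw [J_rr]; exact (h a b).2.1⟩
  left_inv := by
    rintro ⟨A, hA⟩
    apply Subtype.ext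
    ext i j
    rcases j with j | j <;> simp
  right_inv := by
    rintro ⟨⟨x, y⟩, h⟩
    rfl

theorem gramJEquivSFrame_col (k : ℕ) (Γ : Matrix (Fin k ⊕ Fin k) (Fin k ⊕ Fin k) F)
    (halt : ∀ x, gform Γ x x = 0)
    (B : {B : Matrix (Fin k ⊕ Fin k) (Fin k ⊕ Fin k) F // Bᵀ * Γ * B = J (Fin k) F}) (a : Fin k) :
    (gramJEquivSFrame k Γ halt B).1.1 a = B.1 *ᵥ Pi.single (Sum.inl a) 1 := by
  rw [Matrix.mulVec_single_one]
  rfl

end J

end Cfsg.Agent.Lib.helper50
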