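import Mathlib
import Cfsg.Agent.Lib.helper50.OGCount

/-!
# The three counts of `{A // Aᵀ * Γ * A = Γ}` (see `OGCount.lean`)
-/

set_option autoImplicit false

namespace Cfsg.Agent.Lib.helper50

open Matrix Module

universe u v

/-- the order formula of `Sp_{2k}(q)` -/
def spOrd (q k : ℕ) : ℕ := q ^ (k ^ 2) * ∏ i ∈ Finset.range k, (q ^ (2 * (i + 1)) - 1)

theorem spOrd_pos (q k : ℕ) (hq : 2 ≤ q) : 0 < spOrd q k := by
  unfold spOrd
  apply Nat.mul_pos (pow_pos (by omega) _)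
  apply Finset.prod_pos
  intro i _
  have : 2 ≤ q ^ (2 * (i + 1)) := by
    calc 2 ≤ q := hq
      _ = q ^ 1 := (pow_one q).symm
      _ ≤ q ^ (2 * (i + 1)) := Nat.pow_le_pow_right (by omega) (by omega)
  omega

section
variable {F : Type u} [Field F] [Fintype F]

/-- symplectic frames with prescribed first vector -/
theorem card_SFrame_fix (k : ℕ) (V : Type v) [AddCommGroup V] [Module F V] [Finite V]
    (ω : V →ₗ[F] V →ₗ[F] F) (halt : ∀ v, ω v v = 0) (hnd : ∀ v, (∀ w, ω v w = 0) → v = 0)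
    (hdim : finrank F V = 2 * (k + 1)) (e : V) (he : e ≠ 0) :
    Nat.card {s : SFrame ω (k + 1) // s.1.1 0 = e}
      = Fintype.card F ^ (2 * k + 1) * spOrd (Fintype.card F) k := by
  classical
  let P := {f : V // ω e f = (-1 : F)}
  let π : {s : SFrame ω (k + 1) // s.1.1 0 = e} → P := fun s =>
    ⟨s.1.1.2 0, by have := (s.1.2 0 0).2.2; rw [s.2] at this; simpa using this⟩
  have hfib : ∀ p : P, Nat.card {s : {s : SFrame ω (k + 1) // s.1.1 0 = e} // π s = p}
      = spOrd (Fintype.card F) k := by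
    rintro ⟨f, hef⟩
    have e1 : {s : {s : SFrame ω (k + 1) // s.1.1 0 = e} // π s = ⟨f, hef⟩} ≃
        {s : SFrame ω (k + 1) // s.1.1 0 = e ∧ s.1.2 0 = f} :=
      { toFun := fun s => ⟨s.1.1, s.1.2, congrArg Subtype.val s.2⟩
        invFun := fun s => ⟨⟨s.1, s.2.1⟩, Subtype.ext s.2.2⟩
        left_inv := fun s => rfl
        right_inv := fun s => rfl }
    rw [Nat.card_congr (e1.trans (sframeFiberEquiv ω halt k e f hef))]
    have hne : ω e f ≠ 0 := by rw [hef]; simp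
    unfold spOrd
    apply card_SFrame
    · intro v; rw [LinearMap.domRestrict₁₂_apply]; exact halt _
    · exact nondeg_perp2 ω halt hnd e f hne
    · have := finrank_perp2 ω halt e f hne
      omega
  have : Fintype P := Fintype.ofFinite _
  rw [Nat.card_congr (Equiv.sigmaFiberEquiv π).symm, Nat.card_sigma,
    Finset.sum_congr rfl (fun p _ => hfib p), Finset.sum_const, Finset.card_univ, smul_eq_mul,
    ← Nat.card_eq_fintype_card]
  have hφ : ω e ≠ 0 := by
    intro h0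
    apply he
    apply hnd
    intro w
    rw [h0]
    rfl
  rw [card_fiber (ω e) hφ (-1), hdim]
  congr 2

/-- alternating case -/
theorem card_OG_alt (k : ℕ) (Γ : Matrix (Fin k ⊕ Fin k) (Fin k ⊕ Fin k) F)
    (hdet : Γ.det ≠ 0) (halt : ∀ x, gform Γ x x = 0) :
    Nat.card {A : Matrix (Fin k ⊕ Fin k) (Fin k ⊕ Fin k) F // Aᵀ * Γ * A = Γ}
      = spOrd (Fintype.card F) k := by
  classical
  have hq : 2 ≤ Fintype.card F := Fintype.one_lt_card
  have hfin : finrank F (Fin k ⊕ Fin k → F) = 2 * k := by simp [two_mul]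
  have hcard := card_SFrame k (Fin k ⊕ Fin k → F) (gform Γ) halt (gform_nondeg Γ hdet) hfin
  have hne : Nonempty (SFrame (gform Γ) k) := by
    have hpos := spOrd_pos (Fintype.card F) k hq
    unfold spOrd at hpos
    rw [← hcard] at hpos
    exact (Nat.card_pos_iff.1 hpos).1
  obtain ⟨s₀⟩ := hne
  obtain ⟨B₀, hB₀⟩ := (gramJEquivSFrame k Γ halt).symm s₀
  rw [card_OG_torsor' Γ (J (Fin k) F) B₀ (isUnit_iff_ne_zero.1 (isUnit_det_J (Fin k) F)) hB₀,
    Nat.card_congr (gramJEquivSFrame k Γ halt), hcard]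
  rfl

/-- non-alternating case of even size -/
theorem card_OG_nonalt [CharP F 2] (k : ℕ)
    (Γ : Matrix (Fin (k + 1) ⊕ Fin (k + 1)) (Fin (k + 1) ⊕ Fin (k + 1)) F)
    (hsym : Γᵀ = Γ) (hdet : Γ.det ≠ 0) (hna : ∃ c, gform Γ c c ≠ 0) :
    Nat.card {A : Matrix (Fin (k + 1) ⊕ Fin (k + 1)) (Fin (k + 1) ⊕ Fin (k + 1)) F //
        Aᵀ * Γ * A = Γ}
      = Fintype.card F ^ (2 * k + 1) * spOrd (Fintype.card F) k := by
  classical
  have hq : 2 ≤ Fintype.card F := Fintype.one_lt_card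
  have hs : ∀ x y, gform Γ x y = gform Γ y x := gform_sym Γ hsym
  have hnd : ∀ x, (∀ y, gform Γ x y = 0) → x = 0 := gform_nondeg Γ hdet
  obtain ⟨lam, hlam⟩ : ∃ lam : (Fin (k + 1) ⊕ Fin (k + 1) → F) →ₗ[F] F,
      ∀ x, gform Γ x x = lam x * lam x := ⟨lamOf (gform Γ) hs, lamOf_sq (gform Γ) hs⟩
  obtain ⟨z, hz⟩ := exists_repr (gform Γ) hs hnd lam
  have hfin : finrank F (Fin (k + 1) ⊕ Fin (k + 1) → F) = 2 * (k + 1) := by simp [two_mul]
  have h0 : lam z = 0 :=
    lam_z_eq_zero_of_even (gform Γ) lam hnd hlam z hz (by rw [hfin]; exact even_two_mul _)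
  have hz0 : z ≠ 0 := by
    rintro rfl
    obtain ⟨c, hc⟩ := hna
    apply hc
    have : lam c = 0 := by rw [← hz c]; simp
    rw [hlam, this, zero_mul]
  obtain ⟨Γh, hgh⟩ : ∃ Γh : Matrix (Fin (k + 1) ⊕ Fin (k + 1)) (Fin (k + 1) ⊕ Fin (k + 1)) F,
      gform Γh = hatForm (gform Γ) lam :=
    ⟨LinearMap.BilinForm.toMatrix' (hatForm (gform Γ) lam), Matrix.toBilin'_toMatrix' _⟩
  have hg : ∀ x y, gform Γh x y = gform Γ x y + lam x * lam y := fun x y => by
    rw [hgh, hatForm_apply]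
  have halt' : ∀ x, gform Γh x x = 0 := fun x => by
    rw [hgh]; exact hatForm_alt (gform Γ) lam hlam x
  have hnd' : ∀ x, (∀ y, gform Γh x y = 0) → x = 0 := by
    rw [hgh]; exact hatForm_nondeg (gform Γ) lam hs hnd z hz h0
  have e1 : Nat.card {A : Matrix (Fin (k + 1) ⊕ Fin (k + 1)) (Fin (k + 1) ⊕ Fin (k + 1)) F //
        Aᵀ * Γ * A = Γ}
      = Nat.card {A : Matrix (Fin (k + 1) ⊕ Fin (k + 1)) (Fin (k + 1) ⊕ Fin (k + 1)) F //
        Aᵀ * Γh * A = Γh ∧ A *ᵥ z = z} := by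
    apply Nat.card_congr
    apply Equiv.subtypeEquivRight
    intro A
    constructor
    · intro h
      have hA := (OG_iff Γ A).1 h
      have hl : ∀ x, lam (A *ᵥ x) = lam x := fun x =>
        sq_inj2 (by rw [← hlam, ← hlam]; exact hA x x)
      refine ⟨(OG_iff Γh A).2 (fun x y => by rw [hg, hg, hl, hl, hA]), ?_⟩
      have hdA := det_ne_zero_of_OG Γ A hdet h
      have hu : IsUnit A.det := isUnit_iff_ne_zero.2 hdA
      have : A *ᵥ z - z = 0 := by
        apply hnd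
        intro y
        rw [hs]
        obtain ⟨x, rfl⟩ : ∃ x, y = A *ᵥ x :=
          ⟨A⁻¹ *ᵥ y, by rw [Matrix.mulVec_mulVec, Matrix.mul_nonsing_inv A hu, Matrix.one_mulVec]⟩
        rw [map_sub, hA, hz, hz, hl, sub_self]
      exact sub_eq_zero.1 this
    · rintro ⟨h, hfix⟩
      have hA := (OG_iff Γh A).1 h
      have hl : ∀ x, lam (A *ᵥ x) = lam x := by
        intro x
        have h1 := hA x z
        rw [hfix, hg, hg, hz, hz, h0, mul_zero, mul_zero, add_zero, add_zero] at h1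
        exact h1
      apply (OG_iff Γ A).2
      intro x y
      have h1 := hA x y
      rw [hg, hg, hl, hl] at h1
      exact add_right_cancel h1
  have hcount := card_SFrame_fix k (Fin (k + 1) ⊕ Fin (k + 1) → F) (gform Γh) halt' hnd' hfin z hz0
  have hne : Nonempty {s : SFrame (gform Γh) (k + 1) // s.1.1 0 = z} := by
    have hpos : 0 < Fintype.card F ^ (2 * k + 1) * spOrd (Fintype.card F) k :=
      Nat.mul_pos (pow_pos (by omega) _) (spOrd_pos _ k hq)
    rw [← hcount] at hpos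
    exact (Nat.card_pos_iff.1 hpos).1
  obtain ⟨⟨s₀, hs₀⟩⟩ := hne
  obtain ⟨B₀, hB₀⟩ : ∃ B₀, gramJEquivSFrame (k + 1) Γh halt' B₀ = s₀ :=
    ⟨(gramJEquivSFrame (k + 1) Γh halt').symm s₀, Equiv.apply_symm_apply _ _⟩
  have hB₀z : B₀.1 *ᵥ Pi.single (Sum.inl 0) 1 = z := by
    rw [← gramJEquivSFrame_col (k + 1) Γh halt' B₀ 0, hB₀, hs₀]
  rw [e1, card_OG_torsor Γh (J (Fin (k + 1)) F) B₀.1
    (isUnit_iff_ne_zero.1 (isUnit_det_J _ F)) B₀.2 (Pi.single (Sum.inl 0) 1) z hB₀z, ← hcount]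
  apply Nat.card_congr
  exact (Equiv.subtypeSubtypeEquivSubtypeInter _ _).symm.trans
    (Equiv.subtypeEquiv (gramJEquivSFrame (k + 1) Γh halt') (fun B => by
      rw [gramJEquivSFrame_col]))

end

end Cfsg.Agent.Lib.helper50
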