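import Mathlib
import Cfsg.Agent.S0775
import Cfsg.Agent.Lib.helper50.OGCount2

/-!
# Centralisers of involutions in `Sp_2m(q)`, `q` even

For an involution `t` with `N = t - 1` of rank `s`, `U = im N` is totally isotropic of dimension `s` and
carries the symmetric form `γ(N x, N y) = ω(x, N y)`.  With a basis `x j = N (p j)` of `U` and the Gram
matrix `Γ i j = ω(p i, x j)` of `γ`:

`|C(t)| = #{a // aᵀ Γ a = Γ} * |pointwise stabiliser of U|`  (`InvData.card_centralizer`).
-/

set_option autoImplicit false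

namespace Cfsg.Agent.Lib.helper50

open Matrix Module Cfsg Cfsg.Agent.Lib.helper17

section frameStab
variable {F : Type*} [Field F] [Fintype F]

/-- order of the pointwise stabiliser of a totally isotropic frame -/
theorem card_frameStab (k d : ℕ) (x₀ : Fin k → (Fin (k + d) ⊕ Fin (k + d) → F))
    (hx₀ : LinearIndependent F x₀) (hiso : ∀ i j, sympForm (k + d) F (x₀ i) (x₀ j) = 0) :
    Nat.card (frameStab (k + d) x₀)
      = Fintype.card F ^ (k * (k + 1) / 2 + 2 * k * d) * spOrd (Fintype.card F) d := by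
  classical
  have hq : 2 ≤ Fintype.card F := Fintype.one_lt_card
  have hsp := card_sp_eq (k + d) x₀ hx₀ hiso
  rw [Cfsg.Agent.S0245.result (rfl : Fintype.card F = Fintype.card F) (k + d)] at hsp
  have har := Cfsg.Agent.S0775.arith (Fintype.card F) k d
  have hT : 0 < ∏ i ∈ Finset.range k,
      (Fintype.card F ^ (2 * (k + d) - i) - Fintype.card F ^ i) := by
    apply Finset.prod_pos
    intro i hi
    have hi' := Finset.mem_range.mp hi
    apply Nat.sub_pos_of_lt
    apply Nat.pow_lt_pow_right hq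
    omega
  apply Nat.eq_of_mul_eq_mul_left hT
  rw [← hsp]
  unfold spOrd
  rw [har]

end frameStab

theorem mat_ext_of_mulVec {F : Type*} [Field F] {n : Type*} [Fintype n] [DecidableEq n]
    (A B : Matrix n n F) (h : ∀ v, A *ᵥ v = B *ᵥ v) : A = B :=
  (Matrix.toLin' (R := F)).injective
    (LinearMap.ext fun v => by rw [Matrix.toLin'_apply, Matrix.toLin'_apply, h v])

/-- the data of a square-zero self-adjoint operator with a chosen basis of its image -/
structure InvData (m : ℕ) (F : Type*) [Field F] (ι : Type*) [Fintype ι] where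
  N : Matrix (Fin m ⊕ Fin m) (Fin m ⊕ Fin m) F
  hNN : N * N = 0
  hadj : ∀ x y, sympForm m F (N *ᵥ x) y = sympForm m F x (N *ᵥ y)
  p : ι → (Fin m ⊕ Fin m → F)
  hli : LinearIndependent F (fun j => N *ᵥ p j)
  hspan : ∀ v, ∃ c : ι → F, N *ᵥ v = ∑ j, c j • N *ᵥ p j

namespace InvData

section
variable {F : Type*} [Field F] {m : ℕ} {ι : Type*} [Fintype ι]

theorem symp_sum_left (c : ι → F) (u : ι → (Fin m ⊕ Fin m → F)) (v : Fin m ⊕ Fin m → F) :
    sympForm m F (∑ j, c j • u j) v = ∑ j, c j * sympForm m F (u j) v := by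
  change sympBilin m (∑ j, c j • u j) v = _
  simp only [map_sum, map_smul, LinearMap.sum_apply, LinearMap.smul_apply, smul_eq_mul,
    sympBilin_apply]

theorem symp_sum_right (c : ι → F) (u : ι → (Fin m ⊕ Fin m → F)) (v : Fin m ⊕ Fin m → F) :
    sympForm m F v (∑ j, c j • u j) = ∑ j, c j * sympForm m F v (u j) := by
  change sympBilin m v (∑ j, c j • u j) = _
  simp only [map_sum, map_smul, smul_eq_mul, sympBilin_apply]

variable (D : InvData m F ι)

/-- the basis of the image -/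
def x (j : ι) : Fin m ⊕ Fin m → F := D.N *ᵥ D.p j

/-- the Gram matrix of the induced symmetric form -/
def Γ : Matrix ι ι F := Matrix.of fun i j => sympForm m F (D.p i) (D.x j)

/-- linear combinations of the `p j` -/
def comb (c : ι → F) : Fin m ⊕ Fin m → F := ∑ j, c j • D.p j

/-- linear combinations of the `x j` -/
def xcomb (c : ι → F) : Fin m ⊕ Fin m → F := ∑ j, c j • D.x j

theorem N_comb (c : ι → F) : D.N *ᵥ D.comb c = D.xcomb c := by
  simp only [comb, xcomb, x, Matrix.mulVec_sum, Matrix.mulVec_smul]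

theorem symp_p_xcomb (i : ι) (c : ι → F) :
    sympForm m F (D.p i) (D.xcomb c) = (D.Γ *ᵥ c) i := by
  unfold xcomb
  rw [symp_sum_right]
  simp only [Matrix.mulVec, dotProduct, Γ, Matrix.of_apply]
  exact Finset.sum_congr rfl fun j _ => mul_comm _ _

theorem symp_comb_xcomb (c c' : ι → F) :
    sympForm m F (D.comb c) (D.xcomb c') = c ⬝ᵥ D.Γ *ᵥ c' := by
  unfold comb
  rw [symp_sum_left]
  simp only [dotProduct, D.symp_p_xcomb]

theorem symp_xx (i j : ι) : sympForm m F (D.x i) (D.x j) = 0 := by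
  unfold x
  rw [D.hadj, Matrix.mulVec_mulVec, D.hNN, Matrix.zero_mulVec, sympForm_zero_right]

theorem symp_xcomb_xcomb (c c' : ι → F) : sympForm m F (D.xcomb c) (D.xcomb c') = 0 := by
  rw [← D.N_comb, ← D.N_comb, D.hadj, Matrix.mulVec_mulVec, D.hNN, Matrix.zero_mulVec,
    sympForm_zero_right]

theorem ker_of_perp (d : Fin m ⊕ Fin m → F) (h : ∀ j, sympForm m F (D.x j) d = 0) :
    D.N *ᵥ d = 0 := by
  by_contra hne
  obtain ⟨w, hw⟩ := exists_sympForm_ne_zero m _ hne
  apply hw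
  obtain ⟨c, hc⟩ := D.hspan w
  rw [D.hadj, hc, symp_sum_right]
  apply Finset.sum_eq_zero
  intro j _
  have : sympForm m F d (D.N *ᵥ D.p j) = - sympForm m F (D.x j) d := sympForm_swap m (D.x j) d
  rw [this, h j, neg_zero, mul_zero]

theorem xcomb_inj (c c' : ι → F) (h : D.xcomb c = D.xcomb c') : c = c' := by
  have h1 : ∑ j, (c j - c' j) • D.x j = 0 := by
    simp only [sub_smul, Finset.sum_sub_distrib]
    exact sub_eq_zero.2 h
  funext j
  exact sub_eq_zero.1 (Fintype.linearIndependent_iff.1 D.hli (fun j => c j - c' j) h1 j)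

variable [CharP F 2]

theorem Γ_symm : D.Γᵀ = D.Γ := by
  ext i j
  simp only [Matrix.transpose_apply, Γ, Matrix.of_apply, x]
  rw [← D.hadj, sympForm_swap, CharTwo.neg_eq]

variable [DecidableEq ι]

theorem Γ_det : D.Γ.det ≠ 0 := by
  intro h0
  obtain ⟨c, hc0, hc⟩ := Matrix.exists_mulVec_eq_zero_iff.2 h0
  apply hc0
  have h1 : D.N *ᵥ D.comb c = 0 := by
    apply D.ker_of_perp
    intro j
    unfold x
    rw [D.hadj, D.N_comb, D.symp_p_xcomb, hc]
    rfl
  rw [D.N_comb] at h1
  exact D.xcomb_inj c 0 (by rw [h1]; simp [xcomb])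

/-- the value `ω(v, t v)` is a value of the quadratic form of `Γ` -/
theorem quad_val (t : Matrix (Fin m ⊕ Fin m) (Fin m ⊕ Fin m) F) (ht : t = D.N + 1)
    (v : Fin m ⊕ Fin m → F) : ∃ c, sympForm m F v (t *ᵥ v) = gform D.Γ c c := by
  obtain ⟨c, hc⟩ := D.hspan v
  refine ⟨c, ?_⟩
  have hc' : D.N *ᵥ v = D.N *ᵥ D.comb c := by rw [D.N_comb]; exact hc
  rw [ht, Matrix.add_mulVec, Matrix.one_mulVec]
  have h1 : sympForm m F v (D.N *ᵥ v + v) = sympForm m F v (D.N *ᵥ v) := by
    change sympBilin m v (D.N *ᵥ v + v) = sympBilin m v (D.N *ᵥ v)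
    rw [map_add, sympBilin_alt, add_zero]
  rw [h1, hc', ← D.hadj, hc', D.hadj, D.N_comb, D.symp_comb_xcomb, gform_apply]

theorem quad_val' (t : Matrix (Fin m ⊕ Fin m) (Fin m ⊕ Fin m) F) (ht : t = D.N + 1)
    (c : ι → F) : gform D.Γ c c = sympForm m F (D.comb c) (t *ᵥ D.comb c) := by
  rw [ht, Matrix.add_mulVec, Matrix.one_mulVec]
  have h1 : sympForm m F (D.comb c) (D.N *ᵥ D.comb c + D.comb c)
      = sympForm m F (D.comb c) (D.N *ᵥ D.comb c) := by
    change sympBilin m (D.comb c) (D.N *ᵥ D.comb c + D.comb c)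
      = sympBilin m (D.comb c) (D.N *ᵥ D.comb c)
    rw [map_add, sympBilin_alt, add_zero]
  rw [h1, D.N_comb, D.symp_comb_xcomb, gform_apply]

/-- the matrix `ω(p i, g x j)` -/
def M (g : Matrix (Fin m ⊕ Fin m) (Fin m ⊕ Fin m) F) : Matrix ι ι F :=
  Matrix.of fun i j => sympForm m F (D.p i) (g *ᵥ D.x j)

/-- the matrix of `g` on the image, in the basis `x` -/
noncomputable def A (g : Matrix (Fin m ⊕ Fin m) (Fin m ⊕ Fin m) F) : Matrix ι ι F :=
  D.Γ⁻¹ * D.M g

theorem mulVec_x (g : Matrix (Fin m ⊕ Fin m) (Fin m ⊕ Fin m) F) (hg : g * D.N = D.N * g)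
    (j : ι) : g *ᵥ D.x j = D.xcomb (fun i => D.A g i j) := by
  have h1 : g *ᵥ D.x j = D.N *ᵥ (g *ᵥ D.p j) := by
    unfold x
    rw [Matrix.mulVec_mulVec, Matrix.mulVec_mulVec, hg]
  obtain ⟨c, hc⟩ := D.hspan (g *ᵥ D.p j)
  have h2 : g *ᵥ D.x j = D.xcomb c := by rw [h1, hc]; rfl
  have hM : (fun k => D.M g k j) = D.Γ *ᵥ c := by
    funext k
    simp only [M, Matrix.of_apply]
    rw [h2, D.symp_p_xcomb]
  have hu : IsUnit D.Γ.det := isUnit_iff_ne_zero.2 D.Γ_det
  have hA : (fun i => D.A g i j) = c := by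
    have : (fun i => D.A g i j) = D.Γ⁻¹ *ᵥ (fun k => D.M g k j) := by
      funext i
      simp only [A, Matrix.mul_apply, Matrix.mulVec, dotProduct]
    rw [this, hM, Matrix.mulVec_mulVec, Matrix.nonsing_inv_mul _ hu, Matrix.one_mulVec]
  rw [hA, h2]

theorem OG_A (g : Matrix (Fin m ⊕ Fin m) (Fin m ⊕ Fin m) F)
    (hsp : ∀ u v, sympForm m F (g *ᵥ u) (g *ᵥ v) = sympForm m F u v)
    (hg : g * D.N = D.N * g) : (D.A g)ᵀ * D.Γ * D.A g = D.Γ := by
  have key : ∀ i j, D.Γ i j = ((D.A g)ᵀ * D.Γ * D.A g) j i := by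
    intro i j
    have h1 : D.Γ i j = sympForm m F (g *ᵥ D.p i) (g *ᵥ D.x j) := by
      rw [hsp]; rfl
    have h2 : D.N *ᵥ (g *ᵥ D.p i) = g *ᵥ D.x i := by
      unfold x
      rw [Matrix.mulVec_mulVec, Matrix.mulVec_mulVec, hg]
    rw [h1, D.mulVec_x g hg j, ← D.N_comb, ← D.hadj, h2, D.mulVec_x g hg i, sympForm_swap,
      CharTwo.neg_eq, D.symp_comb_xcomb, ← gform_apply, gform_col]
  ext i j
  rw [← key j i]
  have := congrFun (congrFun D.Γ_symm i) j
  rw [Matrix.transpose_apply] at this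
  exact this

theorem A_eq_iff (g g' : Matrix (Fin m ⊕ Fin m) (Fin m ⊕ Fin m) F) (hg : g * D.N = D.N * g)
    (hg' : g' * D.N = D.N * g') :
    D.A g = D.A g' ↔ ∀ j, g *ᵥ D.x j = g' *ᵥ D.x j := by
  constructor
  · intro h j
    rw [D.mulVec_x g hg j, D.mulVec_x g' hg' j, h]
  · intro h
    have : D.M g = D.M g' := by
      ext i j
      simp only [M, Matrix.of_apply, h j]
    simp only [A, this]

/-- elements fixing the image pointwise commute with `N` -/
theorem comm_of_fix (h : Matrix (Fin m ⊕ Fin m) (Fin m ⊕ Fin m) F)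
    (hsp : ∀ u v, sympForm m F (h *ᵥ u) (h *ᵥ v) = sympForm m F u v)
    (hfix : ∀ j, h *ᵥ D.x j = D.x j) : h * D.N = D.N * h := by
  apply mat_ext_of_mulVec
  intro v
  rw [← Matrix.mulVec_mulVec, ← Matrix.mulVec_mulVec]
  obtain ⟨c, hc⟩ := D.hspan v
  have h1 : h *ᵥ (D.N *ᵥ v) = D.N *ᵥ v := by
    rw [hc, Matrix.mulVec_sum]
    refine Finset.sum_congr rfl fun j _ => ?_
    rw [Matrix.mulVec_smul]
    congr 1
    exact hfix j
  have h2 : D.N *ᵥ (h *ᵥ v - v) = 0 := by
    apply D.ker_of_perp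
    intro j
    rw [sympForm_sub_right]
    nth_rewrite 1 [← hfix j]
    rw [hsp, sub_self]
  rw [Matrix.mulVec_sub, sub_eq_zero] at h2
  rw [h1, h2]

/-- every matrix preserving `Γ` comes from a symplectic matrix commuting with `N` -/
theorem exists_of_OG {s : ℕ} (e : ι ≃ Fin s) (a : Matrix ι ι F) (ha : aᵀ * D.Γ * a = D.Γ) :
    ∃ g : Matrix.symplecticGroup (Fin m) F, g.1 * D.N = D.N * g.1 ∧ D.A g.1 = a := by
  have hdet : a.det ≠ 0 := det_ne_zero_of_OG D.Γ a D.Γ_det ha
  have hu : IsUnit a.det := isUnit_iff_ne_zero.2 hdet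
  -- the target frame
  have hyli : LinearIndependent F (fun j => D.xcomb (fun i => a i j)) := by
    rw [Fintype.linearIndependent_iff]
    intro c hc
    have h1 : ∑ j, c j • D.xcomb (fun i => a i j) = D.xcomb (a *ᵥ c) := by
      simp only [xcomb, Finset.smul_sum, Matrix.mulVec, dotProduct, Finset.sum_smul]
      rw [Finset.sum_comm]
      refine Finset.sum_congr rfl fun i _ => Finset.sum_congr rfl fun j _ => ?_
      rw [smul_smul, mul_comm]
    rw [h1] at hc
    have h2 : a *ᵥ c = 0 := D.xcomb_inj _ 0 (by rw [hc]; simp [xcomb])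
    have h3 := Matrix.eq_zero_of_mulVec_eq_zero hdet h2
    intro i
    rw [h3]; rfl
  obtain ⟨g, hg⟩ := sp_witt_family m (fun i : Fin s => D.x (e.symm i))
    (fun i : Fin s => D.xcomb (fun l => a l (e.symm i)))
    (D.hli.comp _ e.symm.injective) (hyli.comp _ e.symm.injective)
    (fun i j => by rw [D.symp_xx, D.symp_xcomb_xcomb])
  have hgx : ∀ j, g.1 *ᵥ D.x j = D.xcomb (fun l => a l j) := by
    intro j
    have := hg (e j)
    simpa using this
  have hsp : ∀ u v, sympForm m F (g.1 *ᵥ u) (g.1 *ᵥ v) = sympForm m F u v :=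
    sympForm_mulVec_of_mem m g.2
  -- the `x i` in terms of the new frame
  have hxy : ∀ i, D.x i = ∑ j, a⁻¹ j i • D.xcomb (fun l => a l j) := by
    intro i
    have h1 : ∑ j, a⁻¹ j i • D.xcomb (fun l => a l j) = D.xcomb (a *ᵥ (fun j => a⁻¹ j i)) := by
      simp only [xcomb, Finset.smul_sum, Matrix.mulVec, dotProduct, Finset.sum_smul]
      rw [Finset.sum_comm]
      refine Finset.sum_congr rfl fun l _ => Finset.sum_congr rfl fun j _ => ?_
      rw [smul_smul, mul_comm]
    have h2 : a *ᵥ (fun j => a⁻¹ j i) = Pi.single i 1 := by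
      funext l
      have := congrFun (congrFun (Matrix.mul_nonsing_inv a hu) l) i
      simp only [Matrix.mul_apply, Matrix.one_apply] at this
      simp only [Matrix.mulVec, dotProduct, Pi.single_apply]
      rw [this]
    rw [h1, h2]
    simp [xcomb, Pi.single_apply]
  have hcomm : g.1 * D.N = D.N * g.1 := by
    apply mat_ext_of_mulVec
    intro v
    rw [← Matrix.mulVec_mulVec, ← Matrix.mulVec_mulVec]
    obtain ⟨c, hc⟩ := D.hspan v
    have hc' : D.N *ᵥ v = D.xcomb c := hc
    -- q = Σ c_j • comb (a col j)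
    have h1 : g.1 *ᵥ (D.N *ᵥ v) = D.N *ᵥ (∑ j, c j • D.comb (fun l => a l j)) := by
      rw [hc', xcomb, Matrix.mulVec_sum, Matrix.mulVec_sum]
      refine Finset.sum_congr rfl fun j _ => ?_
      rw [Matrix.mulVec_smul, Matrix.mulVec_smul, hgx, D.N_comb]
    have h2 : D.N *ᵥ (g.1 *ᵥ v - ∑ j, c j • D.comb (fun l => a l j)) = 0 := by
      apply D.ker_of_perp
      intro i
      have hy : ∀ j, sympForm m F (D.xcomb (fun l => a l j))
          (g.1 *ᵥ v - ∑ j, c j • D.comb (fun l => a l j)) = 0 := by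
        intro j
        rw [sympForm_sub_right, symp_sum_right]
        have e1 : sympForm m F (D.xcomb (fun l => a l j)) (g.1 *ᵥ v) = (D.Γ *ᵥ c) j := by
          rw [← hgx, hsp]
          unfold x
          rw [D.hadj, hc', D.symp_p_xcomb]
        have e2 : ∀ l, sympForm m F (D.xcomb (fun l' => a l' j)) (D.comb (fun l' => a l' l))
            = D.Γ j l := by
          intro l
          rw [← D.N_comb, D.hadj, D.N_comb, D.symp_comb_xcomb, ← gform_apply, gform_col, ha]
        rw [e1]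
        simp only [e2, Matrix.mulVec, dotProduct]
        rw [sub_eq_zero]
        exact Finset.sum_congr rfl fun l _ => mul_comm _ _
      rw [hxy i, symp_sum_left]
      exact Finset.sum_eq_zero fun j _ => by rw [hy j, mul_zero]
    rw [Matrix.mulVec_sub, sub_eq_zero] at h2
    rw [h1, h2]
  refine ⟨g, hcomm, ?_⟩
  ext i j
  have h1 := D.mulVec_x g.1 hcomm j
  rw [hgx j] at h1
  exact (congrFun (D.xcomb_inj _ _ h1) i).symm

end

end InvData

end Cfsg.Agent.Lib.helper50
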