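import Mathlib
import Cfsg.Agent.Lib.helper50.InvCent

/-!
# Centralisers of involutions in `Sp_2m(q)`, `q` even: the counting formula

`InvData.card_centralizer`: `|C(t)| = #{a // aᵀ Γ a = Γ} * |frameStab|`; `exists_invData` builds the data
from an involution; `rank_le`: `rank (t - 1) ≤ m`.
-/

set_option autoImplicit false

namespace Cfsg.Agent.Lib.helper50

open Matrix Module Cfsg Cfsg.Agent.Lib.helper17

section
variable {F : Type*} [Field F] [CharP F 2] {m : ℕ}

theorem inv_coe_mul_self (t : Matrix.symplecticGroup (Fin m) F) (ht : t ^ 2 = 1) :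
    t.1 * t.1 = 1 := by
  have := congrArg Subtype.val ht
  simpa [sq] using this

theorem inv_NN (t : Matrix.symplecticGroup (Fin m) F) (ht : t ^ 2 = 1) :
    (t.1 - 1) * (t.1 - 1) = 0 := by
  have htt := inv_coe_mul_self t ht
  have h2 : (2 : F) = 0 := CharTwo.two_eq_zero
  calc (t.1 - 1) * (t.1 - 1) = t.1 * t.1 - t.1 - t.1 + 1 := by noncomm_ring
    _ = (2 : F) • (1 - t.1) := by rw [htt, two_smul]; abel
    _ = 0 := by rw [h2, zero_smul]

theorem inv_adj (t : Matrix.symplecticGroup (Fin m) F) (ht : t ^ 2 = 1)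
    (x y : Fin m ⊕ Fin m → F) :
    sympForm m F ((t.1 - 1) *ᵥ x) y = sympForm m F x ((t.1 - 1) *ᵥ y) := by
  have htt := inv_coe_mul_self t ht
  have h1 : sympForm m F (t.1 *ᵥ x) y = sympForm m F x (t.1 *ᵥ y) := by
    have := sympForm_mulVec_of_mem m t.2 x (t.1 *ᵥ y)
    rw [Matrix.mulVec_mulVec, htt, Matrix.one_mulVec] at this
    exact this
  rw [Matrix.sub_mulVec, Matrix.sub_mulVec, Matrix.one_mulVec, Matrix.one_mulVec,
    sympForm_sub_left, sympForm_sub_right, h1]

theorem rank_le (t : Matrix.symplecticGroup (Fin m) F) (ht : t ^ 2 = 1) :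
    (t.1 - 1).rank ≤ m := by
  have hNN := inv_NN t ht
  have hle : LinearMap.range (t.1 - 1).mulVecLin ≤ LinearMap.ker (t.1 - 1).mulVecLin := by
    rintro _ ⟨y, rfl⟩
    rw [LinearMap.mem_ker, Matrix.mulVecLin_apply, Matrix.mulVecLin_apply, Matrix.mulVec_mulVec,
      hNN, Matrix.zero_mulVec]
  have h1 := LinearMap.finrank_range_add_finrank_ker (t.1 - 1).mulVecLin
  have h2 := Submodule.finrank_mono hle
  have h3 : finrank F (Fin m ⊕ Fin m → F) = m + m := by simp
  rw [h3] at h1
  change finrank F (LinearMap.range (t.1 - 1).mulVecLin) ≤ m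
  omega

theorem exists_invData {ι : Type*} [Fintype ι] (t : Matrix.symplecticGroup (Fin m) F)
    (ht : t ^ 2 = 1) {s : ℕ} (hs : (t.1 - 1).rank = s) (e : ι ≃ Fin s) :
    ∃ D : InvData m F ι, D.N = t.1 - 1 := by
  classical
  have hs' : finrank F (LinearMap.range (t.1 - 1).mulVecLin) = s := hs
  let b : Basis ι F (LinearMap.range (t.1 - 1).mulVecLin) :=
    (Module.finBasisOfFinrankEq F _ hs').reindex e.symm
  have hex : ∀ j, ∃ pj, (t.1 - 1) *ᵥ pj = (b j : Fin m ⊕ Fin m → F) := by
    intro j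
    obtain ⟨pj, hpj⟩ := (b j).2
    exact ⟨pj, by rw [← hpj]; rfl⟩
  choose p hp using hex
  refine ⟨⟨t.1 - 1, inv_NN t ht, inv_adj t ht, p, ?_, ?_⟩, rfl⟩
  · have h1 : (fun j => (t.1 - 1) *ᵥ p j) = (Submodule.subtype _) ∘ b := funext fun j => hp j
    rw [h1]
    exact b.linearIndependent.map' _ (Submodule.ker_subtype _)
  · intro v
    let y : LinearMap.range (t.1 - 1).mulVecLin := ⟨(t.1 - 1) *ᵥ v, ⟨v, rfl⟩⟩
    refine ⟨fun j => b.repr y j, ?_⟩
    have := congrArg Subtype.val (b.sum_repr y)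
    simp only [Submodule.coe_sum, Submodule.coe_smul] at this
    have h2 : (t.1 - 1) *ᵥ v = ∑ x, (b.repr y) x • (b x : Fin m ⊕ Fin m → F) := this.symm
    rw [h2]
    exact Finset.sum_congr rfl fun j _ => by rw [hp j]

theorem InvData.card_centralizer [Fintype F] {ι : Type*} [Fintype ι] [DecidableEq ι]
    (D : InvData m F ι) (t : Matrix.symplecticGroup (Fin m) F) (hD : D.N = t.1 - 1) {s : ℕ}
    (e : ι ≃ Fin s) :
    Nat.card (Subgroup.centralizer ({t} : Set (Matrix.symplecticGroup (Fin m) F)))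
      = Nat.card {a : Matrix ι ι F // aᵀ * D.Γ * a = D.Γ}
        * Nat.card (frameStab m (fun i : Fin s => D.x (e.symm i))) := by
  classical
  have hcent : ∀ g : Matrix.symplecticGroup (Fin m) F,
      g ∈ Subgroup.centralizer ({t} : Set (Matrix.symplecticGroup (Fin m) F)) ↔
        g.1 * D.N = D.N * g.1 := by
    intro g
    rw [Subgroup.mem_centralizer_iff]
    simp only [Set.mem_singleton_iff, forall_eq]
    rw [hD, mul_sub, sub_mul, mul_one, one_mul, sub_left_inj]
    constructor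
    · intro h
      have := congrArg Subtype.val h
      exact this.symm
    · intro h
      apply Subtype.ext
      exact h.symm
  have hspg : ∀ g : Matrix.symplecticGroup (Fin m) F, ∀ u v,
      sympForm m F (g.1 *ᵥ u) (g.1 *ᵥ v) = sympForm m F u v :=
    fun g => sympForm_mulVec_of_mem m g.2
  let f : Subgroup.centralizer ({t} : Set (Matrix.symplecticGroup (Fin m) F)) →
      {a : Matrix ι ι F // aᵀ * D.Γ * a = D.Γ} :=
    fun g => ⟨D.A g.1.1, D.OG_A g.1.1 (hspg g.1) ((hcent g.1).1 g.2)⟩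
  have hfib : ∀ a, Nat.card {g // f g = a}
      = Nat.card (frameStab m (fun i : Fin s => D.x (e.symm i))) := by
    rintro ⟨a, ha⟩
    obtain ⟨g₀, hg₀, hg₀a⟩ := D.exists_of_OG e a ha
    have hmem : ∀ h : frameStab m (fun i : Fin s => D.x (e.symm i)),
        ∀ j, h.1.1 *ᵥ D.x j = D.x j := by
      intro h j
      have := h.2 (e j)
      simpa using this
    have hcomm : ∀ h : frameStab m (fun i : Fin s => D.x (e.symm i)),
        g₀.1 * h.1.1 * D.N = D.N * (g₀.1 * h.1.1) := by
      intro h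
      have hh := D.comm_of_fix h.1.1 (hspg h.1) (hmem h)
      rw [Matrix.mul_assoc, hh, ← Matrix.mul_assoc, hg₀, Matrix.mul_assoc]
    apply Nat.card_congr
    symm
    exact
      { toFun := fun h => ⟨⟨g₀ * h.1, (hcent _).2 (hcomm h)⟩, by
          apply Subtype.ext
          change D.A (g₀.1 * h.1.1) = a
          rw [← hg₀a]
          apply (D.A_eq_iff _ _ (hcomm h) hg₀).2
          intro j
          rw [← Matrix.mulVec_mulVec, hmem h j]⟩
        invFun := fun g => ⟨g₀⁻¹ * g.1.1, by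
          rw [mem_frameStab]
          intro i
          have h1 : D.A g.1.1.1 = D.A g₀.1 := by
            have := congrArg Subtype.val g.2
            rw [hg₀a]
            exact this
          have h2 := (D.A_eq_iff _ _ ((hcent g.1.1).1 g.1.2) hg₀).1 h1 (e.symm i)
          change (g₀⁻¹.1 * g.1.1.1) *ᵥ D.x (e.symm i) = D.x (e.symm i)
          rw [← Matrix.mulVec_mulVec, h2, Matrix.mulVec_mulVec, sp_coe_inv_mul, Matrix.one_mulVec]⟩
        left_inv := fun h => by
          apply Subtype.ext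
          simp
        right_inv := fun g => by
          apply Subtype.ext
          apply Subtype.ext
          simp }
  have := Fintype.ofFinite {a : Matrix ι ι F // aᵀ * D.Γ * a = D.Γ}
  rw [Nat.card_congr (Equiv.sigmaFiberEquiv f).symm, Nat.card_sigma,
    Finset.sum_congr rfl (fun a _ => hfib a), Finset.sum_const, Finset.card_univ, smul_eq_mul,
    ← Nat.card_eq_fintype_card]

end

section arith

theorem exists_half (s : ℕ) : ∃ b, 3 * s ^ 2 = s + 2 * b := by
  induction s with
  | zero => exact ⟨0, rfl⟩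
  | succ n ih =>
    obtain ⟨b, hb⟩ := ih
    refine ⟨b + 3 * n + 1, ?_⟩
    have : (n + 1) ^ 2 = n ^ 2 + 2 * n + 1 := by ring
    rw [this]
    generalize n ^ 2 = P at *
    omega

theorem exp_a (s d : ℕ) :
    2 * (s + d) * s - (3 * s ^ 2 - s) / 2 = s * (s + 1) / 2 + 2 * s * d := by
  obtain ⟨b, hb⟩ := exists_half s
  have e1 : 2 * (s + d) * s = 2 * s ^ 2 + 2 * (s * d) := by ring
  have e2 : s * (s + 1) = s ^ 2 + s := by ring
  have e3 : 2 * s * d = 2 * (s * d) := by ring
  rw [e1, e2, e3]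
  generalize s ^ 2 = P at *
  generalize s * d = Q at *
  omega

theorem exp_c (s d : ℕ) (hs : 1 ≤ s) :
    2 * (s + d) * s - (3 * s ^ 2 - 3 * s) / 2 - 1 = s * (s + 1) / 2 + 2 * s * d + (s - 1) := by
  obtain ⟨b, hb⟩ := exists_half s
  have hP : s ≤ s ^ 2 := Nat.le_self_pow two_ne_zero s
  have e1 : 2 * (s + d) * s = 2 * s ^ 2 + 2 * (s * d) := by ring
  have e2 : s * (s + 1) = s ^ 2 + s := by ring
  have e3 : 2 * s * d = 2 * (s * d) := by ring
  rw [e1, e2, e3]
  generalize s ^ 2 = P at *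
  generalize s * d = Q at *
  omega

theorem spOrd_fin (q k : ℕ) :
    q ^ (k ^ 2) * ∏ i : Fin k, (q ^ (2 * ((i : ℕ) + 1)) - 1) = spOrd q k := by
  unfold spOrd
  rw [Fin.prod_univ_eq_prod_range (fun i => q ^ (2 * (i + 1)) - 1)]

end arith

end Cfsg.Agent.Lib.helper50
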