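import Mathlib
import Cfsg.Agent.Lib.helper50.OGCount2

/-!
# The odd-size count of `{A // Aᵀ * Γ * A = Γ}` (see `OGCount.lean`)
-/

set_option autoImplicit false

namespace Cfsg.Agent.Lib.helper50

open Matrix Module

universe u

section
variable {F : Type u} [Field F] [Fintype F] [CharP F 2]

/-- odd size -/
theorem card_OG_odd (k : ℕ)
    (Γ : Matrix (Unit ⊕ (Fin k ⊕ Fin k)) (Unit ⊕ (Fin k ⊕ Fin k)) F)
    (hsym : Γᵀ = Γ) (hdet : Γ.det ≠ 0) :
    Nat.card {A : Matrix (Unit ⊕ (Fin k ⊕ Fin k)) (Unit ⊕ (Fin k ⊕ Fin k)) F // Aᵀ * Γ * A = Γ}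
      = spOrd (Fintype.card F) k := by
  classical
  have hq : 2 ≤ Fintype.card F := Fintype.one_lt_card
  have h2 : (2 : F) = 0 := two_eq_zero2
  have hs : ∀ x y, gform Γ x y = gform Γ y x := gform_sym Γ hsym
  have hnd : ∀ x, (∀ y, gform Γ x y = 0) → x = 0 := gform_nondeg Γ hdet
  obtain ⟨lam, hlam⟩ : ∃ lam : (Unit ⊕ (Fin k ⊕ Fin k) → F) →ₗ[F] F,
      ∀ x, gform Γ x x = lam x * lam x := ⟨lamOf (gform Γ) hs, lamOf_sq (gform Γ) hs⟩
  obtain ⟨z, hz⟩ := exists_repr (gform Γ) hs hnd lam
  have hfin : finrank F (Unit ⊕ (Fin k ⊕ Fin k) → F) = 2 * k + 1 := by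
    simp
    omega
  have h1 : lam z = 1 :=
    lam_z_eq_one_of_odd (gform Γ) lam hs hnd hlam z hz (by rw [hfin]; exact odd_two_mul_add_one k)
  have hfinK : finrank F (LinearMap.ker lam) = 2 * k := by
    have := finrank_ker_lam lam z h1
    omega
  have hcard := card_SFrame k (LinearMap.ker lam) ((gform Γ).domRestrict₁₂ _ _)
    (ker_lam_alt (gform Γ) lam hlam) (ker_lam_nondeg (gform Γ) lam hnd z hz h1) hfinK
  obtain ⟨G₀, hG₀⟩ : ∃ G₀ : Matrix (Unit ⊕ (Fin k ⊕ Fin k)) (Unit ⊕ (Fin k ⊕ Fin k)) F,
      G₀ = Matrix.fromBlocks 1 0 0 (J (Fin k) F) := ⟨_, rfl⟩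
  have hG₀det : G₀.det ≠ 0 := by
    rw [hG₀, Matrix.det_fromBlocks_zero₂₁, Matrix.det_one, one_mul]
    exact isUnit_iff_ne_zero.1 (isUnit_det_J (Fin k) F)
  have hcol0 : ∀ (B : Matrix (Unit ⊕ (Fin k ⊕ Fin k)) (Unit ⊕ (Fin k ⊕ Fin k)) F),
      Bᵀ * Γ * B = G₀ → ∀ c : Fin k ⊕ Fin k, lam (fun r => B r (Sum.inr c)) = 0 := by
    intro B hB c
    apply mul_self_eq_zero.1
    rw [← hlam, gform_col, hB, hG₀, Matrix.fromBlocks_apply₂₂]
    rcases c with a | a
    · exact J_ll k a a
    · exact J_rr k a a
  let E : {B : Matrix (Unit ⊕ (Fin k ⊕ Fin k)) (Unit ⊕ (Fin k ⊕ Fin k)) F // Bᵀ * Γ * B = G₀} ≃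
      SFrame ((gform Γ).domRestrict₁₂ (LinearMap.ker lam) (LinearMap.ker lam)) k :=
    { toFun := fun B => ⟨(fun a => ⟨fun r => B.1 r (.inr (.inl a)),
            LinearMap.mem_ker.2 (hcol0 B.1 B.2 _)⟩,
          fun a => ⟨fun r => B.1 r (.inr (.inr a)), LinearMap.mem_ker.2 (hcol0 B.1 B.2 _)⟩), by
        intro a b
        simp only [LinearMap.domRestrict₁₂_apply]
        refine ⟨?_, ?_, ?_⟩
        · rw [gform_col, B.2, hG₀, Matrix.fromBlocks_apply₂₂, J_ll]
        · rw [gform_col, B.2, hG₀, Matrix.fromBlocks_apply₂₂, J_rr]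
        · rw [gform_col, B.2, hG₀, Matrix.fromBlocks_apply₂₂, J_lr]⟩
      invFun := fun s => ⟨Matrix.of (fun r c => Sum.elim (fun _ => z r)
          (Sum.elim (fun a => (s.1.1 a).1 r) (fun a => (s.1.2 a).1 r)) c), by
        obtain ⟨⟨x, y⟩, h⟩ := s
        have hx : ∀ a, lam (x a).1 = 0 := fun a => LinearMap.mem_ker.1 (x a).2
        have hy : ∀ a, lam (y a).1 = 0 := fun a => LinearMap.mem_ker.1 (y a).2
        ext i j
        rw [← gform_col, hG₀]
        rcases i with u | a | a
        · rcases j with u' | b | b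
          · change gform Γ z z = _
            rw [hz, h1]; simp
          · change gform Γ z (x b).1 = _
            rw [hs, hz, hx]; simp
          · change gform Γ z (y b).1 = _
            rw [hs, hz, hy]; simp
        · rcases j with u' | b | b
          · change gform Γ (x a).1 z = _
            rw [hz, hx]; simp
          · change gform Γ (x a).1 (x b).1 = _
            have := (h a b).1
            simp only [LinearMap.domRestrict₁₂_apply] at this
            rw [this, Matrix.fromBlocks_apply₂₂, J_ll]
          · change gform Γ (x a).1 (y b).1 = _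
            have := (h a b).2.2
            simp only [LinearMap.domRestrict₁₂_apply] at this
            rw [this, Matrix.fromBlocks_apply₂₂, J_lr]
        · rcases j with u' | b | b
          · change gform Γ (y a).1 z = _
            rw [hz, hy]; simp
          · change gform Γ (y a).1 (x b).1 = _
            have := (h b a).2.2
            simp only [LinearMap.domRestrict₁₂_apply] at this
            rw [hs, this, Matrix.fromBlocks_apply₂₂, J_rl]
            by_cases hab : a = b
            · subst hab
              simp only [if_true]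
              linear_combination (-1 : F) * h2
            · rw [if_neg hab, if_neg (Ne.symm hab)]
          · change gform Γ (y a).1 (y b).1 = _
            have := (h a b).2.1
            simp only [LinearMap.domRestrict₁₂_apply] at this
            rw [this, Matrix.fromBlocks_apply₂₂, J_rr]⟩
      left_inv := by
        rintro ⟨B, hB⟩
        apply Subtype.ext
        ext r c
        rcases c with u | a | a
        · have hd : (fun r => B r (Sum.inl ())) - z = 0 := by
            apply col_forced Γ B G₀ hB hG₀det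
            intro c
            rw [map_sub, hz]
            rcases c with u | c
            · have hb : gform Γ (fun r => B r (Sum.inl ())) (fun r => B r (Sum.inl ())) = 1 := by
                rw [gform_col, hB, hG₀]; simp
              have hl : lam (fun r => B r (Sum.inl ())) = 1 :=
                sq_inj2 (by rw [← hlam, hb, one_mul])
              change gform Γ (fun r => B r (Sum.inl ())) (fun r => B r (Sum.inl ()))
                - lam (fun r => B r (Sum.inl ())) = 0
              rw [hb, hl, sub_self]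
            · rw [hcol0 B hB c, sub_zero, gform_col, hB, hG₀]; simp
          have := congrFun hd r
          simp only [Pi.sub_apply, Pi.zero_apply, sub_eq_zero] at this
          simp only [Matrix.of_apply, Sum.elim_inl]
          exact this.symm
        · simp
        · simp
      right_inv := by
        rintro ⟨⟨x, y⟩, h⟩
        rfl }
  have hne : Nonempty (SFrame ((gform Γ).domRestrict₁₂ (LinearMap.ker lam) (LinearMap.ker lam)) k) := by
    have hpos := spOrd_pos (Fintype.card F) k hq
    unfold spOrd at hpos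
    rw [← hcard] at hpos
    exact (Nat.card_pos_iff.1 hpos).1
  obtain ⟨s₀⟩ := hne
  obtain ⟨B₀, hB₀⟩ := E.symm s₀
  rw [card_OG_torsor' Γ G₀ B₀ hG₀det hB₀, Nat.card_congr E, hcard]
  rfl

end

end Cfsg.Agent.Lib.helper50
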