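import Mathlib
import Cfsg.Agent.Lib.helper50.InvCent2
import Cfsg.Agent.Lib.helper50.OGCount3

/-!
# Conjugacy of involutions in `Sp_2m(q)`, `q` even

* `exists_frame_alt / _odd / _nonalt`: normal forms of symmetric bilinear forms in characteristic 2.
* `congr_exists`: forms with the same normal form are congruent.
* `InvData.transform`: change of the basis of the image of `N`.
* `InvData.conj_of_Γ_eq`: two involutions whose data have the same Gram matrix are conjugate.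
* `isConj_of_same_type`: involutions with the same rank and type are conjugate.
-/

set_option autoImplicit false

namespace Cfsg.Agent.Lib.helper50

open Matrix Module Cfsg Cfsg.Agent.Lib.helper17

universe u

section frames
variable {F : Type u} [Field F] [Fintype F]

theorem exists_frame_alt (k : ℕ) (Γ : Matrix (Fin k ⊕ Fin k) (Fin k ⊕ Fin k) F)
    (hdet : Γ.det ≠ 0) (halt : ∀ x, gform Γ x x = 0) :
    ∃ B : Matrix (Fin k ⊕ Fin k) (Fin k ⊕ Fin k) F, B.det ≠ 0 ∧ Bᵀ * Γ * B = J (Fin k) F := by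
  classical
  have hq : 2 ≤ Fintype.card F := Fintype.one_lt_card
  have hfin : finrank F (Fin k ⊕ Fin k → F) = 2 * k := by simp [two_mul]
  have hcard := card_SFrame k (Fin k ⊕ Fin k → F) (gform Γ) halt (gform_nondeg Γ hdet) hfin
  have hne : Nonempty (SFrame (gform Γ) k) := by
    have hpos := spOrd_pos (Fintype.card F) k hq
    unfold spOrd at hpos
    rw [← hcard] at hpos
    exact (Nat.card_pos_iff.1 hpos).1
  obtain ⟨s₀⟩ := hne
  obtain ⟨B₀, hB₀⟩ := (gramJEquivSFrame k Γ halt).symm s₀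
  refine ⟨B₀, ?_, hB₀⟩
  intro h0
  have hJ : (J (Fin k) F).det ≠ 0 := isUnit_iff_ne_zero.1 (isUnit_det_J (Fin k) F)
  apply hJ
  rw [← hB₀, Matrix.det_mul, h0, mul_zero]

/-- the normal form of a non-alternating form of even size -/
def Gc (F : Type u) [Field F] (k : ℕ) : Matrix (Fin (k + 1) ⊕ Fin (k + 1)) (Fin (k + 1) ⊕ Fin (k + 1)) F :=
  Matrix.of fun c d => J (Fin (k + 1)) F c d
    + J (Fin (k + 1)) F c (Sum.inl 0) * J (Fin (k + 1)) F d (Sum.inl 0)

theorem exists_frame_nonalt [CharP F 2] (k : ℕ)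
    (Γ : Matrix (Fin (k + 1) ⊕ Fin (k + 1)) (Fin (k + 1) ⊕ Fin (k + 1)) F)
    (hsym : Γᵀ = Γ) (hdet : Γ.det ≠ 0) (hna : ∃ c, gform Γ c c ≠ 0) :
    ∃ B : Matrix (Fin (k + 1) ⊕ Fin (k + 1)) (Fin (k + 1) ⊕ Fin (k + 1)) F,
      B.det ≠ 0 ∧ Bᵀ * Γ * B = Gc F k := by
  classical
  have hq : 2 ≤ Fintype.card F := Fintype.one_lt_card
  have h2 : (2 : F) = 0 := CharTwo.two_eq_zero
  have hs : ∀ x y, gform Γ x y = gform Γ y x := gform_sym Γ hsym
  have hnd : ∀ x, (∀ y, gform Γ x y = 0) → x = 0 := gform_nondeg Γ hdet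
  obtain ⟨lam, hlam⟩ : ∃ lam : (Fin (k + 1) ⊕ Fin (k + 1) → F) →ₗ[F] F,
      ∀ x, gform Γ x x = lam x * lam x := ⟨lamOf (gform Γ) hs, lamOf_sq (gform Γ) hs⟩
  obtain ⟨z, hz⟩ := exists_repr (gform Γ) hs hnd lam
  have hfin : finrank F (Fin (k + 1) ⊕ Fin (k + 1) → F) = 2 * (k + 1) := by simp [two_mul]
  have h0 : lam z = 0 :=
    lam_z_eq_zero_of_even (gform Γ) lam hnd hlam z hz (by rw [hfin]; exact even_two_mul _)
  have hz0 : z ≠ 0 := by
    rintro rfl
    obtain ⟨c, hc⟩ := hna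
    apply hc
    have : lam c = 0 := by rw [← hz c]; simp
    rw [hlam, this, zero_mul]
  obtain ⟨Γh, hgh⟩ : ∃ Γh : Matrix (Fin (k + 1) ⊕ Fin (k + 1)) (Fin (k + 1) ⊕ Fin (k + 1)) F,
      gform Γh = hatForm (gform Γ) lam :=
    ⟨LinearMap.BilinForm.toMatrix' (hatForm (gform Γ) lam), Matrix.toBilin'_toMatrix' _⟩
  have hg : ∀ x y, gform Γh x y = gform Γ x y + lam x * lam y := fun x y => by
    rw [hgh, hatForm_apply]
  have halt' : ∀ x, gform Γh x x = 0 := fun x => by
    rw [hgh]; exact hatForm_alt (gform Γ) lam hlam x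
  have hnd' : ∀ x, (∀ y, gform Γh x y = 0) → x = 0 := by
    rw [hgh]; exact hatForm_nondeg (gform Γ) lam hs hnd z hz h0
  have hcount := card_SFrame_fix k (Fin (k + 1) ⊕ Fin (k + 1) → F) (gform Γh) halt' hnd' hfin z hz0
  have hne : Nonempty {s : SFrame (gform Γh) (k + 1) // s.1.1 0 = z} := by
    have hpos : 0 < Fintype.card F ^ (2 * k + 1) * spOrd (Fintype.card F) k :=
      Nat.mul_pos (pow_pos (by omega) _) (spOrd_pos _ k hq)
    rw [← hcount] at hpos
    exact (Nat.card_pos_iff.1 hpos).1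
  obtain ⟨⟨s₀, hs₀⟩⟩ := hne
  obtain ⟨B₀, hB₀⟩ : ∃ B₀, gramJEquivSFrame (k + 1) Γh halt' B₀ = s₀ :=
    ⟨(gramJEquivSFrame (k + 1) Γh halt').symm s₀, Equiv.apply_symm_apply _ _⟩
  have hB₀z : (fun r => B₀.1 r (Sum.inl 0)) = z := by
    have := gramJEquivSFrame_col (k + 1) Γh halt' B₀ 0
    rw [hB₀, hs₀, Matrix.mulVec_single_one] at this
    exact this.symm
  have hJ : (J (Fin (k + 1)) F).det ≠ 0 := isUnit_iff_ne_zero.1 (isUnit_det_J _ F)
  refine ⟨B₀.1, ?_, ?_⟩
  · intro h0'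
    apply hJ
    rw [← B₀.2, Matrix.det_mul, h0', mul_zero]
  · ext c d
    have hlamcol : ∀ c, lam (fun r => B₀.1 r c) = J (Fin (k + 1)) F c (Sum.inl 0) := by
      intro c
      have h1 := hg (fun r => B₀.1 r c) z
      rw [hz, h0, mul_zero, add_zero] at h1
      rw [← h1, ← hB₀z, gform_col, B₀.2]
    have h1 := hg (fun r => B₀.1 r c) (fun r => B₀.1 r d)
    rw [gform_col, B₀.2, hlamcol, hlamcol, gform_col] at h1
    simp only [Gc, Matrix.of_apply]
    linear_combination (-1 : F) * h1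
      - (J (Fin (k + 1)) F c (Sum.inl 0) * J (Fin (k + 1)) F d (Sum.inl 0)) * h2

theorem exists_frame_odd [CharP F 2] (k : ℕ)
    (Γ : Matrix (Unit ⊕ (Fin k ⊕ Fin k)) (Unit ⊕ (Fin k ⊕ Fin k)) F)
    (hsym : Γᵀ = Γ) (hdet : Γ.det ≠ 0) :
    ∃ B : Matrix (Unit ⊕ (Fin k ⊕ Fin k)) (Unit ⊕ (Fin k ⊕ Fin k)) F,
      B.det ≠ 0 ∧ Bᵀ * Γ * B = Matrix.fromBlocks (1 : Matrix Unit Unit F) 0 0 (J (Fin k) F) := by
  classical
  have hq : 2 ≤ Fintype.card F := Fintype.one_lt_card
  have h2 : (2 : F) = 0 := CharTwo.two_eq_zero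
  have hs : ∀ x y, gform Γ x y = gform Γ y x := gform_sym Γ hsym
  have hnd : ∀ x, (∀ y, gform Γ x y = 0) → x = 0 := gform_nondeg Γ hdet
  obtain ⟨lam, hlam⟩ : ∃ lam : (Unit ⊕ (Fin k ⊕ Fin k) → F) →ₗ[F] F,
      ∀ x, gform Γ x x = lam x * lam x := ⟨lamOf (gform Γ) hs, lamOf_sq (gform Γ) hs⟩
  obtain ⟨z, hz⟩ := exists_repr (gform Γ) hs hnd lam
  have hfin : finrank F (Unit ⊕ (Fin k ⊕ Fin k) → F) = 2 * k + 1 := by
    simp
    omega
  have h1 : lam z = 1 :=
    lam_z_eq_one_of_odd (gform Γ) lam hs hnd hlam z hz (by rw [hfin]; exact odd_two_mul_add_one k)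
  have hfinK : finrank F (LinearMap.ker lam) = 2 * k := by
    have := finrank_ker_lam lam z h1
    omega
  have hcard := card_SFrame k (LinearMap.ker lam) ((gform Γ).domRestrict₁₂ _ _)
    (ker_lam_alt (gform Γ) lam hlam) (ker_lam_nondeg (gform Γ) lam hnd z hz h1) hfinK
  have hne : Nonempty (SFrame ((gform Γ).domRestrict₁₂ (LinearMap.ker lam) (LinearMap.ker lam)) k) := by
    have hpos := spOrd_pos (Fintype.card F) k hq
    unfold spOrd at hpos
    rw [← hcard] at hpos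
    exact (Nat.card_pos_iff.1 hpos).1
  obtain ⟨⟨⟨x, y⟩, h⟩⟩ := hne
  have hx : ∀ a, lam (x a).1 = 0 := fun a => LinearMap.mem_ker.1 (x a).2
  have hy : ∀ a, lam (y a).1 = 0 := fun a => LinearMap.mem_ker.1 (y a).2
  have hG₀det : (Matrix.fromBlocks (1 : Matrix Unit Unit F) 0 0 (J (Fin k) F)).det ≠ 0 := by
    rw [Matrix.det_fromBlocks_zero₂₁, Matrix.det_one, one_mul]
    exact isUnit_iff_ne_zero.1 (isUnit_det_J (Fin k) F)
  have key : (Matrix.of (fun r c => Sum.elim (fun _ => z r)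
      (Sum.elim (fun a => (x a).1 r) (fun a => (y a).1 r)) c))ᵀ * Γ *
      (Matrix.of (fun r c => Sum.elim (fun _ => z r)
      (Sum.elim (fun a => (x a).1 r) (fun a => (y a).1 r)) c))
      = Matrix.fromBlocks (1 : Matrix Unit Unit F) 0 0 (J (Fin k) F) := by
    ext i j
    rw [← gform_col]
    rcases i with u | a | a
    · rcases j with u' | b | b
      · change gform Γ z z = _
        rw [hz, h1]; simp
      · change gform Γ z (x b).1 = _
        rw [hs, hz, hx]; simp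
      · change gform Γ z (y b).1 = _
        rw [hs, hz, hy]; simp
    · rcases j with u' | b | b
      · change gform Γ (x a).1 z = _
        rw [hz, hx]; simp
      · change gform Γ (x a).1 (x b).1 = _
        have := (h a b).1
        simp only [LinearMap.domRestrict₁₂_apply] at this
        rw [this, Matrix.fromBlocks_apply₂₂, J_ll]
      · change gform Γ (x a).1 (y b).1 = _
        have := (h a b).2.2
        simp only [LinearMap.domRestrict₁₂_apply] at this
        rw [this, Matrix.fromBlocks_apply₂₂, J_lr]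
    · rcases j with u' | b | b
      · change gform Γ (y a).1 z = _
        rw [hz, hy]; simp
      · change gform Γ (y a).1 (x b).1 = _
        have := (h b a).2.2
        simp only [LinearMap.domRestrict₁₂_apply] at this
        rw [hs, this, Matrix.fromBlocks_apply₂₂, J_rl]
        by_cases hab : a = b
        · subst hab
          simp only [if_true]
          linear_combination (-1 : F) * h2
        · rw [if_neg hab, if_neg (Ne.symm hab)]
      · change gform Γ (y a).1 (y b).1 = _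
        have := (h a b).2.1
        simp only [LinearMap.domRestrict₁₂_apply] at this
        rw [this, Matrix.fromBlocks_apply₂₂, J_rr]
  refine ⟨_, ?_, key⟩
  intro h0
  apply hG₀det
  rw [← key, Matrix.det_mul, h0, mul_zero]

end frames

section congr
variable {F : Type u} [Field F] {n : Type*} [Fintype n] [DecidableEq n]

theorem congr_exists (Γ Γ' B B' G₀ : Matrix n n F) (hB : Bᵀ * Γ * B = G₀)
    (hB' : B'ᵀ * Γ' * B' = G₀) (hdB : B.det ≠ 0) (hdB' : B'.det ≠ 0) :
    ∃ P : Matrix n n F, P.det ≠ 0 ∧ Pᵀ * Γ' * P = Γ := by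
  have hu : IsUnit B.det := isUnit_iff_ne_zero.2 hdB
  have h1 : B * B⁻¹ = 1 := Matrix.mul_nonsing_inv B hu
  refine ⟨B' * B⁻¹, ?_, ?_⟩
  · rw [Matrix.det_mul]
    apply mul_ne_zero hdB'
    intro h0
    have := congrArg Matrix.det h1
    rw [Matrix.det_mul, h0, mul_zero, Matrix.det_one] at this
    exact zero_ne_one this
  · rw [Matrix.transpose_mul]
    calc B⁻¹ᵀ * B'ᵀ * Γ' * (B' * B⁻¹) = B⁻¹ᵀ * (B'ᵀ * Γ' * B') * B⁻¹ := by
          simp only [Matrix.mul_assoc]
      _ = B⁻¹ᵀ * (Bᵀ * Γ * B) * B⁻¹ := by rw [hB', hB]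
      _ = (B * B⁻¹)ᵀ * Γ * (B * B⁻¹) := by
          rw [Matrix.transpose_mul]; simp only [Matrix.mul_assoc]
      _ = Γ := by rw [h1]; simp

end congr

end Cfsg.Agent.Lib.helper50
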