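import Mathlib
import Cfsg.Agent.Lib.helper50.InvConj

/-!
# Conjugacy of involutions in `Sp_2m(q)`, `q` even (continued)

* `InvData.transform`: change of the basis of the image of `N`.
* `InvData.conj_of_Γ_eq`: two involutions whose data have the same Gram matrix are conjugate.
* `isConj_of_same_type`: involutions with the same rank and type are conjugate.
* `rank_of_conj`, `alt_of_conj`, `card_of_conj`: the invariants.
-/

set_option autoImplicit false

namespace Cfsg.Agent.Lib.helper50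

open Matrix Module Cfsg Cfsg.Agent.Lib.helper17

universe u

namespace InvData

section
variable {F : Type u} [Field F] {m : ℕ} {ι : Type*} [Fintype ι]

theorem xcomb_mulVec (D : InvData m F ι) (a : Matrix ι ι F) (c : ι → F) :
    ∑ j, c j • D.xcomb (fun i => a i j) = D.xcomb (a *ᵥ c) := by
  simp only [xcomb, Finset.smul_sum, Matrix.mulVec, dotProduct, Finset.sum_smul]
  rw [Finset.sum_comm]
  refine Finset.sum_congr rfl fun i _ => Finset.sum_congr rfl fun j _ => ?_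
  rw [smul_smul, mul_comm]

variable [DecidableEq ι]

/-- change of the basis of the image -/
noncomputable def transform (D : InvData m F ι) (P : Matrix ι ι F) (hP : P.det ≠ 0) :
    InvData m F ι where
  N := D.N
  hNN := D.hNN
  hadj := D.hadj
  p := fun j => D.comb (fun i => P i j)
  hli := by
    simp only [D.N_comb]
    rw [Fintype.linearIndependent_iff]
    intro c hc
    rw [D.xcomb_mulVec] at hc
    have h2 : P *ᵥ c = 0 := D.xcomb_inj _ 0 (by rw [hc]; simp [xcomb])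
    have h3 := Matrix.eq_zero_of_mulVec_eq_zero hP h2
    intro i
    rw [h3]; rfl
  hspan := by
    intro v
    obtain ⟨c, hc⟩ := D.hspan v
    refine ⟨P⁻¹ *ᵥ c, ?_⟩
    simp only [D.N_comb]
    rw [D.xcomb_mulVec, Matrix.mulVec_mulVec, Matrix.mul_nonsing_inv _ (isUnit_iff_ne_zero.2 hP),
      Matrix.one_mulVec]
    exact hc

theorem transform_N (D : InvData m F ι) (P : Matrix ι ι F) (hP : P.det ≠ 0) :
    (D.transform P hP).N = D.N := rfl

theorem transform_Γ (D : InvData m F ι) (P : Matrix ι ι F) (hP : P.det ≠ 0) :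
    (D.transform P hP).Γ = Pᵀ * D.Γ * P := by
  ext i j
  change sympForm m F (D.comb (fun l => P l i)) (D.N *ᵥ D.comb (fun l => P l j)) = _
  rw [D.N_comb, D.symp_comb_xcomb, ← gform_apply, gform_col]

omit [DecidableEq ι] in
theorem conj_of_Γ_eq (D D' : InvData m F ι) {s : ℕ} (e : ι ≃ Fin s) (h : D.Γ = D'.Γ) :
    ∃ g : Matrix.symplecticGroup (Fin m) F, g.1 * D.N = D'.N * g.1 := by
  obtain ⟨g, hg⟩ := sp_witt_family m (fun i : Fin s => D.x (e.symm i))
    (fun i : Fin s => D'.x (e.symm i))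
    (D.hli.comp _ e.symm.injective) (D'.hli.comp _ e.symm.injective)
    (fun i j => by rw [D.symp_xx, D'.symp_xx])
  have hgx : ∀ j, g.1 *ᵥ D.x j = D'.x j := by
    intro j
    have := hg (e j)
    simpa using this
  have hsp : ∀ u v, sympForm m F (g.1 *ᵥ u) (g.1 *ᵥ v) = sympForm m F u v :=
    sympForm_mulVec_of_mem m g.2
  refine ⟨g, ?_⟩
  apply mat_ext_of_mulVec
  intro v
  rw [← Matrix.mulVec_mulVec, ← Matrix.mulVec_mulVec]
  obtain ⟨c, hc⟩ := D.hspan v
  have hc' : D.N *ᵥ v = D.xcomb c := hc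
  have h1 : g.1 *ᵥ (D.N *ᵥ v) = D'.N *ᵥ (D'.comb c) := by
    rw [hc', D'.N_comb, xcomb, xcomb, Matrix.mulVec_sum]
    refine Finset.sum_congr rfl fun j _ => ?_
    rw [Matrix.mulVec_smul, hgx]
  have h2 : D'.N *ᵥ (g.1 *ᵥ v - D'.comb c) = 0 := by
    apply D'.ker_of_perp
    intro i
    rw [sympForm_sub_right]
    have e1 : sympForm m F (D'.x i) (g.1 *ᵥ v) = (D.Γ *ᵥ c) i := by
      rw [← hgx, hsp]
      unfold x
      rw [D.hadj, hc', D.symp_p_xcomb]
    have e2 : sympForm m F (D'.x i) (D'.comb c) = (D'.Γ *ᵥ c) i := by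
      unfold x
      rw [D'.hadj, D'.N_comb, D'.symp_p_xcomb]
    rw [e1, e2, h, sub_self]
  rw [Matrix.mulVec_sub, sub_eq_zero] at h2
  rw [h1, h2]

end

end InvData

section conj
variable {F : Type u} [Field F] {m : ℕ}

theorem isConj_of_comm (a b g : Matrix.symplecticGroup (Fin m) F)
    (h : g.1 * (a.1 - 1) = (b.1 - 1) * g.1) : IsConj a b := by
  rw [isConj_iff]
  refine ⟨g, ?_⟩
  rw [mul_inv_eq_iff_eq_mul]
  apply Subtype.ext
  change g.1 * a.1 = b.1 * g.1
  rw [mul_sub, sub_mul, mul_one, one_mul, sub_left_inj] at h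
  exact h

theorem comm_of_isConj (a b : Matrix.symplecticGroup (Fin m) F) (h : IsConj a b) :
    ∃ g : Matrix.symplecticGroup (Fin m) F, g.1 * a.1 = b.1 * g.1 := by
  rw [isConj_iff] at h
  obtain ⟨g, hg⟩ := h
  refine ⟨g, ?_⟩
  rw [mul_inv_eq_iff_eq_mul] at hg
  exact congrArg Subtype.val hg

theorem isConj_of_Γ {ι : Type*} [Fintype ι] [DecidableEq ι]
    (a b : Matrix.symplecticGroup (Fin m) F) (Da Db : InvData m F ι)
    (hDa : Da.N = a.1 - 1) (hDb : Db.N = b.1 - 1) {s : ℕ} (e : ι ≃ Fin s)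
    (P : Matrix ι ι F) (hP : P.det ≠ 0) (h : Pᵀ * Db.Γ * P = Da.Γ) : IsConj a b := by
  obtain ⟨g, hg⟩ := Da.conj_of_Γ_eq (Db.transform P hP) e (by rw [InvData.transform_Γ, h])
  rw [InvData.transform_N, hDa, hDb] at hg
  exact isConj_of_comm a b g hg

theorem rank_of_conj (a b g : Matrix.symplecticGroup (Fin m) F) (h : g.1 * a.1 = b.1 * g.1) :
    (a.1 - 1).rank = (b.1 - 1).rank := by
  have hu : IsUnit g.1.det := by
    have := sp_coe_mul_inv m g
    exact (Matrix.isUnit_iff_isUnit_det _).1 (IsUnit.of_mul_eq_one _ this)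
  have h1 : g.1 * (a.1 - 1) = (b.1 - 1) * g.1 := by
    rw [mul_sub, sub_mul, mul_one, one_mul, h]
  rw [← Matrix.rank_mul_eq_right_of_isUnit_det g.1 (a.1 - 1) hu, h1,
    Matrix.rank_mul_eq_left_of_isUnit_det g.1 (b.1 - 1) hu]

theorem val_of_conj (a b g : Matrix.symplecticGroup (Fin m) F) (h : g.1 * a.1 = b.1 * g.1)
    (v : Fin m ⊕ Fin m → F) :
    sympForm m F (g.1 *ᵥ v) (b.1 *ᵥ (g.1 *ᵥ v)) = sympForm m F v (a.1 *ᵥ v) := by
  rw [Matrix.mulVec_mulVec, ← h, ← Matrix.mulVec_mulVec, sympForm_mulVec_of_mem m g.2]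

theorem alt_of_conj (a b g : Matrix.symplecticGroup (Fin m) F) (h : g.1 * a.1 = b.1 * g.1)
    (hb : ∀ v, sympForm m F v (b.1 *ᵥ v) = 0) (v : Fin m ⊕ Fin m → F) :
    sympForm m F v (a.1 *ᵥ v) = 0 := by
  rw [← val_of_conj a b g h]
  exact hb _

theorem card_of_conj (a b g : Matrix.symplecticGroup (Fin m) F) (h : g.1 * a.1 = b.1 * g.1) :
    Nat.card {v : Fin m ⊕ Fin m → F // sympForm m F v (a.1 *ᵥ v) = 0}
      = Nat.card {v : Fin m ⊕ Fin m → F // sympForm m F v (b.1 *ᵥ v) = 0} := by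
  apply Nat.card_congr
  refine Equiv.subtypeEquiv
    { toFun := fun v => g.1 *ᵥ v
      invFun := fun v => g⁻¹.1 *ᵥ v
      left_inv := fun v => by
        change g⁻¹.1 *ᵥ (g.1 *ᵥ v) = v
        rw [Matrix.mulVec_mulVec, sp_coe_inv_mul, Matrix.one_mulVec]
      right_inv := fun v => by
        change g.1 *ᵥ (g⁻¹.1 *ᵥ v) = v
        rw [Matrix.mulVec_mulVec, sp_coe_mul_inv, Matrix.one_mulVec] } ?_
  intro v
  change _ ↔ sympForm m F (g.1 *ᵥ v) (b.1 *ᵥ (g.1 *ᵥ v)) = 0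
  rw [val_of_conj a b g h]

end conj

section main
variable {F : Type u} [Field F] [Fintype F] [CharP F 2] {m : ℕ}

theorem isConj_of_same_type (a b : Matrix.symplecticGroup (Fin m) F) (ha : a ^ 2 = 1)
    (hb : b ^ 2 = 1) (hr : (a.1 - 1).rank = (b.1 - 1).rank)
    (htype : Even (a.1 - 1).rank → ((∀ v, sympForm m F v (a.1 *ᵥ v) = 0) ↔
      (∀ v, sympForm m F v (b.1 *ᵥ v) = 0))) : IsConj a b := by
  classical
  rcases Nat.even_or_odd' (a.1 - 1).rank with ⟨k, hk | hk⟩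
  · -- even rank
    by_cases halt : ∀ v, sympForm m F v (a.1 *ᵥ v) = 0
    · have haltb := (htype (by rw [hk]; exact even_two_mul k)).1 halt
      have e : (Fin k ⊕ Fin k) ≃ Fin (2 * k) := Fintype.equivFinOfCardEq (by simp [two_mul])
      obtain ⟨Da, hDa⟩ := exists_invData a ha hk e
      obtain ⟨Db, hDb⟩ := exists_invData b hb (hr ▸ hk) e
      have hta : a.1 = Da.N + 1 := by rw [hDa]; simp
      have htb : b.1 = Db.N + 1 := by rw [hDb]; simp
      obtain ⟨Ba, hBa, hBa'⟩ := exists_frame_alt k Da.Γ Da.Γ_det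
        (fun c => by rw [Da.quad_val' a.1 hta]; exact halt _)
      obtain ⟨Bb, hBb, hBb'⟩ := exists_frame_alt k Db.Γ Db.Γ_det
        (fun c => by rw [Db.quad_val' b.1 htb]; exact haltb _)
      obtain ⟨P, hP, hP'⟩ := congr_exists Da.Γ Db.Γ Ba Bb _ hBa' hBb' hBa hBb
      exact isConj_of_Γ a b Da Db hDa hDb e P hP hP'
    · have haltb : ¬ ∀ v, sympForm m F v (b.1 *ᵥ v) = 0 := fun h =>
        halt ((htype (by rw [hk]; exact even_two_mul k)).2 h)
      simp only [not_forall] at halt haltb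
      obtain ⟨va, hva⟩ := halt
      obtain ⟨vb, hvb⟩ := haltb
      obtain ⟨k', rfl⟩ : ∃ k', k = k' + 1 := by
        rcases Nat.eq_zero_or_pos k with h0 | h0
        · exfalso
          subst h0
          have e : (Fin 0 ⊕ Fin 0) ≃ Fin (2 * 0) := Fintype.equivFinOfCardEq (by simp)
          obtain ⟨Da, hDa⟩ := exists_invData a ha hk e
          have hta : a.1 = Da.N + 1 := by rw [hDa]; simp
          obtain ⟨c, hc⟩ := Da.quad_val a.1 hta va
          apply hva
          rw [hc, Subsingleton.elim c 0]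
          simp
        · exact ⟨k - 1, by omega⟩
      have e : (Fin (k' + 1) ⊕ Fin (k' + 1)) ≃ Fin (2 * (k' + 1)) :=
        Fintype.equivFinOfCardEq (by simp [two_mul])
      obtain ⟨Da, hDa⟩ := exists_invData a ha hk e
      obtain ⟨Db, hDb⟩ := exists_invData b hb (hr ▸ hk) e
      have hta : a.1 = Da.N + 1 := by rw [hDa]; simp
      have htb : b.1 = Db.N + 1 := by rw [hDb]; simp
      obtain ⟨Ba, hBa, hBa'⟩ := exists_frame_nonalt k' Da.Γ Da.Γ_symm Da.Γ_det (by
        obtain ⟨c, hc⟩ := Da.quad_val a.1 hta va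
        exact ⟨c, by rw [← hc]; exact hva⟩)
      obtain ⟨Bb, hBb, hBb'⟩ := exists_frame_nonalt k' Db.Γ Db.Γ_symm Db.Γ_det (by
        obtain ⟨c, hc⟩ := Db.quad_val b.1 htb vb
        exact ⟨c, by rw [← hc]; exact hvb⟩)
      obtain ⟨P, hP, hP'⟩ := congr_exists Da.Γ Db.Γ Ba Bb _ hBa' hBb' hBa hBb
      exact isConj_of_Γ a b Da Db hDa hDb e P hP hP'
  · -- odd rank
    have e : (Unit ⊕ (Fin k ⊕ Fin k)) ≃ Fin (2 * k + 1) :=
      Fintype.equivFinOfCardEq (by simp; omega)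
    obtain ⟨Da, hDa⟩ := exists_invData a ha hk e
    obtain ⟨Db, hDb⟩ := exists_invData b hb (hr ▸ hk) e
    obtain ⟨Ba, hBa, hBa'⟩ := exists_frame_odd k Da.Γ Da.Γ_symm Da.Γ_det
    obtain ⟨Bb, hBb, hBb'⟩ := exists_frame_odd k Db.Γ Db.Γ_symm Db.Γ_det
    obtain ⟨P, hP, hP'⟩ := congr_exists Da.Γ Db.Γ Ba Bb _ hBa' hBb' hBa hBb
    exact isConj_of_Γ a b Da Db hDa hDb e P hP hP'

end main

end Cfsg.Agent.Lib.helper50
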