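import Mathlib
import Cfsg.Agent.Lib.helper50.InvConj2

/-!
# Representatives of the classes of involutions in `Sp_2m(q)`, `q` even

`trep F σ s = [1 S; 0 1]` with `S i j = [i < s ∧ j = σ i]`, for an involutive permutation `σ` preserving
`{i < s}`: an involution with `rank (t - 1) = s` and `ω(v, t v) = v₂ᵀ S v₂`.
`card_inv_classes`: `Sp_2m(q)` has `m + m / 2` classes of involutions.
-/

set_option autoImplicit false

namespace Cfsg.Agent.Lib.helper50

open Matrix Module Cfsg Cfsg.Agent.Lib.helper17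

universe u

theorem alt_of_diag_zero {F : Type u} [Field F] [CharP F 2] {n : Type*} [Fintype n]
    (S : Matrix n n F) (hsym : Sᵀ = S) (hdiag : ∀ i, S i i = 0) (x : n → F) :
    x ⬝ᵥ S *ᵥ x = 0 := by
  simp only [dotProduct, Matrix.mulVec, Finset.mul_sum]
  rw [← Finset.sum_product']
  apply Finset.sum_ninvolution (fun p : n × n => p.swap)
  · intro p
    have hS : S p.2 p.1 = S p.1 p.2 := by
      have := congrFun (congrFun hsym p.1) p.2
      simpa using this
    simp only [Prod.fst_swap, Prod.snd_swap]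
    rw [hS]
    have h2 : (2 : F) = 0 := CharTwo.two_eq_zero
    linear_combination (x p.1 * S p.1 p.2 * x p.2) * h2
  · intro p hne heq
    apply hne
    have h1 : p.2 = p.1 := by
      have := congrArg Prod.fst heq
      simpa using this
    rw [h1, hdiag]; ring
  · intro p; exact Finset.mem_univ _
  · intro p; exact Prod.swap_swap p

theorem eq_zero_of_rank_eq_zero {F : Type u} [Field F] {n : Type*} [Fintype n] [DecidableEq n]
    (A : Matrix n n F) (h : A.rank = 0) : A = 0 := by
  have h1 : LinearMap.range A.mulVecLin = ⊥ := Submodule.finrank_eq_zero.1 h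
  have h2 : A.mulVecLin = 0 := LinearMap.range_eq_bot.1 h1
  apply mat_ext_of_mulVec
  intro v
  have := congrArg (fun f => f v) h2
  simpa using this

section reps
variable (F : Type u) [Field F] {m : ℕ}

/-- the symmetric matrix of a partial involutive permutation -/
def Srep (σ : Equiv.Perm (Fin m)) (s : ℕ) : Matrix (Fin m) (Fin m) F :=
  Matrix.of fun i j => if i.val < s ∧ j = σ i then 1 else 0

/-- the representative involution -/
def trep (σ : Equiv.Perm (Fin m)) (s : ℕ) : Matrix (Fin m ⊕ Fin m) (Fin m ⊕ Fin m) F :=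
  Matrix.fromBlocks 1 (Srep F σ s) 0 1

variable {F}

theorem Srep_symm (σ : Equiv.Perm (Fin m)) (s : ℕ) (hσ : ∀ i, σ (σ i) = i)
    (hs : ∀ i, (σ i).val < s ↔ i.val < s) : (Srep F σ s)ᵀ = Srep F σ s := by
  ext i j
  simp only [Matrix.transpose_apply, Srep, Matrix.of_apply]
  have : (j.val < s ∧ i = σ j) ↔ (i.val < s ∧ j = σ i) := by
    constructor
    · rintro ⟨h1, rfl⟩
      exact ⟨(hs j).2 h1, (hσ j).symm⟩
    · rintro ⟨h1, rfl⟩
      exact ⟨(hs i).2 h1, (hσ i).symm⟩
  rw [if_congr this rfl rfl]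

theorem trep_mem (σ : Equiv.Perm (Fin m)) (s : ℕ) (hσ : ∀ i, σ (σ i) = i)
    (hs : ∀ i, (σ i).val < s ↔ i.val < s) : trep F σ s ∈ Matrix.symplecticGroup (Fin m) F := by
  rw [SymplecticGroup.mem_iff]
  have h := Srep_symm (F := F) σ s hσ hs
  unfold trep Matrix.J
  rw [Matrix.fromBlocks_transpose, Matrix.fromBlocks_multiply, Matrix.fromBlocks_multiply, h]
  simp

theorem trep_sq [CharP F 2] (σ : Equiv.Perm (Fin m)) (s : ℕ) : trep F σ s * trep F σ s = 1 := by
  unfold trep
  rw [Matrix.fromBlocks_multiply]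
  have : Srep F σ s + Srep F σ s = 0 := by
    ext i j
    simp only [Matrix.add_apply, Matrix.zero_apply]
    exact CharTwo.add_self_eq_zero _
  simp [this]

theorem finLt_card {s : ℕ} (hs : s ≤ m) : Fintype.card {i : Fin m // i.val < s} = s := by
  have e : Fin s ≃ {i : Fin m // i.val < s} :=
    { toFun := fun i => ⟨⟨i.val, lt_of_lt_of_le i.2 hs⟩, i.2⟩
      invFun := fun i => ⟨i.1.val, i.2⟩
      left_inv := fun i => rfl
      right_inv := fun i => rfl }
  rw [← Fintype.card_congr e, Fintype.card_fin]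

theorem trep_rank (σ : Equiv.Perm (Fin m)) (s : ℕ) (hs : s ≤ m) :
    (trep F σ s - 1).rank = s := by
  classical
  have h1 : trep F σ s - 1 = (Matrix.diagonal (Sum.elim (fun i : Fin m => if i.val < s then (1 : F) else 0)
      (fun _ => 0))).submatrix (Equiv.refl _)
      ((Equiv.sumComm (Fin m) (Fin m)).trans (Equiv.sumCongr σ.symm (Equiv.refl _))) := by
    ext u v
    rcases u with i | i <;> rcases v with j | j <;>
      simp [trep, Srep, Matrix.diagonal_apply, Matrix.one_apply, Equiv.eq_symm_apply]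
    · by_cases h : i.val < s <;> simp [h, eq_comm]
  rw [h1, Matrix.rank_submatrix, Matrix.rank_diagonal, Fintype.card_congr Equiv.subtypeSum,
    Fintype.card_sum]
  have h2 : Fintype.card {b : Fin m // Sum.elim (fun i : Fin m => if i.val < s then (1 : F) else 0)
      (fun _ => 0) (Sum.inr b : Fin m ⊕ Fin m) ≠ 0} = 0 := by
    rw [Fintype.card_eq_zero_iff]
    exact ⟨fun b => b.2 rfl⟩
  have h3 : Fintype.card {a : Fin m // Sum.elim (fun i : Fin m => if i.val < s then (1 : F) else 0)
      (fun _ => 0) (Sum.inl a : Fin m ⊕ Fin m) ≠ 0} = Fintype.card {i : Fin m // i.val < s} := by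
    apply Fintype.card_congr
    apply Equiv.subtypeEquivRight
    intro a
    simp
  rw [h2, h3, finLt_card hs, add_zero]

theorem trep_val (σ : Equiv.Perm (Fin m)) (s : ℕ) (v : Fin m ⊕ Fin m → F) :
    sympForm m F v (trep F σ s *ᵥ v)
      = (fun i => v (Sum.inr i)) ⬝ᵥ Srep F σ s *ᵥ (fun i => v (Sum.inr i)) := by
  unfold sympForm
  simp only [dotProduct, Fintype.sum_sum_type, J_mulVec_inl, J_mulVec_inr]
  rw [← Finset.sum_add_distrib]
  refine Finset.sum_congr rfl fun i _ => ?_
  have h1 : (trep F σ s *ᵥ v) (Sum.inr i) = v (Sum.inr i) := by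
    simp [trep, Matrix.mulVec, dotProduct, Fintype.sum_sum_type, Matrix.one_apply]
  have h2 : (trep F σ s *ᵥ v) (Sum.inl i)
      = v (Sum.inl i) + (Srep F σ s *ᵥ (fun i => v (Sum.inr i))) i := by
    simp [trep, Matrix.mulVec, dotProduct, Fintype.sum_sum_type, Matrix.one_apply]
  rw [h1, h2]
  simp only [Matrix.mulVec, dotProduct]
  ring

theorem trep_nonalt (hm : 1 ≤ m) (s : ℕ) (hs : 1 ≤ s) :
    ∃ v : Fin m ⊕ Fin m → F, sympForm m F v (trep F (1 : Equiv.Perm (Fin m)) s *ᵥ v) ≠ 0 := by
  classical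
  refine ⟨Sum.elim 0 (Pi.single ⟨0, by omega⟩ 1), ?_⟩
  rw [trep_val]
  simp only [Sum.elim_inr]
  have : (fun i => (Pi.single (⟨0, by omega⟩ : Fin m) (1 : F) : Fin m → F) i)
      = Pi.single (⟨0, by omega⟩ : Fin m) (1 : F) := rfl
  rw [this, Matrix.mulVec_single_one, single_one_dotProduct]
  simp [Srep]
  omega

theorem trep_alt [CharP F 2] (σ : Equiv.Perm (Fin m)) (s : ℕ) (hσ : ∀ i, σ (σ i) = i)
    (hs : ∀ i, (σ i).val < s ↔ i.val < s) (hne : ∀ i : Fin m, i.val < s → σ i ≠ i)
    (v : Fin m ⊕ Fin m → F) : sympForm m F v (trep F σ s *ᵥ v) = 0 := by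
  rw [trep_val]
  apply alt_of_diag_zero _ (Srep_symm σ s hσ hs)
  intro i
  simp only [Srep, Matrix.of_apply]
  rw [if_neg]
  rintro ⟨h1, h2⟩
  exact hne i h1 h2.symm

/-- reversal of the first `s` coordinates -/
def revFun (m s : ℕ) (i : Fin m) : Fin m :=
  if h : i.val < s ∧ s ≤ m then ⟨s - 1 - i.val, by omega⟩ else i

theorem revFun_invol (m s : ℕ) : Function.Involutive (revFun m s) := by
  intro i
  by_cases h : i.val < s ∧ s ≤ m
  · have h' : s - 1 - i.val < s ∧ s ≤ m := by omega
    have e1 : revFun m s i = ⟨s - 1 - i.val, by omega⟩ := by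
      unfold revFun; rw [dif_pos h]
    rw [e1]
    unfold revFun
    rw [dif_pos h']
    apply Fin.ext
    simp only
    omega
  · have e1 : revFun m s i = i := by
      unfold revFun; rw [dif_neg h]
    rw [e1, e1]

/-- reversal of the first `s` coordinates, as a permutation -/
def revPerm (m s : ℕ) : Equiv.Perm (Fin m) := (revFun_invol m s).toPerm

theorem revPerm_val_of_lt {s : ℕ} (hs : s ≤ m) (i : Fin m) (hi : i.val < s) :
    (revPerm m s i).val = s - 1 - i.val := by
  change (revFun m s i).val = _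
  unfold revFun
  rw [dif_pos ⟨hi, hs⟩]

theorem revPerm_of_not_lt {s : ℕ} (i : Fin m) (hi : ¬ i.val < s) : revPerm m s i = i := by
  change revFun m s i = _
  unfold revFun
  rw [dif_neg (fun h => hi h.1)]

theorem revPerm_invol (s : ℕ) (i : Fin m) : revPerm m s (revPerm m s i) = i :=
  revFun_invol m s i

theorem revPerm_lt {s : ℕ} (hs : s ≤ m) (i : Fin m) : (revPerm m s i).val < s ↔ i.val < s := by
  by_cases hi : i.val < s
  · rw [revPerm_val_of_lt hs i hi]
    omega
  · rw [revPerm_of_not_lt i hi]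

theorem revPerm_ne {s : ℕ} (hs : s ≤ m) (he : Even s) (i : Fin m) (hi : i.val < s) :
    revPerm m s i ≠ i := by
  intro h
  have := congrArg Fin.val h
  rw [revPerm_val_of_lt hs i hi] at this
  obtain ⟨k, hk⟩ := he
  omega

end reps

end Cfsg.Agent.Lib.helper50
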