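import Mathlib
import Cfsg.Agent.S0750
import Cfsg.Agent.Lib.helper50.InvReps
import Cfsg.Agent.Lib.helper50.QuadMat

/-!
# Involutions of orthogonal groups in characteristic 2

`Q` is a quadratic form on `F^(2m)` whose polar form is `sympForm m F` (e.g. the hyperbolic form).
Its isometry group is a subgroup of `Sp_2m(F)` (`orthToSp`), and by Witt's theorem (`witt_frames`)
two involutions of `O(Q)` with the same rank and type are conjugate in `O(Q)`
(`orth_isConj_of_same_type`).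
-/

set_option autoImplicit false

namespace Cfsg.Agent.Lib.helper50

open Matrix Module Cfsg Cfsg.Agent.Lib.helper17

universe u

section L1
variable {F : Type u} [Field F] {m : ℕ} {ι : Type*} [Fintype ι]

theorem InvData.comm_of_map (D D' : InvData m F ι) (h : D.Γ = D'.Γ)
    (g : Matrix (Fin m ⊕ Fin m) (Fin m ⊕ Fin m) F)
    (hsp : ∀ u v, sympForm m F (g *ᵥ u) (g *ᵥ v) = sympForm m F u v)
    (hgx : ∀ j, g *ᵥ D.x j = D'.x j) : g * D.N = D'.N * g := by
  apply mat_ext_of_mulVec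
  intro v
  rw [← Matrix.mulVec_mulVec, ← Matrix.mulVec_mulVec]
  obtain ⟨c, hc⟩ := D.hspan v
  have hc' : D.N *ᵥ v = D.xcomb c := hc
  have h1 : g *ᵥ (D.N *ᵥ v) = D'.N *ᵥ (D'.comb c) := by
    rw [hc', D'.N_comb, InvData.xcomb, InvData.xcomb, Matrix.mulVec_sum]
    refine Finset.sum_congr rfl fun j _ => ?_
    rw [Matrix.mulVec_smul, hgx]
  have h2 : D'.N *ᵥ (g *ᵥ v - D'.comb c) = 0 := by
    apply D'.ker_of_perp
    intro i
    rw [sympForm_sub_right]
    have e1 : sympForm m F (D'.x i) (g *ᵥ v) = (D.Γ *ᵥ c) i := by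
      rw [← hgx, hsp]
      unfold InvData.x
      rw [D.hadj, hc', D.symp_p_xcomb]
    have e2 : sympForm m F (D'.x i) (D'.comb c) = (D'.Γ *ᵥ c) i := by
      unfold InvData.x
      rw [D'.hadj, D'.N_comb, D'.symp_p_xcomb]
    rw [e1, e2, h, sub_self]
  rw [Matrix.mulVec_sub, sub_eq_zero] at h2
  rw [h1, h2]

end L1

section data
variable {F : Type u} [Field F] [Fintype F] [CharP F 2] {m : ℕ}

/-- involutions of the same rank and type have data with the same Gram matrix -/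
theorem exists_data_of_same_type (a b : Matrix.symplecticGroup (Fin m) F) (ha : a ^ 2 = 1)
    (hb : b ^ 2 = 1) (hr : (a.1 - 1).rank = (b.1 - 1).rank)
    (htype : Even (a.1 - 1).rank → ((∀ v, sympForm m F v (a.1 *ᵥ v) = 0) ↔
      (∀ v, sympForm m F v (b.1 *ᵥ v) = 0))) :
    ∃ (ι : Type) (_ : Fintype ι) (Da Db : InvData m F ι),
      Da.N = a.1 - 1 ∧ Db.N = b.1 - 1 ∧ Da.Γ = Db.Γ := by
  classical
  rcases Nat.even_or_odd' (a.1 - 1).rank with ⟨k, hk | hk⟩
  · -- even rank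
    by_cases halt : ∀ v, sympForm m F v (a.1 *ᵥ v) = 0
    · have haltb := (htype (by rw [hk]; exact even_two_mul k)).1 halt
      have e : (Fin k ⊕ Fin k) ≃ Fin (2 * k) := Fintype.equivFinOfCardEq (by simp [two_mul])
      obtain ⟨Da, hDa⟩ := exists_invData a ha hk e
      obtain ⟨Db, hDb⟩ := exists_invData b hb (hr ▸ hk) e
      have hta : a.1 = Da.N + 1 := by rw [hDa]; simp
      have htb : b.1 = Db.N + 1 := by rw [hDb]; simp
      obtain ⟨Ba, hBa, hBa'⟩ := exists_frame_alt k Da.Γ Da.Γ_det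
        (fun c => by rw [Da.quad_val' a.1 hta]; exact halt _)
      obtain ⟨Bb, hBb, hBb'⟩ := exists_frame_alt k Db.Γ Db.Γ_det
        (fun c => by rw [Db.quad_val' b.1 htb]; exact haltb _)
      obtain ⟨P, hP, hP'⟩ := congr_exists Da.Γ Db.Γ Ba Bb _ hBa' hBb' hBa hBb
      exact ⟨_, inferInstance, Da, Db.transform P hP, hDa, hDb, by
        rw [InvData.transform_Γ, hP']⟩
    · have haltb : ¬ ∀ v, sympForm m F v (b.1 *ᵥ v) = 0 := fun h =>
        halt ((htype (by rw [hk]; exact even_two_mul k)).2 h)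
      simp only [not_forall] at halt haltb
      obtain ⟨va, hva⟩ := halt
      obtain ⟨vb, hvb⟩ := haltb
      obtain ⟨k', rfl⟩ : ∃ k', k = k' + 1 := by
        rcases Nat.eq_zero_or_pos k with h0 | h0
        · exfalso
          subst h0
          have e : (Fin 0 ⊕ Fin 0) ≃ Fin (2 * 0) := Fintype.equivFinOfCardEq (by simp)
          obtain ⟨Da, hDa⟩ := exists_invData a ha hk e
          have hta : a.1 = Da.N + 1 := by rw [hDa]; simp
          obtain ⟨c, hc⟩ := Da.quad_val a.1 hta va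
          apply hva
          rw [hc, Subsingleton.elim c 0]
          simp
        · exact ⟨k - 1, by omega⟩
      have e : (Fin (k' + 1) ⊕ Fin (k' + 1)) ≃ Fin (2 * (k' + 1)) :=
        Fintype.equivFinOfCardEq (by simp [two_mul])
      obtain ⟨Da, hDa⟩ := exists_invData a ha hk e
      obtain ⟨Db, hDb⟩ := exists_invData b hb (hr ▸ hk) e
      have hta : a.1 = Da.N + 1 := by rw [hDa]; simp
      have htb : b.1 = Db.N + 1 := by rw [hDb]; simp
      obtain ⟨Ba, hBa, hBa'⟩ := exists_frame_nonalt k' Da.Γ Da.Γ_symm Da.Γ_det (by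
        obtain ⟨c, hc⟩ := Da.quad_val a.1 hta va
        exact ⟨c, by rw [← hc]; exact hva⟩)
      obtain ⟨Bb, hBb, hBb'⟩ := exists_frame_nonalt k' Db.Γ Db.Γ_symm Db.Γ_det (by
        obtain ⟨c, hc⟩ := Db.quad_val b.1 htb vb
        exact ⟨c, by rw [← hc]; exact hvb⟩)
      obtain ⟨P, hP, hP'⟩ := congr_exists Da.Γ Db.Γ Ba Bb _ hBa' hBb' hBa hBb
      exact ⟨_, inferInstance, Da, Db.transform P hP, hDa, hDb, by
        rw [InvData.transform_Γ, hP']⟩
  · -- odd rank
    have e : (Unit ⊕ (Fin k ⊕ Fin k)) ≃ Fin (2 * k + 1) :=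
      Fintype.equivFinOfCardEq (by simp; omega)
    obtain ⟨Da, hDa⟩ := exists_invData a ha hk e
    obtain ⟨Db, hDb⟩ := exists_invData b hb (hr ▸ hk) e
    obtain ⟨Ba, hBa, hBa'⟩ := exists_frame_odd k Da.Γ Da.Γ_symm Da.Γ_det
    obtain ⟨Bb, hBb, hBb'⟩ := exists_frame_odd k Db.Γ Db.Γ_symm Db.Γ_det
    obtain ⟨P, hP, hP'⟩ := congr_exists Da.Γ Db.Γ Ba Bb _ hBa' hBb' hBa hBb
    exact ⟨_, inferInstance, Da, Db.transform P hP, hDa, hDb, by
      rw [InvData.transform_Γ, hP']⟩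

end data

section witt
variable {F : Type u} [Field F] [Fintype F] {n : Type} [Fintype n] [DecidableEq n]

/-- a linear automorphism preserving `Q`, as an element of the isometry group -/
theorem exists_isometry_of_linearEquiv (Q : (n → F) → F) (g : (n → F) ≃ₗ[F] (n → F))
    (hg : ∀ v, Q (g v) = Q v) :
    ∃ h : isometryGroup F Q, ∀ v, h.1.1 *ᵥ v = g v := by
  let A : Matrix n n F := LinearMap.toMatrix' (g : (n → F) →ₗ[F] (n → F))
  let B : Matrix n n F := LinearMap.toMatrix' (g.symm : (n → F) →ₗ[F] (n → F))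
  have hAB : A * B = 1 := by
    rw [← LinearMap.toMatrix'_comp]
    simp
  have hBA : B * A = 1 := by
    rw [← LinearMap.toMatrix'_comp]
    simp
  have hmul : ∀ v, A *ᵥ v = g v := fun v => by
    rw [← Matrix.toLin'_apply, Matrix.toLin'_toMatrix']
    rfl
  refine ⟨⟨⟨A, B, hAB, hBA⟩, ?_⟩, hmul⟩
  rw [mem_isometryGroup_iff]
  intro v
  change Q (A *ᵥ v) = Q v
  rw [hmul, hg]

/-- Witt's theorem for frames -/
theorem witt_frames (Q : QuadraticForm F (n → F)) (hQ : (QuadraticMap.polarBilin Q).Nondegenerate)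
    {κ : Type*} [Fintype κ] (x y : κ → (n → F)) (hx : LinearIndependent F x)
    (hy : LinearIndependent F y)
    (h : ∀ c : κ → F, Q (∑ i, c i • x i) = Q (∑ i, c i • y i)) :
    ∃ g : isometryGroup F ⇑Q, ∀ i, g.1.1 *ᵥ x i = y i := by
  classical
  let bx := Basis.span hx
  let by' := Basis.span hy
  let φ : Submodule.span F (Set.range x) ≃ₗ[F] Submodule.span F (Set.range y) :=
    bx.equiv by' (Equiv.refl κ)
  have hbx : ∀ i, (bx i : n → F) = x i := fun i => congrArg Subtype.val (Basis.span_apply hx i)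
  have hby : ∀ i, (by' i : n → F) = y i := fun i => congrArg Subtype.val (Basis.span_apply hy i)
  have hφ : ∀ z : Submodule.span F (Set.range x), Q (φ z : n → F) = Q (z : n → F) := by
    intro z
    have hz : z = ∑ i, bx.repr z i • bx i := (bx.sum_repr z).symm
    have h1 : (z : n → F) = ∑ i, bx.repr z i • x i := by
      conv_lhs => rw [hz]
      rw [Submodule.coe_sum]
      refine Finset.sum_congr rfl fun i _ => ?_
      rw [Submodule.coe_smul, hbx]
    have h2 : (φ z : n → F) = ∑ i, bx.repr z i • y i := by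
      conv_lhs => rw [hz]
      rw [map_sum, Submodule.coe_sum]
      refine Finset.sum_congr rfl fun i _ => ?_
      rw [map_smul, Submodule.coe_smul, Basis.equiv_apply, Equiv.refl_apply, hby]
    rw [h1, h2, h]
  obtain ⟨g, hg1, hg2⟩ := Cfsg.Agent.S0750.result Q hQ _ _ φ hφ
  obtain ⟨g', hg'⟩ := exists_isometry_of_linearEquiv (⇑Q) g hg1
  refine ⟨g', fun i => ?_⟩
  rw [hg']
  have := hg2 (bx i)
  rw [hbx] at this
  rw [this, Basis.equiv_apply, Equiv.refl_apply, hby]

end witt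

section orth
variable {F : Type u} [Field F] {m : ℕ}

/-- the isometry group of a quadratic form with polar form `sympForm` lies in `Sp` -/
def orthToSp (Q : (Fin m ⊕ Fin m → F) → F)
    (hpol : ∀ u v, Q (u + v) = Q u + Q v + sympForm m F u v) :
    isometryGroup F Q →* Matrix.symplecticGroup (Fin m) F where
  toFun g := ⟨g.1.1, mem_symplectic_of_preserves m _ (fun u v => by
      have hg := (mem_isometryGroup_iff Q g.1).1 g.2
      have := hpol (g.1.1 *ᵥ u) (g.1.1 *ᵥ v)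
      rw [← Matrix.mulVec_add, hg, hg, hg, hpol] at this
      exact (add_left_cancel this).symm)⟩
  map_one' := rfl
  map_mul' := fun a b => rfl

@[simp] theorem orthToSp_coe (Q : (Fin m ⊕ Fin m → F) → F)
    (hpol : ∀ u v, Q (u + v) = Q u + Q v + sympForm m F u v) (g : isometryGroup F Q) :
    (orthToSp Q hpol g).1 = g.1.1 := rfl

theorem orth_preserves (Q : (Fin m ⊕ Fin m → F) → F)
    (hpol : ∀ u v, Q (u + v) = Q u + Q v + sympForm m F u v) (g : isometryGroup F Q)
    (u v : Fin m ⊕ Fin m → F) :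
    sympForm m F (g.1.1 *ᵥ u) (g.1.1 *ᵥ v) = sympForm m F u v :=
  sympForm_mulVec_of_mem m (orthToSp Q hpol g).2 u v

theorem orth_Q (Q : (Fin m ⊕ Fin m → F) → F) (g : isometryGroup F Q)
    (v : Fin m ⊕ Fin m → F) : Q (g.1.1 *ᵥ v) = Q v :=
  (mem_isometryGroup_iff Q g.1).1 g.2 v

/-- `Q (N v) = ω(v, N v)` for `N = t - 1`, `t` an isometry, in characteristic 2 -/
theorem orth_Q_N [CharP F 2] (Q : (Fin m ⊕ Fin m → F) → F)
    (hpol : ∀ u v, Q (u + v) = Q u + Q v + sympForm m F u v) (t : isometryGroup F Q)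
    (v : Fin m ⊕ Fin m → F) :
    Q ((t.1.1 - 1) *ᵥ v) = sympForm m F v ((t.1.1 - 1) *ᵥ v) := by
  have h2 : (2 : F) = 0 := CharTwo.two_eq_zero
  have e1 : (t.1.1 - 1) *ᵥ v = t.1.1 *ᵥ v + v := by
    rw [Matrix.sub_mulVec, Matrix.one_mulVec]
    funext i
    simp only [Pi.sub_apply, Pi.add_apply]
    rw [sub_eq_add_neg, CharTwo.neg_eq]
  rw [e1, hpol, orth_Q Q t v, sympForm_add_right, sympForm_self, add_zero,
    sympForm_swap m v (t.1.1 *ᵥ v), CharTwo.neg_eq]
  linear_combination (Q v) * h2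

theorem InvData.Q_xcomb {ι : Type*} [Fintype ι] (D : InvData m F ι)
    (Q : (Fin m ⊕ Fin m → F) → F)
    (hDQ : ∀ v, Q (D.N *ᵥ v) = sympForm m F v (D.N *ᵥ v)) (c : ι → F) :
    Q (D.xcomb c) = c ⬝ᵥ D.Γ *ᵥ c := by
  rw [← D.N_comb, hDQ, D.N_comb, D.symp_comb_xcomb]

theorem polarBilin_nondeg (Q : QuadraticForm F (Fin m ⊕ Fin m → F))
    (hpol : ∀ u v, Q (u + v) = Q u + Q v + sympForm m F u v) :
    (QuadraticMap.polarBilin Q).Nondegenerate := by
  have : QuadraticMap.polarBilin Q = sympBilin m := by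
    apply LinearMap.ext₂
    intro u v
    rw [QuadraticMap.polarBilin_apply_apply, sympBilin_apply, QuadraticMap.polar, hpol]
    ring
  rw [this]
  exact sympBilin_nondegenerate m

variable [Fintype F]

theorem orth_conj_of_Γ_eq {ι : Type*} [Fintype ι] (Q : (Fin m ⊕ Fin m → F) → F)
    (Q' : QuadraticForm F (Fin m ⊕ Fin m → F)) (hQ' : ⇑Q' = Q)
    (hpol : ∀ u v, Q (u + v) = Q u + Q v + sympForm m F u v) (D D' : InvData m F ι)
    (hDQ : ∀ v, Q (D.N *ᵥ v) = sympForm m F v (D.N *ᵥ v))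
    (hDQ' : ∀ v, Q (D'.N *ᵥ v) = sympForm m F v (D'.N *ᵥ v)) (h : D.Γ = D'.Γ) :
    ∃ g : isometryGroup F Q, g.1.1 * D.N = D'.N * g.1.1 := by
  subst hQ'
  obtain ⟨g, hg⟩ := witt_frames Q' (polarBilin_nondeg Q' hpol) D.x D'.x D.hli D'.hli (fun c => by
    have h1 := D.Q_xcomb (⇑Q') hDQ c
    have h2 := D'.Q_xcomb (⇑Q') hDQ' c
    unfold InvData.xcomb at h1 h2
    rw [h1, h2, h])
  exact ⟨g, D.comm_of_map D' h g.1.1 (orth_preserves (⇑Q') hpol g) hg⟩

theorem orth_isConj_of_comm (Q : (Fin m ⊕ Fin m → F) → F) (a b g : isometryGroup F Q)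
    (h : g.1.1 * (a.1.1 - 1) = (b.1.1 - 1) * g.1.1) : IsConj a b := by
  rw [isConj_iff]
  refine ⟨g, ?_⟩
  rw [mul_inv_eq_iff_eq_mul]
  apply Subtype.ext
  apply Units.ext
  change g.1.1 * a.1.1 = b.1.1 * g.1.1
  rw [mul_sub, sub_mul, mul_one, one_mul, sub_left_inj] at h
  exact h

theorem orth_sq (Q : (Fin m ⊕ Fin m → F) → F)
    (hpol : ∀ u v, Q (u + v) = Q u + Q v + sympForm m F u v) (a : isometryGroup F Q)
    (ha : a ^ 2 = 1) : (orthToSp Q hpol a) ^ 2 = 1 := by
  rw [← map_pow, ha, map_one]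

/-- involutions of `O(Q)` with the same rank and type are conjugate in `O(Q)` -/
theorem orth_isConj_of_same_type [CharP F 2] (Q : (Fin m ⊕ Fin m → F) → F)
    (Q' : QuadraticForm F (Fin m ⊕ Fin m → F)) (hQ' : ⇑Q' = Q)
    (hpol : ∀ u v, Q (u + v) = Q u + Q v + sympForm m F u v) (a b : isometryGroup F Q)
    (ha : a ^ 2 = 1) (hb : b ^ 2 = 1) (hr : (a.1.1 - 1).rank = (b.1.1 - 1).rank)
    (htype : Even (a.1.1 - 1).rank → ((∀ v, sympForm m F v (a.1.1 *ᵥ v) = 0) ↔
      (∀ v, sympForm m F v (b.1.1 *ᵥ v) = 0))) : IsConj a b := by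
  obtain ⟨ι, _, Da, Db, hDa, hDb, hΓ⟩ := exists_data_of_same_type (orthToSp Q hpol a)
    (orthToSp Q hpol b) (orth_sq Q hpol a ha) (orth_sq Q hpol b hb) hr htype
  rw [orthToSp_coe] at hDa hDb
  obtain ⟨g, hg⟩ := orth_conj_of_Γ_eq Q Q' hQ' hpol Da Db
    (fun v => by rw [hDa]; exact orth_Q_N Q hpol a v)
    (fun v => by rw [hDb]; exact orth_Q_N Q hpol b v) hΓ
  rw [hDa, hDb] at hg
  exact orth_isConj_of_comm Q a b g hg

end orth

end Cfsg.Agent.Lib.helper50
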