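import Mathlib
import Cfsg.Agent.Lib.helper49.Forms
import Cfsg.Agent.Lib.helper50.InvOrth

/-!
# The hyperbolic quadratic form in characteristic 2: its polar form is `sympForm`
-/

set_option autoImplicit false

namespace Cfsg.Agent.Lib.helper50

open Matrix Module Cfsg Cfsg.Agent.Lib.helper17 Cfsg.Agent.Lib.helper49

universe u

section
variable {F : Type u} [Field F] {m : ℕ}

theorem sympForm_eq_sum (u v : Fin m ⊕ Fin m → F) :
    sympForm m F u v
      = ∑ i, (u (Sum.inr i) * v (Sum.inl i) - u (Sum.inl i) * v (Sum.inr i)) := by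
  simp only [sympForm, dotProduct, Fintype.sum_sum_type, J_mulVec_inl, J_mulVec_inr]
  rw [← Finset.sum_add_distrib]
  refine Finset.sum_congr rfl fun i _ => ?_
  ring

theorem plus_hpol [CharP F 2] (u v : Fin m ⊕ Fin m → F) :
    quadFormPlus m F (u + v) = quadFormPlus m F u + quadFormPlus m F v + sympForm m F u v := by
  have h2 : (2 : F) = 0 := CharTwo.two_eq_zero
  rw [sympForm_eq_sum]
  simp only [quadFormPlus, Pi.add_apply]
  rw [← Finset.sum_add_distrib, ← Finset.sum_add_distrib]
  refine Finset.sum_congr rfl fun i _ => ?_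
  linear_combination (u (Sum.inl i) * v (Sum.inr i)) * h2

/-- alternating type passes along conjugation (other direction) -/
theorem alt_of_conj' (a b g : Matrix.symplecticGroup (Fin m) F) (h : g.1 * a.1 = b.1 * g.1)
    (ha : ∀ v, sympForm m F v (a.1 *ᵥ v) = 0) (v : Fin m ⊕ Fin m → F) :
    sympForm m F v (b.1 *ᵥ v) = 0 := by
  have hG : g * a = b * g := Subtype.ext h
  have hG' : g⁻¹ * b = a * g⁻¹ := by
    rw [inv_mul_eq_iff_eq_mul, ← mul_assoc, hG, mul_assoc, mul_inv_cancel, mul_one]
  exact alt_of_conj b a g⁻¹ (congrArg Subtype.val hG') ha v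

end

end Cfsg.Agent.Lib.helper50
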