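import Mathlib
import Cfsg.Agent.Lib.helper50.InvOrthPlus

/-!
# Representatives of the classes of involutions of `O⁺_2m(q)`, `q` even

* `swapMat F m s`: swap `x_i ↔ y_i` for `i < s` (a product of `s` commuting reflections).
* `trep F σ s` for alternating `S` (see `InvReps`).
* `card_inv_classes_of_reps`: counting classes of involutions by a complete invariant.
-/

set_option autoImplicit false

namespace Cfsg.Agent.Lib.helper50

open Matrix Module Cfsg Cfsg.Agent.Lib.helper17

universe u

/-- counting the classes of involutions with a complete invariant and representatives -/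
theorem card_inv_classes_of_reps {G : Type*} [Group G] {X T : Type*} [Fintype X] (I : G → T)
    (rep : X → G) (hord : ∀ x, orderOf (rep x) = 2)
    (hinv : ∀ a b : G, IsConj a b → I a = I b)
    (hconj : ∀ a b : G, orderOf a = 2 → orderOf b = 2 → I a = I b → IsConj a b)
    (hinj : ∀ x y, I (rep x) = I (rep y) → x = y)
    (hsurj : ∀ g : G, orderOf g = 2 → ∃ x, I (rep x) = I g) :
    Nat.card {C : ConjClasses G // ∃ g : G, ConjClasses.mk g = C ∧ orderOf g = 2}
      = Fintype.card X := by
  let f : X → {C : ConjClasses G // ∃ g : G, ConjClasses.mk g = C ∧ orderOf g = 2} :=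
    fun x => ⟨ConjClasses.mk (rep x), rep x, rfl, hord x⟩
  have hf : Function.Bijective f := by
    constructor
    · intro x y hxy
      have h1 : IsConj (rep x) (rep y) :=
        ConjClasses.mk_eq_mk_iff_isConj.1 (congrArg Subtype.val hxy)
      exact hinj x y (hinv _ _ h1)
    · rintro ⟨C, g, rfl, hg⟩
      obtain ⟨x, hx⟩ := hsurj g hg
      refine ⟨x, ?_⟩
      apply Subtype.ext
      exact ConjClasses.mk_eq_mk_iff_isConj.2 (hconj _ _ (hord x) hg hx)
  rw [← Nat.card_congr (Equiv.ofBijective f hf), Nat.card_eq_fintype_card]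

section swap
variable (F : Type u) [Field F] (m s : ℕ)

/-- swap `x_i ↔ y_i` for `i < s` -/
def swapMat : Matrix (Fin m ⊕ Fin m) (Fin m ⊕ Fin m) F :=
  Matrix.fromBlocks (Matrix.diagonal (fun i => if i.val < s then 0 else 1))
    (Matrix.diagonal (fun i => if i.val < s then 1 else 0))
    (Matrix.diagonal (fun i => if i.val < s then 1 else 0))
    (Matrix.diagonal (fun i => if i.val < s then 0 else 1))

variable {F m s}

theorem swapMat_mulVec_inl (v : Fin m ⊕ Fin m → F) (i : Fin m) :
    (swapMat F m s *ᵥ v) (Sum.inl i) = if i.val < s then v (Sum.inr i) else v (Sum.inl i) := by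
  simp only [swapMat, Matrix.fromBlocks_mulVec, Sum.elim_inl, Pi.add_apply,
    Matrix.mulVec_diagonal]
  split_ifs <;> simp

theorem swapMat_mulVec_inr (v : Fin m ⊕ Fin m → F) (i : Fin m) :
    (swapMat F m s *ᵥ v) (Sum.inr i) = if i.val < s then v (Sum.inl i) else v (Sum.inr i) := by
  simp only [swapMat, Matrix.fromBlocks_mulVec, Sum.elim_inr, Pi.add_apply,
    Matrix.mulVec_diagonal]
  split_ifs <;> simp

theorem swapMat_sq : swapMat F m s * swapMat F m s = 1 := by
  apply mat_ext_of_mulVec
  intro v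
  rw [← Matrix.mulVec_mulVec, Matrix.one_mulVec]
  funext u
  rcases u with i | i
  · rw [swapMat_mulVec_inl, swapMat_mulVec_inr, swapMat_mulVec_inl]
    split_ifs <;> rfl
  · rw [swapMat_mulVec_inr, swapMat_mulVec_inl, swapMat_mulVec_inr]
    split_ifs <;> rfl

theorem swapMat_Q (v : Fin m ⊕ Fin m → F) :
    quadFormPlus m F (swapMat F m s *ᵥ v) = quadFormPlus m F v := by
  unfold quadFormPlus
  refine Finset.sum_congr rfl fun i _ => ?_
  rw [swapMat_mulVec_inl, swapMat_mulVec_inr]
  split_ifs
  · ring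
  · rfl

theorem swapMat_rank (hs : s ≤ m) : (swapMat F m s - 1).rank = s := by
  classical
  have hL : IsUnit (Matrix.fromBlocks (1 : Matrix (Fin m) (Fin m) F) 0
      (1 : Matrix (Fin m) (Fin m) F) (1 : Matrix (Fin m) (Fin m) F)).det := by
    rw [Matrix.det_fromBlocks_zero₁₂]
    simp
  have hK : IsUnit (Matrix.fromBlocks (-1 : Matrix (Fin m) (Fin m) F)
      (1 : Matrix (Fin m) (Fin m) F) 0 (1 : Matrix (Fin m) (Fin m) F)).det := by
    have h1 : (Matrix.fromBlocks (-1 : Matrix (Fin m) (Fin m) F)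
        (1 : Matrix (Fin m) (Fin m) F) 0 (1 : Matrix (Fin m) (Fin m) F))
        * (Matrix.fromBlocks (-1 : Matrix (Fin m) (Fin m) F)
        (1 : Matrix (Fin m) (Fin m) F) 0 (1 : Matrix (Fin m) (Fin m) F)) = 1 := by
      rw [Matrix.fromBlocks_multiply]
      simp [← Matrix.fromBlocks_one]
    exact (Matrix.isUnit_iff_isUnit_det _).1 (IsUnit.of_mul_eq_one _ h1)
  have key : (Matrix.fromBlocks (1 : Matrix (Fin m) (Fin m) F) 0
      (1 : Matrix (Fin m) (Fin m) F) (1 : Matrix (Fin m) (Fin m) F)) * (swapMat F m s - 1)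
      = Matrix.diagonal (Sum.elim (fun i : Fin m => if i.val < s then (1 : F) else 0) (fun _ => 0))
        * (Matrix.fromBlocks (-1 : Matrix (Fin m) (Fin m) F)
        (1 : Matrix (Fin m) (Fin m) F) 0 (1 : Matrix (Fin m) (Fin m) F)) := by
    have e1 : Matrix.diagonal (Sum.elim (fun i : Fin m => if i.val < s then (1 : F) else 0)
        (fun _ => 0)) = Matrix.fromBlocks (Matrix.diagonal
          (fun i : Fin m => if i.val < s then (1 : F) else 0)) 0 0
          (0 : Matrix (Fin m) (Fin m) F) := by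
      ext u v
      rcases u with i | i <;> rcases v with j | j <;> simp [Matrix.diagonal_apply]
    have e2 : swapMat F m s - 1 = Matrix.fromBlocks
        (Matrix.diagonal (fun i : Fin m => if i.val < s then (0 : F) else 1) - 1)
        (Matrix.diagonal (fun i => if i.val < s then 1 else 0))
        (Matrix.diagonal (fun i => if i.val < s then 1 else 0))
        (Matrix.diagonal (fun i : Fin m => if i.val < s then (0 : F) else 1) - 1) := by
      ext u v
      rcases u with i | i <;> rcases v with j | j <;>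
        simp [swapMat, Matrix.one_apply, Matrix.diagonal_apply]
    have e3 : Matrix.diagonal (fun i : Fin m => if i.val < s then (0 : F) else 1) - 1
        = - Matrix.diagonal (fun i : Fin m => if i.val < s then (1 : F) else 0) := by
      ext i j
      by_cases hij : i = j
      · subst hij
        by_cases h : i.val < s <;> simp [h]
      · simp [Matrix.diagonal_apply_ne _ hij, Matrix.one_apply_ne hij]
    rw [e1, e2, e3, Matrix.fromBlocks_multiply, Matrix.fromBlocks_multiply]
    simp
  rw [← Matrix.rank_mul_eq_right_of_isUnit_det _ (swapMat F m s - 1) hL, key,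
    Matrix.rank_mul_eq_left_of_isUnit_det _ _ hK, Matrix.rank_diagonal,
    Fintype.card_congr Equiv.subtypeSum, Fintype.card_sum]
  have h2 : Fintype.card {b : Fin m // Sum.elim (fun i : Fin m => if i.val < s then (1 : F) else 0)
      (fun _ => 0) (Sum.inr b : Fin m ⊕ Fin m) ≠ 0} = 0 := by
    rw [Fintype.card_eq_zero_iff]
    exact ⟨fun b => b.2 rfl⟩
  have h3 : Fintype.card {a : Fin m // Sum.elim (fun i : Fin m => if i.val < s then (1 : F) else 0)
      (fun _ => 0) (Sum.inl a : Fin m ⊕ Fin m) ≠ 0} = Fintype.card {i : Fin m // i.val < s} := by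
    apply Fintype.card_congr
    apply Equiv.subtypeEquivRight
    intro a
    simp
  rw [h2, h3, finLt_card hs, add_zero]

theorem swapMat_nonalt (hs : 1 ≤ s) (hm : 1 ≤ m) :
    ∃ v : Fin m ⊕ Fin m → F, sympForm m F v (swapMat F m s *ᵥ v) ≠ 0 := by
  classical
  refine ⟨Pi.single (Sum.inl ⟨0, by omega⟩) 1, ?_⟩
  rw [sympForm_eq_sum, Finset.sum_eq_single (⟨0, by omega⟩ : Fin m)]
  · rw [swapMat_mulVec_inl, swapMat_mulVec_inr]
    simp
    omega
  · intro b _ hb
    have : (Sum.inl b : Fin m ⊕ Fin m) ≠ Sum.inl ⟨0, by omega⟩ := fun h => hb (Sum.inl.inj h)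
    simp [this]
  · intro h
    exact absurd (Finset.mem_univ _) h

end swap

section trepO
variable {F : Type u} [Field F] {m : ℕ}

theorem trep_Q (σ : Equiv.Perm (Fin m)) (s : ℕ) (v : Fin m ⊕ Fin m → F) :
    quadFormPlus m F (trep F σ s *ᵥ v) = quadFormPlus m F v
      + (fun i => v (Sum.inr i)) ⬝ᵥ Srep F σ s *ᵥ (fun i => v (Sum.inr i)) := by
  have h1 : ∀ i, (trep F σ s *ᵥ v) (Sum.inr i) = v (Sum.inr i) := by
    intro i
    simp [trep, Matrix.mulVec, dotProduct, Fintype.sum_sum_type, Matrix.one_apply]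
  have h2 : ∀ i, (trep F σ s *ᵥ v) (Sum.inl i)
      = v (Sum.inl i) + (Srep F σ s *ᵥ (fun i => v (Sum.inr i))) i := by
    intro i
    simp [trep, Matrix.mulVec, dotProduct, Fintype.sum_sum_type, Matrix.one_apply]
  unfold quadFormPlus
  simp only [h1, h2, dotProduct]
  rw [← Finset.sum_add_distrib]
  refine Finset.sum_congr rfl fun i _ => ?_
  ring

/-- an involutive matrix as an element of `GL` -/
def glOfInvol {n : Type*} [Fintype n] [DecidableEq n] (M : Matrix n n F) (h : M * M = 1) :
    Matrix.GeneralLinearGroup n F := ⟨M, M, h, h⟩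

/-- an involutive isometry as an element of the isometry group -/
def orthOfInvol (Q : (Fin m ⊕ Fin m → F) → F) (M : Matrix (Fin m ⊕ Fin m) (Fin m ⊕ Fin m) F)
    (h : M * M = 1) (hQ : ∀ v, Q (M *ᵥ v) = Q v) : isometryGroup F Q :=
  ⟨glOfInvol M h, (mem_isometryGroup_iff Q _).2 hQ⟩

@[simp] theorem orthOfInvol_coe (Q : (Fin m ⊕ Fin m → F) → F)
    (M : Matrix (Fin m ⊕ Fin m) (Fin m ⊕ Fin m) F) (h : M * M = 1)
    (hQ : ∀ v, Q (M *ᵥ v) = Q v) : (orthOfInvol Q M h hQ).1.1 = M := rfl

theorem orthOfInvol_sq (Q : (Fin m ⊕ Fin m → F) → F)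
    (M : Matrix (Fin m ⊕ Fin m) (Fin m ⊕ Fin m) F) (h : M * M = 1)
    (hQ : ∀ v, Q (M *ᵥ v) = Q v) : (orthOfInvol Q M h hQ) ^ 2 = 1 := by
  rw [sq]
  apply Subtype.ext
  apply Units.ext
  exact h

end trepO

end Cfsg.Agent.Lib.helper50
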