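import Mathlib
import Cfsg.Prelude.Def_Classical

/-!
# Transport of isometry groups along a reindexing of coordinates

`isometryGroupReindex e Q : isometryGroup F Q ≃* isometryGroup F (fun v => Q (v ∘ e))` for `e : ι ≃ κ`.
-/

set_option autoImplicit false

namespace Cfsg.Agent.Lib.helper50

open Matrix

section
variable {ι κ : Type} [Fintype ι] [DecidableEq ι] [Fintype κ] [DecidableEq κ]
variable {F : Type*} [Field F]

/-- the isomorphism `GL ι F ≃* GL κ F` induced by a reindexing -/
def glReindex (F : Type*) [Field F] (e : ι ≃ κ) : GL ι F ≃* GL κ F :=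
  Units.mapEquiv (Matrix.reindexAlgEquiv F F e).toMulEquiv

theorem glReindex_val (e : ι ≃ κ) (g : GL ι F) :
    ((glReindex F e g : GL κ F) : Matrix κ κ F) = (g : Matrix ι ι F).submatrix e.symm e.symm := rfl

theorem glReindex_symm_val (e : ι ≃ κ) (g : GL κ F) :
    (((glReindex F e).symm g : GL ι F) : Matrix ι ι F) = (g : Matrix κ κ F).submatrix e e := rfl

theorem glReindex_mem_iff (e : ι ≃ κ) (Q : (ι → F) → F) (g : GL ι F) :
    glReindex F e g ∈ Cfsg.isometryGroup F (fun v : κ → F => Q (v ∘ e)) ↔
      g ∈ Cfsg.isometryGroup F Q := by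
  constructor
  · intro h u
    intro _
    have h1 := h (u ∘ e.symm) (u ∘ e.symm)
    simp only [Units.coeHom_apply, glReindex_val, Matrix.submatrix_mulVec_equiv] at h1
    have h2 : (u ∘ e.symm) ∘ (e.symm.symm) = u := by
      funext x; simp
    have h3 : ((g : Matrix ι ι F) *ᵥ u) ∘ e.symm ∘ e = (g : Matrix ι ι F) *ᵥ u := by
      funext x; simp
    have h4 : (u ∘ e.symm) ∘ e = u := by
      funext x; simp
    rw [h2, Function.comp_assoc, h3, h4] at h1
    exact h1
  · intro h v
    intro _
    have h1 := h (v ∘ e) (v ∘ e)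
    simp only [Units.coeHom_apply, glReindex_val, Matrix.submatrix_mulVec_equiv]
    have h3 : ((g : Matrix ι ι F) *ᵥ (v ∘ e.symm.symm)) ∘ e.symm ∘ e
        = (g : Matrix ι ι F) *ᵥ (v ∘ e) := by
      funext x; simp
    rw [Function.comp_assoc, h3]
    exact h1

/-- transport of the isometry group along a reindexing of coordinates -/
def isometryGroupReindex (e : ι ≃ κ) (Q : (ι → F) → F) :
    Cfsg.isometryGroup F Q ≃* Cfsg.isometryGroup F (fun v : κ → F => Q (v ∘ e)) where
  toFun g := ⟨glReindex F e g.1, (glReindex_mem_iff e Q g.1).2 g.2⟩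
  invFun g := ⟨(glReindex F e).symm g.1, (glReindex_mem_iff e Q _).1 (by
    rw [MulEquiv.apply_symm_apply]; exact g.2)⟩
  left_inv g := by
    apply Subtype.ext
    simp
  right_inv g := by
    apply Subtype.ext
    simp
  map_mul' g h := by
    apply Subtype.ext
    simp

theorem isometryGroupReindex_val (e : ι ≃ κ) (Q : (ι → F) → F) (g : Cfsg.isometryGroup F Q) :
    (((isometryGroupReindex e Q g : Cfsg.isometryGroup F (fun v : κ → F => Q (v ∘ e))) : GL κ F)
      : Matrix κ κ F) = ((g : GL ι F) : Matrix ι ι F).submatrix e.symm e.symm := rfl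

end

end Cfsg.Agent.Lib.helper50
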