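import Mathlib
import Cfsg.Prelude.Def_LieTypeChar
import Cfsg.Agent.Lib.helper44.LODefs
import Cfsg.Agent.Lib.helper6.LOARITH

/-!
# S2363: helper50 racer helpers (all names prefixed `h50_`)
-/

set_option autoImplicit false

namespace Cfsg.Agent.Lib.helper44.LO

open Cfsg

/-- The cardinality of a finite field of characteristic `p` is `p ^ f` with `1 ≤ f`. -/
theorem h50_lo_card {F : Type} [Field F] [Fintype F] (p : ℕ) [CharP F p] :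
    ∃ f : ℕ, 1 ≤ f ∧ Fintype.card F = p ^ f := by
  obtain ⟨n, -, hn⟩ := FiniteField.card F p
  exact ⟨n, n.pos, hn⟩

theorem h50_lo_two_le {p : ℕ} (hp : p.Prime) {f : ℕ} (hf : 1 ≤ f) : 2 ≤ p ^ f :=
  le_trans hp.two_le (Nat.le_self_pow (by omega) p)

theorem h50_lo_dvd {p : ℕ} {f : ℕ} (hf : 1 ≤ f) : p ∣ p ^ f :=
  dvd_pow_self p (by omega)

theorem h50_lo_not_dvd_sub_one {p : ℕ} (hp : p.Prime) {q : ℕ} (hpq : p ∣ q) (hq : 2 ≤ q)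
    (d : ℕ) (hd : 1 ≤ d) : ¬ p ∣ q ^ d - 1 := by
  intro h
  have h1 : p ∣ q ^ d := dvd_pow hpq (by omega)
  have h2 : 1 ≤ q ^ d := Nat.one_le_pow _ _ (by omega)
  have h3 : p ∣ q ^ d - (q ^ d - 1) := Nat.dvd_sub h1 h
  have h4 : q ^ d - (q ^ d - 1) = 1 := by omega
  rw [h4] at h3
  exact hp.one_lt.ne' (Nat.dvd_one.mp h3)

theorem h50_lo_not_dvd_of_dvd_sub_one {p : ℕ} (hp : p.Prime) {q : ℕ} (hpq : p ∣ q) (hq : 2 ≤ q)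
    (d : ℕ) (hd : 1 ≤ d) {c : ℕ} (hc : c ∣ q ^ d - 1) : ¬ p ∣ c := fun h =>
  h50_lo_not_dvd_sub_one hp hpq hq d hd (dvd_trans h hc)

/-- base of the invariant `¬ p ∣ A ∧ 0 < A ∧ A < q ^ a`. -/
theorem h50_lo_base {p : ℕ} (hp : p.Prime) {q : ℕ} (hpq : p ∣ q) (hq : 2 ≤ q)
    (d : ℕ) (hd : 1 ≤ d) : ¬ p ∣ q ^ d - 1 ∧ 0 < q ^ d - 1 ∧ q ^ d - 1 < q ^ d := by
  have h2 : 2 ≤ q ^ d := le_trans hq (Nat.le_self_pow (by omega) q)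
  exact ⟨h50_lo_not_dvd_sub_one hp hpq hq d hd, by omega, by omega⟩

/-- step of the invariant: multiply by `q ^ d - 1`. -/
theorem h50_lo_step {p : ℕ} (hp : p.Prime) {q : ℕ} (hpq : p ∣ q) (hq : 2 ≤ q) {A a : ℕ}
    (hA : ¬ p ∣ A ∧ 0 < A ∧ A < q ^ a) (d : ℕ) (hd : 1 ≤ d) :
    ¬ p ∣ A * (q ^ d - 1) ∧ 0 < A * (q ^ d - 1) ∧ A * (q ^ d - 1) < q ^ (a + d) := by
  obtain ⟨h1, h2, h3⟩ := h50_lo_base hp hpq hq d hd
  obtain ⟨hA1, hA2, hA3⟩ := hA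
  refine ⟨?_, Nat.mul_pos hA2 h2, ?_⟩
  · intro h
    rcases (Nat.Prime.dvd_mul hp).mp h with h | h
    · exact hA1 h
    · exact h1 h
  · rw [pow_add]
    exact Nat.mul_lt_mul'' hA3 h3

end Cfsg.Agent.Lib.helper44.LO
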