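import Mathlib
import Cfsg.Prelude.Def_LieTypeChar
import Cfsg.Agent.Lib.helper44.LODefs
import Cfsg.Agent.Lib.helper6.LOARITH
import Cfsg.Agent.Lib.helper50.LOh50core
import Cfsg.Agent.S1064

/-!
# S2363 piece E7 (`lo_e7`), helper50 racer copy (prefixed `h50_`)
-/

set_option autoImplicit false

namespace Cfsg.Agent.Lib.helper44.LO

open Cfsg

/-- E7 (racer copy). -/
theorem h50_lo_e7 {F : Type} [Field F] [Fintype F] (p : ℕ) (hp : p.Prime) [CharP F p] :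
    LOGood p (Nat.card ↥(Cfsg.Lie.chevE7.group F)) := by
  obtain ⟨f, hf, hq⟩ := h50_lo_card (F := F) p
  have hord := Cfsg.Agent.S1064.result (F := F) hq
  have hq2 : 2 ≤ p ^ f := h50_lo_two_le hp hf
  have hpq : p ∣ p ^ f := h50_lo_dvd hf
  generalize Nat.card ↥(Cfsg.Lie.chevE7.group F) = n at hord ⊢
  generalize hqq : p ^ f = q at hord hq2 hpq
  have hM := h50_lo_step hp hpq hq2 (h50_lo_step hp hpq hq2 (h50_lo_step hp hpq hq2
    (h50_lo_step hp hpq hq2 (h50_lo_step hp hpq hq2 (h50_lo_step hp hpq hq2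
    (h50_lo_base hp hpq hq2 2 (by norm_num)) 6 (by norm_num)) 8 (by norm_num)) 10 (by norm_num))
    12 (by norm_num)) 14 (by norm_num)) 18 (by norm_num)
  obtain ⟨hM1, hM2, hM3⟩ := hM
  have hcdvd : Nat.gcd 2 (q - 1) ∣ q ^ 1 - 1 := by
    rw [pow_one]; exact Nat.gcd_dvd_right _ _
  have hcp : ¬ p ∣ Nat.gcd 2 (q - 1) :=
    h50_lo_not_dvd_of_dvd_sub_one hp hpq hq2 1 le_rfl hcdvd
  have hc1 : 1 ≤ Nat.gcd 2 (q - 1) := Nat.gcd_pos_of_pos_left _ (by norm_num)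
  subst hqq
  refine lo_good hp f hf (Nat.gcd 2 (p ^ f - 1)) n 63
    (((p ^ f) ^ 2 - 1) * ((p ^ f) ^ 6 - 1) * ((p ^ f) ^ 8 - 1) * ((p ^ f) ^ 10 - 1) *
      ((p ^ f) ^ 12 - 1) * ((p ^ f) ^ 14 - 1) * ((p ^ f) ^ 18 - 1)) 70 ?_ hcp hM1 ?_
    (by norm_num) (by norm_num)
  · rw [hord]; ring
  · calc _ < (p ^ f) ^ (2 + 6 + 8 + 10 + 12 + 14 + 18) := hM3
      _ = 1 * (p ^ f) ^ 70 := by norm_num
      _ ≤ Nat.gcd 2 (p ^ f - 1) * (p ^ f) ^ 70 := Nat.mul_le_mul_right _ hc1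

end Cfsg.Agent.Lib.helper44.LO
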