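import Mathlib
import Cfsg.Prelude.Def_LieTypeChar
import Cfsg.Agent.Lib.helper44.LODefs
import Cfsg.Agent.Lib.helper6.LOARITH
import Cfsg.Agent.Lib.helper50.LOh50core
import Cfsg.Agent.S0243

/-!
# S2363 piece PSL2 (`lo_psl_two`), helper50 racer copy (prefixed `h50_`)
-/

set_option autoImplicit false

namespace Cfsg.Agent.Lib.helper44.LO

open Cfsg

/-- PSL2 (racer copy). -/
theorem h50_lo_psl_two {F : Type} [Field F] [Fintype F] (p : ℕ) (hp : p.Prime) [CharP F p] :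
    Nat.card (Matrix.ProjectiveSpecialLinearGroup (Fin 2) F) <
        p ^ (3 * (Nat.card (Matrix.ProjectiveSpecialLinearGroup (Fin 2) F)).factorization p) ∧
      Fintype.card F = p ^ (Nat.card (Matrix.ProjectiveSpecialLinearGroup (Fin 2) F)).factorization p := by
  obtain ⟨f, hf, hq⟩ := h50_lo_card (F := F) p
  have hord := Cfsg.Agent.S0243.result (F := F) hq 2 le_rfl
  have hq2 : 2 ≤ p ^ f := h50_lo_two_le hp hf
  have hpq : p ∣ p ^ f := h50_lo_dvd hf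
  rw [hq]
  generalize Nat.card (Matrix.ProjectiveSpecialLinearGroup (Fin 2) F) = n at hord ⊢
  rw [Fin.prod_univ_two] at hord
  simp only [Fin.val_zero, Fin.val_one, pow_zero, pow_one] at hord
  obtain ⟨h1a, h1b, h1c⟩ := h50_lo_base hp hpq hq2 1 le_rfl
  obtain ⟨h2a, h2b, h2c⟩ := h50_lo_base hp hpq hq2 2 (by norm_num)
  rw [pow_one] at h1a h1b h1c
  have hg1 : 1 ≤ Nat.gcd 2 (p ^ f - 1) := Nat.gcd_pos_of_pos_left _ (by norm_num)
  have hgd : Nat.gcd 2 (p ^ f - 1) ∣ p ^ f - 1 := Nat.gcd_dvd_right _ _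
  have hcp : ¬ p ∣ Nat.gcd 2 (p ^ f - 1) * (p ^ f - 1) := by
    intro h
    rcases (Nat.Prime.dvd_mul hp).mp h with h | h
    · exact h1a (dvd_trans h hgd)
    · exact h1a h
  have hMp : ¬ p ∣ ((p ^ f) ^ 2 - 1) * (p ^ f - 1) := by
    intro h
    rcases (Nat.Prime.dvd_mul hp).mp h with h | h
    · exact h2a h
    · exact h1a h
  have hsq : (p ^ f) ^ 2 - p ^ f = p ^ f * (p ^ f - 1) := by
    rw [Nat.mul_sub, mul_one, sq]
  have hc : Nat.gcd 2 (p ^ f - 1) * (p ^ f - 1) * n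
      = (p ^ f) ^ 1 * (((p ^ f) ^ 2 - 1) * (p ^ f - 1)) := by
    rw [mul_assoc, hord, hsq, pow_one]; ring
  have hM : ((p ^ f) ^ 2 - 1) * (p ^ f - 1)
      < Nat.gcd 2 (p ^ f - 1) * (p ^ f - 1) * (p ^ f) ^ 2 := by
    calc ((p ^ f) ^ 2 - 1) * (p ^ f - 1) < (p ^ f) ^ 2 * (p ^ f - 1) :=
          Nat.mul_lt_mul_of_pos_right h2c h1b
      _ = 1 * ((p ^ f - 1) * (p ^ f) ^ 2) := by ring
      _ ≤ Nat.gcd 2 (p ^ f - 1) * ((p ^ f - 1) * (p ^ f) ^ 2) := Nat.mul_le_mul_right _ hg1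
      _ = Nat.gcd 2 (p ^ f - 1) * (p ^ f - 1) * (p ^ f) ^ 2 := by ring
  obtain ⟨hk, hn⟩ := helper6_lo_arith hp f (Nat.gcd 2 (p ^ f - 1) * (p ^ f - 1)) n 1
    (((p ^ f) ^ 2 - 1) * (p ^ f - 1)) 2 hc hcp hMp hM
  rw [hk, mul_one]
  refine ⟨?_, rfl⟩
  calc n < (p ^ f) ^ (1 + 2) := hn
    _ = p ^ (3 * f) := by rw [← pow_mul]; congr 1; ring

end Cfsg.Agent.Lib.helper44.LO
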