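import Mathlib
import Cfsg.Prelude.Def_LieTypeChar
import Cfsg.Agent.Lib.helper44.LODefs
import Cfsg.Agent.Lib.helper6.LOARITH
import Cfsg.Agent.Lib.helper50.LOh50core

/-!
# S2363 piece REE (`lo_ree`), helper50 racer copy: core (order formula as a hypothesis)
-/

set_option autoImplicit false

namespace Cfsg.Agent.Lib.helper44.LO

open Cfsg

theorem h50_lo_not_dvd_add_one {p : ℕ} (hp : p.Prime) {q : ℕ} (hpq : p ∣ q)
    (d : ℕ) (hd : 1 ≤ d) : ¬ p ∣ q ^ d + 1 := by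
  intro h
  have h1 : p ∣ q ^ d := dvd_pow hpq (by omega)
  have h3 : p ∣ 1 := (Nat.dvd_add_right h1).mp h
  exact hp.one_lt.ne' (Nat.dvd_one.mp h3)

/-- REE core (racer copy): the order formula of `²G₂(q)` as a hypothesis. -/
theorem h50_lo_ree_core (m n : ℕ)
    (hn : n = (3 ^ (2 * m + 1)) ^ 3 * (3 ^ (2 * m + 1) - 1) * ((3 ^ (2 * m + 1)) ^ 3 + 1)) :
    LOGood 3 n := by
  have hp : (3 : ℕ).Prime := Nat.prime_three
  have hf : 1 ≤ 2 * m + 1 := by omega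
  have hq2 : 2 ≤ 3 ^ (2 * m + 1) := h50_lo_two_le hp hf
  have hpq : 3 ∣ 3 ^ (2 * m + 1) := h50_lo_dvd hf
  obtain ⟨h1a, h1b, h1c⟩ := h50_lo_base hp hpq hq2 1 le_rfl
  rw [pow_one] at h1a h1b h1c
  have h3a := h50_lo_not_dvd_add_one hp hpq 3 (by norm_num)
  refine lo_good hp (2 * m + 1) hf 1 n 3
    ((3 ^ (2 * m + 1) - 1) * ((3 ^ (2 * m + 1)) ^ 3 + 1)) 4 ?_ (by norm_num) ?_ ?_
    (by norm_num) (by norm_num)
  · rw [hn]; ring
  · intro h
    rcases (Nat.Prime.dvd_mul hp).mp h with h | h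
    · exact h1a h
    · exact h3a h
  · rw [one_mul]
    generalize 3 ^ (2 * m + 1) = q at hq2 h1b ⊢
    obtain ⟨t, rfl⟩ : ∃ t, q = t + 2 := ⟨q - 2, by omega⟩
    have e1 : t + 2 - 1 = t + 1 := by omega
    rw [e1]
    nlinarith [sq_nonneg t, Nat.zero_le t, Nat.zero_le (t ^ 3), Nat.zero_le (t ^ 2)]

end Cfsg.Agent.Lib.helper44.LO
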