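import Mathlib
import Cfsg.Prelude.Def_LieTypeChar
import Cfsg.Agent.Lib.helper44.LODefs
import Cfsg.Agent.Lib.helper6.LOARITH
import Cfsg.Agent.Lib.helper50.LOREEcore

/-!
# S2363 piece TF4 (`lo_tf4`), helper50 racer copy: core (order formula as a hypothesis)
-/

set_option autoImplicit false

namespace Cfsg.Agent.Lib.helper44.LO

open Cfsg

/-- `(q ^ a - 1) * (q ^ b + 1) < q ^ (a + b)` for `a ≤ b`. -/
theorem h50_lo_pair_lt {q : ℕ} (hq : 2 ≤ q) (a b : ℕ) (hab : a ≤ b) :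
    (q ^ a - 1) * (q ^ b + 1) < q ^ (a + b) := by
  have hA : 1 ≤ q ^ a := Nat.one_le_pow _ _ (by omega)
  have hAB : q ^ a ≤ q ^ b := Nat.pow_le_pow_right (by omega) hab
  rw [pow_add]
  generalize q ^ a = A at hA hAB ⊢
  generalize q ^ b = B at hAB ⊢
  obtain ⟨s, rfl⟩ : ∃ s, A = s + 1 := ⟨A - 1, by omega⟩
  rw [Nat.add_sub_cancel]
  nlinarith

/-- TF4 core (racer copy): the order formula of `²F₄(q)` as a hypothesis. -/
theorem h50_lo_tf4_core (m n : ℕ)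
    (hn : n = (2 ^ (2 * m + 1)) ^ 12 * (2 ^ (2 * m + 1) - 1) * ((2 ^ (2 * m + 1)) ^ 3 + 1) *
      ((2 ^ (2 * m + 1)) ^ 4 - 1) * ((2 ^ (2 * m + 1)) ^ 6 + 1)) :
    LOGood 2 n := by
  have hp : (2 : ℕ).Prime := Nat.prime_two
  have hf : 1 ≤ 2 * m + 1 := by omega
  have hq2 : 2 ≤ 2 ^ (2 * m + 1) := h50_lo_two_le hp hf
  have hpq : 2 ∣ 2 ^ (2 * m + 1) := h50_lo_dvd hf
  obtain ⟨h1a, -, -⟩ := h50_lo_base hp hpq hq2 1 le_rfl
  obtain ⟨h4a, -, -⟩ := h50_lo_base hp hpq hq2 4 (by norm_num)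
  rw [pow_one] at h1a
  have h3a := h50_lo_not_dvd_add_one hp hpq 3 (by norm_num)
  have h6a := h50_lo_not_dvd_add_one hp hpq 6 (by norm_num)
  have hl1 := h50_lo_pair_lt hq2 1 3 (by norm_num)
  have hl2 := h50_lo_pair_lt hq2 4 6 (by norm_num)
  rw [pow_one] at hl1
  refine lo_good hp (2 * m + 1) hf 1 n 12
    ((2 ^ (2 * m + 1) - 1) * ((2 ^ (2 * m + 1)) ^ 3 + 1) *
      (((2 ^ (2 * m + 1)) ^ 4 - 1) * ((2 ^ (2 * m + 1)) ^ 6 + 1))) 14 ?_ (by norm_num) ?_ ?_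
    (by norm_num) (by norm_num)
  · rw [hn]; ring
  · intro h
    rcases (Nat.Prime.dvd_mul hp).mp h with h | h
    · rcases (Nat.Prime.dvd_mul hp).mp h with h | h
      · exact h1a h
      · exact h3a h
    · rcases (Nat.Prime.dvd_mul hp).mp h with h | h
      · exact h4a h
      · exact h6a h
  · rw [one_mul]
    calc _ < (2 ^ (2 * m + 1)) ^ (1 + 3) * (2 ^ (2 * m + 1)) ^ (4 + 6) :=
          Nat.mul_lt_mul'' hl1 hl2
      _ = (2 ^ (2 * m + 1)) ^ 14 := by rw [← pow_add]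

end Cfsg.Agent.Lib.helper44.LO
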