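import Mathlib
import Cfsg.Prelude.Def_LieTypeChar
import Cfsg.Agent.Lib.helper44.LODefs
import Cfsg.Agent.Lib.helper6.LOARITH
import Cfsg.Agent.Lib.helper50.LOTF4core
import Cfsg.Agent.S1068

/-!
# S2363 piece TF4 (`lo_tf4`), helper50 racer copy (prefixed `h50_`)
-/

set_option autoImplicit false

namespace Cfsg.Agent.Lib.helper44.LO

open Cfsg

/-- TF4 (racer copy). -/
theorem h50_lo_tf4 {K : Type} [Field K] [Fintype K] (m : ℕ) (hm : 1 ≤ m) (hK : Fintype.card K = 2 ^ (2 * m + 1)) :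
    LOGood 2 (Nat.card ↥(Cfsg.Lie.twistedF4 K (2 ^ m))) :=
  h50_lo_tf4_core m _ (Cfsg.Agent.S1068.result hK)

end Cfsg.Agent.Lib.helper44.LO
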