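import Mathlib
import Cfsg.Agent.Lib.helper54.MetaIdxDefs

/-! S4245 split, piece C1 (`case_two`): `p = 2`, `B ≠ ⊥`: a non-identity element of `B` has a
conjugacy class of `2`-power size. -/

set_option autoImplicit false

namespace Cfsg.Agent.Lib.helper50.MetaIdx

universe u

theorem h50_case_two {G : Type u} [Group G] [Finite G] (A : Subgroup G) (B : Subgroup A) [B.Normal]
    (hB : IsCyclic B) (s r : ℕ) (hA : A.index = 2 ^ s) (hr : Nat.card (A ⧸ B) = 2 ^ r)
    (hne : B ≠ ⊥) :
    ∃ x : G, x ≠ 1 ∧ ∃ k : ℕ, (Subgroup.centralizer ({x} : Set G)).index = 2 ^ k := by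
  obtain ⟨⟨b, hbB⟩, hb⟩ := (Subgroup.ne_bot_iff_exists_ne_one (H := B)).mp hne
  have hb1 : b ≠ 1 := by
    intro h
    apply hb
    exact Subtype.ext h
  refine ⟨(b : G), ?_, ?_⟩
  · intro h
    apply hb1
    exact Subtype.ext h
  · have hle : B.map A.subtype ≤ Subgroup.centralizer ({(b : G)} : Set G) := by
      rintro _ ⟨c, hcB, rfl⟩
      rw [Subgroup.mem_centralizer_iff]
      intro y hy
      rw [Set.mem_singleton_iff] at hy
      subst hy
      have hcomm : (⟨c, hcB⟩ : B) * ⟨b, hbB⟩ = ⟨b, hbB⟩ * ⟨c, hcB⟩ := by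
        have := hB
        exact IsCyclic.commGroup.mul_comm _ _
      have h2 : c * b = b * c := by
        have := congrArg (fun z : B => (z : A)) hcomm
        simpa using this
      have h3 := congrArg (fun z : A => (z : G)) h2
      simpa using h3.symm
    have hdvd := Subgroup.index_dvd_of_le hle
    rw [Subgroup.index_map_subtype] at hdvd
    have hBi : B.index = 2 ^ r := by
      rw [← hr]; rfl
    rw [hBi, hA, ← pow_add] at hdvd
    obtain ⟨k, -, hk⟩ := (Nat.dvd_prime_pow Nat.prime_two).mp hdvd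
    exact ⟨k, hk⟩

end Cfsg.Agent.Lib.helper50.MetaIdx
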