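import Mathlib
import Cfsg.Agent.Lib.helper54.MetaIdxDefs

/-! S4245 split, piece C3b (`two_complement`): Burnside's normal `2`-complement for cyclic Sylow
`2`-subgroups (Mathlib's transfer). -/

set_option autoImplicit false

namespace Cfsg.Agent.Lib.helper50.MetaIdx

universe u

theorem two_complement {G : Type u} [Group G] [Finite G] (hcyc : ∀ T : Sylow 2 G, IsCyclic T)
    (heven : Even (Nat.card G)) :
    ∃ K : Subgroup G, K.Normal ∧ K ≠ ⊤ ∧ Odd (Nat.card K) ∧ ∃ j : ℕ, K.index = 2 ^ j := by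
  have h2 : 2 ∣ Nat.card G := even_iff_two_dvd.mp heven
  have hmin : (Nat.card G).minFac = 2 := (Nat.minFac_eq_two_iff _).mpr h2
  obtain ⟨P⟩ : Nonempty (Sylow 2 G) := inferInstance
  have hP : IsCyclic P := hcyc P
  have hNC := hP.normalizer_le_centralizer hmin
  have hcomp := MonoidHom.ker_transferSylow_isComplement' P hNC
  have hnd := MonoidHom.not_dvd_card_ker_transferSylow P hNC
  refine ⟨(MonoidHom.transferSylow P hNC).ker, MonoidHom.normal_ker _, ?_, ?_, ?_⟩
  · intro htop
    apply hnd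
    rw [htop, Subgroup.card_top]
    exact h2
  · rw [← Nat.not_even_iff_odd, even_iff_two_dvd]
    exact hnd
  · obtain ⟨n, hn⟩ := P.2.exists_card_eq
    exact ⟨n, by rw [hcomp.symm.index_eq_card]; exact hn⟩

end Cfsg.Agent.Lib.helper50.MetaIdx
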