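import Mathlib
import Cfsg.Agent.Lib.helper54.MetaIdxDefs

/-! S4245 split, piece C5 (`case_two_bot`): `p = 2`, `B = ⊥`: `G` is a `2`-group. -/

set_option autoImplicit false

namespace Cfsg.Agent.Lib.helper50.MetaIdx

universe u

theorem h50_case_two_bot {G : Type u} [Group G] [Finite G] (A : Subgroup G) (B : Subgroup A)
    [B.Normal] (s r : ℕ) (hA : A.index = 2 ^ s) (hr : Nat.card (A ⧸ B) = 2 ^ r) (hB : B = ⊥) :
    ∃ n : ℕ, Nat.card G = 2 ^ n := by
  refine ⟨r + s, ?_⟩
  have h1 : Nat.card A * A.index = Nat.card G := A.card_mul_index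
  have h2 : Nat.card A = Nat.card (A ⧸ B) * Nat.card B :=
    Subgroup.card_eq_card_quotient_mul_card_subgroup B
  have h3 : Nat.card B = 1 := by rw [hB]; exact Subgroup.card_bot
  rw [← h1, h2, h3, hr, hA, mul_one, pow_add]

end Cfsg.Agent.Lib.helper50.MetaIdx
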