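import Mathlib
import Cfsg.Agent.Lib.helper50.IsoConjP
import Cfsg.Agent.Lib.helper50.InvOrthPlus
import Cfsg.Agent.Lib.helper50.InvOrth
import Cfsg.Agent.Lib.helper50.InvConj2
import Cfsg.Agent.Lib.helper42.FormsNondeg

/-!
# A model of the minus-type quadratic form on `Fin (k+1) ⊕ Fin (k+1)`, `q` even

The form `quadFormMinus k F c d` is transported along a monomial matrix `minusP k c` to the form
`Σ x_i y_i + x_k² + β y_k²` on `Fin (k+1) ⊕ Fin (k+1) → F`, whose polar form is `sympForm`.
-/

set_option autoImplicit false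

namespace Cfsg.Agent.Lib.helper50

open Matrix Cfsg Cfsg.Agent.Lib.helper17 Cfsg.Agent.Lib.helper49 Cfsg.Agent.Lib.helper42

universe u

section
variable (k : ℕ)

/-- the reindexing of the coordinates -/
def minusSigma : (Fin k ⊕ Fin k) ⊕ Fin 2 ≃ Fin (k + 1) ⊕ Fin (k + 1) where
  toFun
    | Sum.inl (Sum.inl i) => Sum.inl i.castSucc
    | Sum.inl (Sum.inr i) => Sum.inr i.castSucc
    | Sum.inr j => if j = 0 then Sum.inl (Fin.last k) else Sum.inr (Fin.last k)
  invFun
    | Sum.inl i => if h : i.val < k then Sum.inl (Sum.inl ⟨i.val, h⟩) else Sum.inr 0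
    | Sum.inr i => if h : i.val < k then Sum.inl (Sum.inr ⟨i.val, h⟩) else Sum.inr 1
  left_inv := by
    rintro ((i | i) | j)
    · simp
    · simp
    · fin_cases j <;> simp
  right_inv := by
    rintro (i | i)
    · by_cases h : i.val < k
      · simp [h]
      · have hi : i = Fin.last k := Fin.ext (by have := i.2; simp only [Fin.val_last]; omega)
        subst hi
        simp
    · by_cases h : i.val < k
      · simp [h]
      · have hi : i = Fin.last k := Fin.ext (by have := i.2; simp only [Fin.val_last]; omega)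
        subst hi
        simp

variable {F : Type u} [Field F]

/-- the scaling of the coordinates -/
def minusLam (c : F) : (Fin k ⊕ Fin k) ⊕ Fin 2 → F :=
  Sum.elim (fun _ => 1) (fun j => if j = 0 then 1 else c⁻¹)

theorem minusLam_ne (c : F) (hc : c ≠ 0) (j : (Fin k ⊕ Fin k) ⊕ Fin 2) : minusLam k c j ≠ 0 := by
  rcases j with j | j
  · simp [minusLam]
  · by_cases h : j = 0
    · simp [minusLam, h]
    · simp [minusLam, h, hc]

/-- the transporting matrix -/
def minusP (c : F) : Matrix ((Fin k ⊕ Fin k) ⊕ Fin 2) (Fin (k + 1) ⊕ Fin (k + 1)) F :=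
  monoMat (minusSigma k) (minusLam k c)

/-- its inverse -/
def minusP' (c : F) : Matrix (Fin (k + 1) ⊕ Fin (k + 1)) ((Fin k ⊕ Fin k) ⊕ Fin 2) F :=
  monoMatInv (minusSigma k) (minusLam k c)

theorem minusP_mul (c : F) (hc : c ≠ 0) : minusP k c * minusP' k c = 1 :=
  monoMat_mul_inv _ _ (minusLam_ne k c hc)

theorem minusP'_mul (c : F) (hc : c ≠ 0) : minusP' k c * minusP k c = 1 :=
  monoMatInv_mul _ _ (minusLam_ne k c hc)

/-- the transported form, explicitly -/
theorem minusQ_eq (c d : F) (hc : c ≠ 0) (v : Fin (k + 1) ⊕ Fin (k + 1) → F) :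
    quadFormMinus k F c d (minusP k c *ᵥ v)
      = quadFormPlus (k + 1) F v + v (Sum.inl (Fin.last k)) ^ 2
        + d * c⁻¹ ^ 2 * v (Sum.inr (Fin.last k)) ^ 2 := by
  unfold quadFormMinus quadFormPlus minusP
  simp only [monoMat_mulVec]
  rw [Fin.sum_univ_castSucc]
  have e1 : ∀ i : Fin k, minusSigma k (Sum.inl (Sum.inl i)) = Sum.inl i.castSucc := fun i => rfl
  have e2 : ∀ i : Fin k, minusSigma k (Sum.inl (Sum.inr i)) = Sum.inr i.castSucc := fun i => rfl
  have e3 : minusSigma k (Sum.inr 0) = Sum.inl (Fin.last k) := rfl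
  have e4 : minusSigma k (Sum.inr 1) = Sum.inr (Fin.last k) := rfl
  have l1 : ∀ j : Fin k ⊕ Fin k, minusLam k c (Sum.inl j) = 1 := fun j => rfl
  have l3 : minusLam k c (Sum.inr 0) = 1 := rfl
  have l4 : minusLam k c (Sum.inr 1) = c⁻¹ := by simp [minusLam]
  simp only [e1, e2, e3, e4, l1, l3, l4, one_mul]
  have hcc : c * c⁻¹ = 1 := mul_inv_cancel₀ hc
  linear_combination (v (Sum.inl (Fin.last k)) * v (Sum.inr (Fin.last k))) * hcc

/-- the polar identity for forms of the shape `Σ x_i y_i + x_k² + β y_k²` -/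
theorem hpol_of_exp [CharP F 2] (Q : (Fin (k + 1) ⊕ Fin (k + 1) → F) → F) (β : F)
    (hexp : ∀ v, Q v = quadFormPlus (k + 1) F v + v (Sum.inl (Fin.last k)) ^ 2
      + β * v (Sum.inr (Fin.last k)) ^ 2) (u v : Fin (k + 1) ⊕ Fin (k + 1) → F) :
    Q (u + v) = Q u + Q v + sympForm (k + 1) F u v := by
  have h2 : (2 : F) = 0 := CharTwo.two_eq_zero
  rw [hexp, hexp, hexp, plus_hpol]
  simp only [Pi.add_apply]
  linear_combination (u (Sum.inl (Fin.last k)) * v (Sum.inl (Fin.last k))
    + β * u (Sum.inr (Fin.last k)) * v (Sum.inr (Fin.last k))) * h2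

/-- the transported quadratic form -/
def minusQ' (c d : F) : QuadraticForm F (Fin (k + 1) ⊕ Fin (k + 1) → F) :=
  (minusForm k F c d).comp (Matrix.mulVecLin (minusP k c))

/-- the transported form as a function -/
def minusQ (c d : F) : (Fin (k + 1) ⊕ Fin (k + 1) → F) → F :=
  fun v => quadFormMinus k F c d (minusP k c *ᵥ v)

theorem minusQ'_coe (c d : F) : ⇑(minusQ' k c d) = minusQ k c d := rfl

theorem minusQ_exp (c d : F) (hc : c ≠ 0) (v : Fin (k + 1) ⊕ Fin (k + 1) → F) :
    minusQ k c d v = quadFormPlus (k + 1) F v + v (Sum.inl (Fin.last k)) ^ 2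
        + d * c⁻¹ ^ 2 * v (Sum.inr (Fin.last k)) ^ 2 := minusQ_eq k c d hc v

theorem minusQ_hpol [CharP F 2] (c d : F) (hc : c ≠ 0) (u v : Fin (k + 1) ⊕ Fin (k + 1) → F) :
    minusQ k c d (u + v) = minusQ k c d u + minusQ k c d v + sympForm (k + 1) F u v :=
  hpol_of_exp k _ _ (minusQ_exp k c d hc) u v

/-- the transport isomorphism of the isometry groups -/
def minusIso (c d : F) (hc : c ≠ 0) :
    isometryGroup F (quadFormMinus k F c d) ≃* isometryGroup F (minusQ k c d) :=
  isoP (minusP k c) (minusP' k c) (minusP_mul k c hc) (minusP'_mul k c hc) (quadFormMinus k F c d)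

theorem minusIso_val (c d : F) (hc : c ≠ 0) (g : isometryGroup F (quadFormMinus k F c d)) :
    (minusIso k c d hc g).1.1 = minusP' k c * g.1.1 * minusP k c := rfl

theorem minusIso_rank (c d : F) (hc : c ≠ 0) (g : isometryGroup F (quadFormMinus k F c d)) :
    ((minusIso k c d hc g).1.1 - 1).rank = (g.1.1 - 1).rank :=
  isoP_rank (minusP k c) (minusP' k c) (minusP_mul k c hc) (minusP'_mul k c hc)
    (quadFormMinus k F c d) g

/-- anisotropy of the transported binary form -/
theorem aniso_of_aniso [Fintype F] [CharP F 2] (c d : F)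
    (hcd : ∀ z₁ z₂ : F, z₁ ^ 2 + c * z₁ * z₂ + d * z₂ ^ 2 = 0 → z₁ = 0 ∧ z₂ = 0) :
    c ≠ 0 ∧ ∀ x y : F, x ^ 2 + x * y + d * c⁻¹ ^ 2 * y ^ 2 = 0 → x = 0 ∧ y = 0 := by
  have h2 : (2 : F) = 0 := CharTwo.two_eq_zero
  have hc : c ≠ 0 := by
    rintro rfl
    have := disc_ne_zero_of_aniso (0 : F) d hcd
    apply this
    linear_combination (2 * d) * h2
  refine ⟨hc, ?_⟩
  intro x y hxy
  have h1 := hcd x (c⁻¹ * y) (by
    have hcc : c * c⁻¹ = 1 := mul_inv_cancel₀ hc
    linear_combination hxy + (x * y) * hcc)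
  refine ⟨h1.1, ?_⟩
  rcases mul_eq_zero.1 h1.2 with h3 | h3
  · exact absurd (inv_eq_zero.1 h3) hc
  · exact h3

end

section conj
variable {k : ℕ} {F : Type u} [Field F] [Fintype F] [CharP F 2]

/-- involutions of `O⁻` are conjugate iff they are conjugate under the symplectic group of the
polar form -/
theorem minus_conj_iff (c d : F)
    (hcd : ∀ z₁ z₂ : F, z₁ ^ 2 + c * z₁ * z₂ + d * z₂ ^ 2 = 0 → z₁ = 0 ∧ z₂ = 0)
    (t s : isometryGroup F (quadFormMinus k F c d)) (ht : t ^ 2 = 1) (hs : s ^ 2 = 1) :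
    IsConj t s ↔ ∃ g ∈ Cfsg.preserving
      (Units.coeHom (Matrix ((Fin k ⊕ Fin k) ⊕ Fin 2) ((Fin k ⊕ Fin k) ⊕ Fin 2) F))
      (fun u v => quadFormMinus k F c d (u + v) - quadFormMinus k F c d u
        - quadFormMinus k F c d v), g * t.1 * g⁻¹ = s.1 := by
  obtain ⟨hc, -⟩ := aniso_of_aniso c d hcd
  constructor
  · intro h
    obtain ⟨g, hg⟩ := isConj_iff.1 h
    refine ⟨g.1, ?_, ?_⟩
    · intro u v
      change quadFormMinus k F c d (g.1.1 *ᵥ u + g.1.1 *ᵥ v)
        - quadFormMinus k F c d (g.1.1 *ᵥ u) - quadFormMinus k F c d (g.1.1 *ᵥ v) = _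
      have hQ := (mem_isometryGroup_iff _ g.1).1 g.2
      rw [← Matrix.mulVec_add, hQ, hQ, hQ]
    · rw [← hg]
      rfl
  · rintro ⟨g, hg, hgts⟩
    have h1 := minusP_mul k c hc
    have h2 := minusP'_mul k c hc
    have hpol := minusQ_hpol k c d hc
    have hgsp : ∀ u v, sympForm (k + 1) F ((minusP' k c * g.1 * minusP k c) *ᵥ u)
        ((minusP' k c * g.1 * minusP k c) *ᵥ v) = sympForm (k + 1) F u v := by
      intro u v
      have e : ∀ x y, sympForm (k + 1) F x y
          = minusQ k c d (x + y) - minusQ k c d x - minusQ k c d y := fun x y => by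
        rw [hpol]; ring
      rw [e, e]
      have e2 : ∀ x, minusP k c *ᵥ ((minusP' k c * g.1 * minusP k c) *ᵥ x)
          = g.1 *ᵥ (minusP k c *ᵥ x) := by
        intro x
        rw [Matrix.mulVec_mulVec, Matrix.mulVec_mulVec]
        congr 1
        calc minusP k c * (minusP' k c * g.1 * minusP k c)
            = (minusP k c * minusP' k c) * g.1 * minusP k c := by simp only [Matrix.mul_assoc]
          _ = g.1 * minusP k c := by rw [h1, Matrix.one_mul]
      unfold minusQ
      rw [Matrix.mulVec_add, e2, e2, Matrix.mulVec_add]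
      exact hg (minusP k c *ᵥ u) (minusP k c *ᵥ v)
    let G₂ : Matrix.symplecticGroup (Fin (k + 1)) F :=
      ⟨minusP' k c * g.1 * minusP k c, mem_symplectic_of_preserves (k + 1) _ hgsp⟩
    have e3 : g.1 * t.1.1 = s.1.1 * g.1 := by
      have := mul_inv_eq_iff_eq_mul.1 hgts
      exact congrArg Units.val this
    have hcomm : G₂.1 * (orthToSp (minusQ k c d) hpol (minusIso k c d hc t)).1
        = (orthToSp (minusQ k c d) hpol (minusIso k c d hc s)).1 * G₂.1 := by
      rw [orthToSp_coe, orthToSp_coe, minusIso_val, minusIso_val]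
      change (minusP' k c * g.1 * minusP k c) * (minusP' k c * t.1.1 * minusP k c)
        = (minusP' k c * s.1.1 * minusP k c) * (minusP' k c * g.1 * minusP k c)
      calc (minusP' k c * g.1 * minusP k c) * (minusP' k c * t.1.1 * minusP k c)
          = minusP' k c * g.1 * (minusP k c * minusP' k c) * t.1.1 * minusP k c := by
            simp only [Matrix.mul_assoc]
        _ = minusP' k c * (g.1 * t.1.1) * minusP k c := by
            rw [h1, Matrix.mul_one]; simp only [Matrix.mul_assoc]
        _ = minusP' k c * (s.1.1 * g.1) * minusP k c := by rw [e3]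
        _ = minusP' k c * s.1.1 * (minusP k c * minusP' k c) * g.1 * minusP k c := by
            rw [h1, Matrix.mul_one]; simp only [Matrix.mul_assoc]
        _ = (minusP' k c * s.1.1 * minusP k c) * (minusP' k c * g.1 * minusP k c) := by
            simp only [Matrix.mul_assoc]
    have hr := rank_of_conj (orthToSp (minusQ k c d) hpol (minusIso k c d hc t))
      (orthToSp (minusQ k c d) hpol (minusIso k c d hc s)) G₂ hcomm
    rw [orthToSp_coe, orthToSp_coe] at hr
    have hconj : IsConj (minusIso k c d hc t) (minusIso k c d hc s) := by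
      apply orth_isConj_of_same_type (minusQ k c d) (minusQ' k c d) rfl hpol
        (minusIso k c d hc t) (minusIso k c d hc s)
        (by rw [← map_pow, ht, map_one]) (by rw [← map_pow, hs, map_one]) hr
      intro _
      constructor
      · intro h
        exact alt_of_conj' (orthToSp (minusQ k c d) hpol (minusIso k c d hc t))
          (orthToSp (minusQ k c d) hpol (minusIso k c d hc s)) G₂ hcomm h
      · intro h
        exact alt_of_conj (orthToSp (minusQ k c d) hpol (minusIso k c d hc t))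
          (orthToSp (minusQ k c d) hpol (minusIso k c d hc s)) G₂ hcomm h
    have h5 := ((minusIso k c d hc).symm.toMonoidHom).map_isConj hconj
    have h6 : (minusIso k c d hc).symm.toMonoidHom (minusIso k c d hc t) = t :=
      (minusIso k c d hc).symm_apply_apply t
    have h7 : (minusIso k c d hc).symm.toMonoidHom (minusIso k c d hc s) = s :=
      (minusIso k c d hc).symm_apply_apply s
    rw [h6, h7] at h5
    exact h5

end conj

end Cfsg.Agent.Lib.helper50
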