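import Mathlib
import Cfsg.Agent.Lib.helper50.InvOrthReps

/-!
# Centralisers of involutions in orthogonal groups in characteristic 2

* `oFrameStab Q X`: the pointwise stabiliser of a frame.
* `orth_card_centralizer`: `|C_O(t)| = #{a // aᵀ Γ a = Γ} * |oFrameStab Q D.x|`.
* `orth_card_orbit`: `|O| = #{frames with the same data as X} * |oFrameStab Q X|`.
-/

set_option autoImplicit false

namespace Cfsg.Agent.Lib.helper50

open Matrix Module Cfsg Cfsg.Agent.Lib.helper17

universe u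

section stab
variable {F : Type u} [Field F] {n : Type} [Fintype n] [DecidableEq n]

theorem iso_coe_inv_mul (Q : (n → F) → F) (g : isometryGroup F Q) :
    (g⁻¹).1.1 * g.1.1 = 1 := by
  have : (g⁻¹ * g).1.1 = 1 := by rw [inv_mul_cancel]; rfl
  exact this

theorem iso_coe_mul_inv (Q : (n → F) → F) (g : isometryGroup F Q) :
    g.1.1 * (g⁻¹).1.1 = 1 := by
  have : (g * g⁻¹).1.1 = 1 := by rw [mul_inv_cancel]; rfl
  exact this

/-- the pointwise stabiliser of a frame in the isometry group -/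
def oFrameStab (Q : (n → F) → F) {κ : Type*} (X : κ → (n → F)) :
    Subgroup (isometryGroup F Q) where
  carrier := {g | ∀ i, g.1.1 *ᵥ X i = X i}
  mul_mem' := by
    intro a b ha hb i
    change (a.1.1 * b.1.1) *ᵥ X i = X i
    rw [← Matrix.mulVec_mulVec, hb i, ha i]
  one_mem' := by
    intro i
    change (1 : Matrix n n F) *ᵥ X i = X i
    rw [Matrix.one_mulVec]
  inv_mem' := by
    intro a ha i
    have h1 := ha i
    have h2 : (a⁻¹).1.1 *ᵥ (a.1.1 *ᵥ X i) = X i := by
      rw [Matrix.mulVec_mulVec, iso_coe_inv_mul, Matrix.one_mulVec]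
    rw [h1] at h2
    exact h2

theorem mem_oFrameStab (Q : (n → F) → F) {κ : Type*} (X : κ → (n → F))
    (g : isometryGroup F Q) : g ∈ oFrameStab Q X ↔ ∀ i, g.1.1 *ᵥ X i = X i := Iff.rfl

end stab

section cent
variable {F : Type u} [Field F] [Fintype F] {m : ℕ} {ι : Type*} [Fintype ι]

theorem orth_witt_data (Q : (Fin m ⊕ Fin m → F) → F)
    (Q' : QuadraticForm F (Fin m ⊕ Fin m → F)) (hQ' : ⇑Q' = Q)
    (hpol : ∀ u v, Q (u + v) = Q u + Q v + sympForm m F u v) (D D' : InvData m F ι)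
    (hDQ : ∀ v, Q (D.N *ᵥ v) = sympForm m F v (D.N *ᵥ v))
    (hDQ' : ∀ v, Q (D'.N *ᵥ v) = sympForm m F v (D'.N *ᵥ v)) (h : D.Γ = D'.Γ) :
    ∃ g : isometryGroup F Q, (∀ j, g.1.1 *ᵥ D.x j = D'.x j) ∧ g.1.1 * D.N = D'.N * g.1.1 := by
  subst hQ'
  obtain ⟨g, hg⟩ := witt_frames Q' (polarBilin_nondeg Q' hpol) D.x D'.x D.hli D'.hli (fun c => by
    have h1 := D.Q_xcomb (⇑Q') hDQ c
    have h2 := D'.Q_xcomb (⇑Q') hDQ' c
    unfold InvData.xcomb at h1 h2
    rw [h1, h2, h])
  exact ⟨g, hg, D.comm_of_map D' h g.1.1 (orth_preserves (⇑Q') hpol g) hg⟩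

variable [CharP F 2] [DecidableEq ι]

theorem orth_exists_of_OG (Q : (Fin m ⊕ Fin m → F) → F)
    (Q' : QuadraticForm F (Fin m ⊕ Fin m → F)) (hQ' : ⇑Q' = Q)
    (hpol : ∀ u v, Q (u + v) = Q u + Q v + sympForm m F u v) (D : InvData m F ι)
    (hDQ : ∀ v, Q (D.N *ᵥ v) = sympForm m F v (D.N *ᵥ v))
    (a : Matrix ι ι F) (ha : aᵀ * D.Γ * a = D.Γ) :
    ∃ g : isometryGroup F Q, g.1.1 * D.N = D.N * g.1.1 ∧ D.A g.1.1 = a := by
  have hdet : a.det ≠ 0 := det_ne_zero_of_OG D.Γ a D.Γ_det ha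
  obtain ⟨g, hgx, hcomm⟩ := orth_witt_data Q Q' hQ' hpol D (D.transform a hdet) hDQ hDQ
    (by rw [InvData.transform_Γ, ha])
  have hcomm' : g.1.1 * D.N = D.N * g.1.1 := hcomm
  refine ⟨g, hcomm', ?_⟩
  have hgx' : ∀ j, g.1.1 *ᵥ D.x j = D.xcomb (fun l => a l j) := by
    intro j
    rw [hgx j, ← D.N_comb]
    rfl
  ext i j
  have h1 := D.mulVec_x g.1.1 hcomm' j
  rw [hgx' j] at h1
  exact (congrFun (D.xcomb_inj _ _ h1) i).symm

theorem orth_card_centralizer (Q : (Fin m ⊕ Fin m → F) → F)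
    (Q' : QuadraticForm F (Fin m ⊕ Fin m → F)) (hQ' : ⇑Q' = Q)
    (hpol : ∀ u v, Q (u + v) = Q u + Q v + sympForm m F u v) (D : InvData m F ι)
    (t : isometryGroup F Q) (hD : D.N = t.1.1 - 1) :
    Nat.card (Subgroup.centralizer ({t} : Set (isometryGroup F Q)))
      = Nat.card {a : Matrix ι ι F // aᵀ * D.Γ * a = D.Γ} * Nat.card (oFrameStab Q D.x) := by
  classical
  have hDQ : ∀ v, Q (D.N *ᵥ v) = sympForm m F v (D.N *ᵥ v) := fun v => by
    rw [hD]; exact orth_Q_N Q hpol t v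
  have hcent : ∀ g : isometryGroup F Q,
      g ∈ Subgroup.centralizer ({t} : Set (isometryGroup F Q)) ↔
        g.1.1 * D.N = D.N * g.1.1 := by
    intro g
    rw [Subgroup.mem_centralizer_iff]
    simp only [Set.mem_singleton_iff, forall_eq]
    rw [hD, mul_sub, sub_mul, mul_one, one_mul, sub_left_inj]
    constructor
    · intro h
      have := congrArg (fun z : isometryGroup F Q => z.1.1) h
      exact this.symm
    · intro h
      apply Subtype.ext
      apply Units.ext
      exact h.symm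
  have hspg : ∀ g : isometryGroup F Q, ∀ u v,
      sympForm m F (g.1.1 *ᵥ u) (g.1.1 *ᵥ v) = sympForm m F u v :=
    fun g => orth_preserves Q hpol g
  let f : Subgroup.centralizer ({t} : Set (isometryGroup F Q)) →
      {a : Matrix ι ι F // aᵀ * D.Γ * a = D.Γ} :=
    fun g => ⟨D.A g.1.1.1, D.OG_A g.1.1.1 (hspg g.1) ((hcent g.1).1 g.2)⟩
  have hfib : ∀ a, Nat.card {g // f g = a} = Nat.card (oFrameStab Q D.x) := by
    rintro ⟨a, ha⟩
    obtain ⟨g₀, hg₀, hg₀a⟩ := orth_exists_of_OG Q Q' hQ' hpol D hDQ a ha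
    have hmem : ∀ h : oFrameStab Q D.x, ∀ j, h.1.1.1 *ᵥ D.x j = D.x j := fun h j => h.2 j
    have hcomm : ∀ h : oFrameStab Q D.x,
        g₀.1.1 * h.1.1.1 * D.N = D.N * (g₀.1.1 * h.1.1.1) := by
      intro h
      have hh := D.comm_of_fix h.1.1.1 (hspg h.1) (hmem h)
      rw [Matrix.mul_assoc, hh, ← Matrix.mul_assoc, hg₀, Matrix.mul_assoc]
    apply Nat.card_congr
    symm
    exact
      { toFun := fun h => ⟨⟨g₀ * h.1, (hcent _).2 (hcomm h)⟩, by
          apply Subtype.ext
          change D.A (g₀.1.1 * h.1.1.1) = a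
          rw [← hg₀a]
          apply (D.A_eq_iff _ _ (hcomm h) hg₀).2
          intro j
          rw [← Matrix.mulVec_mulVec, hmem h j]⟩
        invFun := fun g => ⟨g₀⁻¹ * g.1.1, by
          rw [mem_oFrameStab]
          intro i
          have h1 : D.A g.1.1.1.1 = D.A g₀.1.1 := by
            have := congrArg Subtype.val g.2
            rw [hg₀a]
            exact this
          have h2 := (D.A_eq_iff _ _ ((hcent g.1.1).1 g.1.2) hg₀).1 h1 i
          change ((g₀⁻¹).1.1 * g.1.1.1.1) *ᵥ D.x i = D.x i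
          rw [← Matrix.mulVec_mulVec, h2, Matrix.mulVec_mulVec, iso_coe_inv_mul,
            Matrix.one_mulVec]⟩
        left_inv := fun h => by
          apply Subtype.ext
          simp
        right_inv := fun g => by
          apply Subtype.ext
          apply Subtype.ext
          simp }
  have := Fintype.ofFinite {a : Matrix ι ι F // aᵀ * D.Γ * a = D.Γ}
  rw [Nat.card_congr (Equiv.sigmaFiberEquiv f).symm, Nat.card_sigma,
    Finset.sum_congr rfl (fun a _ => hfib a), Finset.sum_const, Finset.card_univ, smul_eq_mul,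
    ← Nat.card_eq_fintype_card]

end cent

section orbit
variable {F : Type u} [Field F] {m : ℕ} {κ : Type*} [Fintype κ]

/-- the value of `Q` on a combination of pairwise orthogonal vectors -/
theorem Q_sum_of_orth (Q : QuadraticForm F (Fin m ⊕ Fin m → F))
    (hpol : ∀ u v, Q (u + v) = Q u + Q v + sympForm m F u v)
    (Y : κ → (Fin m ⊕ Fin m → F)) (hY : ∀ i j, sympForm m F (Y i) (Y j) = 0) (c : κ → F) :
    Q (∑ i, c i • Y i) = ∑ i, c i * c i * Q (Y i) := by
  classical
  have key : ∀ s : Finset κ, Q (∑ i ∈ s, c i • Y i) = ∑ i ∈ s, c i * c i * Q (Y i) := by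
    intro s
    induction s using Finset.induction_on with
    | empty => simp
    | insert a s ha ih =>
      rw [Finset.sum_insert ha, Finset.sum_insert ha, hpol, ih, QuadraticMap.map_smul, smul_eq_mul]
      have h0 : sympForm m F (c a • Y a) (∑ i ∈ s, c i • Y i) = 0 := by
        change sympBilin m (c a • Y a) (∑ i ∈ s, c i • Y i) = 0
        rw [map_sum]
        apply Finset.sum_eq_zero
        intro i _
        rw [map_smul, map_smul, LinearMap.smul_apply, sympBilin_apply, hY]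
        simp
      rw [h0, add_zero]
  exact key Finset.univ

variable [Fintype F]

theorem orth_card_orbit (Q : (Fin m ⊕ Fin m → F) → F)
    (Q' : QuadraticForm F (Fin m ⊕ Fin m → F)) (hQ' : ⇑Q' = Q)
    (hpol : ∀ u v, Q (u + v) = Q u + Q v + sympForm m F u v)
    (X : κ → (Fin m ⊕ Fin m → F)) (hX : LinearIndependent F X)
    (hXo : ∀ i j, sympForm m F (X i) (X j) = 0) :
    Nat.card (isometryGroup F Q)
      = Nat.card {Y : κ → (Fin m ⊕ Fin m → F) // LinearIndependent F Y ∧
          (∀ i j, sympForm m F (Y i) (Y j) = 0) ∧ ∀ i, Q (Y i) = Q (X i)}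
        * Nat.card (oFrameStab Q X) := by
  classical
  subst hQ'
  have hspg : ∀ g : isometryGroup F ⇑Q', ∀ u v,
      sympForm m F (g.1.1 *ᵥ u) (g.1.1 *ᵥ v) = sympForm m F u v :=
    fun g => orth_preserves (⇑Q') hpol g
  let f : isometryGroup F ⇑Q' → {Y : κ → (Fin m ⊕ Fin m → F) // LinearIndependent F Y ∧
      (∀ i j, sympForm m F (Y i) (Y j) = 0) ∧ ∀ i, Q' (Y i) = Q' (X i)} :=
    fun g => ⟨fun i => g.1.1 *ᵥ X i, by
      refine ⟨?_, fun i j => by rw [hspg, hXo], fun i => orth_Q (⇑Q') g (X i)⟩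
      have hinj : Function.Injective (Matrix.toLin' g.1.1) := by
        intro u v huv
        have h1 : (g⁻¹).1.1 *ᵥ (g.1.1 *ᵥ u) = (g⁻¹).1.1 *ᵥ (g.1.1 *ᵥ v) := by
          rw [← Matrix.toLin'_apply g.1.1 u, ← Matrix.toLin'_apply g.1.1 v, huv]
        rw [Matrix.mulVec_mulVec, Matrix.mulVec_mulVec, iso_coe_inv_mul, Matrix.one_mulVec,
          Matrix.one_mulVec] at h1
        exact h1
      have := hX.map' (Matrix.toLin' g.1.1) (LinearMap.ker_eq_bot.2 hinj)
      exact this⟩
  have hfib : ∀ Y, Nat.card {g // f g = Y} = Nat.card (oFrameStab (⇑Q') X) := by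
    rintro ⟨Y, hYli, hYo, hYQ⟩
    obtain ⟨g₀, hg₀⟩ := witt_frames Q' (polarBilin_nondeg Q' hpol) X Y hX hYli (fun c => by
      rw [Q_sum_of_orth Q' hpol X hXo, Q_sum_of_orth Q' hpol Y hYo]
      exact Finset.sum_congr rfl fun i _ => by rw [hYQ])
    apply Nat.card_congr
    symm
    exact
      { toFun := fun h => ⟨g₀ * h.1, by
          apply Subtype.ext
          funext i
          change (g₀.1.1 * h.1.1.1) *ᵥ X i = Y i
          rw [← Matrix.mulVec_mulVec, h.2 i, hg₀]⟩
        invFun := fun g => ⟨g₀⁻¹ * g.1, by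
          rw [mem_oFrameStab]
          intro i
          have h1 : g.1.1.1 *ᵥ X i = Y i := congrFun (congrArg Subtype.val g.2) i
          change ((g₀⁻¹).1.1 * g.1.1.1) *ᵥ X i = X i
          rw [← Matrix.mulVec_mulVec, h1, ← hg₀ i, Matrix.mulVec_mulVec, iso_coe_inv_mul,
            Matrix.one_mulVec]⟩
        left_inv := fun h => by
          apply Subtype.ext
          simp
        right_inv := fun g => by
          apply Subtype.ext
          simp }
  have := Fintype.ofFinite {Y : κ → (Fin m ⊕ Fin m → F) // LinearIndependent F Y ∧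
      (∀ i j, sympForm m F (Y i) (Y j) = 0) ∧ ∀ i, Q' (Y i) = Q' (X i)}
  rw [Nat.card_congr (Equiv.sigmaFiberEquiv f).symm, Nat.card_sigma,
    Finset.sum_congr rfl (fun a _ => hfib a), Finset.sum_const, Finset.card_univ, smul_eq_mul,
    ← Nat.card_eq_fintype_card]

end orbit

end Cfsg.Agent.Lib.helper50
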