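import Mathlib
import Cfsg.Agent.Lib.helper50.MinusModel
import Cfsg.Agent.Lib.helper50.OrthCent

/-!
# Involutions of `O⁻_2m(q)`, `q` even, in the model `minusQ k c d` on `Fin (k+1) ⊕ Fin (k+1)`

* generic facts for a form `Q` with polar form `sympForm`;
* `minus_no_ts_frame`: there is no totally singular subspace of dimension `k + 1`;
* `minus_exists_nonsing_fixed`: an involution of type `a_s` fixes a nonsingular vector.
-/

set_option autoImplicit false

namespace Cfsg.Agent.Lib.helper50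

open Matrix Module Cfsg Cfsg.Agent.Lib.helper17 Cfsg.Agent.Lib.helper49 Cfsg.Agent.Lib.helper42

universe u

section generic
variable {F : Type u} [Field F] [Fintype F] [CharP F 2] {m : ℕ}

/-- `ω(v, x v) = Q((x - 1) v)` for an isometry `x` -/
theorem orth_val_eq_gen (Q : (Fin m ⊕ Fin m → F) → F)
    (hpol : ∀ u v, Q (u + v) = Q u + Q v + sympForm m F u v) (x : isometryGroup F Q)
    (v : Fin m ⊕ Fin m → F) :
    sympForm m F v (x.1.1 *ᵥ v) = Q ((x.1.1 - 1) *ᵥ v) := by
  rw [orth_Q_N Q hpol x v, Matrix.sub_mulVec, Matrix.one_mulVec,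
    sympForm_sub_right, sympForm_self, sub_zero]

theorem orth_fix_of_sq_gen (Q : (Fin m ⊕ Fin m → F) → F)
    (hpol : ∀ u v, Q (u + v) = Q u + Q v + sympForm m F u v) (x : isometryGroup F Q)
    (hx : x ^ 2 = 1) (v : Fin m ⊕ Fin m → F) :
    x.1.1 *ᵥ ((x.1.1 - 1) *ᵥ v) = (x.1.1 - 1) *ᵥ v := by
  have h1 := inv_NN (orthToSp Q hpol x) (orth_sq _ hpol x hx)
  rw [orthToSp_coe] at h1
  have h2 : (x.1.1 - 1) *ᵥ ((x.1.1 - 1) *ᵥ v) = 0 := by
    rw [Matrix.mulVec_mulVec, h1, Matrix.zero_mulVec]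
  rw [Matrix.sub_mulVec (x.1.1) 1 ((x.1.1 - 1) *ᵥ v), Matrix.one_mulVec, sub_eq_zero] at h2
  exact h2

theorem orth_rank_le_gen (Q : (Fin m ⊕ Fin m → F) → F)
    (hpol : ∀ u v, Q (u + v) = Q u + Q v + sympForm m F u v) (x : isometryGroup F Q)
    (hx : x ^ 2 = 1) : (x.1.1 - 1).rank ≤ m := by
  have := rank_le (orthToSp Q hpol x) (orth_sq _ hpol x hx)
  rw [orthToSp_coe] at this
  exact this

/-- conjugate isometries have the same rank and type -/
theorem orth_type_of_isConj (Q : (Fin m ⊕ Fin m → F) → F)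
    (hpol : ∀ u v, Q (u + v) = Q u + Q v + sympForm m F u v) (a b : isometryGroup F Q)
    (hab : IsConj a b) :
    (a.1.1 - 1).rank = (b.1.1 - 1).rank ∧
      ((∀ v, sympForm m F v (a.1.1 *ᵥ v) = 0) ↔ (∀ v, sympForm m F v (b.1.1 *ᵥ v) = 0)) := by
  have h1 := (orthToSp Q hpol).map_isConj hab
  obtain ⟨g, hg⟩ := comm_of_isConj _ _ h1
  have hr := rank_of_conj _ _ g hg
  rw [orthToSp_coe, orthToSp_coe] at hr hg
  refine ⟨hr, ?_⟩
  constructor
  · intro h
    exact alt_of_conj' (orthToSp Q hpol a) (orthToSp Q hpol b) g hg h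
  · intro h
    exact alt_of_conj (orthToSp Q hpol a) (orthToSp Q hpol b) g hg h

/-- the image of `x - 1` is totally singular for an involution of alternating type -/
theorem exists_ts_frame_of_alt (Q : (Fin m ⊕ Fin m → F) → F)
    (hpol : ∀ u v, Q (u + v) = Q u + Q v + sympForm m F u v) (x : isometryGroup F Q)
    (hx : x ^ 2 = 1) (halt : ∀ v, sympForm m F v (x.1.1 *ᵥ v) = 0) {s : ℕ}
    (hs : (x.1.1 - 1).rank = s) :
    ∃ D : InvData m F (Fin s), D.N = x.1.1 - 1 ∧ ∀ a : Fin s → F, Q (∑ i, a i • D.x i) = 0 := by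
  classical
  obtain ⟨D, hD⟩ := exists_invData (orthToSp Q hpol x) (orth_sq _ hpol x hx) hs (Equiv.refl (Fin s))
  rw [orthToSp_coe] at hD
  have hta : x.1.1 = D.N + 1 := by rw [hD]; simp
  have hDQ : ∀ v, Q (D.N *ᵥ v) = sympForm m F v (D.N *ᵥ v) :=
    fun v => by rw [hD]; exact orth_Q_N _ hpol x v
  refine ⟨D, hD, fun a => ?_⟩
  have h1 := D.Q_xcomb Q hDQ a
  unfold InvData.xcomb at h1
  have h2 := D.quad_val' x.1.1 hta a
  rw [gform_apply, halt] at h2
  rw [h2] at h1
  exact h1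

end generic

section minus
variable {F : Type u} [Field F] [Fintype F] [CharP F 2] {k : ℕ}

theorem single_inl_li (s : ℕ) (hs : s ≤ k + 1) : LinearIndependent F
    (fun i : Fin s => (Pi.single (Sum.inl (Fin.castLE hs i)) 1 : Fin (k + 1) ⊕ Fin (k + 1) → F)) := by
  classical
  have h1 := (Pi.basisFun F (Fin (k + 1) ⊕ Fin (k + 1))).linearIndependent.comp
    (fun i : Fin s => (Sum.inl (Fin.castLE hs i) : Fin (k + 1) ⊕ Fin (k + 1)))
    (Sum.inl_injective.comp (Fin.castLE_injective hs))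
  have h2 : (⇑(Pi.basisFun F (Fin (k + 1) ⊕ Fin (k + 1))) ∘
      (fun i : Fin s => (Sum.inl (Fin.castLE hs i) : Fin (k + 1) ⊕ Fin (k + 1))))
      = (fun i : Fin s => (Pi.single (Sum.inl (Fin.castLE hs i)) 1
          : Fin (k + 1) ⊕ Fin (k + 1) → F)) := by
    funext i
    simp
  rw [h2] at h1
  exact h1

theorem single_inl_comb_inr (s : ℕ) (hs : s ≤ k + 1) (a : Fin s → F) (j : Fin (k + 1)) :
    (∑ i, a i • (Pi.single (Sum.inl (Fin.castLE hs i)) 1 : Fin (k + 1) ⊕ Fin (k + 1) → F))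
      (Sum.inr j) = 0 := by
  classical
  rw [Finset.sum_apply]
  apply Finset.sum_eq_zero
  intro i _
  simp

theorem single_inl_comb_inl (s : ℕ) (hs : s ≤ k + 1) (a : Fin s → F) (j : Fin (k + 1))
    (hj : s ≤ j.val) :
    (∑ i, a i • (Pi.single (Sum.inl (Fin.castLE hs i)) 1 : Fin (k + 1) ⊕ Fin (k + 1) → F))
      (Sum.inl j) = 0 := by
  classical
  rw [Finset.sum_apply]
  apply Finset.sum_eq_zero
  intro i _
  have hne : (Sum.inl j : Fin (k + 1) ⊕ Fin (k + 1)) ≠ Sum.inl (Fin.castLE hs i) := by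
    intro h
    have h1 := congrArg Fin.val (Sum.inl.inj h)
    simp at h1
    have := i.2
    omega
  simp [Pi.single_apply, hne]

/-- the standard totally singular frames -/
theorem minusQ_single_comb (c d : F) (hc : c ≠ 0) (s : ℕ) (hs : s ≤ k) (a : Fin s → F) :
    minusQ k c d (∑ i, a i • (Pi.single (Sum.inl (Fin.castLE (by omega : s ≤ k + 1) i)) 1
      : Fin (k + 1) ⊕ Fin (k + 1) → F)) = 0 := by
  rw [minusQ_exp k c d hc]
  unfold quadFormPlus
  simp only [single_inl_comb_inr]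
  rw [single_inl_comb_inl s (by omega) a (Fin.last k) (by simp; omega)]
  simp

/-- there is no totally singular frame of size `k + 1` -/
theorem minus_no_ts_frame (c d : F)
    (hcd : ∀ z₁ z₂ : F, z₁ ^ 2 + c * z₁ * z₂ + d * z₂ ^ 2 = 0 → z₁ = 0 ∧ z₂ = 0)
    (Y : Fin (k + 1) → (Fin (k + 1) ⊕ Fin (k + 1) → F)) (hY : LinearIndependent F Y)
    (hQY : ∀ a : Fin (k + 1) → F, minusQ k c d (∑ i, a i • Y i) = 0) : False := by
  classical
  obtain ⟨hc, haniso⟩ := aniso_of_aniso c d hcd
  have hpol := minusQ_hpol k c d hc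
  have hpol' : ∀ u v, (minusQ' k c d) (u + v) = (minusQ' k c d) u + (minusQ' k c d) v
      + sympForm (k + 1) F u v := hpol
  have hexp := minusQ_exp k c d hc
  have hks : k ≤ k + 1 := by omega
  have hspan : ∀ y ∈ Submodule.span F (Set.range Y), minusQ k c d y = 0 := by
    intro y hy
    obtain ⟨a, rfl⟩ := (Submodule.mem_span_range_iff_exists_fun F).1 hy
    exact hQY a
  have hmem : ∀ i, Y i ∈ Submodule.span F (Set.range Y) := fun i => Submodule.subset_span ⟨i, rfl⟩
  have hYY : ∀ y ∈ Submodule.span F (Set.range Y), ∀ z ∈ Submodule.span F (Set.range Y),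
      sympForm (k + 1) F y z = 0 := by
    intro y hy z hz
    have h1 := hpol y z
    rw [hspan _ (Submodule.add_mem _ hy hz), hspan y hy, hspan z hz] at h1
    simpa using h1.symm
  have hQY' : ∀ a : Fin k → F, minusQ k c d (∑ i, a i • Y (Fin.castLE hks i)) = 0 := by
    intro a
    apply hspan
    apply Submodule.sum_mem
    intro i _
    exact Submodule.smul_mem _ _ (hmem _)
  obtain ⟨h, hh⟩ : ∃ h : isometryGroup F (minusQ k c d), ∀ i : Fin k,
      h.1.1 *ᵥ (Pi.single (Sum.inl (Fin.castLE hks i)) 1 : Fin (k + 1) ⊕ Fin (k + 1) → F)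
        = Y (Fin.castLE hks i) :=
    witt_frames (minusQ' k c d) (polarBilin_nondeg (minusQ' k c d) hpol') _ _
      (single_inl_li k hks) (hY.comp _ (Fin.castLE_injective hks)) (fun a => by
        change minusQ k c d _ = minusQ k c d _
        rw [minusQ_single_comb c d hc k le_rfl a, hQY' a])
  obtain ⟨w, hw⟩ : ∃ w, w = (h⁻¹).1.1 *ᵥ Y (Fin.last k) := ⟨_, rfl⟩
  have hhw : h.1.1 *ᵥ w = Y (Fin.last k) := by
    rw [hw, Matrix.mulVec_mulVec, iso_coe_mul_inv, Matrix.one_mulVec]
  have hQw : minusQ k c d w = 0 := by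
    rw [← orth_Q (minusQ k c d) h w, hhw]
    exact hspan _ (hmem _)
  have hwr : ∀ i : Fin k, w (Sum.inr (Fin.castLE hks i)) = 0 := by
    intro i
    have h1 : sympForm (k + 1) F w (Pi.single (Sum.inl (Fin.castLE hks i)) 1) = 0 := by
      rw [← orth_preserves (minusQ k c d) hpol h, hhw, hh i]
      exact hYY _ (hmem _) _ (hmem _)
    rw [sympForm_eq_sum, Finset.sum_eq_single (Fin.castLE hks i)] at h1
    · simpa using h1
    · intro b _ hb
      have : (Sum.inl b : Fin (k + 1) ⊕ Fin (k + 1)) ≠ Sum.inl (Fin.castLE hks i) :=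
        fun h => hb (Sum.inl.inj h)
      simp [Pi.single_apply, this]
    · intro h
      exact absurd (Finset.mem_univ _) h
  have hcs : ∀ i : Fin k, Fin.castLE hks i = i.castSucc := fun i => rfl
  have hQw' : minusQ k c d w = w (Sum.inl (Fin.last k)) ^ 2
      + w (Sum.inl (Fin.last k)) * w (Sum.inr (Fin.last k))
      + d * c⁻¹ ^ 2 * w (Sum.inr (Fin.last k)) ^ 2 := by
    rw [hexp]
    unfold quadFormPlus
    rw [Fin.sum_univ_castSucc]
    have h0 : ∀ i : Fin k, w (Sum.inl i.castSucc) * w (Sum.inr i.castSucc) = 0 := fun i => by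
      rw [← hcs, hwr i, mul_zero]
    simp only [h0, Finset.sum_const_zero]
    ring
  obtain ⟨hx0, hy0⟩ := haniso _ _ (by rw [← hQw']; exact hQw)
  have hwX : w = ∑ i : Fin k, w (Sum.inl (Fin.castLE hks i)) •
      (Pi.single (Sum.inl (Fin.castLE hks i)) 1 : Fin (k + 1) ⊕ Fin (k + 1) → F) := by
    funext j
    rcases j with j | j
    · by_cases hj : j.val < k
      · rw [Finset.sum_apply, Finset.sum_eq_single (⟨j.val, hj⟩ : Fin k)]
        · have : Fin.castLE hks ⟨j.val, hj⟩ = j := Fin.ext rfl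
          simp [this]
        · intro b _ hb
          have : (Sum.inl j : Fin (k + 1) ⊕ Fin (k + 1)) ≠ Sum.inl (Fin.castLE hks b) := by
            intro h
            apply hb
            have h1 : j = Fin.castLE hks b := Sum.inl.inj h
            apply Fin.ext
            change b.val = j.val
            rw [h1]
            rfl
          simp [Pi.single_apply, this]
        · intro h
          exact absurd (Finset.mem_univ _) h
      · have hjl : j = Fin.last k := Fin.ext (by have := j.2; simp only [Fin.val_last]; omega)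
        rw [single_inl_comb_inl k hks _ j (by omega), hjl, hx0]
    · rw [single_inl_comb_inr]
      by_cases hj : j.val < k
      · have : j = Fin.castLE hks ⟨j.val, hj⟩ := Fin.ext rfl
        rw [this, hwr]
      · have hjl : j = Fin.last k := Fin.ext (by have := j.2; simp only [Fin.val_last]; omega)
        rw [hjl, hy0]
  have hYlast : Y (Fin.last k)
      = ∑ i : Fin k, w (Sum.inl (Fin.castLE hks i)) • Y (Fin.castLE hks i) := by
    rw [← hhw]
    conv_lhs => rw [hwX]
    rw [Matrix.mulVec_sum]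
    refine Finset.sum_congr rfl fun i _ => ?_
    rw [Matrix.mulVec_smul, hh i]
  rw [Fintype.linearIndependent_iff] at hY
  have h0 := hY (Fin.snoc (fun i : Fin k => w (Sum.inl (Fin.castLE hks i))) (-1)) (by
    rw [Fin.sum_univ_castSucc]
    simp only [Fin.snoc_castSucc, Fin.snoc_last]
    rw [hYlast]
    simp [hcs]) (Fin.last k)
  simp at h0

/-- an involution of alternating type fixes a nonsingular vector -/
theorem minus_exists_nonsing_fixed (c d : F)
    (hcd : ∀ z₁ z₂ : F, z₁ ^ 2 + c * z₁ * z₂ + d * z₂ ^ 2 = 0 → z₁ = 0 ∧ z₂ = 0)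
    (t : isometryGroup F (minusQ k c d)) (ht : t ^ 2 = 1)
    (halt : ∀ v, sympForm (k + 1) F v (t.1.1 *ᵥ v) = 0) :
    ∃ u, minusQ k c d u ≠ 0 ∧ t.1.1 *ᵥ u = u := by
  classical
  obtain ⟨hc, haniso⟩ := aniso_of_aniso c d hcd
  have hpol := minusQ_hpol k c d hc
  have hpol' : ∀ u v, (minusQ' k c d) (u + v) = (minusQ' k c d) u + (minusQ' k c d) v
      + sympForm (k + 1) F u v := hpol
  have hexp := minusQ_exp k c d hc
  obtain ⟨s, hs⟩ : ∃ s, (t.1.1 - 1).rank = s := ⟨_, rfl⟩
  obtain ⟨D, hD, hDQ⟩ := exists_ts_frame_of_alt (minusQ k c d) hpol t ht halt hs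
  have hsle : s ≤ k := by
    have h1 := orth_rank_le_gen (minusQ k c d) hpol t ht
    rw [hs] at h1
    by_contra hlt
    have hsk : s = k + 1 := by omega
    subst hsk
    exact minus_no_ts_frame c d hcd D.x D.hli hDQ
  have hs1 : s ≤ k + 1 := by omega
  obtain ⟨h, hh⟩ : ∃ h : isometryGroup F (minusQ k c d), ∀ i : Fin s,
      h.1.1 *ᵥ (Pi.single (Sum.inl (Fin.castLE hs1 i)) 1 : Fin (k + 1) ⊕ Fin (k + 1) → F)
        = D.x i :=
    witt_frames (minusQ' k c d) (polarBilin_nondeg (minusQ' k c d) hpol') _ _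
      (single_inl_li s hs1) D.hli (fun a => by
        change minusQ k c d _ = minusQ k c d _
        rw [minusQ_single_comb c d hc s hsle a, hDQ a])
  refine ⟨h.1.1 *ᵥ (Pi.single (Sum.inl (Fin.last k)) 1 : Fin (k + 1) ⊕ Fin (k + 1) → F), ?_, ?_⟩
  · rw [orth_Q (minusQ k c d) h, hexp]
    unfold quadFormPlus
    simp
  · have hN : D.N *ᵥ (h.1.1 *ᵥ (Pi.single (Sum.inl (Fin.last k)) 1
        : Fin (k + 1) ⊕ Fin (k + 1) → F)) = 0 := by
      apply D.ker_of_perp
      intro j
      rw [← hh j, orth_preserves (minusQ k c d) hpol h, sympForm_eq_sum]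
      apply Finset.sum_eq_zero
      intro i _
      simp
    rw [hD, Matrix.sub_mulVec, Matrix.one_mulVec, sub_eq_zero] at hN
    exact hN

end minus

end Cfsg.Agent.Lib.helper50
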