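import Mathlib
import Cfsg.Agent.Lib.helper50.OrthCount

/-!
# Counting totally singular frames in finite quadratic spaces

For a quadratic space with representation numbers `a k c` (satisfying the hyperbolic recursion):
* `card_perp_rep`: `#{v ∈ Y^⊥ : Q v = c} = q^s * a (k - s) c` for a totally singular frame `Y` of size `s`;
* `card_TSFr`: the number of totally singular frames of size `s`;
* `card_NSFr`: the number of frames `(Y, v)` with `Y` totally singular of size `s`, `v ∈ Y^⊥`, `Q v = c ≠ 0`.
-/

set_option autoImplicit false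

namespace Cfsg.Agent.Lib.helper50

open Module

universe u v

namespace QSpace

section perprep
variable {F : Type u} [Field F] [Fintype F]

theorem card_perp_rep (r : ℕ) (C : Set F) (a : ℕ → F → ℕ)
    (ha : ∀ k, ∀ c ∈ C, a (k + 1) c
      = Fintype.card F * a k c + (Fintype.card F - 1) * Fintype.card F ^ (2 * k + r))
    (s : ℕ) :
    ∀ (k : ℕ) (V : Type v) [AddCommGroup V] [Module F V] [Finite V] (S : QSpace F V),
      S.Nondeg → finrank F V = 2 * (k + s) + r →
      (∀ c ∈ C, Nat.card {x : V // S.Q x = c} = a (k + s) c) →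
      ∀ (Y : Fin s → V), LinearIndependent F Y → (∀ i j, S.B (Y i) (Y j) = 0) →
      (∀ i, S.Q (Y i) = 0) →
      ∀ c ∈ C, Nat.card {v : V // (∀ i, S.B (Y i) v = 0) ∧ S.Q v = c}
        = Fintype.card F ^ s * a k c := by
  induction s with
  | zero =>
    intro k V _ _ _ S hnd hdim hinv Y hY hYo hYs c hc
    rw [pow_zero, one_mul]
    exact (Nat.card_congr (Equiv.subtypeEquivRight (fun v => by simp))).trans (hinv c hc)
  | succ s ih =>
    intro k V _ _ _ S hnd hdim hinv Y hY hYo hYs c hc
    classical
    have hu : S.Q (Y 0) = 0 := hYs 0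
    have hu0 : Y 0 ≠ 0 := hY.ne_zero 0
    have huu : S.B (Y 0) (Y 0) = 0 := hYo 0 0
    obtain ⟨⟨w, hw, huw⟩⟩ : Nonempty {w : V // S.Q w = 0 ∧ S.B (Y 0) w = 1} := by
      have h1 := card_partner S hnd (by omega) (Y 0) hu hu0
      have h2 : 0 < Nat.card {w : V // S.Q w = 0 ∧ S.B (Y 0) w = 1} := by
        rw [h1]; exact pow_pos Fintype.card_pos _
      exact (Nat.card_pos_iff.1 h2).1
    have hww : S.B w w = 0 := by rw [S.B_self, hw, mul_zero]
    have hwu : S.B w (Y 0) = 1 := by rw [S.B_symm]; exact huw
    have hfr := finrank_perp2' S.B (Y 0) w huu hww (by rw [huw]; exact one_ne_zero)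
      (by rw [hwu]; exact one_ne_zero)
    have hndW : (S.restrict (perp2 S.B (Y 0) w)).Nondeg := by
      intro x hx
      exact nondeg_perp2' S.B (fun x y h => by rw [S.B_symm]; exact h) hnd (Y 0) w huu hww
        (by rw [huw]; exact one_ne_zero) (by rw [hwu]; exact one_ne_zero) x hx
    have hinvW : ∀ c ∈ C, Nat.card {x : perp2 S.B (Y 0) w //
        (S.restrict (perp2 S.B (Y 0) w)).Q x = c} = a (k + s) c := by
      intro c hc
      have h1 := card_rep_rec S (Y 0) w hu hw huw c
      rw [hinv c hc, show k + (s + 1) = (k + s) + 1 from rfl, ha (k + s) c hc] at h1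
      have hW : Nat.card (perp2 S.B (Y 0) w) = Fintype.card F ^ (2 * (k + s) + r) := by
        rw [Module.natCard_eq_pow_finrank (K := F), Nat.card_eq_fintype_card]
        congr 1
        omega
      rw [hW] at h1
      have h2 := Nat.add_right_cancel h1
      exact (Nat.eq_of_mul_eq_mul_left Fintype.card_pos h2).symm
    have hYu : ∀ i, S.B (Y i) (Y 0) = 0 := fun i => hYo i 0
    have huY : ∀ i, S.B (Y 0) (Y i) = 0 := fun i => hYo 0 i
    let Y' : Fin s → perp2 S.B (Y 0) w := fun j => ⟨Y j.succ - S.B w (Y j.succ) • Y 0, by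
      rw [mem_perp2]
      constructor
      · simp [huY]
      · simp [hwu]⟩
    have hY'val : ∀ j, (Y' j : V) = Y j.succ - S.B w (Y j.succ) • Y 0 := fun j => rfl
    have hY'li : LinearIndependent F Y' := by
      apply LinearIndependent.of_comp (perp2 S.B (Y 0) w).subtype
      rw [Fintype.linearIndependent_iff]
      intro d hd j
      have h1 : ∑ i : Fin (s + 1),
          (Fin.cons (-∑ j, d j * S.B w (Y j.succ)) d : Fin (s + 1) → F) i • Y i = 0 := by
        rw [Fin.sum_univ_succ]
        simp only [Fin.cons_zero, Fin.cons_succ]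
        have h3 : ∑ j, d j • ((perp2 S.B (Y 0) w).subtype ∘ Y') j
            = ∑ j, d j • Y j.succ - (∑ j, d j * S.B w (Y j.succ)) • Y 0 := by
          simp only [Function.comp_apply, Submodule.subtype_apply, hY'val, smul_sub,
            Finset.sum_sub_distrib, Finset.sum_smul, smul_smul]
        rw [h3] at hd
        rw [neg_smul, ← hd]
        abel
      have h2 := Fintype.linearIndependent_iff.1 hY _ h1 j.succ
      simpa using h2
    have hY'o : ∀ i j, (S.restrict (perp2 S.B (Y 0) w)).B (Y' i) (Y' j) = 0 := by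
      intro i j
      rw [restrict_B, hY'val, hY'val]
      simp [hYo]
    have hY's : ∀ i, (S.restrict (perp2 S.B (Y 0) w)).Q (Y' i) = 0 := by
      intro i
      rw [restrict_Q, hY'val, sub_eq_add_neg, ← neg_smul, S.Q_add_smul, hYs, hu, hYu]
      ring
    have hIH := ih k (perp2 S.B (Y 0) w) (S.restrict _) hndW (by omega) hinvW Y' hY'li hY'o hY's
      c hc
    have e : {v : V // (∀ i, S.B (Y i) v = 0) ∧ S.Q v = c} ≃
        F × {v' : perp2 S.B (Y 0) w // (∀ j, (S.restrict (perp2 S.B (Y 0) w)).B (Y' j) v' = 0) ∧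
          (S.restrict (perp2 S.B (Y 0) w)).Q v' = c} :=
      { toFun := fun v => (S.B w v.1, ⟨⟨v.1 - S.B w v.1 • Y 0, by
            rw [mem_perp2]
            constructor
            · simp [v.2.1 0, huu]
            · simp [hwu]⟩, by
            constructor
            · intro j
              rw [restrict_B, hY'val]
              simp [v.2.1 j.succ, v.2.1 0, hYu]
            · rw [restrict_Q]
              change S.Q (v.1 - S.B w v.1 • Y 0) = c
              have hvu : S.B v.1 (Y 0) = 0 := by rw [S.B_symm]; exact v.2.1 0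
              rw [sub_eq_add_neg, ← neg_smul, S.Q_add_smul, hu, hvu, v.2.2]
              ring⟩)
        invFun := fun p => ⟨p.1 • Y 0 + p.2.1.1, by
            have hp := (mem_perp2 _ _ _ _).1 p.2.1.2
            constructor
            · intro i
              refine Fin.cases ?_ (fun j => ?_) i
              · simp [huu, hp.1]
              · have h1 := p.2.2.1 j
                rw [restrict_B, hY'val] at h1
                simp only [map_sub, map_smul, LinearMap.sub_apply, LinearMap.smul_apply,
                  smul_eq_mul, hp.1, mul_zero, sub_zero] at h1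
                simp [hYu, h1]
            · have h2 := p.2.2.2
              rw [restrict_Q] at h2
              rw [add_comm, S.Q_add_smul, hu, h2]
              have : S.B p.2.1.1 (Y 0) = 0 := by rw [S.B_symm]; exact hp.1
              rw [this]
              ring⟩
        left_inv := by
          rintro ⟨v, hv⟩
          apply Subtype.ext
          simp
        right_inv := by
          rintro ⟨t, ⟨⟨v', hv'⟩, hv'2⟩⟩
          have hp := (mem_perp2 _ _ _ _).1 hv'
          apply Prod.ext
          · simp [hwu, hp.2]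
          · apply Subtype.ext
            apply Subtype.ext
            simp [hwu, hp.2] }
    rw [Nat.card_congr e, Nat.card_prod, hIH, Nat.card_eq_fintype_card, pow_succ]
    ring

end perprep

section frames
variable {F : Type u} [Field F] {V : Type v} [AddCommGroup V] [Module F V]

/-- totally singular frames -/
abbrev TSFr (S : QSpace F V) (s : ℕ) : Type v :=
  {Y : Fin s → V // LinearIndependent F Y ∧ (∀ i j, S.B (Y i) (Y j) = 0) ∧ ∀ i, S.Q (Y i) = 0}

/-- totally singular frames extended by a vector of norm `c` orthogonal to them -/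
abbrev XFr (S : QSpace F V) (s : ℕ) (c : F) : Type v :=
  {Y : Fin (s + 1) → V // LinearIndependent F Y ∧ (∀ i j, S.B (Y i) (Y j) = 0) ∧
    (∀ i : Fin s, S.Q (Y i.castSucc) = 0) ∧ S.Q (Y (Fin.last s)) = c}

theorem span_ts (S : QSpace F V) {s : ℕ} (Y : Fin s → V) (hYo : ∀ i j, S.B (Y i) (Y j) = 0)
    (hYs : ∀ i, S.Q (Y i) = 0) (v : V) (hv : v ∈ Submodule.span F (Set.range Y)) :
    (∀ i, S.B (Y i) v = 0) ∧ S.Q v = 0 := by
  have h1 : ∀ v ∈ Submodule.span F (Set.range Y), ∀ i, S.B (Y i) v = 0 := by
    intro v hv i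
    induction hv using Submodule.span_induction with
    | mem x hx =>
      obtain ⟨j, rfl⟩ := hx
      exact hYo i j
    | zero => simp
    | add x y _ _ hx hy => rw [map_add, hx, hy, add_zero]
    | smul c x _ hx => rw [map_smul, hx, smul_zero]
  have h2 : ∀ x ∈ Submodule.span F (Set.range Y), ∀ y ∈ Submodule.span F (Set.range Y),
      S.B x y = 0 := by
    intro x hx y hy
    induction hx using Submodule.span_induction with
    | mem x hx =>
      obtain ⟨j, rfl⟩ := hx
      exact h1 y hy j
    | zero => simp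
    | add x z _ _ hx hz => rw [map_add, LinearMap.add_apply, hx, hz, add_zero]
    | smul c x _ hx => rw [map_smul, LinearMap.smul_apply, hx, smul_zero]
  refine ⟨h1 v hv, ?_⟩
  induction hv using Submodule.span_induction with
  | mem x hx =>
    obtain ⟨j, rfl⟩ := hx
    exact hYs j
  | zero => exact S.Q_zero
  | add x y hx hy hx' hy' => rw [S.add, hx', hy', h2 x hx y hy]; ring
  | smul c x _ hx => rw [S.smul, hx, mul_zero]

/-- extending a totally singular frame by one vector -/
def xfrEquiv (S : QSpace F V) (halt : ∀ v, S.B v v = 0) (s : ℕ) (c : F) :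
    XFr S s c ≃ Σ Y : TSFr S s,
      {v : V // ((∀ i, S.B (Y.1 i) v = 0) ∧ S.Q v = c) ∧ ¬ v ∈ Submodule.span F (Set.range Y.1)} where
  toFun Y := ⟨⟨Fin.init Y.1, by
      have h := Y.2.1
      rw [← Fin.snoc_init_self Y.1, linearIndependent_finSnoc] at h
      exact h.1, fun i j => Y.2.2.1 _ _, fun i => Y.2.2.2.1 i⟩,
    ⟨Y.1 (Fin.last s), ⟨fun i => Y.2.2.1 _ _, Y.2.2.2.2⟩, by
      have h := Y.2.1
      rw [← Fin.snoc_init_self Y.1, linearIndependent_finSnoc] at h
      exact h.2⟩⟩
  invFun p := ⟨Fin.snoc p.1.1 p.2.1, by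
      rw [linearIndependent_finSnoc]
      exact ⟨p.1.2.1, p.2.2.2⟩, by
      intro i j
      refine Fin.lastCases ?_ (fun i' => ?_) i <;> refine Fin.lastCases ?_ (fun j' => ?_) j
      · simp only [Fin.snoc_last]; exact halt _
      · simp only [Fin.snoc_last, Fin.snoc_castSucc]
        rw [S.B_symm]; exact p.2.2.1.1 j'
      · simp only [Fin.snoc_last, Fin.snoc_castSucc]
        exact p.2.2.1.1 i'
      · simp only [Fin.snoc_castSucc]
        exact p.1.2.2.1 i' j', by
      intro i
      simp only [Fin.snoc_castSucc]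
      exact p.1.2.2.2 i, by
      simp only [Fin.snoc_last]
      exact p.2.2.1.2⟩
  left_inv Y := by
    apply Subtype.ext
    exact Fin.snoc_init_self Y.1
  right_inv := by
    rintro ⟨⟨Y, hY⟩, ⟨v, hv⟩⟩
    apply Sigma.subtype_ext
    · apply Subtype.ext
      change Fin.init (Fin.snoc (α := fun _ : Fin (s + 1) => V) Y v) = Y
      exact Fin.init_snoc _ _
    · change Fin.snoc (α := fun _ : Fin (s + 1) => V) Y v (Fin.last s) = v
      exact Fin.snoc_last _ _

theorem card_and_not {α : Type*} [Finite α] (P T : α → Prop) (h : ∀ x, T x → P x) :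
    Nat.card {x // P x ∧ ¬ T x} = Nat.card {x // P x} - Nat.card {x // T x} := by
  classical
  have h1 := Nat.card_congr (Equiv.sumCompl (fun x : {x // P x} => T x.1))
  rw [Nat.card_sum] at h1
  have h2 : Nat.card {x : {x // P x} // T x.1} = Nat.card {x // T x} :=
    Nat.card_congr
      { toFun := fun x => ⟨x.1.1, x.2⟩
        invFun := fun s => ⟨⟨s.1, h _ s.2⟩, s.2⟩
        left_inv := fun x => rfl
        right_inv := fun s => rfl }
  have h3 : Nat.card {x : {x // P x} // ¬ T x.1} = Nat.card {x // P x ∧ ¬ T x} :=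
    Nat.card_congr
      { toFun := fun x => ⟨x.1.1, x.1.2, x.2⟩
        invFun := fun s => ⟨⟨s.1, s.2.1⟩, s.2.2⟩
        left_inv := fun x => rfl
        right_inv := fun s => rfl }
  omega

variable [Fintype F] [Finite V]

theorem card_XFr (S : QSpace F V) (halt : ∀ v, S.B v v = 0) (r : ℕ) (C : Set F) (a : ℕ → F → ℕ)
    (ha : ∀ k, ∀ c ∈ C, a (k + 1) c
      = Fintype.card F * a k c + (Fintype.card F - 1) * Fintype.card F ^ (2 * k + r))
    (K : ℕ) (hnd : S.Nondeg) (hdim : finrank F V = 2 * K + r)
    (hinv : ∀ c ∈ C, Nat.card {x : V // S.Q x = c} = a K c) (s : ℕ) (hs : s ≤ K) (c : F)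
    (hc : c ∈ C) [Decidable (c = 0)] :
    Nat.card (XFr S s c) = Nat.card (TSFr S s)
      * (Fintype.card F ^ s * a (K - s) c - if c = 0 then Fintype.card F ^ s else 0) := by
  classical
  have hK : K - s + s = K := Nat.sub_add_cancel hs
  have hfib : ∀ Y : TSFr S s, Nat.card {v : V // ((∀ i, S.B (Y.1 i) v = 0) ∧ S.Q v = c) ∧
      ¬ v ∈ Submodule.span F (Set.range Y.1)}
      = Fintype.card F ^ s * a (K - s) c - if c = 0 then Fintype.card F ^ s else 0 := by
    intro Y
    have h1 := card_perp_rep r C a ha s (K - s) V S hnd (by rw [hK]; exact hdim)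
      (by rw [hK]; exact hinv) Y.1 Y.2.1 Y.2.2.1 Y.2.2.2 c hc
    by_cases hc0 : c = 0
    · rw [if_pos hc0]
      rw [card_and_not (fun v : V => (∀ i, S.B (Y.1 i) v = 0) ∧ S.Q v = c)
        (fun v => v ∈ Submodule.span F (Set.range Y.1)) (fun v hv => by
          have := span_ts S Y.1 Y.2.2.1 Y.2.2.2 v hv
          rw [hc0]; exact this), h1]
      congr 1
      have : Nat.card {x // x ∈ Submodule.span F (Set.range Y.1)}
          = Nat.card (Submodule.span F (Set.range Y.1)) := rfl
      rw [this, Module.natCard_eq_pow_finrank (K := F), Nat.card_eq_fintype_card,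
        finrank_span_eq_card Y.2.1, Fintype.card_fin]
    · rw [if_neg hc0, Nat.sub_zero, ← h1]
      apply Nat.card_congr
      apply Equiv.subtypeEquivRight
      intro v
      constructor
      · exact fun h => h.1
      · intro h
        refine ⟨h, fun hv => ?_⟩
        have := (span_ts S Y.1 Y.2.2.1 Y.2.2.2 v hv).2
        rw [h.2] at this
        exact hc0 this
  have : Fintype (TSFr S s) := Fintype.ofFinite _
  rw [Nat.card_congr (xfrEquiv S halt s c), Nat.card_sigma,
    Finset.sum_congr rfl (fun Y _ => hfib Y), Finset.sum_const, Finset.card_univ, smul_eq_mul,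
    ← Nat.card_eq_fintype_card]

theorem card_TSFr (S : QSpace F V) (halt : ∀ v, S.B v v = 0) (r : ℕ) (C : Set F) (h0 : (0 : F) ∈ C)
    (a : ℕ → F → ℕ)
    (ha : ∀ k, ∀ c ∈ C, a (k + 1) c
      = Fintype.card F * a k c + (Fintype.card F - 1) * Fintype.card F ^ (2 * k + r))
    (K : ℕ) (hnd : S.Nondeg) (hdim : finrank F V = 2 * K + r)
    (hinv : ∀ c ∈ C, Nat.card {x : V // S.Q x = c} = a K c) (s : ℕ) (hs : s ≤ K) :
    Nat.card (TSFr S s) = ∏ i ∈ Finset.range s,
      (Fintype.card F ^ i * a (K - i) 0 - Fintype.card F ^ i) := by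
  classical
  induction s with
  | zero =>
    rw [Finset.prod_range_zero]
    have : Unique (TSFr S 0) :=
      { default := ⟨Fin.elim0, linearIndependent_empty_type, fun i => i.elim0, fun i => i.elim0⟩
        uniq := fun Y => Subtype.ext (funext fun i => i.elim0) }
    exact Nat.card_unique
  | succ s ih =>
    have e : TSFr S (s + 1) ≃ XFr S s 0 :=
      Equiv.subtypeEquivRight (fun Y => by
        rw [Fin.forall_fin_succ' (P := fun i => S.Q (Y i) = 0)])
    rw [Nat.card_congr e, card_XFr S halt r C a ha K hnd hdim hinv s (by omega) 0 h0,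
      ih (by omega), Finset.prod_range_succ, if_pos rfl]

end frames

end QSpace

end Cfsg.Agent.Lib.helper50
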