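import Mathlib
import Cfsg.Agent.S0287
import Cfsg.Agent.S0289
import Cfsg.Agent.Lib.helper50.OrthFrames
import Cfsg.Agent.Lib.helper50.OrthCent

/-!
# Frame stabilisers in `O⁺_2m(q)`, `q` even

* `plusQS`: the hyperbolic quadratic space in characteristic 2, with its representation numbers.
* `card_frames_ts`, `card_frames_ns`: the number of totally singular frames / frames with exactly one
  nonsingular vector of norm 1.
* `card_oStab_ts`, `card_oStab_ns`: the orders of the pointwise stabilisers.
-/

set_option autoImplicit false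

namespace Cfsg.Agent.Lib.helper50

open Matrix Module Cfsg Cfsg.Agent.Lib.helper17 Cfsg.Agent.Lib.helper49 Cfsg.Agent.S0287

universe u

/-- number of vectors of norm 1 of the plus form -/
def bPlus (q k : ℕ) : ℕ := q ^ (2 * k - 1) - q ^ (k - 1)

theorem bPlus_succ (q k : ℕ) : bPlus q (k + 1) = q ^ k * (q ^ (k + 1) - 1) := by
  unfold bPlus
  have e1 : 2 * (k + 1) - 1 = k + (k + 1) := by omega
  rw [e1, Nat.add_sub_cancel, Nat.mul_sub, pow_add, mul_one]

theorem bPlus_rec (q : ℕ) (hq : 1 ≤ q) (k : ℕ) :
    bPlus q (k + 1) = q * bPlus q k + (q - 1) * q ^ (2 * k + 0) := by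
  rcases k with _ | j
  · simp [bPlus]
  · rw [bPlus_succ, bPlus_succ]
    have h1 : 1 ≤ q ^ (j + 1 + 1) := Nat.one_le_pow _ _ hq
    have h2 : 1 ≤ q ^ (j + 1) := Nat.one_le_pow _ _ hq
    zify [h1, h2, hq]
    ring

section plus
variable {F : Type u} [Field F] [Fintype F] {m : ℕ}

open Classical in
theorem card_plus_one (m : ℕ) :
    Nat.card {v : Fin m ⊕ Fin m → F // quadFormPlus m F v = 1} = bPlus (Fintype.card F) m := by
  have e : {v : Fin m ⊕ Fin m → F // quadFormPlus m F v = 1}
      ≃ {p : (Fin m → F) × (Fin m → F) // p.1 ⬝ᵥ p.2 = 1} :=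
    Equiv.subtypeEquiv (Equiv.sumArrowEquivProdArrow (Fin m) (Fin m) F) (fun v => by
      simp [quadFormPlus, dotProduct, Equiv.sumArrowEquivProdArrow])
  rw [Nat.card_congr e, Cfsg.Agent.Lib.helper7.card_hyperbolic_eq, if_neg one_ne_zero,
    Fintype.card_fin, zero_add]
  have hq : 1 ≤ Fintype.card F := Fintype.card_pos
  rcases m with _ | k
  · simp [bPlus]
  · rw [bPlus_succ, Nat.add_sub_cancel, mul_comm]

theorem card_plus_zero (m : ℕ) :
    Nat.card {v : Fin m ⊕ Fin m → F // quadFormPlus m F v = 0} = aPlus (Fintype.card F) m := by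
  rcases m with _ | k
  · simp [aPlus]
    have : Unique {v : Fin 0 ⊕ Fin 0 → F // quadFormPlus 0 F v = 0} :=
      { default := ⟨0, by simp [quadFormPlus]⟩
        uniq := fun v => Subtype.ext (funext fun i => by rcases i with i | i <;> exact i.elim0) }
    exact Nat.card_unique
  · exact Cfsg.Agent.S0289.result rfl (k + 1) (by omega)

variable [CharP F 2]

/-- the hyperbolic quadratic space in characteristic 2 -/
noncomputable def plusQS (m : ℕ) (F : Type u) [Field F] [CharP F 2] :
    QSpace F (Fin m ⊕ Fin m → F) where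
  Q := quadFormPlus m F
  B := sympBilin m
  add := plus_hpol
  smul c x := by rw [quadFormPlus_smul]; ring

theorem plusQS_nondeg : (plusQS m F).Nondeg := by
  intro x hx
  by_contra h
  obtain ⟨w, hw⟩ := exists_sympForm_ne_zero m x h
  exact hw (hx w)

theorem plusQS_alt (v : Fin m ⊕ Fin m → F) : (plusQS m F).B v v = 0 := sympForm_self m v

open Classical in
/-- the representation numbers -/
noncomputable def aP (F : Type u) [Field F] (q k : ℕ) (c : F) : ℕ :=
  if c = 0 then aPlus q k else bPlus q k

theorem aP_rec (q : ℕ) (hq : 1 ≤ q) (k : ℕ) (c : F) :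
    aP F q (k + 1) c = q * aP F q k c + (q - 1) * q ^ (2 * k + 0) := by
  unfold aP
  split_ifs
  · exact aPlus_rec q hq k
  · exact bPlus_rec q hq k

theorem plusQS_inv (c : F) (hc : c ∈ ({0, 1} : Set F)) :
    Nat.card {x : Fin m ⊕ Fin m → F // (plusQS m F).Q x = c} = aP F (Fintype.card F) m c := by
  rcases hc with rfl | hc
  · unfold aP
    rw [if_pos rfl]
    exact card_plus_zero m
  · rw [Set.mem_singleton_iff] at hc
    subst hc
    unfold aP
    rw [if_neg one_ne_zero]
    exact card_plus_one m

/-- the number of totally singular frames of size `s` -/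
def tsN (q m s : ℕ) : ℕ := ∏ i ∈ Finset.range s, (q ^ i * aPlus q (m - i) - q ^ i)

theorem card_TSFr_plus (s : ℕ) (hs : s ≤ m) :
    Nat.card (QSpace.TSFr (plusQS m F) s) = tsN (Fintype.card F) m s := by
  have := QSpace.card_TSFr (plusQS m F) plusQS_alt 0 ({0, 1} : Set F) (by simp)
    (aP F (Fintype.card F)) (fun k c _ => aP_rec _ Fintype.card_pos k c) m plusQS_nondeg
    (by simp [two_mul]) plusQS_inv s hs
  rw [this]
  unfold tsN
  refine Finset.prod_congr rfl fun i _ => ?_
  simp [aP]

open Classical in
theorem card_XFr_plus (s : ℕ) (hs : s ≤ m) :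
    Nat.card (QSpace.XFr (plusQS m F) s 1)
      = tsN (Fintype.card F) m s * (Fintype.card F ^ s * bPlus (Fintype.card F) (m - s)) := by
  have := QSpace.card_XFr (plusQS m F) plusQS_alt 0 ({0, 1} : Set F)
    (aP F (Fintype.card F)) (fun k c _ => aP_rec _ Fintype.card_pos k c) m plusQS_nondeg
    (by simp [two_mul]) plusQS_inv s hs 1 (by simp)
  rw [this, card_TSFr_plus s hs, if_neg one_ne_zero, Nat.sub_zero]
  simp [aP]

/-- totally singular frames indexed by a finite type -/
theorem card_frames_ts {κ : Type*} [Fintype κ] (hs : Fintype.card κ ≤ m) :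
    Nat.card {Y : κ → (Fin m ⊕ Fin m → F) // LinearIndependent F Y ∧
        (∀ i j, sympForm m F (Y i) (Y j) = 0) ∧ ∀ i, quadFormPlus m F (Y i) = 0}
      = tsN (Fintype.card F) m (Fintype.card κ) := by
  classical
  let e : κ ≃ Fin (Fintype.card κ) := Fintype.equivFin κ
  rw [← card_TSFr_plus (F := F) (Fintype.card κ) hs]
  apply Nat.card_congr
  refine Equiv.subtypeEquiv (Equiv.arrowCongr e (Equiv.refl _)) ?_
  intro Y
  have h1 : (Equiv.arrowCongr e (Equiv.refl (Fin m ⊕ Fin m → F))) Y = Y ∘ e.symm := rfl
  rw [h1, linearIndependent_equiv e.symm]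
  constructor
  · rintro ⟨hli, ho, hq⟩
    exact ⟨hli, fun i j => ho _ _, fun i => hq _⟩
  · rintro ⟨hli, ho, hq⟩
    refine ⟨hli, fun i j => ?_, fun i => ?_⟩
    · have := ho (e i) (e j)
      simp only [Function.comp_apply, Equiv.symm_apply_apply] at this
      exact this
    · have := hq (e i)
      simp only [Function.comp_apply, Equiv.symm_apply_apply] at this
      exact this

/-- frames with exactly one nonsingular vector (of norm 1), indexed by a finite type -/
theorem card_frames_ns {κ : Type*} [Fintype κ] [DecidableEq κ] (j₀ : κ) {s : ℕ}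
    (hκ : Fintype.card κ = s + 1) (hs : s ≤ m) :
    Nat.card {Y : κ → (Fin m ⊕ Fin m → F) // LinearIndependent F Y ∧
        (∀ i j, sympForm m F (Y i) (Y j) = 0) ∧
        ∀ i, quadFormPlus m F (Y i) = if i = j₀ then 1 else 0}
      = tsN (Fintype.card F) m s * (Fintype.card F ^ s * bPlus (Fintype.card F) (m - s)) := by
  classical
  let e₀ : κ ≃ Fin (s + 1) := Fintype.equivFinOfCardEq hκ
  let e : κ ≃ Fin (s + 1) := e₀.trans (Equiv.swap (e₀ j₀) (Fin.last s))
  have he : e j₀ = Fin.last s := by
    simp [e]
  rw [← card_XFr_plus (F := F) s hs]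
  apply Nat.card_congr
  refine Equiv.subtypeEquiv (Equiv.arrowCongr e (Equiv.refl _)) ?_
  intro Y
  have h1 : (Equiv.arrowCongr e (Equiv.refl (Fin m ⊕ Fin m → F))) Y = Y ∘ e.symm := rfl
  rw [h1, linearIndependent_equiv e.symm]
  constructor
  · rintro ⟨hli, ho, hq⟩
    refine ⟨hli, fun i j => ho _ _, fun i => ?_, ?_⟩
    · have := hq (e.symm i.castSucc)
      rw [if_neg] at this
      · exact this
      · intro h
        have h2 : i.castSucc = Fin.last s := by rw [← he, ← h]; simp
        exact (Fin.castSucc_lt_last i).ne h2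
    · have := hq (e.symm (Fin.last s))
      rw [if_pos] at this
      · exact this
      · rw [← he]; simp
  · rintro ⟨hli, ho, hq0, hq1⟩
    refine ⟨hli, fun i j => ?_, fun i => ?_⟩
    · have := ho (e i) (e j)
      simp only [Function.comp_apply, Equiv.symm_apply_apply] at this
      exact this
    · by_cases hi : i = j₀
      · subst hi
        rw [if_pos rfl]
        have := hq1
        rw [← he] at this
        simp only [Function.comp_apply, Equiv.symm_apply_apply] at this
        exact this
      · rw [if_neg hi]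
        have hne : e i ≠ Fin.last s := fun h => hi (e.injective (h.trans he.symm))
        obtain ⟨i', hi'⟩ : ∃ i' : Fin s, i'.castSucc = e i :=
          ⟨(e i).castPred hne, Fin.castSucc_castPred _ _⟩
        have := hq0 i'
        rw [hi'] at this
        simp only [Function.comp_apply, Equiv.symm_apply_apply] at this
        exact this

end plus

end Cfsg.Agent.Lib.helper50
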