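import Mathlib
import Cfsg.Agent.Lib.helper50.OrthPlusCount

/-!
# Orders of frame stabilisers in `O⁺_2m(q)`, `q` even

* `card_Oplus`: `|O⁺_2m(q)| = oP q m`;
* `card_oStab_ts`: the stabiliser of a totally singular frame of size `s` in `O⁺_{2(s+d)}(q)` has order
  `q^(s(s-1)/2 + 2sd) |O⁺_2d(q)|`;
* `card_oStab_ns`: the stabiliser of a frame with `s` singular vectors and one vector of norm 1 in
  `O⁺_{2(s+d+1)}(q)` has order `2 q^(s(s+1)/2 + 2sd) |Sp_2d(q)|`.
-/

set_option autoImplicit false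

namespace Cfsg.Agent.Lib.helper50

open Matrix Module Cfsg Cfsg.Agent.Lib.helper17 Cfsg.Agent.Lib.helper49 Cfsg.Agent.S0287

universe u

/-- `|O⁺_2k(q)|`, with the value `1` for `k = 0` -/
def oP (q k : ℕ) : ℕ := ∏ j ∈ Finset.range k, ((aPlus q (j + 1) - 1) * q ^ (2 * j + 0))

theorem oP_succ_eq (q : ℕ) (hq : 1 ≤ q) (n : ℕ) :
    oP q (n + 1) = 2 * q ^ ((n + 1) * n) * (q ^ (n + 1) - 1)
      * ∏ i ∈ Finset.range n, (q ^ (2 * (i + 1)) - 1) := prod_plus q hq n

/-- triangular numbers -/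
def tri (s : ℕ) : ℕ := s * (s - 1) / 2

theorem tri_succ (s : ℕ) : tri (s + 1) = tri s + s := by
  unfold tri
  rcases s with _ | j
  · rfl
  · have : (j + 1 + 1) * (j + 1 + 1 - 1) = (j + 1) * (j + 1 - 1) + 2 * (j + 1) := by
      simp only [Nat.add_sub_cancel]
      ring
    rw [this, Nat.add_mul_div_left _ _ (by norm_num : 0 < 2)]

theorem tsN_succ (q m s : ℕ) :
    tsN q (m + 1) (s + 1) = (aPlus q (m + 1) - 1) * q ^ s * tsN q m s := by
  unfold tsN
  rw [Finset.prod_range_succ']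
  have h1 : ∀ i ∈ Finset.range s, q ^ (i + 1) * aPlus q (m + 1 - (i + 1)) - q ^ (i + 1)
      = q * (q ^ i * aPlus q (m - i) - q ^ i) := by
    intro i _
    rw [Nat.add_sub_add_right, Nat.mul_sub, pow_succ]
    ring_nf
  rw [Finset.prod_congr rfl h1, Finset.prod_mul_distrib, Finset.prod_const, Finset.card_range]
  simp
  ring

theorem tsN_mul (q s d : ℕ) :
    tsN q (s + d) s * (q ^ (tri s + 2 * s * d) * oP q d) = oP q (s + d) := by
  induction s with
  | zero => simp [tsN, tri]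
  | succ s ih =>
    have e1 : s + 1 + d = (s + d) + 1 := by omega
    rw [e1, tsN_succ]
    have e2 : oP q (s + d + 1) = oP q (s + d) * ((aPlus q (s + d + 1) - 1) * q ^ (2 * (s + d) + 0)) := by
      unfold oP
      rw [Finset.prod_range_succ]
    rw [e2, ← ih, tri_succ]
    have e3 : q ^ (tri s + s + 2 * (s + 1) * d) = q ^ (tri s + 2 * s * d) * q ^ s * q ^ (2 * d) := by
      rw [← pow_add, ← pow_add]; congr 1; ring
    have e4 : q ^ (2 * (s + d) + 0) = q ^ s * q ^ s * q ^ (2 * d) := by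
      rw [← pow_add, ← pow_add]; congr 1; ring
    rw [e3, e4]
    ring

theorem ns_arith (q : ℕ) (hq : 1 ≤ q) (s d : ℕ) :
    tsN q (s + d + 1) s * (q ^ s * bPlus q (s + d + 1 - s))
      * (2 * q ^ (tri (s + 1) + 2 * s * d) * spOrd q d) = oP q (s + d + 1) := by
  have e1 : s + d + 1 - s = d + 1 := by omega
  have e2 : s + d + 1 = s + (d + 1) := by omega
  rw [e1, e2, ← tsN_mul q s (d + 1), oP_succ_eq q hq d, bPlus_succ, tri_succ]
  unfold spOrd
  have e3 : q ^ (tri s + 2 * s * (d + 1)) = q ^ (tri s) * q ^ (2 * s * d) * q ^ s * q ^ s := by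
    rw [← pow_add, ← pow_add, ← pow_add]; congr 1; ring
  have e4 : q ^ (tri s + s + 2 * s * d) = q ^ (tri s) * q ^ s * q ^ (2 * s * d) := by
    rw [← pow_add, ← pow_add]
  have e5 : q ^ ((d + 1) * d) = q ^ (d ^ 2) * q ^ d := by
    rw [← pow_add]; congr 1; ring
  rw [e3, e4, e5]
  ring

section stab
variable {F : Type u} [Field F] [Fintype F] {m : ℕ}

theorem card_Oplus (m : ℕ) :
    Nat.card (isometryGroup F (quadFormPlus m F)) = oP (Fintype.card F) m := by
  rcases m with _ | n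
  · have : Subsingleton (isometryGroup F (quadFormPlus 0 F)) := by
      constructor
      intro a b
      apply Subtype.ext
      apply Units.ext
      ext i j
      rcases i with i | i <;> exact i.elim0
    simp [oP]
  · rw [Cfsg.Agent.S0287.result rfl (n + 1) (by omega), oP_succ_eq _ Fintype.card_pos]
    simp

variable [CharP F 2]

theorem card_oStab_ts {κ : Type*} [Fintype κ] {s d : ℕ} (hκ : Fintype.card κ = s)
    (X : κ → (Fin (s + d) ⊕ Fin (s + d) → F)) (hX : LinearIndependent F X)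
    (hXo : ∀ i j, sympForm (s + d) F (X i) (X j) = 0)
    (hXs : ∀ i, quadFormPlus (s + d) F (X i) = 0) :
    Nat.card (oFrameStab (quadFormPlus (s + d) F) X)
      = Fintype.card F ^ (tri s + 2 * s * d) * oP (Fintype.card F) d := by
  classical
  have h1 := orth_card_orbit (quadFormPlus (s + d) F) (plusForm (s + d) F) rfl plus_hpol X hX hXo
  have e : {Y : κ → (Fin (s + d) ⊕ Fin (s + d) → F) // LinearIndependent F Y ∧
      (∀ i j, sympForm (s + d) F (Y i) (Y j) = 0) ∧
      ∀ i, quadFormPlus (s + d) F (Y i) = quadFormPlus (s + d) F (X i)} ≃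
      {Y : κ → (Fin (s + d) ⊕ Fin (s + d) → F) // LinearIndependent F Y ∧
      (∀ i j, sympForm (s + d) F (Y i) (Y j) = 0) ∧ ∀ i, quadFormPlus (s + d) F (Y i) = 0} :=
    Equiv.subtypeEquivRight (fun Y => by simp only [hXs])
  have hpos : 0 < Nat.card {Y : κ → (Fin (s + d) ⊕ Fin (s + d) → F) // LinearIndependent F Y ∧
      (∀ i j, sympForm (s + d) F (Y i) (Y j) = 0) ∧ ∀ i, quadFormPlus (s + d) F (Y i) = 0} :=
    Nat.card_pos_iff.2 ⟨⟨⟨X, hX, hXo, hXs⟩⟩, inferInstance⟩
  rw [Nat.card_congr e, card_Oplus] at h1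
  have h2 := card_frames_ts (F := F) (m := s + d) (κ := κ) (by omega)
  rw [h2] at h1 hpos
  rw [hκ] at h1 hpos
  have h3 := tsN_mul (Fintype.card F) s d
  rw [h1] at h3
  exact (Nat.eq_of_mul_eq_mul_left hpos h3).symm

theorem card_oStab_ns {κ : Type*} [Fintype κ] [DecidableEq κ] (j₀ : κ) {s d : ℕ}
    (hκ : Fintype.card κ = s + 1)
    (X : κ → (Fin (s + d + 1) ⊕ Fin (s + d + 1) → F)) (hX : LinearIndependent F X)
    (hXo : ∀ i j, sympForm (s + d + 1) F (X i) (X j) = 0)
    (hXs : ∀ i, quadFormPlus (s + d + 1) F (X i) = if i = j₀ then 1 else 0) :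
    Nat.card (oFrameStab (quadFormPlus (s + d + 1) F) X)
      = 2 * Fintype.card F ^ (tri (s + 1) + 2 * s * d) * spOrd (Fintype.card F) d := by
  classical
  have h1 := orth_card_orbit (quadFormPlus (s + d + 1) F) (plusForm (s + d + 1) F) rfl plus_hpol
    X hX hXo
  have e : {Y : κ → (Fin (s + d + 1) ⊕ Fin (s + d + 1) → F) // LinearIndependent F Y ∧
      (∀ i j, sympForm (s + d + 1) F (Y i) (Y j) = 0) ∧
      ∀ i, quadFormPlus (s + d + 1) F (Y i) = quadFormPlus (s + d + 1) F (X i)} ≃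
      {Y : κ → (Fin (s + d + 1) ⊕ Fin (s + d + 1) → F) // LinearIndependent F Y ∧
      (∀ i j, sympForm (s + d + 1) F (Y i) (Y j) = 0) ∧
      ∀ i, quadFormPlus (s + d + 1) F (Y i) = if i = j₀ then 1 else 0} :=
    Equiv.subtypeEquivRight (fun Y => by simp only [hXs])
  have hpos : 0 < Nat.card {Y : κ → (Fin (s + d + 1) ⊕ Fin (s + d + 1) → F) //
      LinearIndependent F Y ∧ (∀ i j, sympForm (s + d + 1) F (Y i) (Y j) = 0) ∧
      ∀ i, quadFormPlus (s + d + 1) F (Y i) = if i = j₀ then 1 else 0} :=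
    Nat.card_pos_iff.2 ⟨⟨⟨X, hX, hXo, hXs⟩⟩, inferInstance⟩
  rw [Nat.card_congr e, card_Oplus] at h1
  have h2 := card_frames_ns (F := F) (m := s + d + 1) j₀ hκ (by omega)
  rw [h2] at h1 hpos
  have h3 := ns_arith (Fintype.card F) Fintype.card_pos s d
  rw [h1] at h3
  exact (Nat.eq_of_mul_eq_mul_left hpos h3).symm

end stab

end Cfsg.Agent.Lib.helper50
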