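import Mathlib
import Cfsg.Agent.Lib.helper50.OrthPlusStab

/-!
# Centralisers of involutions in `O⁺_2m(q)`, `q` even

`card_cent_a`, `card_cent_b`, `card_cent_c`: the orders of the centralisers in the full orthogonal group
of involutions of type `a_s` (`s` even, alternating), `b_s` (`s` odd), `c_s` (`s` even, non-alternating).
-/

set_option autoImplicit false

namespace Cfsg.Agent.Lib.helper50

open Matrix Module Cfsg Cfsg.Agent.Lib.helper17 Cfsg.Agent.Lib.helper49 Cfsg.Agent.S0287

universe u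

section
variable {F : Type u} [Field F] [Fintype F] [CharP F 2]

theorem card_cent_a (s d k : ℕ) (hk : s = 2 * k)
    (x : isometryGroup F (quadFormPlus (s + d) F)) (hx : x ^ 2 = 1)
    (hs : (x.1.1 - 1).rank = s)
    (halt : ∀ v, sympForm (s + d) F v (x.1.1 *ᵥ v) = 0) :
    Nat.card (Subgroup.centralizer ({x} : Set (isometryGroup F (quadFormPlus (s + d) F))))
      = spOrd (Fintype.card F) k
        * (Fintype.card F ^ (tri s + 2 * s * d) * oP (Fintype.card F) d) := by
  classical
  let e : Fin k ⊕ Fin k ≃ Fin s := Fintype.equivFinOfCardEq (by simp [hk, two_mul])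
  obtain ⟨D, hD⟩ := exists_invData (orthToSp (quadFormPlus (s + d) F) plus_hpol x)
    (orth_sq _ plus_hpol x hx) hs e
  rw [orthToSp_coe] at hD
  have hDQ : ∀ v, quadFormPlus (s + d) F (D.N *ᵥ v) = sympForm (s + d) F v (D.N *ᵥ v) :=
    fun v => by rw [hD]; exact orth_Q_N _ plus_hpol x v
  have h1 := orth_card_centralizer (quadFormPlus (s + d) F) (plusForm (s + d) F) rfl plus_hpol D x hD
  have hta : x.1.1 = D.N + 1 := by rw [hD]; simp
  have hog := card_OG_alt k D.Γ D.Γ_det (fun c => by rw [D.quad_val' x.1.1 hta]; exact halt _)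
  have hst := card_oStab_ts (κ := Fin k ⊕ Fin k) (s := s) (d := d) (by simp [hk, two_mul]) D.x
    D.hli D.symp_xx (fun i => by
      change quadFormPlus (s + d) F (D.N *ᵥ D.p i) = 0
      rw [hDQ, hD, Matrix.sub_mulVec, Matrix.one_mulVec, sympForm_sub_right, halt, sympForm_self,
        sub_zero])
  rw [h1, hog, hst]

theorem card_cent_b (k d : ℕ)
    (x : isometryGroup F (quadFormPlus (2 * k + d + 1) F)) (hx : x ^ 2 = 1)
    (hs : (x.1.1 - 1).rank = 2 * k + 1) :
    Nat.card (Subgroup.centralizer ({x} : Set (isometryGroup F (quadFormPlus (2 * k + d + 1) F))))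
      = spOrd (Fintype.card F) k
        * (2 * Fintype.card F ^ (tri (2 * k + 1) + 2 * (2 * k) * d) * spOrd (Fintype.card F) d) := by
  classical
  let e : Unit ⊕ (Fin k ⊕ Fin k) ≃ Fin (2 * k + 1) :=
    Fintype.equivFinOfCardEq (by simp; omega)
  obtain ⟨D₀, hD₀⟩ := exists_invData (orthToSp (quadFormPlus (2 * k + d + 1) F) plus_hpol x)
    (orth_sq _ plus_hpol x hx) hs e
  rw [orthToSp_coe] at hD₀
  obtain ⟨B, hB, hB'⟩ := exists_frame_odd k D₀.Γ D₀.Γ_symm D₀.Γ_det
  have hD : (D₀.transform B hB).N = x.1.1 - 1 := hD₀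
  have hΓ : (D₀.transform B hB).Γ = Matrix.fromBlocks (1 : Matrix Unit Unit F) 0 0 (J (Fin k) F) := by
    rw [InvData.transform_Γ, hB']
  have hDQ : ∀ v, quadFormPlus (2 * k + d + 1) F ((D₀.transform B hB).N *ᵥ v)
      = sympForm (2 * k + d + 1) F v ((D₀.transform B hB).N *ᵥ v) :=
    fun v => by rw [hD]; exact orth_Q_N _ plus_hpol x v
  have h1 := orth_card_centralizer (quadFormPlus (2 * k + d + 1) F) (plusForm (2 * k + d + 1) F) rfl
    plus_hpol (D₀.transform B hB) x hD
  have hog := card_OG_odd k (D₀.transform B hB).Γ (D₀.transform B hB).Γ_symm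
    (D₀.transform B hB).Γ_det
  have hst := card_oStab_ns (κ := Unit ⊕ (Fin k ⊕ Fin k)) (Sum.inl ()) (s := 2 * k) (d := d)
    (by simp; omega) (D₀.transform B hB).x (D₀.transform B hB).hli (D₀.transform B hB).symp_xx
    (fun i => by
      have h2 : quadFormPlus (2 * k + d + 1) F ((D₀.transform B hB).x i)
          = (D₀.transform B hB).Γ i i := by
        change quadFormPlus (2 * k + d + 1) F ((D₀.transform B hB).N *ᵥ (D₀.transform B hB).p i) = _
        rw [hDQ]
        rfl
      rw [h2, hΓ]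
      rcases i with u | a | a
      · simp
      · simp [J_ll]
      · simp [J_rr])
  rw [h1, hog, hst]

theorem card_cent_c (k d : ℕ)
    (x : isometryGroup F (quadFormPlus (2 * k + 1 + d + 1) F)) (hx : x ^ 2 = 1)
    (hs : (x.1.1 - 1).rank = 2 * k + 2)
    (hna : ∃ v, sympForm (2 * k + 1 + d + 1) F v (x.1.1 *ᵥ v) ≠ 0) :
    Nat.card (Subgroup.centralizer
        ({x} : Set (isometryGroup F (quadFormPlus (2 * k + 1 + d + 1) F))))
      = Fintype.card F ^ (2 * k + 1) * spOrd (Fintype.card F) k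
        * (2 * Fintype.card F ^ (tri (2 * k + 1 + 1) + 2 * (2 * k + 1) * d)
          * spOrd (Fintype.card F) d) := by
  classical
  let e : Fin (k + 1) ⊕ Fin (k + 1) ≃ Fin (2 * k + 2) :=
    Fintype.equivFinOfCardEq (by simp; omega)
  obtain ⟨D₀, hD₀⟩ := exists_invData (orthToSp (quadFormPlus (2 * k + 1 + d + 1) F) plus_hpol x)
    (orth_sq _ plus_hpol x hx) hs e
  rw [orthToSp_coe] at hD₀
  have hta₀ : x.1.1 = D₀.N + 1 := by rw [hD₀]; simp
  obtain ⟨B, hB, hB'⟩ := exists_frame_nonalt k D₀.Γ D₀.Γ_symm D₀.Γ_det (by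
    obtain ⟨v, hv⟩ := hna
    obtain ⟨c, hc⟩ := D₀.quad_val x.1.1 hta₀ v
    exact ⟨c, by rw [← hc]; exact hv⟩)
  have hD : (D₀.transform B hB).N = x.1.1 - 1 := hD₀
  have hta : x.1.1 = (D₀.transform B hB).N + 1 := by rw [hD]; simp
  have hΓ : (D₀.transform B hB).Γ = Gc F k := by
    rw [InvData.transform_Γ, hB']
  have hDQ : ∀ v, quadFormPlus (2 * k + 1 + d + 1) F ((D₀.transform B hB).N *ᵥ v)
      = sympForm (2 * k + 1 + d + 1) F v ((D₀.transform B hB).N *ᵥ v) :=
    fun v => by rw [hD]; exact orth_Q_N _ plus_hpol x v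
  have h1 := orth_card_centralizer (quadFormPlus (2 * k + 1 + d + 1) F)
    (plusForm (2 * k + 1 + d + 1) F) rfl plus_hpol (D₀.transform B hB) x hD
  have hog := card_OG_nonalt k (D₀.transform B hB).Γ (D₀.transform B hB).Γ_symm
    (D₀.transform B hB).Γ_det (by
      obtain ⟨v, hv⟩ := hna
      obtain ⟨c, hc⟩ := (D₀.transform B hB).quad_val x.1.1 hta v
      exact ⟨c, by rw [← hc]; exact hv⟩)
  have hst := card_oStab_ns (κ := Fin (k + 1) ⊕ Fin (k + 1)) (Sum.inr 0) (s := 2 * k + 1) (d := d)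
    (by simp; omega) (D₀.transform B hB).x (D₀.transform B hB).hli (D₀.transform B hB).symp_xx
    (fun i => by
      have h2 : quadFormPlus (2 * k + 1 + d + 1) F ((D₀.transform B hB).x i)
          = (D₀.transform B hB).Γ i i := by
        change quadFormPlus (2 * k + 1 + d + 1) F
          ((D₀.transform B hB).N *ᵥ (D₀.transform B hB).p i) = _
        rw [hDQ]
        rfl
      rw [h2, hΓ]
      rcases i with a | a
      · simp [Gc, J_ll]
      · simp only [Gc, Matrix.of_apply, J_rr, J_rl, zero_add]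
        by_cases ha : a = 0
        · simp [ha]
        · simp [ha])
  rw [h1, hog, hst]

end

end Cfsg.Agent.Lib.helper50
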