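import Mathlib
import Cfsg.Agent.S0786
import Cfsg.Agent.S2630
import Cfsg.Agent.Lib.helper42.Dickson2
import Cfsg.Agent.Lib.helper42.FormsNondeg
import Cfsg.Agent.Lib.helper50.OrthPlusCentO
import Cfsg.Agent.Lib.helper49.PlusOmega

/-!
# Centralisers of involutions in `Ω⁺_2m(q)`, `q` even

* `card_cent_ker_of_not_mem`, `card_cent_of_le`: the centraliser in a subgroup of index 2;
* `refl_comm`: a reflection in a fixed nonsingular vector centralises;
* `cent_le_Omega_a`: the centraliser of an involution of type `a_m` lies in `Ω`;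
* `card_centOmega_a0 / _a / _b / _c`: the orders of the centralisers in `Ω`.
-/

set_option autoImplicit false

namespace Cfsg.Agent.Lib.helper50

open Matrix Module Cfsg Cfsg.Agent.Lib.helper17 Cfsg.Agent.Lib.helper49 Cfsg.Agent.Lib.helper42
  Cfsg.Agent.S0287

universe u

section grp

theorem card_cent_ker_of_not_mem {G : Type*} [Group G] [Finite G]
    (φ : G →* Multiplicative (ZMod 2)) (K : Subgroup G) (hK : K = φ.ker) (x c : G)
    (hc : c * x = x * c) (hφ : c ∉ K) :
    2 * Nat.card {g : K // g.1 * x = x * g.1}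
      = Nat.card (Subgroup.centralizer ({x} : Set G)) := by
  subst hK
  let C := Subgroup.centralizer ({x} : Set G)
  have hmemC : ∀ g : G, g ∈ C ↔ g * x = x * g := by
    intro g
    rw [Subgroup.mem_centralizer_iff]
    simp only [Set.mem_singleton_iff, forall_eq]
    exact eq_comm
  let ψ : C →* Multiplicative (ZMod 2) := φ.comp C.subtype
  have e : {g : φ.ker // g.1 * x = x * g.1} ≃ ψ.ker :=
    { toFun := fun g => ⟨⟨g.1.1, (hmemC _).2 g.2⟩, g.1.2⟩
      invFun := fun g => ⟨⟨g.1.1, g.2⟩, (hmemC _).1 g.1.2⟩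
      left_inv := fun g => rfl
      right_inv := fun g => rfl }
  rw [Nat.card_congr e, ← Subgroup.card_mul_index ψ.ker, Subgroup.index_ker, mul_comm]
  congr 1
  have h1 : Nat.card ψ.range ∣ Nat.card (Multiplicative (ZMod 2)) :=
    Subgroup.card_subgroup_dvd_card _
  have h2 : Nat.card (Multiplicative (ZMod 2)) = 2 := by
    rw [Nat.card_eq_fintype_card]; rfl
  rw [h2] at h1
  rcases (Nat.prime_two.eq_one_or_self_of_dvd _ h1) with h3 | h3
  · exfalso
    apply hφ
    rw [MonoidHom.mem_ker]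
    have h4 : ψ.range = ⊥ := (Subgroup.card_eq_one).1 h3
    have h5 : ψ ⟨c, (hmemC c).2 hc⟩ ∈ ψ.range := ⟨_, rfl⟩
    rw [h4, Subgroup.mem_bot] at h5
    exact h5
  · exact h3.symm

theorem card_cent_of_le {G : Type*} [Group G] (K : Subgroup G) (x : G)
    (h : Subgroup.centralizer ({x} : Set G) ≤ K) :
    Nat.card {g : K // g.1 * x = x * g.1} = Nat.card (Subgroup.centralizer ({x} : Set G)) := by
  have hmemC : ∀ g : G, g ∈ Subgroup.centralizer ({x} : Set G) ↔ g * x = x * g := by
    intro g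
    rw [Subgroup.mem_centralizer_iff]
    simp only [Set.mem_singleton_iff, forall_eq]
    exact eq_comm
  exact Nat.card_congr
    { toFun := fun g => ⟨g.1.1, (hmemC _).2 g.2⟩
      invFun := fun g => ⟨⟨g.1, h g.2⟩, (hmemC _).1 g.2⟩
      left_inv := fun g => rfl
      right_inv := fun g => rfl }

end grp

section refl
variable {F : Type u} [Field F] {ι : Type} [Fintype ι] [DecidableEq ι]

theorem refl_comm (Q : QuadraticForm F (ι → F)) (t : isometryGroup F ⇑Q) (u : ι → F)
    (hu : Q u ≠ 0) (htu : t.1.1 *ᵥ u = u) :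
    reflectionIsom Q u hu * t = t * reflectionIsom Q u hu := by
  apply Subtype.ext
  apply Units.ext
  change (reflectionIsom Q u hu).1.1 * t.1.1 = t.1.1 * (reflectionIsom Q u hu).1.1
  rw [reflectionIsom_coe]
  apply mat_ext_of_mulVec
  intro v
  rw [← Matrix.mulVec_mulVec, ← Matrix.mulVec_mulVec, reflectionMatrix_mulVec,
    reflectionMatrix_mulVec, Matrix.mulVec_add, Matrix.mulVec_smul, htu]
  have hQ : ∀ w, Q (t.1.1 *ᵥ w) = Q w := fun w => (mem_isometryGroup_iff (⇑Q) t.1).1 t.2 w
  have hp : QuadraticMap.polar (⇑Q) u (t.1.1 *ᵥ v) = QuadraticMap.polar (⇑Q) u v := by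
    have h1 : QuadraticMap.polar (⇑Q) (t.1.1 *ᵥ u) (t.1.1 *ᵥ v) = QuadraticMap.polar (⇑Q) u v := by
      unfold QuadraticMap.polar
      rw [← Matrix.mulVec_add, hQ, hQ, hQ]
    rw [htu] at h1
    exact h1
  rw [hp]

end refl

section omega
variable {F : Type u} [Field F] [Fintype F] [CharP F 2] {m : ℕ}

/-- the Dickson homomorphism of `O⁺_2m(q)`, `q` even -/
noncomputable def dicksonPlus (m : ℕ) (h : Fintype.card F ≠ 2 ∨ m ≠ 2) :
    isometryGroup F (quadFormPlus m F) →* Multiplicative (ZMod 2) :=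
  dickson (plusForm m F) (plusForm_nondegenerate m)
    (Cfsg.Agent.S0786.reflSubgroup_eq_top' (plusForm m F) (plusForm_nondegenerate m) (by
      rcases h with h | h
      · exact Or.inl h
      · right
        simp only [Fintype.card_sum, Fintype.card_fin]
        omega))

theorem Omega_eq_ker_plus (h : Fintype.card F ≠ 2 ∨ m ≠ 2) :
    Cfsg.Omega F (quadFormPlus m F) = (dicksonPlus m h).ker :=
  Omega_eq_ker_dickson CharTwo.two_eq_zero (plusForm m F) _ _

theorem mem_Omega_plus_iff (h : Fintype.card F ≠ 2 ∨ m ≠ 2)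
    (g : isometryGroup F (quadFormPlus m F)) :
    g ∈ Cfsg.Omega F (quadFormPlus m F) ↔ Even (g.1.1 - 1).rank := by
  rw [Omega_eq_ker_plus h]
  exact mem_ker_dickson_iff (plusForm m F) _ _ g

/-- the reflection in a nonsingular vector, as an element of `O⁺` -/
noncomputable def reflPlus' (u : Fin m ⊕ Fin m → F) (hu : quadFormPlus m F u ≠ 0) :
    isometryGroup F (quadFormPlus m F) :=
  reflectionIsom (plusForm m F) u hu

theorem reflPlus'_not_mem (h : Fintype.card F ≠ 2 ∨ m ≠ 2) (u : Fin m ⊕ Fin m → F)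
    (hu : quadFormPlus m F u ≠ 0) : reflPlus' u hu ∉ Cfsg.Omega F (quadFormPlus m F) := by
  rw [Omega_eq_ker_plus h, MonoidHom.mem_ker]
  have := dickson_refl (plusForm m F) (plusForm_nondegenerate m)
    (Cfsg.Agent.S0786.reflSubgroup_eq_top' (plusForm m F) (plusForm_nondegenerate m) (by
      rcases h with h | h
      · exact Or.inl h
      · right
        simp only [Fintype.card_sum, Fintype.card_fin]
        omega)) u hu
  intro h1
  have h2 : dicksonPlus m h (reflPlus' u hu) = Multiplicative.ofAdd 1 := this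
  rw [h1] at h2
  exact absurd h2 (by decide)

theorem reflPlus'_comm (x : isometryGroup F (quadFormPlus m F)) (u : Fin m ⊕ Fin m → F)
    (hu : quadFormPlus m F u ≠ 0) (hxu : x.1.1 *ᵥ u = u) :
    reflPlus' u hu * x = x * reflPlus' u hu :=
  refl_comm (plusForm m F) x u hu hxu

theorem card_centOmega_of_refl (h : Fintype.card F ≠ 2 ∨ m ≠ 2)
    (x : isometryGroup F (quadFormPlus m F)) (u : Fin m ⊕ Fin m → F)
    (hu : quadFormPlus m F u ≠ 0) (hxu : x.1.1 *ᵥ u = u) :
    2 * Nat.card {g : Cfsg.Omega F (quadFormPlus m F) // g.1 * x = x * g.1}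
      = Nat.card (Subgroup.centralizer ({x} : Set (isometryGroup F (quadFormPlus m F)))) :=
  card_cent_ker_of_not_mem (dicksonPlus m h) _ (Omega_eq_ker_plus h) x (reflPlus' u hu)
    (reflPlus'_comm x u hu hxu) (reflPlus'_not_mem h u hu)

theorem card_centOmega_of_odd (h : Fintype.card F ≠ 2 ∨ m ≠ 2)
    (x : isometryGroup F (quadFormPlus m F)) (hodd : Odd (x.1.1 - 1).rank) :
    2 * Nat.card {g : Cfsg.Omega F (quadFormPlus m F) // g.1 * x = x * g.1}
      = Nat.card (Subgroup.centralizer ({x} : Set (isometryGroup F (quadFormPlus m F)))) :=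
  card_cent_ker_of_not_mem (dicksonPlus m h) _ (Omega_eq_ker_plus h) x x rfl (by
    rw [mem_Omega_plus_iff h]
    exact Nat.not_even_iff_odd.2 hodd)

end omega

end Cfsg.Agent.Lib.helper50
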