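import Mathlib
import Cfsg.Agent.S0786
import Cfsg.Agent.Lib.helper42.Dickson2
import Cfsg.Agent.Lib.helper42.CDTwoB
import Cfsg.Agent.Lib.helper50.MinusTheory
import Cfsg.Agent.Lib.helper50.OrthPlusOmega

/-!
# `Ω⁻_2m(q)`, `q` even: the Dickson invariant and the splitting of involution classes

* `cd_two_of_no_ts2`: Cartan–Dieudonné in characteristic two for forms with no totally singular
  plane (covers `O⁻_4(2)`);
* `minus_refl_top`, `dicksonMinus`, `mem_Omega_minus_iff`;
* `minus_exists_comm_not_mem`, `minus_conj_Omega_of_conj`, `minus_no_split`.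
-/

set_option autoImplicit false

namespace Cfsg.Agent.Lib.helper50

open Matrix Module Cfsg Cfsg.Agent.Lib.helper17 Cfsg.Agent.Lib.helper49 Cfsg.Agent.Lib.helper42

universe u

section cd
variable {ι : Type} [Fintype ι] [DecidableEq ι] {F : Type*} [Field F]

/-- Cartan–Dieudonné in characteristic two when there is no totally singular plane -/
theorem cd_two_of_no_ts2 (Q : QuadraticForm F (ι → F))
    (hQ : (QuadraticMap.polarBilin Q).Nondegenerate)
    (hno : ∀ w w' : ι → F, (∀ a b : F, a • w + b • w' = 0 → a = 0 ∧ b = 0) →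
      ¬ ∀ a b : F, Q (a • w + b • w') = 0) :
    ∀ k : ℕ, ∀ g : isometryGroup F ⇑Q,
      Fintype.card ι ≤ finrank F (fixSub ((g : Matrix.GeneralLinearGroup ι F) : Matrix ι ι F)) + k →
      g ∈ reflSubgroup Q := by
  intro k
  induction k with
  | zero =>
    intro g hg
    have htop : fixSub ((g : Matrix.GeneralLinearGroup ι F) : Matrix ι ι F) = ⊤ := by
      apply Submodule.eq_top_of_finrank_eq
      rw [Module.finrank_fintype_fun_eq_card]
      have := Submodule.finrank_le (fixSub ((g : Matrix.GeneralLinearGroup ι F) : Matrix ι ι F))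
      rw [Module.finrank_fintype_fun_eq_card] at this
      omega
    have : g = 1 := by
      apply Subtype.ext
      apply Units.ext
      rw [Matrix.ext_iff_mulVec]
      intro x
      have hx : x ∈ fixSub ((g : Matrix.GeneralLinearGroup ι F) : Matrix ι ι F) := by
        rw [htop]; trivial
      rw [mem_fixSub] at hx
      rw [hx]; simp
    rw [this]; exact one_mem _
  | succ k ih =>
    intro g hg
    obtain ⟨G, hGdef⟩ : ∃ G : Matrix ι ι F, G = ((g : Matrix.GeneralLinearGroup ι F) : Matrix ι ι F) :=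
      ⟨_, rfl⟩
    have hG : ∀ x, Q (G *ᵥ x) = Q x := by
      rw [hGdef]; exact (mem_isometryGroup_iff _ _).mp g.2
    by_cases hk : Fintype.card ι ≤ finrank F (fixSub G) + k
    · exact ih g (by rw [← hGdef]; exact hk)
    · by_cases h1 : ∃ x, Q (G *ᵥ x - x) ≠ 0
      · obtain ⟨x, hx⟩ := h1
        have hlt := finrank_fixSub_lt Q G hG x hx
        have hmem := ih (reflectionIsom Q _ hx * g) (by
          change Fintype.card ι ≤ finrank F (fixSub (reflectionMatrix ⇑Q (G *ᵥ x - x) *
            ((g : Matrix.GeneralLinearGroup ι F) : Matrix ι ι F))) + k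
          rw [← hGdef] at hg ⊢
          omega)
        have : g = (reflectionIsom Q _ hx)⁻¹ * (reflectionIsom Q _ hx * g) := by
          rw [inv_mul_cancel_left]
        rw [this]
        exact mul_mem (inv_mem (reflectionIsom_mem Q _ hx)) hmem
      · exfalso
        have h1' : ∀ x, Q (G *ᵥ x - x) = 0 := fun x => by
          by_contra h
          exact h1 ⟨x, h⟩
        have hne : ∃ x, G *ᵥ x ≠ x := by
          by_contra hc
          apply hk
          have htop : fixSub G = ⊤ := by
            rw [eq_top_iff]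
            intro x _
            rw [mem_fixSub]
            by_contra hx
            exact hc ⟨x, hx⟩
          rw [htop, finrank_top, Module.finrank_fintype_fun_eq_card]; omega
        obtain ⟨u, hu⟩ := hne
        obtain ⟨w, hw⟩ : ∃ w, w = G *ᵥ u - u := ⟨_, rfl⟩
        have hw0 : w ≠ 0 := fun h => hu (sub_eq_zero.1 (hw ▸ h))
        have hmult : ∀ x, ∃ a : F, G *ᵥ x - x = a • w := by
          intro x
          by_contra hcon
          apply hno w (G *ᵥ x - x)
          · intro a b hab
            by_cases hb : b = 0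
            · subst hb
              rw [zero_smul, add_zero] at hab
              rcases smul_eq_zero.1 hab with h | h
              · exact ⟨h, rfl⟩
              · exact absurd h hw0
            · exfalso
              apply hcon
              refine ⟨-(b⁻¹ * a), ?_⟩
              have h3 : b • (G *ᵥ x - x) = -(a • w) := by
                rw [eq_neg_iff_add_eq_zero, add_comm]; exact hab
              calc G *ᵥ x - x = b⁻¹ • (b • (G *ᵥ x - x)) := by
                    rw [smul_smul, inv_mul_cancel₀ hb, one_smul]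
                _ = -(b⁻¹ * a) • w := by rw [h3, smul_neg, smul_smul, neg_smul]
          · intro a b
            have h3 : a • w + b • (G *ᵥ x - x) = G *ᵥ (a • u + b • x) - (a • u + b • x) := by
              rw [hw, Matrix.mulVec_add, Matrix.mulVec_smul, Matrix.mulVec_smul, smul_sub, smul_sub]
              abel
            rw [h3]
            exact h1' _
        have hQw : Q w = 0 := by rw [hw]; exact h1' u
        have hiso : ∀ x (a : F), G *ᵥ x - x = a • w → a * QuadraticMap.polar ⇑Q x w = 0 := by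
          intro x a hxa
          have e : G *ᵥ x = x + a • w := by rw [← hxa]; abel
          have h3 := hG x
          rw [e] at h3
          have h4 : Q (x + a • w) = Q x + Q (a • w) + QuadraticMap.polar ⇑Q x (a • w) := by
            unfold QuadraticMap.polar; ring
          rw [h4, QuadraticMap.map_smul, hQw, QuadraticMap.polar_smul_right] at h3
          simp only [smul_eq_mul, mul_zero, add_zero] at h3
          linear_combination h3
        have huw : QuadraticMap.polar ⇑Q u w = 0 := by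
          have := hiso u 1 (by rw [one_smul, hw])
          simpa using this
        obtain ⟨y, hy⟩ := exists_polar_ne_zero Q hQ w hw0
        have hy' : QuadraticMap.polar ⇑Q y w ≠ 0 := by
          rw [QuadraticMap.polar_comm]; exact hy
        obtain ⟨a, ha⟩ := hmult y
        have ha0 : a = 0 := by
          have := hiso y a ha
          rcases mul_eq_zero.1 this with h | h
          · exact h
          · exact absurd h hy'
        have hGy : G *ᵥ y = y := by
          rw [ha0, zero_smul] at ha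
          exact sub_eq_zero.1 ha
        have h5 := hiso (u + y) 1 (by
          rw [one_smul, Matrix.mulVec_add, hw, hGy]; abel)
        rw [one_mul, QuadraticMap.polar_add_left, huw, zero_add] at h5
        exact hy' h5

end cd

section minusOmega
variable {F : Type u} [Field F] [Fintype F] [CharP F 2] {k : ℕ}

theorem minusQ'_nondeg (c d : F) (hc : c ≠ 0) :
    (QuadraticMap.polarBilin (minusQ' k c d)).Nondegenerate :=
  polarBilin_nondeg (minusQ' k c d) (minusQ_hpol k c d hc)

/-- the isometry group of the minus-type form is generated by reflections (no exception) -/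
theorem minus_refl_top (c d : F)
    (hcd : ∀ z₁ z₂ : F, z₁ ^ 2 + c * z₁ * z₂ + d * z₂ ^ 2 = 0 → z₁ = 0 ∧ z₂ = 0) :
    reflSubgroup (minusQ' k c d) = ⊤ := by
  obtain ⟨hc, -⟩ := aniso_of_aniso c d hcd
  have hnd := minusQ'_nondeg (k := k) c d hc
  by_cases hk : k = 1
  · subst hk
    rw [eq_top_iff]
    intro g _
    apply cd_two_of_no_ts2 (minusQ' 1 c d) hnd _ (Fintype.card (Fin (1 + 1) ⊕ Fin (1 + 1))) g
      (by omega)
    intro w w' hli hQ
    apply minus_no_ts_frame c d hcd ![w, w']
    · rw [LinearIndependent.pair_iff]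
      exact hli
    · intro a
      rw [Fin.sum_univ_two]
      exact hQ (a 0) (a 1)
  · exact Cfsg.Agent.S0786.reflSubgroup_eq_top' (minusQ' k c d) hnd (Or.inr (by
      simp only [Fintype.card_sum, Fintype.card_fin]
      omega))

/-- the Dickson homomorphism of `O⁻` -/
noncomputable def dicksonMinus (c d : F)
    (hcd : ∀ z₁ z₂ : F, z₁ ^ 2 + c * z₁ * z₂ + d * z₂ ^ 2 = 0 → z₁ = 0 ∧ z₂ = 0) :
    isometryGroup F (minusQ k c d) →* Multiplicative (ZMod 2) :=
  dickson (minusQ' k c d) (minusQ'_nondeg c d (aniso_of_aniso c d hcd).1) (minus_refl_top c d hcd)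

theorem Omega_eq_ker_minus (c d : F)
    (hcd : ∀ z₁ z₂ : F, z₁ ^ 2 + c * z₁ * z₂ + d * z₂ ^ 2 = 0 → z₁ = 0 ∧ z₂ = 0) :
    Cfsg.Omega F (minusQ k c d) = (dicksonMinus (k := k) c d hcd).ker :=
  Omega_eq_ker_dickson CharTwo.two_eq_zero (minusQ' k c d) _ _

theorem mem_Omega_minus_iff (c d : F)
    (hcd : ∀ z₁ z₂ : F, z₁ ^ 2 + c * z₁ * z₂ + d * z₂ ^ 2 = 0 → z₁ = 0 ∧ z₂ = 0)
    (g : isometryGroup F (minusQ k c d)) :
    g ∈ Cfsg.Omega F (minusQ k c d) ↔ Even (g.1.1 - 1).rank := by
  rw [Omega_eq_ker_minus c d hcd]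
  exact mem_ker_dickson_iff (minusQ' k c d) _ _ g

theorem Omega_minus_mul_mem (c d : F)
    (hcd : ∀ z₁ z₂ : F, z₁ ^ 2 + c * z₁ * z₂ + d * z₂ ^ 2 = 0 → z₁ = 0 ∧ z₂ = 0)
    (a b : isometryGroup F (minusQ k c d))
    (ha : a ∉ Cfsg.Omega F (minusQ k c d)) (hb : b ∉ Cfsg.Omega F (minusQ k c d)) :
    a * b ∈ Cfsg.Omega F (minusQ k c d) := by
  rw [Omega_eq_ker_minus c d hcd, MonoidHom.mem_ker] at *
  rw [map_mul]
  have key : ∀ x y : Multiplicative (ZMod 2), x ≠ 1 → y ≠ 1 → x * y = 1 := by decide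
  exact key _ _ ha hb

/-- the reflection in a nonsingular vector -/
noncomputable def reflMinus (c d : F) (u : Fin (k + 1) ⊕ Fin (k + 1) → F)
    (hu : minusQ k c d u ≠ 0) : isometryGroup F (minusQ k c d) :=
  reflectionIsom (minusQ' k c d) u hu

theorem reflMinus_not_mem (c d : F)
    (hcd : ∀ z₁ z₂ : F, z₁ ^ 2 + c * z₁ * z₂ + d * z₂ ^ 2 = 0 → z₁ = 0 ∧ z₂ = 0)
    (u : Fin (k + 1) ⊕ Fin (k + 1) → F) (hu : minusQ k c d u ≠ 0) :
    reflMinus c d u hu ∉ Cfsg.Omega F (minusQ k c d) := by
  rw [Omega_eq_ker_minus c d hcd, MonoidHom.mem_ker]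
  intro h1
  have h2 : dicksonMinus c d hcd (reflMinus c d u hu) = Multiplicative.ofAdd 1 :=
    dickson_refl (minusQ' k c d) _ _ u hu
  rw [h1] at h2
  exact absurd h2 (by decide)

theorem reflMinus_comm (c d : F) (t : isometryGroup F (minusQ k c d))
    (u : Fin (k + 1) ⊕ Fin (k + 1) → F) (hu : minusQ k c d u ≠ 0) (htu : t.1.1 *ᵥ u = u) :
    reflMinus c d u hu * t = t * reflMinus c d u hu :=
  refl_comm (minusQ' k c d) t u hu htu

/-- every involution of `O⁻` is centralised by an element outside `Ω` -/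
theorem minus_exists_comm_not_mem (c d : F)
    (hcd : ∀ z₁ z₂ : F, z₁ ^ 2 + c * z₁ * z₂ + d * z₂ ^ 2 = 0 → z₁ = 0 ∧ z₂ = 0)
    (t : isometryGroup F (minusQ k c d)) (ht : t ^ 2 = 1) :
    ∃ c₀ : isometryGroup F (minusQ k c d), c₀ * t = t * c₀ ∧
      c₀ ∉ Cfsg.Omega F (minusQ k c d) := by
  obtain ⟨hc, -⟩ := aniso_of_aniso c d hcd
  have hpol := minusQ_hpol k c d hc
  by_cases halt : ∀ v, sympForm (k + 1) F v (t.1.1 *ᵥ v) = 0
  · obtain ⟨u, hu, htu⟩ := minus_exists_nonsing_fixed c d hcd t ht halt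
    exact ⟨reflMinus c d u hu, reflMinus_comm c d t u hu htu, reflMinus_not_mem c d hcd u hu⟩
  · obtain ⟨v, hv⟩ := not_forall.1 halt
    rw [orth_val_eq_gen (minusQ k c d) hpol] at hv
    exact ⟨reflMinus c d _ hv,
      reflMinus_comm c d t _ hv (orth_fix_of_sq_gen (minusQ k c d) hpol t ht v),
      reflMinus_not_mem c d hcd _ hv⟩

/-- involutions conjugate in `O⁻` are conjugate under `Ω⁻` (model form) -/
theorem minus_conj_Omega_of_conj (c d : F)
    (hcd : ∀ z₁ z₂ : F, z₁ ^ 2 + c * z₁ * z₂ + d * z₂ ^ 2 = 0 → z₁ = 0 ∧ z₂ = 0)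
    (t s : isometryGroup F (minusQ k c d)) (ht : t ^ 2 = 1) (hconj : IsConj t s) :
    ∃ g ∈ Cfsg.Omega F (minusQ k c d), g * t * g⁻¹ = s := by
  obtain ⟨g, hg⟩ := isConj_iff.1 hconj
  by_cases hgO : g ∈ Cfsg.Omega F (minusQ k c d)
  · exact ⟨g, hgO, hg⟩
  · obtain ⟨c₀, hc₀, hcO⟩ := minus_exists_comm_not_mem c d hcd t ht
    refine ⟨g * c₀, Omega_minus_mul_mem c d hcd g c₀ hgO hcO, ?_⟩
    rw [← hg]
    have h1 : c₀ * t * c₀⁻¹ = t := by rw [hc₀]; group
    calc g * c₀ * t * (g * c₀)⁻¹ = g * (c₀ * t * c₀⁻¹) * g⁻¹ := by group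
      _ = g * t * g⁻¹ := by rw [h1]

/-- involutions conjugate in `O⁻` are conjugate under `Ω⁻` -/
theorem minus_no_split (c d : F)
    (hcd : ∀ z₁ z₂ : F, z₁ ^ 2 + c * z₁ * z₂ + d * z₂ ^ 2 = 0 → z₁ = 0 ∧ z₂ = 0)
    (t s : isometryGroup F (quadFormMinus k F c d)) (ht : t ^ 2 = 1) (hconj : IsConj t s) :
    ∃ g ∈ Cfsg.Omega F (quadFormMinus k F c d), g * t * g⁻¹ = s := by
  obtain ⟨hc, -⟩ := aniso_of_aniso c d hcd
  have h1 := (minusIso k c d hc).toMonoidHom.map_isConj hconj
  obtain ⟨g₂, hg₂, hg⟩ := minus_conj_Omega_of_conj c d hcd (minusIso k c d hc t)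
    (minusIso k c d hc s) (by rw [← map_pow, ht, map_one]) h1
  refine ⟨(minusIso k c d hc).symm g₂, ?_, ?_⟩
  · exact (mem_commutator_iff_of_mulEquiv (minusIso k c d hc).symm g₂).2 hg₂
  · apply (minusIso k c d hc).injective
    rw [map_mul, map_mul, map_inv, MulEquiv.apply_symm_apply]
    exact hg

end minusOmega

end Cfsg.Agent.Lib.helper50
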