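import Mathlib
import Cfsg.Agent.Lib.helper50.OrthPlusOmega

/-!
# Centralisers of involutions in `Ω⁺_2m(q)`, `q` even (continued)

* `cent_le_Omega_a`: the centraliser of an involution of type `a_m` lies in `Ω`;
* `exists_nonsing_fixed`: for type `a_s`, `s < m`, there is a nonsingular fixed vector.
-/

set_option autoImplicit false

namespace Cfsg.Agent.Lib.helper50

open Matrix Module Cfsg Cfsg.Agent.Lib.helper17 Cfsg.Agent.Lib.helper49 Cfsg.Agent.Lib.helper42
  Cfsg.Agent.S0287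

universe u

section
variable {F : Type u} [Field F] [Fintype F] [CharP F 2] {m : ℕ}

theorem sum_single_inl (v : Fin m ⊕ Fin m → F) (hv : v ∈ plusU0 m F) :
    v = ∑ i : Fin m, v (Sum.inl i) • (Pi.single (Sum.inl i) 1 : Fin m ⊕ Fin m → F) := by
  classical
  rw [mem_plusU0] at hv
  funext j
  rw [Finset.sum_apply]
  rcases j with j | j
  · simp [Pi.single_apply]
  · simp [hv j]

theorem sum_single_inl_mem (c : Fin m → F) :
    (∑ i : Fin m, c i • (Pi.single (Sum.inl i) 1 : Fin m ⊕ Fin m → F)) ∈ plusU0 m F := by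
  classical
  rw [mem_plusU0]
  intro j
  rw [Finset.sum_apply]
  simp

theorem cent_le_Omega_a (hm : 1 ≤ m) (h : Fintype.card F ≠ 2 ∨ m ≠ 2)
    (x : isometryGroup F (quadFormPlus m F)) (hx : x ^ 2 = 1) (hs : (x.1.1 - 1).rank = m)
    (halt : ∀ v, sympForm m F v (x.1.1 *ᵥ v) = 0) :
    Subgroup.centralizer ({x} : Set (isometryGroup F (quadFormPlus m F)))
      ≤ Cfsg.Omega F (quadFormPlus m F) := by
  classical
  obtain ⟨D, hD⟩ := exists_invData (orthToSp (quadFormPlus m F) plus_hpol x)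
    (orth_sq _ plus_hpol x hx) hs (Equiv.refl (Fin m))
  rw [orthToSp_coe] at hD
  have hta : x.1.1 = D.N + 1 := by rw [hD]; simp
  have hDQ : ∀ v, quadFormPlus m F (D.N *ᵥ v) = sympForm m F v (D.N *ᵥ v) :=
    fun v => by rw [hD]; exact orth_Q_N _ plus_hpol x v
  have hEli : LinearIndependent F
      (fun i : Fin m => (Pi.single (Sum.inl i) 1 : Fin m ⊕ Fin m → F)) := by
    have h1 := (Pi.basisFun F (Fin m ⊕ Fin m)).linearIndependent.comp Sum.inl Sum.inl_injective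
    have h2 : (⇑(Pi.basisFun F (Fin m ⊕ Fin m)) ∘ Sum.inl)
        = (fun i : Fin m => (Pi.single (Sum.inl i) 1 : Fin m ⊕ Fin m → F)) := by
      funext i
      simp
    rw [h2] at h1
    exact h1
  obtain ⟨h₀, hh₀⟩ : ∃ h₀ : isometryGroup F (quadFormPlus m F),
      ∀ i, h₀.1.1 *ᵥ (Pi.single (Sum.inl i) 1 : Fin m ⊕ Fin m → F) = D.x i :=
    witt_frames (plusForm m F) (plusForm_nondegenerate m) _ D.x hEli D.hli (fun c => by
      rw [plusForm_plusU0 (sum_single_inl_mem c)]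
      have h1 := D.Q_xcomb (quadFormPlus m F) hDQ c
      unfold InvData.xcomb at h1
      have h2 := D.quad_val' x.1.1 hta c
      rw [gform_apply, halt] at h2
      rw [h2] at h1
      exact h1.symm)
  have hcentN : ∀ g : isometryGroup F (quadFormPlus m F),
      g ∈ Subgroup.centralizer ({x} : Set (isometryGroup F (quadFormPlus m F))) →
      g.1.1 * D.N = D.N * g.1.1 := by
    intro g hg
    rw [Subgroup.mem_centralizer_iff] at hg
    have h1 := hg x rfl
    have h2 : x.1.1 * g.1.1 = g.1.1 * x.1.1 :=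
      congrArg (fun z : isometryGroup F (quadFormPlus m F) => z.1.1) h1
    rw [hD, mul_sub, sub_mul, mul_one, one_mul, h2]
  -- the key claim: `h₀⁻¹ g h₀` preserves `U₀`
  have hclaim : ∀ g : isometryGroup F (quadFormPlus m F),
      g ∈ Subgroup.centralizer ({x} : Set (isometryGroup F (quadFormPlus m F))) →
      ∀ v ∈ plusU0 m F, (h₀⁻¹ * g * h₀).1.1 *ᵥ v ∈ plusU0 m F := by
    intro g hg v hv
    have hgN := hcentN g hg
    rw [sum_single_inl v hv, Matrix.mulVec_sum]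
    apply Submodule.sum_mem
    intro i _
    rw [Matrix.mulVec_smul]
    apply Submodule.smul_mem
    change ((h₀⁻¹).1.1 * g.1.1 * h₀.1.1) *ᵥ _ ∈ _
    rw [← Matrix.mulVec_mulVec, ← Matrix.mulVec_mulVec, hh₀ i]
    obtain ⟨c, hc⟩ := D.hspan (g.1.1 *ᵥ D.p i)
    have h1 : g.1.1 *ᵥ D.x i = ∑ j, c j • D.x j := by
      change g.1.1 *ᵥ (D.N *ᵥ D.p i) = _
      rw [Matrix.mulVec_mulVec, hgN, ← Matrix.mulVec_mulVec, hc]
      rfl
    have h2 : (h₀⁻¹).1.1 *ᵥ (g.1.1 *ᵥ D.x i)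
        = ∑ j, c j • (Pi.single (Sum.inl j) 1 : Fin m ⊕ Fin m → F) := by
      rw [h1, Matrix.mulVec_sum]
      refine Finset.sum_congr rfl fun j _ => ?_
      rw [Matrix.mulVec_smul, ← hh₀ j, Matrix.mulVec_mulVec, iso_coe_inv_mul, Matrix.one_mulVec]
    rw [h2]
    exact sum_single_inl_mem c
  intro g hg
  have hg' : h₀⁻¹ * g * h₀ ∈ Cfsg.Omega F (quadFormPlus m F) := by
    rw [← Cfsg.Agent.S2630.result hm h (h₀⁻¹ * g * h₀)]
    have hle : (plusU0 m F).map (Matrix.mulVecLin (h₀⁻¹ * g * h₀).1.1) ≤ plusU0 m F := by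
      rintro _ ⟨v, hv, rfl⟩
      exact hclaim g hg v hv
    have hinj : Function.Injective (Matrix.mulVecLin (h₀⁻¹ * g * h₀).1.1) := by
      intro u v huv
      have h1 : ((h₀⁻¹ * g * h₀)⁻¹).1.1 *ᵥ ((h₀⁻¹ * g * h₀).1.1 *ᵥ u)
          = ((h₀⁻¹ * g * h₀)⁻¹).1.1 *ᵥ ((h₀⁻¹ * g * h₀).1.1 *ᵥ v) := by
        have : (h₀⁻¹ * g * h₀).1.1 *ᵥ u = (h₀⁻¹ * g * h₀).1.1 *ᵥ v := huv
        rw [this]
      rw [Matrix.mulVec_mulVec, Matrix.mulVec_mulVec, iso_coe_inv_mul, Matrix.one_mulVec,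
        Matrix.one_mulVec] at h1
      exact h1
    have hfr : finrank F ((plusU0 m F).map (Matrix.mulVecLin (h₀⁻¹ * g * h₀).1.1)) = m := by
      rw [← (Submodule.equivMapOfInjective _ hinj (plusU0 m F)).finrank_eq, finrank_plusU0]
    have hinf : plusU0 m F ⊓ (plusU0 m F).map (Matrix.mulVecLin (h₀⁻¹ * g * h₀).1.1)
        = (plusU0 m F).map (Matrix.mulVecLin (h₀⁻¹ * g * h₀).1.1) := inf_eq_right.2 hle
    change Even (m - finrank F ↥(plusU0 m F ⊓
      (plusU0 m F).map (Matrix.mulVecLin (h₀⁻¹ * g * h₀).1.1)))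
    rw [hinf, hfr, Nat.sub_self]
    exact Even.zero
  have hnorm : (Cfsg.Omega F (quadFormPlus m F)).Normal := by
    unfold Cfsg.Omega
    infer_instance
  have h3 := hnorm.conj_mem _ hg' h₀
  have h4 : h₀ * (h₀⁻¹ * g * h₀) * h₀⁻¹ = g := by group
  rw [h4] at h3
  exact h3

/-- for an involution of type `a_s` with `s < m` there is a fixed vector of norm 1 -/
theorem exists_nonsing_fixed (s d : ℕ)
    (x : isometryGroup F (quadFormPlus (s + (d + 1)) F)) (hx : x ^ 2 = 1)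
    (hs : (x.1.1 - 1).rank = s)
    (halt : ∀ v, sympForm (s + (d + 1)) F v (x.1.1 *ᵥ v) = 0) :
    ∃ u, quadFormPlus (s + (d + 1)) F u ≠ 0 ∧ x.1.1 *ᵥ u = u := by
  classical
  obtain ⟨D, hD⟩ := exists_invData (orthToSp (quadFormPlus (s + (d + 1)) F) plus_hpol x)
    (orth_sq _ plus_hpol x hx) hs (Equiv.refl (Fin s))
  rw [orthToSp_coe] at hD
  have hDQ : ∀ v, quadFormPlus (s + (d + 1)) F (D.N *ᵥ v)
      = sympForm (s + (d + 1)) F v (D.N *ᵥ v) :=
    fun v => by rw [hD]; exact orth_Q_N _ plus_hpol x v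
  have hcount := QSpace.card_perp_rep 0 ({0, 1} : Set F) (aP F (Fintype.card F))
    (fun k c _ => aP_rec _ Fintype.card_pos k c) s (d + 1) (Fin (s + (d + 1)) ⊕ Fin (s + (d + 1)) → F)
    (plusQS (s + (d + 1)) F) plusQS_nondeg (by simp; omega)
    (by
      intro c hc
      rw [plusQS_inv c hc, add_comm]) D.x D.hli D.symp_xx
    (fun i => by
      change quadFormPlus (s + (d + 1)) F (D.N *ᵥ D.p i) = 0
      rw [hDQ, hD, Matrix.sub_mulVec, Matrix.one_mulVec, sympForm_sub_right, halt, sympForm_self,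
        sub_zero]) 1 (by simp)
  have hpos : 0 < Nat.card {v : Fin (s + (d + 1)) ⊕ Fin (s + (d + 1)) → F //
      (∀ i, (plusQS (s + (d + 1)) F).B (D.x i) v = 0) ∧ (plusQS (s + (d + 1)) F).Q v = 1} := by
    rw [hcount]
    apply Nat.mul_pos (pow_pos Fintype.card_pos _)
    have : aP F (Fintype.card F) (d + 1) (1 : F) = bPlus (Fintype.card F) (d + 1) := by
      simp [aP]
    rw [this, bPlus_succ]
    apply Nat.mul_pos (pow_pos Fintype.card_pos _)
    have h2 : 2 ≤ Fintype.card F := Fintype.one_lt_card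
    have : 2 ^ (d + 1) ≤ Fintype.card F ^ (d + 1) := Nat.pow_le_pow_left h2 _
    have : 2 ≤ 2 ^ (d + 1) := by
      calc 2 = 2 ^ 1 := by norm_num
        _ ≤ 2 ^ (d + 1) := Nat.pow_le_pow_right (by norm_num) (by omega)
    omega
  obtain ⟨⟨u, hu1, hu2⟩⟩ := (Nat.card_pos_iff.1 hpos).1
  refine ⟨u, ?_, ?_⟩
  · have : quadFormPlus (s + (d + 1)) F u = 1 := hu2
    rw [this]
    exact one_ne_zero
  · have h1 := D.ker_of_perp u hu1
    rw [hD, Matrix.sub_mulVec, Matrix.one_mulVec, sub_eq_zero] at h1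
    exact h1

end

end Cfsg.Agent.Lib.helper50
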