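import Mathlib
import Cfsg.Agent.Lib.helper50.OrthPlusOmega2

/-!
# Exponent identities for the centraliser orders in `Ω⁺_2m(q)`, and the type conversions
-/

set_option autoImplicit false

namespace Cfsg.Agent.Lib.helper50

open Matrix Module Cfsg Cfsg.Agent.Lib.helper17 Cfsg.Agent.Lib.helper49

universe u

theorem two_tri (s : ℕ) : s * (s - 1) = 2 * tri s := by
  unfold tri
  have h : 2 ∣ s * (s - 1) := (Nat.even_mul_pred_self s).two_dvd
  rw [Nat.mul_div_cancel' h]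

theorem sq_eq_tri (s : ℕ) : s ^ 2 = 2 * tri s + s := by
  rw [← two_tri]
  rcases s with _ | j
  · rfl
  · simp only [Nat.add_sub_cancel]
    ring

theorem exp_oa (s d : ℕ) : 2 * (s + d) * s - (3 * s ^ 2 + s) / 2 = tri s + 2 * s * d := by
  have h1 := sq_eq_tri s
  have e1 : 2 * (s + d) * s = 2 * s ^ 2 + 2 * (s * d) := by ring
  have e3 : 2 * s * d = 2 * (s * d) := by ring
  rw [e1, e3, h1]
  generalize tri s = T
  generalize s * d = R
  omega

theorem exp_ob (k d : ℕ) :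
    2 * (2 * k + d + 1) * (2 * k + 1 - 1) - (3 * (2 * k + 1) ^ 2 - 3 * (2 * k + 1)) / 2
      = tri (2 * k + 1) + 2 * (2 * k) * d := by
  have h1 := sq_eq_tri (2 * k + 1)
  have e1 : 2 * (2 * k + d + 1) * (2 * k + 1 - 1) = 2 * (2 * k + 1) ^ 2 - 2 * (2 * k + 1)
      + 4 * (k * d) := by
    simp only [Nat.add_sub_cancel]
    have : 2 * (2 * k + 1) ^ 2 - 2 * (2 * k + 1) = 8 * k ^ 2 + 4 * k := by
      apply Nat.sub_eq_of_eq_add; ring
    rw [this]; ring
  have e3 : 2 * (2 * k) * d = 4 * (k * d) := by ring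
  rw [e1, e3, h1]
  generalize tri (2 * k + 1) = T
  generalize k * d = R
  omega

theorem exp_oc (k d : ℕ) :
    2 * (2 * k + 1 + d + 1) * (2 * k + 2 - 1) - (3 * (2 * k + 2) ^ 2 - 5 * (2 * k + 2)) / 2 - 1
      = (2 * k + 1) + (tri (2 * k + 1 + 1) + 2 * (2 * k + 1) * d) := by
  have h1 := sq_eq_tri (2 * k + 1 + 1)
  have e1 : 2 * (2 * k + 1 + d + 1) * (2 * k + 2 - 1) = 8 * k ^ 2 + 12 * k + 4
      + 4 * (k * d) + 2 * d := by
    have : 2 * k + 2 - 1 = 2 * k + 1 := by omega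
    rw [this]; ring
  have e2 : (2 * k + 2) ^ 2 = 4 * k ^ 2 + 8 * k + 4 := by ring
  have e4 : (2 * k + 1 + 1) ^ 2 = 4 * k ^ 2 + 8 * k + 4 := by ring
  have e3 : 2 * (2 * k + 1) * d = 4 * (k * d) + 2 * d := by ring
  rw [e4] at h1
  rw [e1, e3, e2]
  generalize tri (2 * k + 1 + 1) = T at h1 ⊢
  generalize k * d = R
  generalize k ^ 2 = K2 at h1 ⊢
  omega

section conv
variable {F : Type u} [Field F] [Fintype F] [CharP F 2] {m : ℕ}

/-- `ω(v, x v) = Q((x - 1) v)` for an isometry `x` -/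
theorem orth_val_eq (x : isometryGroup F (quadFormPlus m F)) (v : Fin m ⊕ Fin m → F) :
    sympForm m F v (x.1.1 *ᵥ v) = quadFormPlus m F ((x.1.1 - 1) *ᵥ v) := by
  rw [orth_Q_N (quadFormPlus m F) plus_hpol x v, Matrix.sub_mulVec, Matrix.one_mulVec,
    sympForm_sub_right, sympForm_self, sub_zero]

theorem orth_fix_of_sq (x : isometryGroup F (quadFormPlus m F)) (hx : x ^ 2 = 1)
    (v : Fin m ⊕ Fin m → F) : x.1.1 *ᵥ ((x.1.1 - 1) *ᵥ v) = (x.1.1 - 1) *ᵥ v := by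
  have h1 := inv_NN (orthToSp (quadFormPlus m F) plus_hpol x) (orth_sq _ plus_hpol x hx)
  rw [orthToSp_coe] at h1
  have h2 : (x.1.1 - 1) *ᵥ ((x.1.1 - 1) *ᵥ v) = 0 := by
    rw [Matrix.mulVec_mulVec, h1, Matrix.zero_mulVec]
  rw [Matrix.sub_mulVec (x.1.1) 1 ((x.1.1 - 1) *ᵥ v), Matrix.one_mulVec, sub_eq_zero] at h2
  exact h2

theorem orth_rank_le (x : isometryGroup F (quadFormPlus m F)) (hx : x ^ 2 = 1) :
    (x.1.1 - 1).rank ≤ m := by
  have := rank_le (orthToSp (quadFormPlus m F) plus_hpol x) (orth_sq _ plus_hpol x hx)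
  rw [orthToSp_coe] at this
  exact this

end conv

end Cfsg.Agent.Lib.helper50
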