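import Mathlib
import Cfsg.Agent.Lib.helper50.OrthPlusArith

/-!
# Splitting of the involution classes of `O⁺_2m(q)` in `Ω⁺_2m(q)`, `q` even
-/

set_option autoImplicit false

namespace Cfsg.Agent.Lib.helper50

open Matrix Module Cfsg Cfsg.Agent.Lib.helper17 Cfsg.Agent.Lib.helper49 Cfsg.Agent.Lib.helper42

universe u

section
variable {F : Type u} [Field F] [Fintype F] [CharP F 2] {m : ℕ}

theorem Omega_mul_mem (h : Fintype.card F ≠ 2 ∨ m ≠ 2)
    (a b : isometryGroup F (quadFormPlus m F))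
    (ha : a ∉ Cfsg.Omega F (quadFormPlus m F)) (hb : b ∉ Cfsg.Omega F (quadFormPlus m F)) :
    a * b ∈ Cfsg.Omega F (quadFormPlus m F) := by
  rw [Omega_eq_ker_plus h, MonoidHom.mem_ker] at *
  rw [map_mul]
  have key : ∀ x y : Multiplicative (ZMod 2), x ≠ 1 → y ≠ 1 → x * y = 1 := by decide
  exact key _ _ ha hb

theorem Omega_mul_mem_iff (h : Fintype.card F ≠ 2 ∨ m ≠ 2)
    (a b : isometryGroup F (quadFormPlus m F)) :
    a * b ∈ Cfsg.Omega F (quadFormPlus m F)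
      ↔ (a ∈ Cfsg.Omega F (quadFormPlus m F) ↔ b ∈ Cfsg.Omega F (quadFormPlus m F)) := by
  rw [Omega_eq_ker_plus h]
  simp only [MonoidHom.mem_ker, map_mul]
  have key : ∀ x y : Multiplicative (ZMod 2), x * y = 1 ↔ (x = 1 ↔ y = 1) := by decide
  exact key _ _

/-- an involution not of type `a_m` is centralised by an element outside `Ω` -/
theorem exists_comm_not_mem (h : Fintype.card F ≠ 2 ∨ m ≠ 2)
    (x : isometryGroup F (quadFormPlus m F)) (hx : x ^ 2 = 1)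
    (hne : ¬ ((x.1.1 - 1).rank = m ∧ ∀ v, sympForm m F v (x.1.1 *ᵥ v) = 0)) :
    ∃ c : isometryGroup F (quadFormPlus m F), c * x = x * c ∧
      c ∉ Cfsg.Omega F (quadFormPlus m F) := by
  by_cases halt : ∀ v, sympForm m F v (x.1.1 *ᵥ v) = 0
  · have hr : (x.1.1 - 1).rank ≠ m := fun hr => hne ⟨hr, halt⟩
    have hle := orth_rank_le x hx
    obtain ⟨d, hd⟩ : ∃ d, m = (x.1.1 - 1).rank + (d + 1) :=
      ⟨m - (x.1.1 - 1).rank - 1, by omega⟩
    generalize hs : (x.1.1 - 1).rank = s at hd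
    subst hd
    obtain ⟨u, hu, hxu⟩ := exists_nonsing_fixed s d x hx hs halt
    exact ⟨reflPlus' u hu, reflPlus'_comm x u hu hxu, reflPlus'_not_mem h u hu⟩
  · obtain ⟨v, hv⟩ := not_forall.1 halt
    rw [orth_val_eq] at hv
    exact ⟨reflPlus' _ hv, reflPlus'_comm x _ hv (orth_fix_of_sq x hx v),
      reflPlus'_not_mem h _ hv⟩

/-- involutions not of type `a_m` that are conjugate in `O` are conjugate under `Ω` -/
theorem conj_Omega_of_conj (h : Fintype.card F ≠ 2 ∨ m ≠ 2)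
    (t s : isometryGroup F (quadFormPlus m F)) (ht : t ^ 2 = 1)
    (hne : ¬ ((t.1.1 - 1).rank = m ∧ ∀ v, sympForm m F v (t.1.1 *ᵥ v) = 0))
    (hconj : IsConj t s) :
    ∃ g ∈ Cfsg.Omega F (quadFormPlus m F), g * t * g⁻¹ = s := by
  obtain ⟨g, hg⟩ := isConj_iff.1 hconj
  by_cases hgO : g ∈ Cfsg.Omega F (quadFormPlus m F)
  · exact ⟨g, hgO, hg⟩
  · obtain ⟨c, hc, hcO⟩ := exists_comm_not_mem h t ht hne
    refine ⟨g * c, Omega_mul_mem h g c hgO hcO, ?_⟩
    rw [← hg]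
    have h1 : c * t * c⁻¹ = t := by rw [hc]; group
    calc g * c * t * (g * c)⁻¹ = g * (c * t * c⁻¹) * g⁻¹ := by group
      _ = g * t * g⁻¹ := by rw [h1]

/-- the image of `t - 1`, `t` an involution of type `a_m`, is the image of `U₀` under an
isometry -/
theorem exists_map_U0 (x : isometryGroup F (quadFormPlus m F)) (hx : x ^ 2 = 1)
    (hs : (x.1.1 - 1).rank = m) (halt : ∀ v, sympForm m F v (x.1.1 *ᵥ v) = 0) :
    ∃ h₀ : isometryGroup F (quadFormPlus m F),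
      (plusU0 m F).map (Matrix.mulVecLin h₀.1.1)
        = LinearMap.range (Matrix.toLin' (x.1.1 - 1)) := by
  classical
  obtain ⟨D, hD⟩ := exists_invData (orthToSp (quadFormPlus m F) plus_hpol x)
    (orth_sq _ plus_hpol x hx) hs (Equiv.refl (Fin m))
  rw [orthToSp_coe] at hD
  have hta : x.1.1 = D.N + 1 := by rw [hD]; simp
  have hDQ : ∀ v, quadFormPlus m F (D.N *ᵥ v) = sympForm m F v (D.N *ᵥ v) :=
    fun v => by rw [hD]; exact orth_Q_N _ plus_hpol x v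
  have hEli : LinearIndependent F
      (fun i : Fin m => (Pi.single (Sum.inl i) 1 : Fin m ⊕ Fin m → F)) := by
    have h1 := (Pi.basisFun F (Fin m ⊕ Fin m)).linearIndependent.comp Sum.inl Sum.inl_injective
    have h2 : (⇑(Pi.basisFun F (Fin m ⊕ Fin m)) ∘ Sum.inl)
        = (fun i : Fin m => (Pi.single (Sum.inl i) 1 : Fin m ⊕ Fin m → F)) := by
      funext i
      simp
    rw [h2] at h1
    exact h1
  obtain ⟨h₀, hh₀⟩ : ∃ h₀ : isometryGroup F (quadFormPlus m F),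
      ∀ i, h₀.1.1 *ᵥ (Pi.single (Sum.inl i) 1 : Fin m ⊕ Fin m → F) = D.x i :=
    witt_frames (plusForm m F) (plusForm_nondegenerate m) _ D.x hEli D.hli (fun c => by
      rw [plusForm_plusU0 (sum_single_inl_mem c)]
      have h1 := D.Q_xcomb (quadFormPlus m F) hDQ c
      unfold InvData.xcomb at h1
      have h2 := D.quad_val' x.1.1 hta c
      rw [gform_apply, halt] at h2
      rw [h2] at h1
      exact h1.symm)
  refine ⟨h₀, ?_⟩
  rw [← hD]
  apply le_antisymm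
  · rintro _ ⟨v, hv, rfl⟩
    rw [sum_single_inl v hv]
    refine ⟨∑ i, v (Sum.inl i) • D.p i, ?_⟩
    rw [Matrix.toLin'_apply, Matrix.mulVecLin_apply, Matrix.mulVec_sum, Matrix.mulVec_sum]
    refine Finset.sum_congr rfl fun i _ => ?_
    rw [Matrix.mulVec_smul, Matrix.mulVec_smul, hh₀ i]
    rfl
  · rintro _ ⟨v, rfl⟩
    obtain ⟨c, hc⟩ := D.hspan v
    refine ⟨∑ i, c i • (Pi.single (Sum.inl i) 1 : Fin m ⊕ Fin m → F), sum_single_inl_mem c, ?_⟩
    rw [Matrix.toLin'_apply, hc, Matrix.mulVecLin_apply, Matrix.mulVec_sum]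
    refine Finset.sum_congr rfl fun i _ => ?_
    rw [Matrix.mulVec_smul, hh₀ i]
    rfl

/-- the image of `g t g⁻¹ - 1` is the `g`-image of the image of `t - 1` -/
theorem range_conj (g t : isometryGroup F (quadFormPlus m F)) :
    LinearMap.range (Matrix.toLin' ((g * t * g⁻¹).1.1 - 1))
      = (LinearMap.range (Matrix.toLin' (t.1.1 - 1))).map (Matrix.mulVecLin g.1.1) := by
  have h1 : (g * t * g⁻¹).1.1 - 1 = g.1.1 * (t.1.1 - 1) * (g⁻¹).1.1 := by
    change g.1.1 * t.1.1 * (g⁻¹).1.1 - 1 = _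
    rw [mul_sub, sub_mul, mul_one, iso_coe_mul_inv]
  rw [h1]
  apply le_antisymm
  · rintro _ ⟨v, rfl⟩
    refine ⟨(t.1.1 - 1) *ᵥ ((g⁻¹).1.1 *ᵥ v), ⟨(g⁻¹).1.1 *ᵥ v, ?_⟩, ?_⟩
    · rw [Matrix.toLin'_apply]
    · rw [Matrix.mulVecLin_apply, Matrix.toLin'_apply, Matrix.mulVec_mulVec, Matrix.mulVec_mulVec]
  · rintro _ ⟨_, ⟨v, rfl⟩, rfl⟩
    refine ⟨g.1.1 *ᵥ v, ?_⟩
    rw [Matrix.toLin'_apply, Matrix.toLin'_apply, Matrix.mulVecLin_apply, Matrix.mulVec_mulVec,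
      Matrix.mulVec_mulVec, mul_assoc, mul_assoc, iso_coe_inv_mul, mul_one]

theorem finrank_map_iso (g : isometryGroup F (quadFormPlus m F))
    (W : Submodule F (Fin m ⊕ Fin m → F)) :
    finrank F (W.map (Matrix.mulVecLin g.1.1)) = finrank F W :=
  ((Submodule.equivMapOfInjective _ (isometry_mulVec_injective g) W).finrank_eq).symm

theorem map_map_iso (g k : isometryGroup F (quadFormPlus m F))
    (W : Submodule F (Fin m ⊕ Fin m → F)) :
    (W.map (Matrix.mulVecLin k.1.1)).map (Matrix.mulVecLin g.1.1)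
      = W.map (Matrix.mulVecLin (g * k).1.1) := by
  rw [← Submodule.map_comp]
  congr 1
  change _ = Matrix.mulVecLin (g.1.1 * k.1.1)
  rw [Matrix.mulVecLin_mul]

theorem map_inf_iso (g : isometryGroup F (quadFormPlus m F))
    (W W' : Submodule F (Fin m ⊕ Fin m → F)) :
    (W ⊓ W').map (Matrix.mulVecLin g.1.1)
      = W.map (Matrix.mulVecLin g.1.1) ⊓ W'.map (Matrix.mulVecLin g.1.1) :=
  Submodule.map_inf _ (isometry_mulVec_injective g)

/-- the parity of `dim (U₀ ∩ im (t - 1))` under conjugation, `t` of type `a_m` -/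
theorem U0_parity_conj (hm : 1 ≤ m) (h : Fintype.card F ≠ 2 ∨ m ≠ 2)
    (t : isometryGroup F (quadFormPlus m F)) (ht : t ^ 2 = 1)
    (hs : (t.1.1 - 1).rank = m) (halt : ∀ v, sympForm m F v (t.1.1 *ᵥ v) = 0)
    (g : isometryGroup F (quadFormPlus m F)) :
    Even (m - finrank F ↥(plusU0 m F ⊓
        LinearMap.range (Matrix.toLin' ((g * t * g⁻¹).1.1 - 1))))
      ↔ (g ∈ Cfsg.Omega F (quadFormPlus m F) ↔ Even (m - finrank F ↥(plusU0 m F ⊓
        LinearMap.range (Matrix.toLin' (t.1.1 - 1))))) := by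
  obtain ⟨h₀, hh₀⟩ := exists_map_U0 t ht hs halt
  rw [range_conj, ← hh₀, map_map_iso]
  have h1 : Even (m - finrank F ↥(plusU0 m F ⊓ (plusU0 m F).map (Matrix.mulVecLin (g * h₀).1.1)))
      ↔ g * h₀ ∈ Cfsg.Omega F (quadFormPlus m F) := Cfsg.Agent.S2630.result hm h (g * h₀)
  have h2 : Even (m - finrank F ↥(plusU0 m F ⊓ (plusU0 m F).map (Matrix.mulVecLin h₀.1.1)))
      ↔ h₀ ∈ Cfsg.Omega F (quadFormPlus m F) := Cfsg.Agent.S2630.result hm h h₀
  rw [h1, h2, Omega_mul_mem_iff h]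

/-- `g ∈ Ω` iff `im (t - 1)` and its `g`-image are in the same family, `t` of type `a_m` -/
theorem inter_parity_conj (hm : 1 ≤ m) (h : Fintype.card F ≠ 2 ∨ m ≠ 2)
    (t : isometryGroup F (quadFormPlus m F)) (ht : t ^ 2 = 1)
    (hs : (t.1.1 - 1).rank = m) (halt : ∀ v, sympForm m F v (t.1.1 *ᵥ v) = 0)
    (g : isometryGroup F (quadFormPlus m F)) :
    Even (m - finrank F ↥(LinearMap.range (Matrix.toLin' (t.1.1 - 1)) ⊓
        LinearMap.range (Matrix.toLin' ((g * t * g⁻¹).1.1 - 1))))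
      ↔ g ∈ Cfsg.Omega F (quadFormPlus m F) := by
  obtain ⟨h₀, hh₀⟩ := exists_map_U0 t ht hs halt
  rw [range_conj, ← hh₀, map_map_iso]
  have h3 : g * h₀ = h₀ * (h₀⁻¹ * g * h₀) := by group
  rw [h3, ← map_map_iso h₀ (h₀⁻¹ * g * h₀), ← map_inf_iso, finrank_map_iso]
  have h1 : Even (m - finrank F ↥(plusU0 m F ⊓
      (plusU0 m F).map (Matrix.mulVecLin (h₀⁻¹ * g * h₀).1.1)))
      ↔ h₀⁻¹ * g * h₀ ∈ Cfsg.Omega F (quadFormPlus m F) :=
    Cfsg.Agent.S2630.result hm h (h₀⁻¹ * g * h₀)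
  rw [h1, Omega_mul_mem_iff h, Omega_mul_mem_iff h, inv_mem_iff]
  tauto

/-- for `t` of type `a_m`: `g t g⁻¹` is `Ω`-conjugate to `t` iff `g ∈ Ω` -/
theorem conj_Omega_iff_a (hm : 1 ≤ m) (h : Fintype.card F ≠ 2 ∨ m ≠ 2)
    (t : isometryGroup F (quadFormPlus m F)) (ht : t ^ 2 = 1)
    (hs : (t.1.1 - 1).rank = m) (halt : ∀ v, sympForm m F v (t.1.1 *ᵥ v) = 0)
    (g : isometryGroup F (quadFormPlus m F)) :
    (∃ g' ∈ Cfsg.Omega F (quadFormPlus m F), g' * t * g'⁻¹ = g * t * g⁻¹)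
      ↔ g ∈ Cfsg.Omega F (quadFormPlus m F) := by
  constructor
  · rintro ⟨g', hg', hgg⟩
    have hc : g'⁻¹ * g ∈ Subgroup.centralizer ({t} : Set (isometryGroup F (quadFormPlus m F))) := by
      rw [Subgroup.mem_centralizer_iff]
      intro y hy
      rw [Set.mem_singleton_iff] at hy
      subst hy
      have h1 : y = g'⁻¹ * (g * y * g⁻¹) * g' := by rw [← hgg]; group
      calc y * (g'⁻¹ * g) = g'⁻¹ * (g * y * g⁻¹) * g' * (g'⁻¹ * g) := by rw [← h1]
        _ = g'⁻¹ * g * y := by group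
    have h2 := cent_le_Omega_a hm h t ht hs halt hc
    have h3 : g = g' * (g'⁻¹ * g) := by group
    rw [h3]
    exact mul_mem hg' h2
  · intro hg
    exact ⟨g, hg, rfl⟩

end

end Cfsg.Agent.Lib.helper50
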