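import Mathlib
import Cfsg.Agent.Lib.helper50.OrthPlusSplit
import Cfsg.Agent.Lib.helper50.InvOrthReps

/-!
# The classes of involutions of `Ω⁺_2m(q)`, `q` even: invariants and representatives
-/

set_option autoImplicit false

namespace Cfsg.Agent.Lib.helper50

open Matrix Module Cfsg Cfsg.Agent.Lib.helper17 Cfsg.Agent.Lib.helper49 Cfsg.Agent.Lib.helper42

universe u

section
variable {F : Type u} [Field F] [Fintype F] [CharP F 2] {m : ℕ}

/-- the involution is of "alternating" type -/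
def isAlt (g : isometryGroup F (quadFormPlus m F)) : Prop :=
  ∀ v, sympForm m F v (g.1.1 *ᵥ v) = 0

/-- the parity of the family of the image of `g - 1` -/
def famPar (g : isometryGroup F (quadFormPlus m F)) : Prop :=
  Even (m - finrank F ↥(plusU0 m F ⊓ LinearMap.range (Matrix.toLin' (g.1.1 - 1))))

/-- the class invariant of an involution of `Ω⁺` -/
noncomputable def invI (g : isometryGroup F (quadFormPlus m F)) : ℕ × Prop × Prop :=
  ((g.1.1 - 1).rank, isAlt g, g ^ 2 = 1 ∧ (g.1.1 - 1).rank = m ∧ isAlt g ∧ famPar g)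

theorem invI_eq_iff (a b : isometryGroup F (quadFormPlus m F)) :
    invI a = invI b ↔ ((a.1.1 - 1).rank = (b.1.1 - 1).rank ∧ (isAlt a ↔ isAlt b) ∧
      ((a ^ 2 = 1 ∧ (a.1.1 - 1).rank = m ∧ isAlt a ∧ famPar a)
        ↔ (b ^ 2 = 1 ∧ (b.1.1 - 1).rank = m ∧ isAlt b ∧ famPar b))) := by
  constructor
  · intro h
    have h1 := congrArg Prod.fst h
    have h2 := congrArg (fun z => z.2.1) h
    have h3 := congrArg (fun z => z.2.2) h
    simp only [invI] at h1 h2 h3
    exact ⟨h1, by rw [h2], by rw [h3]⟩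
  · rintro ⟨h1, h2, h3⟩
    exact Prod.ext h1 (Prod.ext (propext h2) (propext h3))

theorem orth_rank_conj (g a : isometryGroup F (quadFormPlus m F)) :
    ((g * a * g⁻¹).1.1 - 1).rank = (a.1.1 - 1).rank := by
  have h1 : ((g * a * g⁻¹).1.1 - 1).rank
      = finrank F ↥(LinearMap.range (Matrix.toLin' ((g * a * g⁻¹).1.1 - 1))) := rfl
  rw [h1, range_conj, finrank_map_iso]
  rfl

theorem isAlt_iff (a : isometryGroup F (quadFormPlus m F)) :
    isAlt a ↔ ∀ v, quadFormPlus m F ((a.1.1 - 1) *ᵥ v) = 0 := by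
  unfold isAlt
  constructor
  · intro h v
    rw [← orth_val_eq]; exact h v
  · intro h v
    rw [orth_val_eq]; exact h v

theorem isAlt_conj (g a : isometryGroup F (quadFormPlus m F)) :
    isAlt (g * a * g⁻¹) ↔ isAlt a := by
  rw [isAlt_iff, isAlt_iff]
  have h1 : (g * a * g⁻¹).1.1 - 1 = g.1.1 * (a.1.1 - 1) * (g⁻¹).1.1 := by
    change g.1.1 * a.1.1 * (g⁻¹).1.1 - 1 = _
    rw [mul_sub, sub_mul, mul_one, iso_coe_mul_inv]
  rw [h1]
  constructor
  · intro h v
    have h2 := h (g.1.1 *ᵥ v)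
    rw [Matrix.mulVec_mulVec, mul_assoc, iso_coe_inv_mul, mul_one, ← Matrix.mulVec_mulVec,
      orth_Q (quadFormPlus m F) g] at h2
    exact h2
  · intro h v
    rw [mul_assoc, ← Matrix.mulVec_mulVec, orth_Q (quadFormPlus m F) g, ← Matrix.mulVec_mulVec]
    exact h _

theorem sq_conj {G : Type*} [Group G] (g a : G) (ha : a ^ 2 = 1) : (g * a * g⁻¹) ^ 2 = 1 := by
  rw [conj_pow, ha, mul_one, mul_inv_cancel]

theorem sq_of_conj {G : Type*} [Group G] (g a : G) (ha : (g * a * g⁻¹) ^ 2 = 1) : a ^ 2 = 1 := by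
  rw [conj_pow] at ha
  generalize a ^ 2 = b at ha ⊢
  have h1 : b = g⁻¹ * (g * b * g⁻¹) * g := by group
  rw [h1, ha]
  group

theorem invI_conj (hm : 1 ≤ m) (h : Fintype.card F ≠ 2 ∨ m ≠ 2)
    (a c : isometryGroup F (quadFormPlus m F))
    (hc : c ∈ Cfsg.Omega F (quadFormPlus m F)) : invI (c * a * c⁻¹) = invI a := by
  rw [invI_eq_iff, orth_rank_conj, isAlt_conj]
  refine ⟨rfl, Iff.rfl, ?_⟩
  constructor
  · rintro ⟨h1, h2, h3, h4⟩
    have ha := sq_of_conj c a h1
    refine ⟨ha, h2, h3, ?_⟩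
    exact ((U0_parity_conj hm h a ha h2 h3 c).1 h4).1 hc
  · rintro ⟨h1, h2, h3, h4⟩
    refine ⟨sq_conj c a h1, h2, h3, ?_⟩
    exact (U0_parity_conj hm h a h1 h2 h3 c).2 ⟨fun _ => h4, fun _ => hc⟩

theorem conj_of_invI (hm : 1 ≤ m) (h : Fintype.card F ≠ 2 ∨ m ≠ 2)
    (a b : isometryGroup F (quadFormPlus m F)) (ha : a ^ 2 = 1) (hb : b ^ 2 = 1)
    (hI : invI a = invI b) :
    ∃ g ∈ Cfsg.Omega F (quadFormPlus m F), g * a * g⁻¹ = b := by
  rw [invI_eq_iff] at hI
  obtain ⟨hr, halt, h3⟩ := hI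
  have hconj : IsConj a b :=
    orth_isConj_of_same_type (quadFormPlus m F) (plusForm m F) rfl plus_hpol a b ha hb hr
      (fun _ => halt)
  by_cases hne : (a.1.1 - 1).rank = m ∧ ∀ v, sympForm m F v (a.1.1 *ᵥ v) = 0
  · obtain ⟨g, hg⟩ := isConj_iff.1 hconj
    refine ⟨g, ?_, hg⟩
    have h4 := U0_parity_conj hm h a ha hne.1 hne.2 g
    rw [hg] at h4
    have h5 : famPar a ↔ famPar b := by
      constructor
      · intro hf
        exact (h3.1 ⟨ha, hne.1, hne.2, hf⟩).2.2.2
      · intro hf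
        exact (h3.2 ⟨hb, hr ▸ hne.1, halt.1 hne.2, hf⟩).2.2.2
    by_cases hfa : famPar a
    · exact (h4.1 (h5.1 hfa)).2 hfa
    · by_contra hg'
      apply hfa
      apply h5.2
      exact h4.2 ⟨fun hh => absurd hh hg', fun hh => absurd hh hfa⟩
  · exact conj_Omega_of_conj h a b ha hne hconj

end

section reps
variable (F : Type u) [Field F] [Fintype F] [CharP F 2] (m : ℕ)

theorem trep_rev_alt (s : ℕ) (hs : s ≤ m ∧ Even s) (v : Fin m ⊕ Fin m → F) :
    sympForm m F v (trep F (revPerm m s) s *ᵥ v) = 0 :=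
  trep_alt _ _ (revPerm_invol _) (revPerm_lt hs.1) (revPerm_ne hs.1 hs.2) v

/-- the representative of type `a_s` -/
noncomputable def repA (s : ℕ) : isometryGroup F (quadFormPlus m F) := by
  classical
  exact if hs : s ≤ m ∧ Even s then
    orthOfInvol (quadFormPlus m F) (trep F (revPerm m s) s) (trep_sq _ _)
      (fun v => by rw [trep_Q, ← trep_val, trep_rev_alt F m s hs v, add_zero])
  else 1

/-- the representative of type `c_s` (or `b_s`) -/
noncomputable def repC (s : ℕ) : isometryGroup F (quadFormPlus m F) :=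
  orthOfInvol (quadFormPlus m F) (swapMat F m s) swapMat_sq swapMat_Q

variable {F m}

theorem repA_coe (s : ℕ) (hs : s ≤ m ∧ Even s) :
    (repA F m s).1.1 = trep F (revPerm m s) s := by
  unfold repA
  rw [dif_pos hs]
  rfl

theorem repA_sq (s : ℕ) : repA F m s ^ 2 = 1 := by
  by_cases hs : s ≤ m ∧ Even s
  · unfold repA
    rw [dif_pos hs]
    exact orthOfInvol_sq (quadFormPlus m F) (trep F (revPerm m s) s) (trep_sq _ _) _
  · unfold repA
    rw [dif_neg hs]
    exact one_pow 2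

theorem repA_rank (s : ℕ) (hs : s ≤ m ∧ Even s) : ((repA F m s).1.1 - 1).rank = s := by
  rw [repA_coe s hs]
  exact trep_rank _ _ hs.1

theorem repA_alt (s : ℕ) (hs : s ≤ m ∧ Even s) : isAlt (repA F m s) := by
  intro v
  rw [repA_coe s hs]
  exact trep_rev_alt F m s hs v

theorem repA_mem (h : Fintype.card F ≠ 2 ∨ m ≠ 2) (s : ℕ) :
    repA F m s ∈ Cfsg.Omega F (quadFormPlus m F) := by
  by_cases hs : s ≤ m ∧ Even s
  · rw [mem_Omega_plus_iff h, repA_rank s hs]
    exact hs.2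
  · unfold repA
    rw [dif_neg hs]
    exact one_mem _

theorem repC_sq (s : ℕ) : repC F m s ^ 2 = 1 :=
  orthOfInvol_sq (quadFormPlus m F) (swapMat F m s) swapMat_sq swapMat_Q

theorem repC_rank (s : ℕ) (hs : s ≤ m) : ((repC F m s).1.1 - 1).rank = s :=
  swapMat_rank hs

theorem repC_nonalt (s : ℕ) (hs : 1 ≤ s) (hm : 1 ≤ m) : ¬ isAlt (repC F m s) := by
  intro h
  obtain ⟨v, hv⟩ := swapMat_nonalt (F := F) (m := m) (s := s) hs hm
  exact hv (h v)

variable (F m)

/-- representatives of the classes of involutions of `Ω⁺_2m(q)` -/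
noncomputable def repO :
    (Fin (m / 2) ⊕ Fin (m / 2)) ⊕ {_u : Unit // Even m} → isometryGroup F (quadFormPlus m F)
  | Sum.inl (Sum.inl j) => repA F m (2 * (j.val + 1))
  | Sum.inl (Sum.inr j) => repC F m (2 * (j.val + 1))
  | Sum.inr _ => repC F m 1 * repA F m m * (repC F m 1)⁻¹

variable {F m}

theorem repO_sq (x : (Fin (m / 2) ⊕ Fin (m / 2)) ⊕ {_u : Unit // Even m}) :
    repO F m x ^ 2 = 1 := by
  rcases x with (j | j) | u
  · exact repA_sq _
  · exact repC_sq _
  · exact sq_conj _ _ (repA_sq _)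

theorem repO_mem (h : Fintype.card F ≠ 2 ∨ m ≠ 2)
    (x : (Fin (m / 2) ⊕ Fin (m / 2)) ⊕ {_u : Unit // Even m}) :
    repO F m x ∈ Cfsg.Omega F (quadFormPlus m F) := by
  rcases x with (j | j) | u
  · exact repA_mem h _
  · change repC F m (2 * (j.val + 1)) ∈ _
    rw [mem_Omega_plus_iff h, repC_rank _ (by have := j.2; omega)]
    exact even_two_mul _
  · have hnorm : (Cfsg.Omega F (quadFormPlus m F)).Normal := by
      unfold Cfsg.Omega
      infer_instance
    exact hnorm.conj_mem _ (repA_mem h m) _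

theorem repO_rank (x : (Fin (m / 2) ⊕ Fin (m / 2)) ⊕ {_u : Unit // Even m}) :
    ((repO F m x).1.1 - 1).rank = match x with
      | Sum.inl (Sum.inl j) => 2 * (j.val + 1)
      | Sum.inl (Sum.inr j) => 2 * (j.val + 1)
      | Sum.inr _ => m := by
  rcases x with (j | j) | u
  · exact repA_rank _ ⟨by have := j.2; omega, even_two_mul _⟩
  · exact repC_rank _ (by have := j.2; omega)
  · change ((repC F m 1 * repA F m m * (repC F m 1)⁻¹).1.1 - 1).rank = m
    rw [orth_rank_conj]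
    exact repA_rank _ ⟨le_rfl, u.2⟩

theorem repO_ne_one (hm : 1 ≤ m) (x : (Fin (m / 2) ⊕ Fin (m / 2)) ⊕ {_u : Unit // Even m}) :
    repO F m x ≠ 1 := by
  intro h
  have h0 : ((repO F m x).1.1 - 1).rank = 0 := by
    rw [h]
    change ((1 : Matrix (Fin m ⊕ Fin m) (Fin m ⊕ Fin m) F) - 1).rank = 0
    rw [sub_self, Matrix.rank_zero]
  rw [repO_rank] at h0
  rcases x with (j | j) | u
  · simp at h0
  · simp at h0
  · simp only at h0
    omega

end reps

section count
variable {F : Type u} [Field F] [Fintype F] [CharP F 2] {m : ℕ}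

theorem repC1_not_mem (hm : 1 ≤ m) (h : Fintype.card F ≠ 2 ∨ m ≠ 2) :
    repC F m 1 ∉ Cfsg.Omega F (quadFormPlus m F) := by
  rw [mem_Omega_plus_iff h, repC_rank 1 hm]
  decide

theorem famPar_repA' (hm : 1 ≤ m) (h : Fintype.card F ≠ 2 ∨ m ≠ 2) (hE : Even m) :
    famPar (repC F m 1 * repA F m m * (repC F m 1)⁻¹) ↔ ¬ famPar (repA F m m) := by
  have h0 := U0_parity_conj hm h (repA F m m) (repA_sq m) (repA_rank m ⟨le_rfl, hE⟩)
    (repA_alt m ⟨le_rfl, hE⟩) (repC F m 1)
  unfold famPar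
  rw [h0]
  have hn := repC1_not_mem (F := F) hm h
  constructor
  · intro h1 h2
    exact hn (h1.2 h2)
  · intro h1
    exact ⟨fun h2 => absurd h2 hn, fun h2 => absurd h2 h1⟩

theorem repO_alt (hm : 1 ≤ m) (x : (Fin (m / 2) ⊕ Fin (m / 2)) ⊕ {_u : Unit // Even m}) :
    isAlt (repO F m x) ↔ match x with
      | Sum.inl (Sum.inl _) => True
      | Sum.inl (Sum.inr _) => False
      | Sum.inr _ => True := by
  rcases x with (j | j) | u
  · simp only [iff_true]
    exact repA_alt _ ⟨by have := j.2; omega, even_two_mul _⟩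
  · simp only [iff_false]
    exact repC_nonalt _ (by omega) hm
  · simp only [iff_true]
    exact (isAlt_conj _ _).2 (repA_alt _ ⟨le_rfl, u.2⟩)

theorem repO_inj_aux (hm : 1 ≤ m) (h : Fintype.card F ≠ 2 ∨ m ≠ 2) (j : Fin (m / 2))
    (u : {_u : Unit // Even m})
    (hI : invI (repO F m (Sum.inl (Sum.inl j))) = invI (repO F m (Sum.inr u))) : False := by
  rw [invI_eq_iff] at hI
  obtain ⟨hr, -, h3⟩ := hI
  rw [repO_rank, repO_rank] at hr
  simp only at hr
  have hE := u.2
  have e : repO F m (Sum.inl (Sum.inl j)) = repA F m m := by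
    change repA F m (2 * (j.val + 1)) = _
    rw [hr]
  rw [e] at h3
  have e' : repO F m (Sum.inr u) = repC F m 1 * repA F m m * (repC F m 1)⁻¹ := rfl
  rw [e'] at h3
  have hA := repA_alt (F := F) m ⟨le_rfl, hE⟩
  have hR := repA_rank (F := F) m ⟨le_rfl, hE⟩
  have hf := famPar_repA' (F := F) hm h hE
  by_cases hfa : famPar (repA F m m)
  · exact hf.1 ((h3.1 ⟨repA_sq m, hR, hA, hfa⟩).2.2.2) hfa
  · have := (h3.2 ⟨sq_conj _ _ (repA_sq m), by rw [orth_rank_conj]; exact hR,
      (isAlt_conj _ _).2 hA, hf.2 hfa⟩).2.2.2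
    exact hfa this

theorem repO_inj (hm : 1 ≤ m) (h : Fintype.card F ≠ 2 ∨ m ≠ 2)
    (x y : (Fin (m / 2) ⊕ Fin (m / 2)) ⊕ {_u : Unit // Even m})
    (hI : invI (repO F m x) = invI (repO F m y)) : x = y := by
  have hI' := hI
  rw [invI_eq_iff] at hI
  obtain ⟨hr, halt, -⟩ := hI
  rw [repO_rank, repO_rank] at hr
  rw [repO_alt hm, repO_alt hm] at halt
  rcases x with (j | j) | u <;> rcases y with (j' | j') | u'
  · simp only at hr
    have : j = j' := Fin.ext (by omega)
    rw [this]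
  · simp at halt
  · exact (repO_inj_aux hm h j u' hI').elim
  · simp at halt
  · simp only at hr
    have : j = j' := Fin.ext (by omega)
    rw [this]
  · simp at halt
  · exact (repO_inj_aux hm h j' u hI'.symm).elim
  · simp at halt
  · have : u = u' := Subtype.ext rfl
    rw [this]

theorem repO_surj (hm : 1 ≤ m) (h : Fintype.card F ≠ 2 ∨ m ≠ 2)
    (g : isometryGroup F (quadFormPlus m F)) (hg : g ^ 2 = 1) (hg1 : g ≠ 1)
    (hgO : g ∈ Cfsg.Omega F (quadFormPlus m F)) :
    ∃ x, invI (repO F m x) = invI g := by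
  have hle := orth_rank_le g hg
  have hpos : 1 ≤ (g.1.1 - 1).rank := by
    by_contra h0
    apply hg1
    apply Subtype.ext
    apply Units.ext
    have := eq_zero_of_rank_eq_zero (g.1.1 - 1) (by omega)
    exact sub_eq_zero.1 this
  obtain ⟨k, hk⟩ := (mem_Omega_plus_iff h g).1 hgO
  have hk1 : 1 ≤ k := by omega
  have hkm : k - 1 < m / 2 := by omega
  by_cases halt : isAlt g
  · by_cases hrm : (g.1.1 - 1).rank = m
    · have hE : Even m := ⟨k, by omega⟩
      have e : repO F m (Sum.inl (Sum.inl ⟨k - 1, hkm⟩)) = repA F m m := by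
        change repA F m (2 * (k - 1 + 1)) = _
        congr 1
        omega
      have hA := repA_alt (F := F) m ⟨le_rfl, hE⟩
      have hR := repA_rank (F := F) m ⟨le_rfl, hE⟩
      by_cases hf : famPar g ↔ famPar (repA F m m)
      · refine ⟨Sum.inl (Sum.inl ⟨k - 1, hkm⟩), ?_⟩
        rw [e, invI_eq_iff]
        refine ⟨by rw [hR, hrm], ⟨fun _ => halt, fun _ => hA⟩, ?_⟩
        constructor
        · rintro ⟨_, _, _, h4⟩
          exact ⟨hg, hrm, halt, hf.2 h4⟩
        · rintro ⟨_, _, _, h4⟩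
          exact ⟨repA_sq m, hR, hA, hf.1 h4⟩
      · refine ⟨Sum.inr ⟨(), hE⟩, ?_⟩
        change invI (repC F m 1 * repA F m m * (repC F m 1)⁻¹) = invI g
        have hf' := famPar_repA' (F := F) hm h hE
        rw [invI_eq_iff]
        refine ⟨by rw [orth_rank_conj, hR, hrm],
          ⟨fun _ => halt, fun _ => (isAlt_conj _ _).2 hA⟩, ?_⟩
        constructor
        · rintro ⟨_, _, _, h4⟩
          refine ⟨hg, hrm, halt, ?_⟩
          by_contra hfg
          exact hf ⟨fun h5 => absurd h5 hfg, fun h5 => absurd h5 (hf'.1 h4)⟩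
        · rintro ⟨_, _, _, h4⟩
          refine ⟨sq_conj _ _ (repA_sq m), by rw [orth_rank_conj]; exact hR,
            (isAlt_conj _ _).2 hA, ?_⟩
          apply hf'.2
          intro h5
          exact hf ⟨fun _ => h5, fun _ => h4⟩
    · refine ⟨Sum.inl (Sum.inl ⟨k - 1, hkm⟩), ?_⟩
      have hs : 2 * (k - 1 + 1) ≤ m ∧ Even (2 * (k - 1 + 1)) := ⟨by omega, even_two_mul _⟩
      change invI (repA F m (2 * (k - 1 + 1))) = invI g
      rw [invI_eq_iff]
      have hR := repA_rank (F := F) _ hs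
      refine ⟨by rw [hR]; omega, ⟨fun _ => halt, fun _ => repA_alt _ hs⟩, ?_⟩
      constructor
      · rintro ⟨_, h2, _, _⟩
        rw [hR] at h2
        omega
      · rintro ⟨_, h2, _, _⟩
        exact absurd h2 hrm
  · refine ⟨Sum.inl (Sum.inr ⟨k - 1, hkm⟩), ?_⟩
    change invI (repC F m (2 * (k - 1 + 1))) = invI g
    rw [invI_eq_iff]
    have hR := repC_rank (F := F) (2 * (k - 1 + 1)) (by omega : 2 * (k - 1 + 1) ≤ m)
    have hN := repC_nonalt (F := F) (m := m) (2 * (k - 1 + 1)) (by omega) hm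
    refine ⟨by rw [hR]; omega, ⟨fun h5 => absurd h5 hN, fun h5 => absurd h5 halt⟩, ?_⟩
    constructor
    · rintro ⟨_, _, h3, _⟩
      exact absurd h3 hN
    · rintro ⟨_, _, h3, _⟩
      exact absurd h3 halt

end count

end Cfsg.Agent.Lib.helper50
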