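import Mathlib
import Cfsg.Agent.Lib.helper50.MinusOmega
import Cfsg.Agent.Lib.helper50.OrthPlusSplit2

/-!
# Representatives of the classes of involutions of `O⁻_2m(q)` and `Ω⁻_2m(q)`, `q` even
-/

set_option autoImplicit false

namespace Cfsg.Agent.Lib.helper50

open Matrix Module Cfsg Cfsg.Agent.Lib.helper17 Cfsg.Agent.Lib.helper49 Cfsg.Agent.Lib.helper42

universe u

section mats
variable {F : Type u} [Field F] {k : ℕ}

theorem trep_mulVec_inr {m : ℕ} (σ : Equiv.Perm (Fin m)) (s : ℕ) (v : Fin m ⊕ Fin m → F)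
    (i : Fin m) : (trep F σ s *ᵥ v) (Sum.inr i) = v (Sum.inr i) := by
  simp [trep, Matrix.mulVec, dotProduct, Fintype.sum_sum_type, Matrix.one_apply]

theorem trep_mulVec_inl {m : ℕ} (σ : Equiv.Perm (Fin m)) (s : ℕ) (v : Fin m ⊕ Fin m → F)
    (i : Fin m) : (trep F σ s *ᵥ v) (Sum.inl i)
      = v (Sum.inl i) + (Srep F σ s *ᵥ (fun i => v (Sum.inr i))) i := by
  simp [trep, Matrix.mulVec, dotProduct, Fintype.sum_sum_type, Matrix.one_apply]

variable (F k)

/-- the representative of rank `k + 1`: swap the first `k` hyperbolic pairs, shear the last -/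
def lastMat : Matrix (Fin (k + 1) ⊕ Fin (k + 1)) (Fin (k + 1) ⊕ Fin (k + 1)) F :=
  Matrix.fromBlocks (Matrix.diagonal (fun i => if i.val < k then 0 else 1)) 1
    (Matrix.diagonal (fun i => if i.val < k then 1 else 0))
    (Matrix.diagonal (fun i => if i.val < k then 0 else 1))

variable {F k}

theorem lastMat_mulVec_inl (v : Fin (k + 1) ⊕ Fin (k + 1) → F) (i : Fin (k + 1)) :
    (lastMat F k *ᵥ v) (Sum.inl i)
      = if i.val < k then v (Sum.inr i) else v (Sum.inl i) + v (Sum.inr i) := by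
  simp only [lastMat, Matrix.fromBlocks_mulVec, Sum.elim_inl, Pi.add_apply,
    Matrix.mulVec_diagonal, Matrix.one_mulVec]
  split_ifs <;> simp

theorem lastMat_mulVec_inr (v : Fin (k + 1) ⊕ Fin (k + 1) → F) (i : Fin (k + 1)) :
    (lastMat F k *ᵥ v) (Sum.inr i) = if i.val < k then v (Sum.inl i) else v (Sum.inr i) := by
  simp only [lastMat, Matrix.fromBlocks_mulVec, Sum.elim_inr, Pi.add_apply,
    Matrix.mulVec_diagonal]
  split_ifs <;> simp

theorem lastMat_sq [CharP F 2] : lastMat F k * lastMat F k = 1 := by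
  rw [Matrix.ext_iff_mulVec]
  intro v
  rw [← Matrix.mulVec_mulVec, Matrix.one_mulVec]
  funext u
  rcases u with i | i
  · simp only [lastMat_mulVec_inl, lastMat_mulVec_inr]
    split_ifs with h
    · rfl
    · rw [add_assoc, CharTwo.add_self_eq_zero, add_zero]
  · simp only [lastMat_mulVec_inl, lastMat_mulVec_inr]
    split_ifs <;> rfl

theorem lastMat_minusQ [CharP F 2] (c d : F) (hc : c ≠ 0) (v : Fin (k + 1) ⊕ Fin (k + 1) → F) :
    minusQ k c d (lastMat F k *ᵥ v) = minusQ k c d v := by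
  have h2 : (2 : F) = 0 := CharTwo.two_eq_zero
  rw [minusQ_exp k c d hc, minusQ_exp k c d hc]
  unfold quadFormPlus
  rw [Fin.sum_univ_castSucc, Fin.sum_univ_castSucc]
  simp only [lastMat_mulVec_inl, lastMat_mulVec_inr, Fin.val_castSucc, Fin.is_lt, if_true,
    Fin.val_last, lt_irrefl, if_false]
  have e : ∀ i : Fin k, v (Sum.inr i.castSucc) * v (Sum.inl i.castSucc)
      = v (Sum.inl i.castSucc) * v (Sum.inr i.castSucc) := fun i => mul_comm _ _
  simp only [e]
  linear_combination (v (Sum.inr (Fin.last k)) ^ 2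
    + v (Sum.inl (Fin.last k)) * v (Sum.inr (Fin.last k))) * h2

theorem lastMat_rank [CharP F 2] : (lastMat F k - 1).rank = k + 1 := by
  classical
  have hA : IsUnit (Matrix.fromBlocks (1 : Matrix (Fin (k + 1)) (Fin (k + 1)) F) 0
      (Matrix.diagonal (fun i : Fin (k + 1) => if i.val < k then (1 : F) else 0)) 1).det := by
    rw [Matrix.det_fromBlocks_zero₁₂]
    simp
  have e1 : trep F (1 : Equiv.Perm (Fin (k + 1))) (k + 1) - 1
      = Matrix.fromBlocks 0 (1 : Matrix (Fin (k + 1)) (Fin (k + 1)) F) 0 0 := by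
    ext u v
    have hi : ∀ i : Fin (k + 1), i.val ≤ k := fun i => Nat.lt_succ_iff.1 i.2
    rcases u with i | i <;> rcases v with j | j <;>
      simp [trep, Srep, Matrix.one_apply, eq_comm, hi]
  have e0 : Matrix.diagonal (fun i : Fin (k + 1) => if i.val < k then (0 : F) else 1) - 1
      = Matrix.diagonal (fun i : Fin (k + 1) => if i.val < k then (1 : F) else 0) := by
    rw [← Matrix.diagonal_one, Matrix.diagonal_sub]
    congr 1
    funext i
    split_ifs
    · rw [zero_sub, CharTwo.neg_eq]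
    · rw [sub_self]
  have e2 : lastMat F k - 1 = Matrix.fromBlocks
      (Matrix.diagonal (fun i : Fin (k + 1) => if i.val < k then (1 : F) else 0)) 1
      (Matrix.diagonal (fun i : Fin (k + 1) => if i.val < k then (1 : F) else 0))
      (Matrix.diagonal (fun i : Fin (k + 1) => if i.val < k then (1 : F) else 0)) := by
    have e2' : lastMat F k - 1 = Matrix.fromBlocks
        (Matrix.diagonal (fun i : Fin (k + 1) => if i.val < k then (0 : F) else 1) - 1) 1
        (Matrix.diagonal (fun i : Fin (k + 1) => if i.val < k then (1 : F) else 0))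
        (Matrix.diagonal (fun i : Fin (k + 1) => if i.val < k then (0 : F) else 1) - 1) := by
      ext u v
      rcases u with i | i <;> rcases v with j | j <;>
        simp [lastMat, Matrix.one_apply, Matrix.diagonal_apply]
    rw [e2', e0]
  have e3 : Matrix.diagonal (fun i : Fin (k + 1) => if i.val < k then (1 : F) else 0)
      * Matrix.diagonal (fun i : Fin (k + 1) => if i.val < k then (1 : F) else 0)
      = Matrix.diagonal (fun i : Fin (k + 1) => if i.val < k then (1 : F) else 0) := by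
    rw [Matrix.diagonal_mul_diagonal]
    congr 1
    funext i
    split_ifs <;> simp
  have key : lastMat F k - 1 = Matrix.fromBlocks (1 : Matrix (Fin (k + 1)) (Fin (k + 1)) F) 0
      (Matrix.diagonal (fun i : Fin (k + 1) => if i.val < k then (1 : F) else 0)) 1
      * (trep F (1 : Equiv.Perm (Fin (k + 1))) (k + 1) - 1)
      * Matrix.fromBlocks (1 : Matrix (Fin (k + 1)) (Fin (k + 1)) F) 0
      (Matrix.diagonal (fun i : Fin (k + 1) => if i.val < k then (1 : F) else 0)) 1 := by
    rw [e1, e2, Matrix.fromBlocks_multiply, Matrix.fromBlocks_multiply]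
    simp [e3]
  rw [key, Matrix.rank_mul_eq_left_of_isUnit_det _ _ hA,
    Matrix.rank_mul_eq_right_of_isUnit_det _ _ hA, trep_rank _ _ le_rfl]

theorem lastMat_nonalt :
    ∃ v : Fin (k + 1) ⊕ Fin (k + 1) → F, sympForm (k + 1) F v (lastMat F k *ᵥ v) ≠ 0 := by
  classical
  refine ⟨Pi.single (Sum.inr (Fin.last k)) 1, ?_⟩
  rw [sympForm_eq_sum, Finset.sum_eq_single (Fin.last k)]
  · rw [lastMat_mulVec_inl, lastMat_mulVec_inr]
    simp
  · intro b _ hb
    have : (Sum.inr b : Fin (k + 1) ⊕ Fin (k + 1)) ≠ Sum.inr (Fin.last k) :=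
      fun h => hb (Sum.inr.inj h)
    simp [this]
  · intro h
    exact absurd (Finset.mem_univ _) h

theorem trep_minusQ [CharP F 2] (c d : F) (hc : c ≠ 0) (s : ℕ) (hs : s ≤ k ∧ Even s)
    (v : Fin (k + 1) ⊕ Fin (k + 1) → F) :
    minusQ k c d (trep F (revPerm (k + 1) s) s *ᵥ v) = minusQ k c d v := by
  have h0 : (Srep F (revPerm (k + 1) s) s *ᵥ fun i => v (Sum.inr i)) (Fin.last k) = 0 := by
    simp only [Matrix.mulVec, dotProduct, Srep, Matrix.of_apply]
    apply Finset.sum_eq_zero
    intro j _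
    have hn : ¬ ((Fin.last k).val < s ∧ j = revPerm (k + 1) s (Fin.last k)) := by
      simp only [Fin.val_last]
      omega
    rw [if_neg hn, zero_mul]
  have h1 := trep_alt (F := F) (revPerm (k + 1) s) s (revPerm_invol _)
    (revPerm_lt (by omega : s ≤ k + 1)) (revPerm_ne (by omega : s ≤ k + 1) hs.2) v
  rw [minusQ_exp k c d hc, minusQ_exp k c d hc, trep_Q, ← trep_val, h1, add_zero,
    trep_mulVec_inr, trep_mulVec_inl, h0, add_zero]

theorem swap_minusQ (c d : F) (hc : c ≠ 0) (s : ℕ) (hs : s ≤ k)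
    (v : Fin (k + 1) ⊕ Fin (k + 1) → F) :
    minusQ k c d (swapMat F (k + 1) s *ᵥ v) = minusQ k c d v := by
  have hn : ¬ ((Fin.last k).val < s) := by
    simp only [Fin.val_last]
    omega
  rw [minusQ_exp k c d hc, minusQ_exp k c d hc, swapMat_Q, swapMat_mulVec_inl,
    swapMat_mulVec_inr, if_neg hn, if_neg hn]

end mats

section generic
variable {F : Type u} [Field F] [Fintype F] [CharP F 2] {m : ℕ}

theorem sq_of_orderOf_two {G : Type*} [Monoid G] (g : G) (h : orderOf g = 2) : g ^ 2 = 1 := by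
  have h1 := pow_orderOf_eq_one g
  rw [h] at h1
  exact h1

/-- the class invariant: rank and type -/
noncomputable def mI {Q : (Fin m ⊕ Fin m → F) → F} (g : isometryGroup F Q) : ℕ × Prop :=
  ((g.1.1 - 1).rank, Even (g.1.1 - 1).rank ∧ ∀ v, sympForm m F v (g.1.1 *ᵥ v) = 0)

theorem mI_eq_iff {Q : (Fin m ⊕ Fin m → F) → F} (a b : isometryGroup F Q) :
    mI a = mI b ↔ ((a.1.1 - 1).rank = (b.1.1 - 1).rank ∧
      ((Even (a.1.1 - 1).rank ∧ ∀ v, sympForm m F v (a.1.1 *ᵥ v) = 0) ↔
        (Even (b.1.1 - 1).rank ∧ ∀ v, sympForm m F v (b.1.1 *ᵥ v) = 0))) := by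
  constructor
  · intro h
    have h1 := congrArg Prod.fst h
    have h2 := congrArg Prod.snd h
    simp only [mI] at h1 h2
    exact ⟨h1, by rw [h2]⟩
  · rintro ⟨h1, h2⟩
    exact Prod.ext h1 (propext h2)

theorem mI_of_isConj (Q : (Fin m ⊕ Fin m → F) → F)
    (hpol : ∀ u v, Q (u + v) = Q u + Q v + sympForm m F u v) (a b : isometryGroup F Q)
    (h : IsConj a b) : mI a = mI b := by
  obtain ⟨hr, ht⟩ := orth_type_of_isConj Q hpol a b h
  rw [mI_eq_iff]
  refine ⟨hr, ?_⟩
  rw [hr, ht]

theorem isConj_of_mI (Q : (Fin m ⊕ Fin m → F) → F) (Q' : QuadraticForm F (Fin m ⊕ Fin m → F))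
    (hQ' : ⇑Q' = Q) (hpol : ∀ u v, Q (u + v) = Q u + Q v + sympForm m F u v)
    (a b : isometryGroup F Q) (ha : a ^ 2 = 1) (hb : b ^ 2 = 1) (h : mI a = mI b) :
    IsConj a b := by
  rw [mI_eq_iff] at h
  obtain ⟨hr, h2⟩ := h
  apply orth_isConj_of_same_type Q Q' hQ' hpol a b ha hb hr
  intro he
  constructor
  · intro h
    exact (h2.1 ⟨he, h⟩).2
  · intro h
    exact (h2.2 ⟨hr ▸ he, h⟩).2

end generic

section reps
variable {F : Type u} [Field F] [Fintype F] [CharP F 2] {k : ℕ}

/-- the representative of type `a_s` in `O⁻` -/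
noncomputable def repMA (c d : F) (hc : c ≠ 0) (s : ℕ) : isometryGroup F (minusQ k c d) := by
  classical
  exact if hs : s ≤ k ∧ Even s then
    orthOfInvol (minusQ k c d) (trep F (revPerm (k + 1) s) s) (trep_sq _ _)
      (trep_minusQ c d hc s hs)
  else 1

/-- the representative of non-alternating type of rank `s` in `O⁻` -/
noncomputable def repMN (c d : F) (hc : c ≠ 0) (s : ℕ) : isometryGroup F (minusQ k c d) := by
  classical
  exact if hs : s ≤ k then
    orthOfInvol (minusQ k c d) (swapMat F (k + 1) s) swapMat_sq (swap_minusQ c d hc s hs)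
  else orthOfInvol (minusQ k c d) (lastMat F k) lastMat_sq (lastMat_minusQ c d hc)

theorem repMA_sq (c d : F) (hc : c ≠ 0) (s : ℕ) : repMA (k := k) c d hc s ^ 2 = 1 := by
  unfold repMA
  by_cases hs : s ≤ k ∧ Even s
  · rw [dif_pos hs]
    exact orthOfInvol_sq (minusQ k c d) (trep F (revPerm (k + 1) s) s) (trep_sq _ _) _
  · rw [dif_neg hs]
    exact one_pow 2

theorem repMA_rank (c d : F) (hc : c ≠ 0) (s : ℕ) (hs : s ≤ k ∧ Even s) :
    ((repMA (k := k) c d hc s).1.1 - 1).rank = s := by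
  unfold repMA
  rw [dif_pos hs]
  exact trep_rank _ _ (by omega)

theorem repMA_alt (c d : F) (hc : c ≠ 0) (s : ℕ) (hs : s ≤ k ∧ Even s)
    (v : Fin (k + 1) ⊕ Fin (k + 1) → F) :
    sympForm (k + 1) F v ((repMA (k := k) c d hc s).1.1 *ᵥ v) = 0 := by
  unfold repMA
  rw [dif_pos hs]
  exact trep_rev_alt F (k + 1) s ⟨by omega, hs.2⟩ v

theorem repMN_sq (c d : F) (hc : c ≠ 0) (s : ℕ) : repMN (k := k) c d hc s ^ 2 = 1 := by
  unfold repMN
  by_cases hs : s ≤ k
  · rw [dif_pos hs]
    exact orthOfInvol_sq (minusQ k c d) (swapMat F (k + 1) s) swapMat_sq _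
  · rw [dif_neg hs]
    exact orthOfInvol_sq (minusQ k c d) (lastMat F k) lastMat_sq _

theorem repMN_rank (c d : F) (hc : c ≠ 0) (s : ℕ) (hs : s ≤ k + 1) :
    ((repMN (k := k) c d hc s).1.1 - 1).rank = s := by
  unfold repMN
  by_cases h : s ≤ k
  · rw [dif_pos h]
    exact swapMat_rank (by omega)
  · rw [dif_neg h]
    have hsk : s = k + 1 := by omega
    rw [hsk]
    exact lastMat_rank

theorem repMN_nonalt (c d : F) (hc : c ≠ 0) (s : ℕ) (hs : 1 ≤ s) :
    ¬ ∀ v, sympForm (k + 1) F v ((repMN (k := k) c d hc s).1.1 *ᵥ v) = 0 := by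
  unfold repMN
  by_cases h : s ≤ k
  · rw [dif_pos h]
    intro hh
    obtain ⟨v, hv⟩ := swapMat_nonalt (F := F) (m := k + 1) (s := s) hs (by omega)
    exact hv (hh v)
  · rw [dif_neg h]
    intro hh
    obtain ⟨v, hv⟩ := lastMat_nonalt (F := F) (k := k)
    exact hv (hh v)

/-- representatives of the classes of involutions of `O⁻` -/
noncomputable def repMO (c d : F) (hc : c ≠ 0) :
    Fin (k / 2) ⊕ Fin (k + 1) → isometryGroup F (minusQ k c d)
  | Sum.inl j => repMA c d hc (2 * (j.val + 1))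
  | Sum.inr i => repMN c d hc (i.val + 1)

/-- the number of classes of involutions of `O⁻` (model form) -/
theorem minus_card_inv_classes (c d : F)
    (hcd : ∀ z₁ z₂ : F, z₁ ^ 2 + c * z₁ * z₂ + d * z₂ ^ 2 = 0 → z₁ = 0 ∧ z₂ = 0) :
    Nat.card {C : ConjClasses (isometryGroup F (minusQ k c d)) //
      ∃ g : isometryGroup F (minusQ k c d), ConjClasses.mk g = C ∧ orderOf g = 2}
      = k / 2 + (k + 1) := by
  classical
  obtain ⟨hc, -⟩ := aniso_of_aniso c d hcd
  have hpol := minusQ_hpol k c d hc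
  have hrA : ∀ j : Fin (k / 2), 2 * (j.val + 1) ≤ k ∧ Even (2 * (j.val + 1)) :=
    fun j => ⟨by have := j.2; omega, even_two_mul _⟩
  have hrN : ∀ i : Fin (k + 1), i.val + 1 ≤ k + 1 := fun i => by have := i.2; omega
  have hsq : ∀ x, repMO (k := k) c d hc x ^ 2 = 1 := by
    rintro (j | i)
    · exact repMA_sq c d hc _
    · exact repMN_sq c d hc _
  have hrank : ∀ x, ((repMO (k := k) c d hc x).1.1 - 1).rank
      = Sum.elim (fun j : Fin (k / 2) => 2 * (j.val + 1)) (fun i : Fin (k + 1) => i.val + 1) x := by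
    rintro (j | i)
    · exact repMA_rank c d hc _ (hrA j)
    · exact repMN_rank c d hc _ (hrN i)
  have hne1 : ∀ x, repMO (k := k) c d hc x ≠ 1 := by
    intro x h
    have h0 : ((repMO (k := k) c d hc x).1.1 - 1).rank = 0 := by
      rw [h]
      change ((1 : Matrix (Fin (k + 1) ⊕ Fin (k + 1)) (Fin (k + 1) ⊕ Fin (k + 1)) F) - 1).rank = 0
      rw [sub_self, Matrix.rank_zero]
    rw [hrank] at h0
    rcases x with j | i <;> simp at h0
  have hcount := card_inv_classes_of_reps
    (fun g : isometryGroup F (minusQ k c d) => mI g) (repMO c d hc)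
    (fun x => orderOf_eq_prime (hsq x) (hne1 x))
    (fun a b hab => mI_of_isConj (minusQ k c d) hpol a b hab)
    (fun a b ha hb hab => isConj_of_mI (minusQ k c d) (minusQ' k c d) rfl hpol a b
      (sq_of_orderOf_two a ha) (sq_of_orderOf_two b hb) hab)
    (by
      intro x y hxy
      rw [mI_eq_iff] at hxy
      obtain ⟨hr, h2⟩ := hxy
      rw [hrank, hrank] at hr
      rcases x with j | i <;> rcases y with j' | i'
      · simp only [Sum.elim_inl] at hr
        have : j = j' := Fin.ext (by omega)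
        rw [this]
      · exfalso
        have h3 := h2.1 ⟨by rw [hrank]; exact (hrA j).2, repMA_alt c d hc _ (hrA j)⟩
        exact repMN_nonalt c d hc _ (by omega) h3.2
      · exfalso
        have h3 := h2.2 ⟨by rw [hrank]; exact (hrA j').2, repMA_alt c d hc _ (hrA j')⟩
        exact repMN_nonalt c d hc _ (by omega) h3.2
      · simp only [Sum.elim_inr] at hr
        have : i = i' := Fin.ext (by omega)
        rw [this])
    (by
      intro g hg
      have hg2 : g ^ 2 = 1 := sq_of_orderOf_two g hg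
      have hg1 : g ≠ 1 := by
        rintro rfl
        rw [orderOf_one] at hg
        omega
      have hle := orth_rank_le_gen (minusQ k c d) hpol g hg2
      have hpos : 1 ≤ (g.1.1 - 1).rank := by
        by_contra h0
        apply hg1
        apply Subtype.ext
        apply Units.ext
        have := eq_zero_of_rank_eq_zero (g.1.1 - 1) (by omega)
        exact sub_eq_zero.1 this
      by_cases hcase : Even (g.1.1 - 1).rank ∧ ∀ v, sympForm (k + 1) F v (g.1.1 *ᵥ v) = 0
      · obtain ⟨j, hj⟩ := hcase.1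
        have hlek : (g.1.1 - 1).rank ≤ k := by
          by_contra hlt
          have hs : (g.1.1 - 1).rank = k + 1 := by omega
          obtain ⟨D, -, hDQ⟩ := exists_ts_frame_of_alt (minusQ k c d) hpol g hg2 hcase.2 hs
          exact minus_no_ts_frame c d hcd D.x D.hli hDQ
        have hj1 : 1 ≤ j := by omega
        have hjk : j - 1 < k / 2 := by omega
        refine ⟨Sum.inl ⟨j - 1, hjk⟩, ?_⟩
        rw [mI_eq_iff]
        have hrk : ((repMO (k := k) c d hc (Sum.inl ⟨j - 1, hjk⟩)).1.1 - 1).rank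
            = (g.1.1 - 1).rank := by
          rw [hrank]
          simp only [Sum.elim_inl]
          omega
        refine ⟨hrk, ?_⟩
        rw [hrk]
        exact ⟨fun _ => hcase, fun _ => ⟨hcase.1, repMA_alt c d hc _ (hrA ⟨j - 1, hjk⟩)⟩⟩
      · have hkm : (g.1.1 - 1).rank - 1 < k + 1 := by omega
        refine ⟨Sum.inr ⟨(g.1.1 - 1).rank - 1, hkm⟩, ?_⟩
        rw [mI_eq_iff]
        have hrk : ((repMO (k := k) c d hc (Sum.inr ⟨(g.1.1 - 1).rank - 1, hkm⟩)).1.1 - 1).rank
            = (g.1.1 - 1).rank := by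
          rw [hrank]
          simp only [Sum.elim_inr]
          omega
        refine ⟨hrk, ?_⟩
        constructor
        · intro h
          exact absurd h.2 (repMN_nonalt c d hc _ (by omega))
        · intro h
          exact absurd h hcase)
  rw [hcount]
  simp

/-- the number of classes of involutions of `O⁻` -/
theorem minus_card_inv_classes' (c d : F)
    (hcd : ∀ z₁ z₂ : F, z₁ ^ 2 + c * z₁ * z₂ + d * z₂ ^ 2 = 0 → z₁ = 0 ∧ z₂ = 0) :
    Nat.card {C : ConjClasses (isometryGroup F (quadFormMinus k F c d)) //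
      ∃ g : isometryGroup F (quadFormMinus k F c d), ConjClasses.mk g = C ∧ orderOf g = 2}
      = k / 2 + (k + 1) := by
  obtain ⟨hc, -⟩ := aniso_of_aniso c d hcd
  exact (card_inv_classes_congr (minusIso k c d hc)).trans (minus_card_inv_classes c d hcd)

end reps

end Cfsg.Agent.Lib.helper50
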