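import Mathlib
import Cfsg.Agent.Lib.helper50.MinusReps

/-!
# The number of classes of involutions of `Ω⁻_2m(q)`, `q` even
-/

set_option autoImplicit false

namespace Cfsg.Agent.Lib.helper50

open Matrix Module Cfsg Cfsg.Agent.Lib.helper17 Cfsg.Agent.Lib.helper49 Cfsg.Agent.Lib.helper42

universe u

section reps
variable {F : Type u} [Field F] [Fintype F] [CharP F 2] {k : ℕ}

/-- representatives of the classes of involutions of `Ω⁻` -/
noncomputable def repMΩ (c d : F) (hc : c ≠ 0) :
    Fin (k / 2) ⊕ Fin ((k + 1) / 2) → isometryGroup F (minusQ k c d)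
  | Sum.inl j => repMA c d hc (2 * (j.val + 1))
  | Sum.inr j => repMN c d hc (2 * (j.val + 1))

/-- the number of classes of involutions of `Ω⁻` (model form) -/
theorem minus_card_inv_classes_Omega (c d : F)
    (hcd : ∀ z₁ z₂ : F, z₁ ^ 2 + c * z₁ * z₂ + d * z₂ ^ 2 = 0 → z₁ = 0 ∧ z₂ = 0) :
    Nat.card {C : ConjClasses ↥(Cfsg.Omega F (minusQ k c d)) //
      ∃ g : ↥(Cfsg.Omega F (minusQ k c d)), ConjClasses.mk g = C ∧ orderOf g = 2}
      = k / 2 + (k + 1) / 2 := by
  classical
  obtain ⟨hc, -⟩ := aniso_of_aniso c d hcd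
  have hpol := minusQ_hpol k c d hc
  have hrA : ∀ j : Fin (k / 2), 2 * (j.val + 1) ≤ k ∧ Even (2 * (j.val + 1)) :=
    fun j => ⟨by have := j.2; omega, even_two_mul _⟩
  have hrN : ∀ j : Fin ((k + 1) / 2), 2 * (j.val + 1) ≤ k + 1 := fun j => by
    have := j.2; omega
  have hsq : ∀ x, repMΩ (k := k) c d hc x ^ 2 = 1 := by
    rintro (j | i)
    · exact repMA_sq c d hc _
    · exact repMN_sq c d hc _
  have hrank : ∀ x, ((repMΩ (k := k) c d hc x).1.1 - 1).rank
      = Sum.elim (fun j : Fin (k / 2) => 2 * (j.val + 1))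
          (fun j : Fin ((k + 1) / 2) => 2 * (j.val + 1)) x := by
    rintro (j | i)
    · exact repMA_rank c d hc _ (hrA j)
    · exact repMN_rank c d hc _ (hrN i)
  have hne1 : ∀ x, repMΩ (k := k) c d hc x ≠ 1 := by
    intro x h
    have h0 : ((repMΩ (k := k) c d hc x).1.1 - 1).rank = 0 := by
      rw [h]
      change ((1 : Matrix (Fin (k + 1) ⊕ Fin (k + 1)) (Fin (k + 1) ⊕ Fin (k + 1)) F) - 1).rank = 0
      rw [sub_self, Matrix.rank_zero]
    rw [hrank] at h0
    rcases x with j | i <;> simp at h0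
  have hmem : ∀ x, repMΩ (k := k) c d hc x ∈ Cfsg.Omega F (minusQ k c d) := by
    intro x
    rw [mem_Omega_minus_iff c d hcd, hrank]
    rcases x with j | j <;> exact even_two_mul _
  have hcount := card_inv_classes_of_reps
    (fun g : ↥(Cfsg.Omega F (minusQ k c d)) => mI g.1)
    (fun x => (⟨repMΩ c d hc x, hmem x⟩ : ↥(Cfsg.Omega F (minusQ k c d))))
    (fun x => orderOf_eq_prime (Subtype.ext (hsq x)) (fun h => hne1 x (congrArg Subtype.val h)))
    (by
      intro a b hab
      obtain ⟨c₀, hc₀⟩ := isConj_iff.1 hab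
      have h1 : IsConj a.1 b.1 := isConj_iff.2 ⟨c₀.1, by rw [← hc₀]; rfl⟩
      exact mI_of_isConj (minusQ k c d) hpol a.1 b.1 h1)
    (by
      intro a b ha hb hab
      have ha2 : a.1 ^ 2 = 1 := congrArg Subtype.val (sq_of_orderOf_two a ha)
      have hb2 : b.1 ^ 2 = 1 := congrArg Subtype.val (sq_of_orderOf_two b hb)
      have h1 := isConj_of_mI (minusQ k c d) (minusQ' k c d) rfl hpol a.1 b.1 ha2 hb2 hab
      obtain ⟨g, hg, hgab⟩ := minus_conj_Omega_of_conj c d hcd a.1 b.1 ha2 h1
      rw [isConj_iff]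
      exact ⟨⟨g, hg⟩, Subtype.ext hgab⟩)
    (by
      intro x y hxy
      rw [mI_eq_iff] at hxy
      obtain ⟨hr, h2⟩ := hxy
      rw [hrank, hrank] at hr
      rcases x with j | i <;> rcases y with j' | i'
      · simp only [Sum.elim_inl] at hr
        have : j = j' := Fin.ext (by omega)
        rw [this]
      · exfalso
        have h3 := h2.1 ⟨by rw [hrank]; exact (hrA j).2, repMA_alt c d hc _ (hrA j)⟩
        exact repMN_nonalt c d hc _ (by omega) h3.2
      · exfalso
        have h3 := h2.2 ⟨by rw [hrank]; exact (hrA j').2, repMA_alt c d hc _ (hrA j')⟩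
        exact repMN_nonalt c d hc _ (by omega) h3.2
      · simp only [Sum.elim_inr] at hr
        have : i = i' := Fin.ext (by omega)
        rw [this])
    (by
      intro g hg
      have hg2 : g.1 ^ 2 = 1 := congrArg Subtype.val (sq_of_orderOf_two g hg)
      have hg1 : g.1 ≠ 1 := by
        intro h1
        have : g = 1 := Subtype.ext h1
        rw [this, orderOf_one] at hg
        omega
      have hle := orth_rank_le_gen (minusQ k c d) hpol g.1 hg2
      have hpos : 1 ≤ (g.1.1.1 - 1).rank := by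
        by_contra h0
        apply hg1
        apply Subtype.ext
        apply Units.ext
        have := eq_zero_of_rank_eq_zero (g.1.1.1 - 1) (by omega)
        exact sub_eq_zero.1 this
      have hev : Even (g.1.1.1 - 1).rank := (mem_Omega_minus_iff c d hcd g.1).1 g.2
      obtain ⟨j, hj⟩ := hev
      have hj1 : 1 ≤ j := by omega
      by_cases hcase : ∀ v, sympForm (k + 1) F v (g.1.1.1 *ᵥ v) = 0
      · have hlek : (g.1.1.1 - 1).rank ≤ k := by
          by_contra hlt
          have hs : (g.1.1.1 - 1).rank = k + 1 := by omega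
          obtain ⟨D, -, hDQ⟩ := exists_ts_frame_of_alt (minusQ k c d) hpol g.1 hg2 hcase hs
          exact minus_no_ts_frame c d hcd D.x D.hli hDQ
        have hjk : j - 1 < k / 2 := by omega
        refine ⟨Sum.inl ⟨j - 1, hjk⟩, ?_⟩
        change mI (repMΩ (k := k) c d hc (Sum.inl ⟨j - 1, hjk⟩)) = mI g.1
        rw [mI_eq_iff]
        have hrk : ((repMΩ (k := k) c d hc (Sum.inl ⟨j - 1, hjk⟩)).1.1 - 1).rank
            = (g.1.1.1 - 1).rank := by
          rw [hrank]
          simp only [Sum.elim_inl]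
          omega
        refine ⟨hrk, ?_⟩
        rw [hrk]
        exact ⟨fun h => ⟨h.1, hcase⟩, fun h => ⟨h.1, repMA_alt c d hc _ (hrA ⟨j - 1, hjk⟩)⟩⟩
      · have hjk : j - 1 < (k + 1) / 2 := by omega
        refine ⟨Sum.inr ⟨j - 1, hjk⟩, ?_⟩
        change mI (repMΩ (k := k) c d hc (Sum.inr ⟨j - 1, hjk⟩)) = mI g.1
        rw [mI_eq_iff]
        have hrk : ((repMΩ (k := k) c d hc (Sum.inr ⟨j - 1, hjk⟩)).1.1 - 1).rank
            = (g.1.1.1 - 1).rank := by
          rw [hrank]
          simp only [Sum.elim_inr]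
          omega
        refine ⟨hrk, ?_⟩
        constructor
        · intro h
          exact absurd h.2 (repMN_nonalt c d hc _ (by omega))
        · intro h
          exact absurd h.2 hcase)
  rw [hcount]
  simp

/-- the number of classes of involutions of `Ω⁻` -/
theorem minus_card_inv_classes_Omega' (c d : F)
    (hcd : ∀ z₁ z₂ : F, z₁ ^ 2 + c * z₁ * z₂ + d * z₂ ^ 2 = 0 → z₁ = 0 ∧ z₂ = 0) :
    Nat.card {C : ConjClasses ↥(Cfsg.Omega F (quadFormMinus k F c d)) //
      ∃ g : ↥(Cfsg.Omega F (quadFormMinus k F c d)), ConjClasses.mk g = C ∧ orderOf g = 2}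
      = k / 2 + (k + 1) / 2 := by
  obtain ⟨hc, -⟩ := aniso_of_aniso c d hcd
  exact (card_inv_classes_congr (commEquiv (minusIso k c d hc))).trans
    (minus_card_inv_classes_Omega c d hcd)

end reps

end Cfsg.Agent.Lib.helper50
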