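import Mathlib
import Cfsg.Agent.Lib.helper65.PearlBasic
import Cfsg.Agent.Lib.helper43.PearlD1

/-!
# S5238L piece A1 (`atom_remove`), helper50 racer copy (prefixed `h50_`)
-/

set_option autoImplicit false

namespace Cfsg.Agent.Lib.helper65.PearlPow

open Cfsg.Agent.Lib.helper68

variable {H : Type*} [Group H]

/-- pointwise identity for the step. -/
theorem h50_atom_step_id (a : H) (m : ℕ) (r : ℕ → H) (n : ℕ) :
    ((a ^ (n.choose m))⁻¹ * dl r n)⁻¹ * dl (fun n => (a ^ (n.choose (m + 1)))⁻¹ * r n) n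
      = (dl r n)⁻¹ * com ((a ^ (n.choose m))⁻¹) (r n) * dl r n := by
  unfold dl com
  beta_reduce
  rw [Nat.choose_succ_succ', pow_add]
  generalize a ^ (n.choose m) = P
  generalize a ^ (n.choose (m + 1)) = Q
  group

/-- pointwise identity for the last step: a constant left factor is killed by `dl`. -/
theorem h50_atom_const_id (b : H) (r : ℕ → H) : dl (fun n => b * r n) = dl r := by
  funext n
  unfold dl
  group

/-- the step relation. -/
theorem h50_atom_step_rel {v : ℕ} (hv : 1 ≤ v) (a : H) (m u : ℕ) (ha : a ∈ gam H (m + (u + 1)))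
    {r : ℕ → H} (hr : PolySeq u r) (hu : v ≤ u) :
    Rel (u + 2) (fun n => (a ^ (n.choose m))⁻¹ * dl r n)
      (dl (fun n => (a ^ (n.choose (m + 1)))⁻¹ * r n)) := by
  unfold Rel
  rw [show (fun n => ((a ^ (n.choose m))⁻¹ * dl r n)⁻¹ *
      dl (fun n => (a ^ (n.choose (m + 1)))⁻¹ * r n) n) =
      fun n => (dl r n)⁻¹ * com ((a ^ (n.choose m))⁻¹) (r n) * dl r n from
    funext (h50_atom_step_id a m r)]
  have hA : PolySeq (u + 1) (fun n => a ^ (n.choose m)) := PolySeq.atom m (u + 1) a ha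
  have hc : PolySeq (u + 1 + u) (fun n => com ((a ^ (n.choose m))⁻¹) (r n)) :=
    PolySeq.comm (PolySeq.inv hA) hr
  have hd : PolySeq (u + 1) (dl r) := PolySeq.diff hr
  exact polyseq_conj (PolySeq.mono (by omega) hc) hd

theorem h50_atom_remove_aux {v : ℕ} (hv : 1 ≤ v) {s : ℕ → H} (hs : PolySeq v s) (k : ℕ)
    (a : H) (ha : a ∈ gam H (k + v)) (i : ℕ) (hi : i ≤ k) :
    Rel (v + i + 1) (fun n => (a ^ (n.choose (k - i)))⁻¹ * dl^[i] s n)
      (dl^[i] (fun n => (a ^ (n.choose k))⁻¹ * s n)) := by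
  induction i with
  | zero => exact rel_of_eq _ rfl
  | succ i ih =>
    have ih' := ih (by omega)
    obtain ⟨m, hm⟩ : ∃ m, k - (i + 1) = m := ⟨_, rfl⟩
    have hki : k - i = m + 1 := by omega
    rw [hm]
    rw [hki] at ih'
    have hr : PolySeq (v + i) (dl^[i] s) := polyseq_dl_iter hs i
    have hA : PolySeq (v + i) (fun n => a ^ (n.choose (m + 1))) :=
      PolySeq.atom (m + 1) (v + i) a (by
        have e : m + 1 + (v + i) = k + v := by omega
        rw [e]; exact ha)
    have hprod : PolySeq (v + i) (fun n => (a ^ (n.choose (m + 1)))⁻¹ * dl^[i] s n) :=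
      PolySeq.mul (PolySeq.inv hA) hr
    have h1 : Rel (v + i + 1 + 1) (dl (fun n => (a ^ (n.choose (m + 1)))⁻¹ * dl^[i] s n))
        (dl (dl^[i] (fun n => (a ^ (n.choose k))⁻¹ * s n))) := rel_dl hprod ih'
    have h2 : Rel (v + i + 2) (fun n => (a ^ (n.choose m))⁻¹ * dl (dl^[i] s) n)
        (dl (fun n => (a ^ (n.choose (m + 1)))⁻¹ * dl^[i] s n)) :=
      h50_atom_step_rel hv a m (v + i) (by
        have e : m + (v + i + 1) = k + v := by omega
        rw [e]; exact ha) hr (by omega)
    have e1 : (fun n => (a ^ (n.choose m))⁻¹ * dl^[i + 1] s n) =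
        fun n => (a ^ (n.choose m))⁻¹ * dl (dl^[i] s) n := by
      funext n
      rw [Function.iterate_succ_apply']
    rw [e1, Function.iterate_succ_apply']
    exact rel_trans (rel_mono (by omega) h2) (rel_mono (by omega) h1)

/-- A1 (racer copy). -/
theorem h50_atom_remove {v : ℕ} (hv : 1 ≤ v) {s : ℕ → H} (hs : PolySeq v s) (k : ℕ) (hk : 1 ≤ k)
    (a : H) (ha : a ∈ gam H (k + v)) (j : ℕ) (hj : k + 1 ≤ j) :
    Rel (v + j + 1) (dl^[j] s) (dl^[j] (fun n => (a ^ (n.choose k))⁻¹ * s n)) := by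
  have hs' : PolySeq v (fun n => (a ^ (n.choose k))⁻¹ * s n) := by
    have hA : PolySeq v (fun n => a ^ (n.choose k)) := PolySeq.atom k v a ha
    exact PolySeq.mul (PolySeq.inv hA) hs
  -- the case `j = k + 1`
  have hbase : Rel (v + (k + 1) + 1) (dl^[k + 1] s)
      (dl^[k + 1] (fun n => (a ^ (n.choose k))⁻¹ * s n)) := by
    have h0 := h50_atom_remove_aux hv hs k a ha k le_rfl
    rw [Nat.sub_self] at h0
    have e0 : (fun n => (a ^ (n.choose 0))⁻¹ * dl^[k] s n) = fun n => a⁻¹ * dl^[k] s n := by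
      funext n
      rw [Nat.choose_zero_right, pow_one]
    rw [e0] at h0
    have hr : PolySeq (v + k) (dl^[k] s) := polyseq_dl_iter hs k
    have hprod : PolySeq (v + k) (fun n => a⁻¹ * dl^[k] s n) := by
      have ha' : a ∈ gam H (v + k) := by rw [add_comm]; exact ha
      exact PolySeq.mul (PolySeq.inv (polyseq_const ha')) hr
    have h1 := rel_dl hprod h0
    rw [h50_atom_const_id] at h1
    rw [Function.iterate_succ_apply', Function.iterate_succ_apply']
    exact rel_mono (by omega) h1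
  obtain ⟨d, rfl⟩ : ∃ d, j = k + 1 + d := ⟨j - (k + 1), by omega⟩
  clear hj
  induction d with
  | zero => exact hbase
  | succ d ih =>
    have hr : PolySeq (v + (k + 1 + d)) (dl^[k + 1 + d] s) := polyseq_dl_iter hs _
    have h1 := rel_dl hr ih
    have e : k + 1 + (d + 1) = (k + 1 + d) + 1 := by omega
    rw [e, Function.iterate_succ_apply', Function.iterate_succ_apply']
    exact rel_mono (by omega) h1

end Cfsg.Agent.Lib.helper65.PearlPow
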