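import Mathlib

/-!
# S5238R piece FD2 (`aut_normal_sylow_of_chain`), helper50 racer copy (prefixed `h50_`)

`K` = automorphisms acting trivially on `A`, on `B` mod `A` and on `E` mod `B`.  Every element of `K`
has order dividing `p ^ 3`, and every automorphism of `p`-power order lies in `K` (fixed point
counting on each section).  So `K ⊓ X` is the set of all `p`-elements of `X`.
-/

set_option autoImplicit false

namespace Cfsg.Agent.Lib.helper88.PearlF

/-- A self-map of `p`-power order of a set of prime cardinality `p` with a fixed point is the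
identity. -/
theorem h50_fd2_perm {α : Type*} [Finite α] (p : ℕ) [Fact p.Prime] (hα : Nat.card α = p)
    (f : Function.End α) (n : ℕ) (hf : ∀ x, f^[p ^ n] x = x) (x₀ : α) (hx₀ : f x₀ = x₀) :
    ∀ x, f x = x := by
  classical
  haveI := Fintype.ofFinite α
  have h1 : f ^ (p ^ n) = 1 := by
    apply funext
    intro x
    exact hf x
  have h2 := Equiv.Perm.card_fixedPoints_modEq (p := p) (n := n) (f := f) h1
  rw [← Nat.card_eq_fintype_card, hα] at h2
  have h3 : p ∣ Fintype.card (Function.fixedPoints f) := by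
    have h4 : Fintype.card (Function.fixedPoints f) ≡ 0 [MOD p] :=
      h2.symm.trans (Nat.modEq_zero_iff_dvd.mpr dvd_rfl)
    exact Nat.modEq_zero_iff_dvd.mp h4
  by_contra hne
  push Not at hne
  obtain ⟨x, hx⟩ := hne
  have h5 : Fintype.card (Function.fixedPoints f) < Fintype.card α :=
    Fintype.card_subtype_lt (p := fun y => y ∈ Function.fixedPoints f) (x := x) hx
  have h6 : 0 < Fintype.card (Function.fixedPoints f) :=
    Fintype.card_pos_iff.mpr ⟨⟨x₀, hx₀⟩⟩
  rw [← Nat.card_eq_fintype_card (α := α), hα] at h5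
  exact absurd (Nat.le_of_dvd h6 h3) (by omega)

/-- Section lemma: an endomorphism of `p`-power order acts trivially on a quotient of order `p`. -/
theorem h50_fd2_section {G : Type*} [Group G] [Finite G] (p : ℕ) [Fact p.Prime] (N : Subgroup G)
    [N.Normal] (hN : N.index = p) (f : G →* G) (hfN : ∀ x ∈ N, f x ∈ N) (n : ℕ)
    (hf : ∀ x, (⇑f)^[p ^ n] x = x) : ∀ x, x⁻¹ * f x ∈ N := by
  have hle : N ≤ N.comap f := fun x hx => hfN x hx
  have hF : ∀ (k : ℕ) (x : G), (⇑(QuotientGroup.map N N f hle))^[k] (x : G ⧸ N)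
      = (((⇑f)^[k] x : G) : G ⧸ N) := by
    intro k
    induction k with
    | zero => intro x; rfl
    | succ k ih =>
      intro x
      rw [Function.iterate_succ_apply', Function.iterate_succ_apply', ih]
      exact QuotientGroup.map_mk N N f hle _
  have hcard : Nat.card (G ⧸ N) = p := hN
  have key := h50_fd2_perm p hcard (⇑(QuotientGroup.map N N f hle)) n (fun q => by
    induction q using QuotientGroup.induction_on with
    | _ x => rw [hF, hf]) (1 : G ⧸ N) (map_one _)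
  intro x
  have h1 := key (x : G ⧸ N)
  rw [QuotientGroup.map_mk] at h1
  exact QuotientGroup.eq.mp h1.symm

/-- iterates of an automorphism. -/
theorem h50_fd2_iter {E : Type*} [Group E] (φ : MulAut E) (k : ℕ) (x : E) :
    (⇑φ)^[k] x = (φ ^ k) x := by
  induction k with
  | zero => simp
  | succ k ih => rw [Function.iterate_succ_apply', ih, pow_succ', MulAut.mul_apply]

/-- Section lemma for subgroups `N ≤ M` of `E` with `|M : N| = p`. -/
theorem h50_fd2_sec {E : Type*} [Group E] [Finite E] (p : ℕ) [Fact p.Prime] (N M : Subgroup E)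
    [N.Normal] (hNM : N ≤ M) (hcard : Nat.card M = p * Nat.card N) (φ : MulAut E)
    (hM : ∀ x ∈ M, φ x ∈ M) (hN : ∀ x ∈ N, φ x ∈ N) (n : ℕ) (hφ : φ ^ (p ^ n) = 1) :
    ∀ m ∈ M, m⁻¹ * φ m ∈ N := by
  obtain ⟨f, hfdef⟩ : ∃ f : ↥M →* ↥M, ∀ x : ↥M, ((f x : ↥M) : E) = φ (x : E) :=
    ⟨(φ.toMonoidHom.comp M.subtype).codRestrict M (fun m => hM m m.2), fun x => rfl⟩
  have hiter : ∀ (k : ℕ) (x : ↥M), (((⇑f)^[k] x : ↥M) : E) = (φ ^ k) (x : E) := by
    intro k
    induction k with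
    | zero => intro x; simp
    | succ k ih =>
      intro x
      rw [Function.iterate_succ_apply', hfdef, ih, pow_succ', MulAut.mul_apply]
  have hidx : (N.subgroupOf M).index = p := by
    have h1 := Subgroup.card_mul_index (N.subgroupOf M)
    have h2 : Nat.card (N.subgroupOf M) = Nat.card N :=
      Nat.card_congr (Subgroup.subgroupOfEquivOfLe hNM).toEquiv
    rw [h2, hcard, mul_comm p] at h1
    have hpos : 0 < Nat.card N := Nat.card_pos
    exact Nat.eq_of_mul_eq_mul_left hpos h1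
  have key := h50_fd2_section p (N.subgroupOf M) hidx f (fun x hx => by
      rw [Subgroup.mem_subgroupOf] at hx ⊢
      rw [hfdef]
      exact hN _ hx) n (fun x => by
      apply Subtype.ext
      rw [hiter, hφ, MulAut.one_apply])
  intro m hm
  have h1 := key ⟨m, hm⟩
  rw [Subgroup.mem_subgroupOf] at h1
  have h2 : ((((⟨m, hm⟩ : ↥M)⁻¹ * f ⟨m, hm⟩ : ↥M)) : E) = m⁻¹ * φ m := by
    rw [Subgroup.coe_mul, Subgroup.coe_inv, hfdef]
  rw [h2] at h1
  exact h1

/-- power formula: if `φ` fixes `x⁻¹ * φ x` then `φ ^ n x = x * (x⁻¹ * φ x) ^ n`. -/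
theorem h50_fd2_pow {E : Type*} [Group E] (φ : MulAut E) (x : E)
    (hfix : φ (x⁻¹ * φ x) = x⁻¹ * φ x) (n : ℕ) : (φ ^ n) x = x * (x⁻¹ * φ x) ^ n := by
  induction n with
  | zero => simp
  | succ n ih =>
    rw [pow_succ', MulAut.mul_apply, ih, map_mul, map_pow, hfix, pow_succ', ← mul_assoc,
      mul_inv_cancel_left]

theorem h50_fd2_pow_card {G : Type*} [Group G] (H : Subgroup G) {c : G} (hc : c ∈ H) :
    c ^ Nat.card H = 1 := by
  have h : ((⟨c, hc⟩ : H) ^ Nat.card H : H) = 1 := pow_card_eq_one'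
  have h2 : (((⟨c, hc⟩ : H) ^ Nat.card H : H) : G) = ((1 : H) : G) := congrArg Subtype.val h
  rw [Subgroup.coe_pow, Subgroup.coe_one] at h2
  exact h2

theorem h50_fd2_char {E : Type*} [Group E] {A : Subgroup E} (hA : A.Characteristic)
    (φ : MulAut E) (a : E) : φ a ∈ A ↔ a ∈ A := by
  have h := hA.fixed φ
  constructor
  · intro ha
    rw [← h]
    exact ha
  · intro ha
    rw [← h] at ha
    exact ha

/-- the stability condition of the chain `1 ≤ A ≤ B ≤ E`. -/
def h50_fd2_K {E : Type*} [Group E] (A B : Subgroup E) (φ : MulAut E) : Prop :=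
  (∀ a ∈ A, φ a = a) ∧ (∀ b ∈ B, b⁻¹ * φ b ∈ A) ∧ (∀ e : E, e⁻¹ * φ e ∈ B)

/-- (T1) the stability group has exponent dividing `p ^ 3`. -/
theorem h50_fd2_K_pow {E : Type*} [Group E] (p : ℕ) (A B : Subgroup E)
    (hB : B.Characteristic) (hAc : Nat.card A = p) (hBc : Nat.card B = p ^ 2) (φ : MulAut E)
    (h : h50_fd2_K A B φ) : φ ^ (p ^ 3) = 1 := by
  obtain ⟨h1, h2, h3⟩ := h
  -- `φ ^ p` fixes `B` pointwise
  have s1 : ∀ b ∈ B, (φ ^ p) b = b := by
    intro b hb
    rw [h50_fd2_pow φ b (h1 _ (h2 b hb)) p]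
    have := h50_fd2_pow_card A (h2 b hb)
    rw [hAc] at this
    rw [this, mul_one]
  -- all powers act trivially mod `B`
  have s2 : ∀ (k : ℕ) (e : E), e⁻¹ * (φ ^ k) e ∈ B := by
    intro k
    induction k with
    | zero => intro e; simp
    | succ k ih =>
      intro e
      have e1 : e⁻¹ * (φ ^ (k + 1)) e = (e⁻¹ * φ e) * φ (e⁻¹ * (φ ^ k) e) := by
        rw [pow_succ', MulAut.mul_apply, map_mul, map_inv]
        group
      rw [e1]
      exact B.mul_mem (h3 e) ((h50_fd2_char hB φ _).mpr (ih e))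
  have s3 : ∀ e : E, ((φ ^ p) ^ (p ^ 2)) e = e := by
    intro e
    rw [h50_fd2_pow (φ ^ p) e (s1 _ (s2 p e)) (p ^ 2)]
    have := h50_fd2_pow_card B (s2 p e)
    rw [hBc] at this
    rw [this, mul_one]
  have e3 : p ^ 3 = p * p ^ 2 := by ring
  rw [e3, pow_mul]
  apply MulEquiv.ext
  intro e
  rw [s3 e, MulAut.one_apply]

/-- (T2) automorphisms of `p`-power order stabilize the chain. -/
theorem h50_fd2_K_of_pow {E : Type*} [Group E] [Finite E] (p : ℕ) [Fact p.Prime]
    (hcard : Nat.card E = p ^ 3) (A B : Subgroup E) (hA : A.Characteristic)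
    (hB : B.Characteristic) (hAB : A ≤ B) (hAc : Nat.card A = p) (hBc : Nat.card B = p ^ 2)
    (φ : MulAut E) (n : ℕ) (hφ : φ ^ (p ^ n) = 1) : h50_fd2_K A B φ := by
  haveI := hA
  haveI := hB
  refine ⟨?_, ?_, ?_⟩
  · intro a ha
    have h := h50_fd2_sec p ⊥ A bot_le (by rw [hAc, Subgroup.card_bot, mul_one]) φ
      (fun x hx => (h50_fd2_char hA φ x).mpr hx)
      (fun x hx => by rw [Subgroup.mem_bot] at hx ⊢; rw [hx, map_one]) n hφ a ha
    rw [Subgroup.mem_bot, inv_mul_eq_one] at h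
    exact h.symm
  · exact h50_fd2_sec p A B hAB (by rw [hAc, hBc, sq]) φ
      (fun x hx => (h50_fd2_char hB φ x).mpr hx)
      (fun x hx => (h50_fd2_char hA φ x).mpr hx) n hφ
  · intro e
    exact h50_fd2_sec p B ⊤ le_top (by rw [Subgroup.card_top, hcard, hBc]; ring) φ
      (fun x _ => Subgroup.mem_top _)
      (fun x hx => (h50_fd2_char hB φ x).mpr hx) n hφ e (Subgroup.mem_top _)

theorem h50_fd2_K_mul {E : Type*} [Group E] (A B : Subgroup E) (hB : B.Characteristic)
    (φ ψ : MulAut E) (hφ : h50_fd2_K A B φ) (hψ : h50_fd2_K A B ψ) : h50_fd2_K A B (φ * ψ) := by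
  obtain ⟨h1, h2, h3⟩ := hφ
  obtain ⟨k1, k2, k3⟩ := hψ
  refine ⟨?_, ?_, ?_⟩
  · intro a ha
    rw [MulAut.mul_apply, k1 a ha, h1 a ha]
  · intro b hb
    have e1 : b⁻¹ * (φ * ψ) b = (b⁻¹ * φ b) * φ (b⁻¹ * ψ b) := by
      rw [MulAut.mul_apply, map_mul, map_inv]
      group
    rw [e1, h1 _ (k2 b hb)]
    exact A.mul_mem (h2 b hb) (k2 b hb)
  · intro e
    have e1 : e⁻¹ * (φ * ψ) e = (e⁻¹ * φ e) * φ (e⁻¹ * ψ e) := by
      rw [MulAut.mul_apply, map_mul, map_inv]
      group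
    rw [e1]
    exact B.mul_mem (h3 e) ((h50_fd2_char hB φ _).mpr (k3 e))

/-- FD2 (racer copy). -/
theorem h50_aut_normal_sylow_of_chain {E : Type*} [Group E] [Finite E] (p : ℕ) [Fact p.Prime]
    (hcard : Nat.card E = p ^ 3) (A B : Subgroup E) (hA : A.Characteristic) (hB : B.Characteristic)
    (hAB : A ≤ B) (hAc : Nat.card A = p) (hBc : Nat.card B = p ^ 2) (X : Subgroup (MulAut E)) :
    ∃ P : Sylow p X, (P : Subgroup X).Normal := by
  have hiff : ∀ φ : MulAut E, h50_fd2_K A B φ ↔ ∃ n : ℕ, φ ^ (p ^ n) = 1 := fun φ =>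
    ⟨fun h => ⟨3, h50_fd2_K_pow p A B hB hAc hBc φ h⟩,
     fun ⟨n, hn⟩ => h50_fd2_K_of_pow p hcard A B hA hB hAB hAc hBc φ n hn⟩
  let P0 : Subgroup X :=
    { carrier := {g | h50_fd2_K A B (g : MulAut E)}
      one_mem' := (hiff _).mpr ⟨0, by simp⟩
      mul_mem' := fun {a b} ha hb => h50_fd2_K_mul A B hB _ _ ha hb
      inv_mem' := fun {a} ha => by
        obtain ⟨n, hn⟩ := (hiff _).mp ha
        exact (hiff _).mpr ⟨n, by
          show ((a⁻¹ : X) : MulAut E) ^ (p ^ n) = 1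
          rw [Subgroup.coe_inv, inv_pow, hn, inv_one]⟩ }
  have hmem : ∀ g : X, g ∈ P0 ↔ h50_fd2_K A B (g : MulAut E) := fun g => Iff.rfl
  have hP0 : IsPGroup p P0 := by
    intro g
    refine ⟨3, ?_⟩
    have h1 := h50_fd2_K_pow p A B hB hAc hBc _ ((hmem g.1).mp g.2)
    apply Subtype.ext
    apply Subtype.ext
    rw [Subgroup.coe_pow, Subgroup.coe_pow, h1]
    rfl
  have hmax : ∀ {Q : Subgroup X}, IsPGroup p Q → P0 ≤ Q → Q = P0 := by
    intro Q hQ hle
    refine le_antisymm ?_ hle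
    intro q hq
    obtain ⟨k, hk⟩ := hQ ⟨q, hq⟩
    rw [hmem]
    refine (hiff _).mpr ⟨k, ?_⟩
    have h1 : ((⟨q, hq⟩ : Q) ^ (p ^ k) : Q) = 1 := hk
    have h2 := congrArg (fun t : Q => ((t : X) : MulAut E)) h1
    simpa using h2
  refine ⟨⟨P0, hP0, hmax⟩, ?_⟩
  constructor
  intro g hg x
  show x * g * x⁻¹ ∈ P0
  rw [hmem] at hg ⊢
  refine (hiff _).mpr ⟨3, ?_⟩
  have h1 := h50_fd2_K_pow p A B hB hAc hBc _ hg
  rw [Subgroup.coe_mul, Subgroup.coe_mul, Subgroup.coe_inv, conj_pow, h1, mul_one, mul_inv_cancel]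

end Cfsg.Agent.Lib.helper88.PearlF
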