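import Mathlib
import Cfsg.Agent.Lib.helper9.PgDefs

set_option autoImplicit false

namespace Cfsg.Agent.Lib.helper50

open Cfsg.Agent.Lib.helper9

universe u

/-- PIECE A of the S2490 split. -/
theorem pg_exists_min {G : Type u} [Group G] [Finite G] (hord : Nat.card G = 7920)
    (hns : ¬ IsSimpleGroup G) :
    ∃ V : Subgroup G, V.Normal ∧ V ≠ ⊥ ∧ V ≠ ⊤ ∧
      ∀ W : Subgroup G, W.Normal → W ≤ V → W = ⊥ ∨ W = V := by
  classical
  haveI : Nontrivial G := Finite.one_lt_card_iff_nontrivial.mp (by rw [hord]; norm_num)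
  have hex : ∃ n : ℕ, ∃ N : Subgroup G, N.Normal ∧ N ≠ ⊥ ∧ N ≠ ⊤ ∧ Nat.card N = n := by
    by_contra h
    apply hns
    refine ⟨fun H hH => ?_⟩
    by_contra h2
    rw [not_or] at h2
    exact h ⟨Nat.card H, H, hH, h2.1, h2.2, rfl⟩
  obtain ⟨V, hVn, hV1, hVtop, hVc⟩ := Nat.find_spec hex
  refine ⟨V, hVn, hV1, hVtop, fun W hWn hWV => ?_⟩
  by_contra h
  rw [not_or] at h
  have hWtop : W ≠ ⊤ := fun hW => hVtop (top_le_iff.mp (hW ▸ hWV))
  have hlt : Nat.card W < Nat.card V := by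
    rcases Nat.lt_or_ge (Nat.card W) (Nat.card V) with h3 | h3
    · exact h3
    · exact absurd (Subgroup.eq_of_le_of_card_ge hWV h3) h.2
  rw [hVc] at hlt
  exact Nat.find_min hex hlt ⟨W, hWn, h.1, hWtop, rfl⟩

end Cfsg.Agent.Lib.helper50
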