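import Mathlib
import Cfsg.Agent.Lib.helper9.PgDefs

set_option autoImplicit false

namespace Cfsg.Agent.Lib.helper50

open Cfsg.Agent.Lib.helper9

universe u

/-- PIECE B of the S2490 split. -/
theorem pg_min_abelian {G : Type u} [Group G] [Finite G] (V : Subgroup G) (hVn : V.Normal)
    (hV1 : V ≠ ⊥) (hmin : ∀ W : Subgroup G, W.Normal → W ≤ V → W = ⊥ ∨ W = V)
    (hab : ∀ x ∈ V, ∀ y ∈ V, x * y = y * x) : ∃ p : ℕ, p.Prime ∧ IsPGroup p V := by
  have hcard : Nat.card V ≠ 1 := fun h => hV1 (Subgroup.card_eq_one.mp h)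
  obtain ⟨p, hp, hpd⟩ := Nat.exists_prime_and_dvd hcard
  haveI : Fact p.Prime := ⟨hp⟩
  obtain ⟨x, hx⟩ := exists_prime_orderOf_dvd_card' p hpd
  let W : Subgroup G :=
    { carrier := {y | y ∈ V ∧ y ^ p = 1}
      one_mem' := ⟨V.one_mem, one_pow p⟩
      mul_mem' := fun {a b} ha hb => ⟨V.mul_mem ha.1 hb.1, by
        have hc : Commute a b := hab a ha.1 b hb.1
        rw [hc.mul_pow, ha.2, hb.2, one_mul]⟩
      inv_mem' := fun {a} ha => ⟨V.inv_mem ha.1, by rw [inv_pow, ha.2, inv_one]⟩ }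
  have hWn : W.Normal := ⟨fun y hy g => ⟨hVn.conj_mem y hy.1 g, by
    rw [conj_pow, hy.2, mul_one, mul_inv_cancel]⟩⟩
  have hWV : W ≤ V := fun y hy => hy.1
  rcases hmin W hWn hWV with h | h
  · exfalso
    have hxW : (x : G) ∈ W := ⟨x.2, by
      have h1 : x ^ p = 1 := by rw [← hx]; exact pow_orderOf_eq_one x
      have h2 := congrArg Subtype.val h1
      simpa using h2⟩
    rw [h, Subgroup.mem_bot] at hxW
    have h3 : x = 1 := Subtype.ext hxW
    rw [h3, orderOf_one] at hx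
    exact hp.one_lt.ne hx
  · refine ⟨p, hp, fun g => ⟨1, ?_⟩⟩
    have hg : (g : G) ∈ W := by rw [h]; exact g.2
    apply Subtype.ext
    rw [pow_one]
    simpa using hg.2

end Cfsg.Agent.Lib.helper50
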