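import Mathlib
import Cfsg.Agent.Lib.helper9.PgDefs

set_option autoImplicit false

namespace Cfsg.Agent.Lib.helper50

open Cfsg.Agent.Lib.helper9

universe u

/-- An element of order 3 normalising a subgroup of order 5 centralises it. -/
theorem pgF1_nc {N : Type*} [Group N] [Finite N] (P : Subgroup N) [P.Normal]
    (hP : Nat.card P = 5) (x : N) (hx : orderOf x = 3) : ∃ g : N, orderOf g = 15 := by
  haveI : Fact (Nat.Prime 5) := ⟨by norm_num⟩
  haveI : IsCyclic P := isCyclic_of_prime_card hP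
  have hA : Nat.card (MulAut P) = 4 := by
    rw [IsCyclic.card_mulAut, hP]
    exact Nat.totient_prime (by norm_num)
  have hθ : (MulAut.conjNormal x : MulAut P) = 1 := by
    have h3 : (MulAut.conjNormal x : MulAut P) ^ 3 = 1 := by
      rw [← map_pow, ← hx, pow_orderOf_eq_one, map_one]
    have h4 : (MulAut.conjNormal x : MulAut P) ^ 4 = 1 := by
      rw [← hA]; exact pow_card_eq_one'
    calc (MulAut.conjNormal x : MulAut P)
        = (MulAut.conjNormal x) ^ 4 * ((MulAut.conjNormal x) ^ 3)⁻¹ := by group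
      _ = 1 := by rw [h3, h4]; simp
  obtain ⟨y, hy⟩ := exists_prime_orderOf_dvd_card' 5 (show 5 ∣ Nat.card P by rw [hP])
  have hc : Commute x (y : N) := by
    have h1 : ((MulAut.conjNormal x : MulAut P) y : N) = x * y * x⁻¹ :=
      MulAut.conjNormal_apply x y
    rw [hθ] at h1
    have h2 : (y : N) = x * y * x⁻¹ := h1
    show x * (y : N) = (y : N) * x
    calc x * (y : N) = (x * y * x⁻¹) * x := by group
      _ = y * x := by rw [← h2]
  refine ⟨x * y, ?_⟩
  have h5 := hc.orderOf_mul_eq_mul_orderOf_of_coprime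
    (by rw [hx, Subgroup.orderOf_coe, hy]; norm_num)
  rw [h5, hx, Subgroup.orderOf_coe, hy]

/-- PIECE F1 of the S2490 split. -/
theorem pg_order_495 {H : Type u} [Group H] [Finite H] (h : Nat.card H = 495) :
    (∃ g : H, orderOf g = 55) ∨ (∃ g : H, orderOf g = 15) := by
  right
  haveI : Fact (Nat.Prime 5) := ⟨by norm_num⟩
  haveI : Fact (Nat.Prime 3) := ⟨by norm_num⟩
  obtain P : Sylow 5 H := default
  have hPc : Nat.card P = 5 := by
    obtain ⟨k, hk⟩ := IsPGroup.iff_card.mp P.isPGroup'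
    have hd : Nat.card P ∣ 495 := h ▸ Subgroup.card_subgroup_dvd_card (P : Subgroup H)
    have h5 : 5 ∣ Nat.card P := P.dvd_card_of_dvd_card (by rw [h]; norm_num)
    rw [hk] at hd h5 ⊢
    have hk0 : k ≠ 0 := by
      rintro rfl
      norm_num at h5
    have hk2 : k < 2 := by
      by_contra hk2
      have h25 : 5 ^ 2 ∣ 495 := dvd_trans (pow_dvd_pow 5 (by omega)) hd
      norm_num at h25
    have hk1 : k = 1 := by omega
    rw [hk1]; norm_num
  have hidx : (P : Subgroup H).index = 99 := by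
    have h1 := Subgroup.card_mul_index (P : Subgroup H)
    rw [hPc, h] at h1
    omega
  have hn1 : Nat.card (Sylow 5 H) ≡ 1 [MOD 5] := card_sylow_modEq_one 5 H
  have hn2 : Nat.card (Sylow 5 H) ∣ 99 := by rw [← hidx]; exact P.card_dvd_index
  have hn3 : Nat.card (Sylow 5 H) = (Subgroup.normalizer ((P : Subgroup H) : Set H)).index :=
    Sylow.card_eq_index_normalizer P
  have hN := Subgroup.card_mul_index (Subgroup.normalizer ((P : Subgroup H) : Set H))
  rw [← hn3, h] at hN
  have h3N : 3 ∣ Nat.card (Subgroup.normalizer ((P : Subgroup H) : Set H)) := by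
    by_contra h3
    have hcop : Nat.Coprime (3 ^ 2) (Nat.card (Subgroup.normalizer ((P : Subgroup H) : Set H))) :=
      Nat.Coprime.pow_left 2 ((Nat.Prime.coprime_iff_not_dvd Nat.prime_three).2 h3)
    have h9 : 3 ^ 2 ∣ Nat.card (Sylow 5 H) :=
      hcop.dvd_of_dvd_mul_left (by rw [hN]; norm_num)
    obtain ⟨t, ht⟩ := h9
    rw [ht] at hn2 hn1
    have ht11 : t ∣ 11 := Nat.dvd_of_mul_dvd_mul_left (by norm_num : 0 < 3 ^ 2)
      (by norm_num at hn2 ⊢; exact hn2)
    rcases (Nat.dvd_prime (by norm_num)).1 ht11 with rfl | rfl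
    · unfold Nat.ModEq at hn1; omega
    · unfold Nat.ModEq at hn1; omega
  obtain ⟨x, hx⟩ := exists_prime_orderOf_dvd_card' 3 h3N
  haveI : ((P : Subgroup H).subgroupOf (Subgroup.normalizer ((P : Subgroup H) : Set H))).Normal :=
    Subgroup.normal_in_normalizer
  have hP' : Nat.card ((P : Subgroup H).subgroupOf
      (Subgroup.normalizer ((P : Subgroup H) : Set H))) = 5 := by
    rw [Nat.card_congr (Subgroup.subgroupOfEquivOfLe Subgroup.le_normalizer).toEquiv]
    exact hPc
  obtain ⟨g, hg⟩ := pgF1_nc _ hP' x hx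
  exact ⟨(g : H), by rw [Subgroup.orderOf_coe]; exact hg⟩

end Cfsg.Agent.Lib.helper50
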