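import Mathlib
import Cfsg.Agent.Lib.helper9.PgDefs

set_option autoImplicit false

namespace Cfsg.Agent.Lib.helper50

open Cfsg.Agent.Lib.helper9

universe u

/-- PIECE J of the S2490 split. -/
theorem pg_normalized_sub {G : Type u} [Group G] [Finite G] (P S : Subgroup G)
    (hP : Nat.card P = 11) (s : ℕ) (hs : s.Prime) (hs11 : s ≠ 11) (hS : IsPGroup s S)
    (hS1 : S ≠ ⊥) (hc : Nat.card S ≤ 16) (hn : P ≤ Subgroup.normalizer (S : Set G)) :
    ∃ g : G, orderOf g = 11 * s := by
  classical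
  haveI : Fact (Nat.Prime 11) := ⟨by norm_num⟩
  haveI : Fact s.Prime := ⟨hs⟩
  have hmem : ∀ g : P, ∀ z : S, (g : G) * (z : G) * (g : G)⁻¹ ∈ S := fun g z =>
    (Subgroup.mem_normalizer_iff.mp (hn g.2) z).mp z.2
  letI : MulAction P S :=
    { smul := fun g z => ⟨(g : G) * (z : G) * (g : G)⁻¹, hmem g z⟩
      one_smul := fun z => Subtype.ext (by
        show ((1 : P) : G) * (z : G) * ((1 : P) : G)⁻¹ = z
        simp)
      mul_smul := fun g g' z => Subtype.ext (by
        show ((g * g' : P) : G) * (z : G) * ((g * g' : P) : G)⁻¹ =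
          (g : G) * ((g' : G) * (z : G) * (g' : G)⁻¹) * (g : G)⁻¹
        rw [Subgroup.coe_mul]; group) }
  have hPp : IsPGroup 11 P := IsPGroup.of_card (n := 1) (by rw [hP]; norm_num)
  have hfix := hPp.card_modEq_card_fixedPoints S
  -- the cardinality of `S` is not `1` mod `11`
  obtain ⟨k, hk⟩ := IsPGroup.iff_card.mp hS
  have hS2 : Nat.card S ≠ 1 := fun h => hS1 (Subgroup.card_eq_one.mp h)
  have hS0 : 0 < Nat.card S := Nat.card_pos
  have hS12 : Nat.card S ≠ 12 := by
    intro h12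
    rw [hk] at h12
    have h2 : 2 ∣ s ^ k := by rw [h12]; norm_num
    have h3 : 3 ∣ s ^ k := by rw [h12]; norm_num
    have e2 := (Nat.prime_dvd_prime_iff_eq Nat.prime_two hs).1 (Nat.prime_two.dvd_of_dvd_pow h2)
    have e3 := (Nat.prime_dvd_prime_iff_eq Nat.prime_three hs).1
      (Nat.prime_three.dvd_of_dvd_pow h3)
    omega
  have hfix1 : Nat.card (MulAction.fixedPoints P S) ≠ 1 := by
    intro h1
    rw [h1] at hfix
    unfold Nat.ModEq at hfix
    omega
  -- a nontrivial fixed point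
  have hone : (1 : S) ∈ MulAction.fixedPoints P S := fun g => Subtype.ext (by
    show (g : G) * ((1 : S) : G) * (g : G)⁻¹ = ((1 : S) : G)
    simp)
  obtain ⟨z, hz, hz1⟩ : ∃ z : S, z ∈ MulAction.fixedPoints P S ∧ z ≠ 1 := by
    by_contra hno
    apply hfix1
    haveI : Subsingleton (MulAction.fixedPoints P S) := ⟨fun a b => by
      have ha : (a : S) = 1 := by
        by_contra h; exact hno ⟨a, a.2, h⟩
      have hb : (b : S) = 1 := by
        by_contra h; exact hno ⟨b, b.2, h⟩
      exact Subtype.ext (ha.trans hb.symm)⟩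
    haveI : Nonempty (MulAction.fixedPoints P S) := ⟨⟨1, hone⟩⟩
    exact Nat.card_unique
  have hzc : ∀ g : P, (g : G) * (z : G) = (z : G) * (g : G) := by
    intro g
    have h1 : (g : G) * (z : G) * (g : G)⁻¹ = (z : G) := congrArg Subtype.val (hz g)
    calc (g : G) * (z : G) = ((g : G) * (z : G) * (g : G)⁻¹) * (g : G) := by group
      _ = (z : G) * (g : G) := by rw [h1]
  -- an element of order `s` in `zpowers z`
  have hzG : (z : G) ≠ 1 := fun h => hz1 (Subtype.ext h)
  have hsd : s ∣ Nat.card (Subgroup.zpowers (z : G)) := by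
    rw [Nat.card_zpowers]
    obtain ⟨j, hj⟩ := (IsPGroup.iff_orderOf.mp hS) z
    rw [Subgroup.orderOf_coe, hj]
    have hj0 : j ≠ 0 := by
      rintro rfl
      rw [pow_zero] at hj
      exact hz1 (orderOf_eq_one_iff.mp hj)
    exact dvd_pow_self s hj0
  obtain ⟨w, hw⟩ := exists_prime_orderOf_dvd_card' s hsd
  obtain ⟨y, hy⟩ := exists_prime_orderOf_dvd_card' 11 (show 11 ∣ Nat.card P by rw [hP])
  have hcomm : Commute (y : G) (w : G) := by
    obtain ⟨i, hi⟩ := Subgroup.mem_zpowers_iff.mp w.2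
    rw [← hi]
    exact (show Commute (y : G) (z : G) from hzc y).zpow_right i
  refine ⟨(y : G) * (w : G), ?_⟩
  have hcop : Nat.Coprime (orderOf (y : G)) (orderOf (w : G)) := by
    rw [Subgroup.orderOf_coe, Subgroup.orderOf_coe, hy, hw]
    exact (Nat.coprime_primes (by norm_num) hs).2 (Ne.symm hs11)
  rw [hcomm.orderOf_mul_eq_mul_orderOf_of_coprime hcop, Subgroup.orderOf_coe,
    Subgroup.orderOf_coe, hy, hw]

end Cfsg.Agent.Lib.helper50
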