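import Mathlib
import Cfsg.Prelude.Def_GeometricClasses
import Cfsg.Agent.Lib.helper24.SfoDefs
import Cfsg.Agent.Lib.helper34.QfcCNT
import Cfsg.Agent.Lib.helper27.SfoCNTE
import Cfsg.Agent.Lib.helper77.SfoCNTO

/-!
S5977 / S5978 block [A], KUNIQ sub-split (helper2), pieces FIB `qfu_fib` and CNTEQ `qfu_count_eq`
(racer copies by helper50).
-/

set_option autoImplicit false

namespace Cfsg.Agent.Lib.helper2

open Cfsg.Geo Matrix Cfsg.Agent.Lib.helper24

/-- FIB (racer copy) -/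
theorem h50_qfu_fib {F : Type*} [Field F] [Fintype F] {ι : Type} [Fintype ι] [DecidableEq ι]
    (Q : (ι → F) → F) (δ : F) [Fact (∀ r : F, r ^ 2 ≠ δ + 0 * r)]
    (d : ℕ) (Φ : (Fin d → QuadraticAlgebra F δ 0) ≃+ (ι → F))
    (qk : (ι → F) → QuadraticAlgebra F δ 0) (hre : ∀ v, (qk v).re = Q v) :
    Nat.card {v : ι → F // Q v = 1} =
      ∑ b : F, sfoCount (fun k => qk (Φ k)) (⟨1, b⟩ : QuadraticAlgebra F δ 0) := by
  classical
  have : Finite (QuadraticAlgebra F δ 0) :=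
    Finite.of_equiv _ (QuadraticAlgebra.equivProd δ 0).symm
  let e1 : {v : ι → F // Q v = 1} ≃
      Σ b : F, {k : Fin d → QuadraticAlgebra F δ 0 // qk (Φ k) = ⟨1, b⟩} :=
    { toFun := fun v => ⟨(qk v.1).im, ⟨Φ.symm v.1, by
          rw [AddEquiv.apply_symm_apply]
          ext
          · rw [hre, v.2]
          · rfl⟩⟩
      invFun := fun s => ⟨Φ s.2.1, by rw [← hre, s.2.2]⟩
      left_inv := fun v => by simp
      right_inv := fun s => by
        rcases s with ⟨b, k, hk⟩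
        have hb : (qk (Φ k)).im = b := by rw [hk]
        subst hb
        simp }
  rw [Nat.card_congr e1, Nat.card_sigma]
  rfl

/-- CNTEQ (racer copy) -/
theorem h50_qfu_count_eq {F : Type*} [Field F] [Fintype F] {ι : Type} [Fintype ι] [DecidableEq ι]
    (hodd : Odd (Fintype.card F)) (Q : (ι → F) → F) (δ : F) [Fact (∀ r : F, r ^ 2 ≠ δ + 0 * r)]
    (d : ℕ) (Φ₁ Φ₂ : (Fin d → QuadraticAlgebra F δ 0) ≃+ (ι → F))
    (qk₁ qk₂ : (ι → F) → QuadraticAlgebra F δ 0) (hre₁ : ∀ v, (qk₁ v).re = Q v)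
    (hre₂ : ∀ v, (qk₂ v).re = Q v)
    (hQ₁ : IsNondegenerateQuadraticForm (fun k : Fin d → QuadraticAlgebra F δ 0 => qk₁ (Φ₁ k)))
    (hQ₂ : IsNondegenerateQuadraticForm (fun k : Fin d → QuadraticAlgebra F δ 0 => qk₂ (Φ₂ k))) :
    sfoCount (fun k : Fin d → QuadraticAlgebra F δ 0 => qk₁ (Φ₁ k)) 1 =
      sfoCount (fun k : Fin d → QuadraticAlgebra F δ 0 => qk₂ (Φ₂ k)) 1 := by
  classical
  letI : Fintype (QuadraticAlgebra F δ 0) :=
    Fintype.ofEquiv _ (QuadraticAlgebra.equivProd δ 0).symm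
  have h2F : (2 : F) ≠ 0 := by
    intro h
    have hc : ringChar F = 2 :=
      CharP.ringChar_of_prime_eq_zero Nat.prime_two (by exact_mod_cast h)
    have h3 := FiniteField.even_card_iff_char_two.mp hc
    obtain ⟨j, hj⟩ := hodd
    omega
  have h2K : (2 : QuadraticAlgebra F δ 0) ≠ 0 := by
    intro h
    apply h2F
    have := congrArg QuadraticAlgebra.re h
    rw [QuadraticAlgebra.re_ofNat] at this
    simpa using this
  rcases Nat.even_or_odd' d with ⟨k, hk | hk⟩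
  · -- even dimension
    obtain ⟨ε1, -, hc1⟩ := h27_sfo_count_even h2K d k hk _ hQ₁
    obtain ⟨ε2, -, hc2⟩ := h27_sfo_count_even h2K d k hk _ hQ₂
    have hN1 : ∀ z : QuadraticAlgebra F δ 0, z ≠ 0 →
        sfoCount (fun k : Fin d → QuadraticAlgebra F δ 0 => qk₁ (Φ₁ k)) z =
          sfoCount (fun k : Fin d → QuadraticAlgebra F δ 0 => qk₁ (Φ₁ k)) 1 := by
      intro z hz
      have h3 := (hc1 z hz).trans (hc1 1 one_ne_zero).symm
      exact_mod_cast h3
    have hN2 : ∀ z : QuadraticAlgebra F δ 0, z ≠ 0 →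
        sfoCount (fun k : Fin d → QuadraticAlgebra F δ 0 => qk₂ (Φ₂ k)) z =
          sfoCount (fun k : Fin d → QuadraticAlgebra F δ 0 => qk₂ (Φ₂ k)) 1 := by
      intro z hz
      have h3 := (hc2 z hz).trans (hc2 1 one_ne_zero).symm
      exact_mod_cast h3
    have e1 := qfc_count Q δ d Φ₁ qk₁ hre₁ _ hN1
    have e2 := qfc_count Q δ d Φ₂ qk₂ hre₂ _ hN2
    exact Nat.eq_of_mul_eq_mul_left Fintype.card_pos (e1.symm.trans e2)
  · -- odd dimension
    obtain ⟨E1, -, hs1, hn1⟩ := sfo_count_odd h2K d k hk _ hQ₁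
    obtain ⟨E2, -, hs2, hn2⟩ := sfo_count_odd h2K d k hk _ hQ₂
    have hf1 := h50_qfu_fib Q δ d Φ₁ qk₁ hre₁
    have hf2 := h50_qfu_fib Q δ d Φ₂ qk₂ hre₂
    obtain ⟨A, hA⟩ : ∃ A : ℤ, A = (Fintype.card (QuadraticAlgebra F δ 0) : ℤ) ^ k := ⟨_, rfl⟩
    have hA0 : A ≠ 0 := by
      rw [hA]
      exact pow_ne_zero _ (by exact_mod_cast Fintype.card_ne_zero)
    obtain ⟨χ, hχdef⟩ : ∃ χ : F → ℤ, ∀ b : F, χ b =
        if IsSquare (⟨1, b⟩ : QuadraticAlgebra F δ 0) then 1 else -1 := ⟨_, fun _ => rfl⟩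
    have hz : ∀ b : F, (⟨1, b⟩ : QuadraticAlgebra F δ 0) ≠ 0 := by
      intro b h0
      have := congrArg QuadraticAlgebra.re h0
      simp at this
    have ht1 : ∀ b : F, (sfoCount (fun k : Fin d → QuadraticAlgebra F δ 0 => qk₁ (Φ₁ k))
        (⟨1, b⟩ : QuadraticAlgebra F δ 0) : ℤ) = A * (A + E1 * χ b) := by
      intro b
      rw [hχdef b]
      by_cases hsq : IsSquare (⟨1, b⟩ : QuadraticAlgebra F δ 0)
      · rw [if_pos hsq, hs1 _ (hz b) hsq, hA, mul_one]
      · rw [if_neg hsq, hn1 _ (hz b) hsq, hA]; ring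
    have ht2 : ∀ b : F, (sfoCount (fun k : Fin d → QuadraticAlgebra F δ 0 => qk₂ (Φ₂ k))
        (⟨1, b⟩ : QuadraticAlgebra F δ 0) : ℤ) = A * (A + E2 * χ b) := by
      intro b
      rw [hχdef b]
      by_cases hsq : IsSquare (⟨1, b⟩ : QuadraticAlgebra F δ 0)
      · rw [if_pos hsq, hs2 _ (hz b) hsq, hA, mul_one]
      · rw [if_neg hsq, hn2 _ (hz b) hsq, hA]; ring
    have hsum : ∀ E : ℤ, ∑ b : F, A * (A + E * χ b) =
        (Fintype.card F : ℤ) * (A * A) + A * E * ∑ b : F, χ b := by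
      intro E
      calc ∑ b : F, A * (A + E * χ b) = ∑ b : F, (A * A + (A * E) * χ b) :=
            Finset.sum_congr rfl (fun b _ => by ring)
        _ = ∑ _b : F, A * A + ∑ b : F, (A * E) * χ b := Finset.sum_add_distrib
        _ = (Fintype.card F : ℤ) * (A * A) + A * E * ∑ b : F, χ b := by
            rw [Finset.sum_const, Finset.card_univ, nsmul_eq_mul, ← Finset.mul_sum]
    have hX : (∑ b : F, χ b) ≠ 0 := by
      have hχ2 : ∀ b : F, χ b % 2 = 1 := by
        intro b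
        rw [hχdef b]
        split_ifs <;> norm_num
      have h3 : (∑ b : F, χ b) % 2 = 1 := by
        rw [Finset.sum_int_mod]
        simp only [hχ2]
        rw [Finset.sum_const, Finset.card_univ, nsmul_eq_mul, mul_one]
        obtain ⟨j, hj⟩ := hodd
        rw [hj]
        push_cast
        omega
      intro h0
      rw [h0] at h3
      norm_num at h3
    have hT1 : ((Nat.card {v : ι → F // Q v = 1} : ℕ) : ℤ) =
        (Fintype.card F : ℤ) * (A * A) + A * E1 * ∑ b : F, χ b := by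
      rw [hf1, Nat.cast_sum, ← hsum E1]
      exact Finset.sum_congr rfl (fun b _ => ht1 b)
    have hT2 : ((Nat.card {v : ι → F // Q v = 1} : ℕ) : ℤ) =
        (Fintype.card F : ℤ) * (A * A) + A * E2 * ∑ b : F, χ b := by
      rw [hf2, Nat.cast_sum, ← hsum E2]
      exact Finset.sum_congr rfl (fun b _ => ht2 b)
    have hE : E1 = E2 := by
      have h3 : A * E1 * ∑ b : F, χ b = A * E2 * ∑ b : F, χ b := by
        have h4 := hT1.symm.trans hT2
        exact add_left_cancel h4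
      exact mul_left_cancel₀ hA0 (mul_right_cancel₀ hX h3)
    have h11 := hs1 1 one_ne_zero ⟨1, by rw [mul_one]⟩
    have h12 := hs2 1 one_ne_zero ⟨1, by rw [mul_one]⟩
    rw [hE] at h11
    exact_mod_cast h11.trans h12.symm

end Cfsg.Agent.Lib.helper2
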