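import Mathlib

/-! S2113 split (architect helper51), piece TWOM (`two_model`): an element of order 7 acting
fixed-point-freely on a self-centralising `2³` whose normalizer has order 168. -/

set_option autoImplicit false

namespace Cfsg.Agent.Lib.helper50.S2113

/-- PIECE TWOM: an element of order 7 acting fixed-point-freely on a self-centralising `2³`. -/
theorem helper50_two_model {G : Type*} [Group G] [Finite G] (S : Subgroup G)
    (hcard : Nat.card S = 8)
    (hexp : ∀ x ∈ S, x * x = 1) (hcent : Subgroup.centralizer (S : Set G) = S)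
    (hnorm : Nat.card (Subgroup.normalizer (S : Set G)) = 168) :
    ∃ g : G, (∀ x ∈ S, g * x * g⁻¹ ∈ S) ∧ g ^ 7 = 1 ∧ ∀ x ∈ S, g * x * g⁻¹ = x → x = 1 := by
  classical
  have : Fact (Nat.Prime 7) := ⟨by norm_num⟩
  obtain ⟨⟨g, hgN⟩, hg7⟩ := exists_prime_orderOf_dvd_card'
    (G := ↥(Subgroup.normalizer (S : Set G))) 7 (by rw [hnorm]; norm_num)
  have hord : orderOf g = 7 := by
    rw [← hg7]
    exact (Subgroup.orderOf_mk g hgN).symm
  have hpow : g ^ 7 = 1 := by
    rw [← hord]; exact pow_orderOf_eq_one g
  have hle : Subgroup.zpowers g ≤ Subgroup.normalizer (S : Set G) :=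
    Subgroup.zpowers_le.mpr hgN
  have hmem : ∀ h ∈ Subgroup.zpowers g, ∀ x ∈ S, h * x * h⁻¹ ∈ S := by
    intro h hh x hx
    exact (Subgroup.mem_normalizer_iff.mp (hle hh) x).mp hx
  refine ⟨g, hmem g (Subgroup.mem_zpowers g), hpow, ?_⟩
  intro x hxS hfix
  by_contra hx1
  -- the conjugation action of `⟨g⟩` on `S`
  letI : MulAction (Subgroup.zpowers g) S :=
    { smul := fun h x => ⟨(h : G) * (x : G) * (h : G)⁻¹, hmem h h.2 x x.2⟩
      one_smul := by
        intro a
        apply Subtype.ext
        show ((1 : Subgroup.zpowers g) : G) * (a : G) * ((1 : Subgroup.zpowers g) : G)⁻¹ = a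
        simp
      mul_smul := by
        intro a b c
        apply Subtype.ext
        show ((a * b : Subgroup.zpowers g) : G) * (c : G) * ((a * b : Subgroup.zpowers g) : G)⁻¹ =
          (a : G) * ((b : G) * (c : G) * (b : G)⁻¹) * (a : G)⁻¹
        simp [mul_assoc] }
  have hsmul : ∀ (h : Subgroup.zpowers g) (a : S),
      ((h • a : S) : G) = (h : G) * (a : G) * (h : G)⁻¹ := fun _ _ => rfl
  have hP : IsPGroup 7 (Subgroup.zpowers g) := by
    apply IsPGroup.of_card (n := 1)
    rw [Nat.card_zpowers, hord, pow_one]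
  have hmod := hP.card_modEq_card_fixedPoints S
  rw [hcard] at hmod
  -- `1` and `x` are fixed points
  have hfix1 : (1 : S) ∈ MulAction.fixedPoints (Subgroup.zpowers g) S := by
    intro h
    apply Subtype.ext
    rw [hsmul]
    simp
  have hfixx : (⟨x, hxS⟩ : S) ∈ MulAction.fixedPoints (Subgroup.zpowers g) S := by
    intro h
    apply Subtype.ext
    rw [hsmul]
    show (h : G) * x * (h : G)⁻¹ = x
    have hgc : g ∈ Subgroup.centralizer ({x} : Set G) := by
      rw [Subgroup.mem_centralizer_iff]
      intro y hy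
      rw [Set.mem_singleton_iff] at hy
      subst hy
      have := congrArg (fun z => z * g) hfix
      simpa [mul_assoc] using this.symm
    have hhc : (h : G) ∈ Subgroup.centralizer ({x} : Set G) :=
      (Subgroup.zpowers_le.mpr hgc) h.2
    rw [Subgroup.mem_centralizer_iff] at hhc
    have h2 := hhc x rfl
    rw [← h2, mul_inv_cancel_right]
  have hnt : Nontrivial (MulAction.fixedPoints (Subgroup.zpowers g) S) := by
    refine nontrivial_of_ne ⟨(1 : S), hfix1⟩ ⟨⟨x, hxS⟩, hfixx⟩ ?_
    intro h
    apply hx1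
    have h2 := congrArg (fun z : MulAction.fixedPoints (Subgroup.zpowers g) S => ((z : S) : G)) h
    exact h2.symm
  have h2le : 1 < Nat.card (MulAction.fixedPoints (Subgroup.zpowers g) S) :=
    Finite.one_lt_card_iff_nontrivial.mpr hnt
  have hle8 : Nat.card (MulAction.fixedPoints (Subgroup.zpowers g) S) ≤ 8 := by
    rw [← hcard]
    exact Nat.card_le_card_of_injective (fun z => (z : S)) Subtype.val_injective
  have h8 : Nat.card (MulAction.fixedPoints (Subgroup.zpowers g) S) = 8 := by
    have h3 : 8 % 7 = Nat.card (MulAction.fixedPoints (Subgroup.zpowers g) S) % 7 := hmod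
    omega
  have hbij : Function.Bijective
      (fun z : MulAction.fixedPoints (Subgroup.zpowers g) S => (z : S)) := by
    apply Function.Injective.bijective_of_nat_card_le Subtype.val_injective
    rw [h8, hcard]
  -- so `g` centralizes `S`
  have hgS : g ∈ Subgroup.centralizer (S : Set G) := by
    rw [Subgroup.mem_centralizer_iff]
    intro y hy
    obtain ⟨⟨a, ha⟩, hay⟩ := hbij.2 ⟨y, hy⟩
    have h1 := ha ⟨g, Subgroup.mem_zpowers g⟩
    have h2 := congrArg (fun z : S => (z : G)) h1
    have h3 : g * (a : G) * g⁻¹ = (a : G) := h2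
    have h4 : (a : G) = y := congrArg (fun z : S => (z : G)) hay
    rw [h4] at h3
    have := congrArg (fun z => z * g) h3
    simpa [mul_assoc] using this.symm
  rw [hcent] at hgS
  have hgg : g * g = 1 := hexp g hgS
  have hdvd : orderOf g ∣ 2 := by
    apply orderOf_dvd_of_pow_eq_one
    rw [pow_two]; exact hgg
  rw [hord] at hdvd
  norm_num at hdvd

end Cfsg.Agent.Lib.helper50.S2113
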