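import Cfsg.Agent.Lib.helper48.LBRefl

/-!
# S2686, piece O-CORE (hypothesis-passing form)

`NoCore 2 x` for the orthogonal-type graph automorphism `x = cAut (dlast N δ) * gAut` of
`PSL_{N+1}(F)`, from the reflection lemmas (O-REFL), the quadratic-form lemma (O-GEO) and the
fixed-point lemmas (FX), which are taken here as explicit hypotheses.
-/

set_option autoImplicit false

namespace Cfsg.Agent.Lib.helper50.S2686

open Matrix Cfsg
open Cfsg.Agent.Lib.helper47.PSLn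
open Cfsg.Agent.Lib.helper48.LB

variable {F : Type*} [Field F]

theorem oc_sim_transfer {ι : Type*} [Fintype ι] [DecidableEq ι] (D G h h' : Matrix ι ι F)
    (hGD : G * D = 1) (hDG : D * G = 1) (hh : h * h' = 1) (c : F) (hs : h * D * hᵀ = c • D) :
    hᵀ * G * h = c • G := by
  have hh' : h' * h = 1 := mul_eq_one_comm.mp hh
  have ht : hᵀ * h'ᵀ = 1 := by rw [← Matrix.transpose_mul, hh', Matrix.transpose_one]
  have h1 : h * D = c • (D * h'ᵀ) := by
    calc h * D = h * D * (hᵀ * h'ᵀ) := by rw [ht, Matrix.mul_one]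
      _ = (h * D * hᵀ) * h'ᵀ := by rw [Matrix.mul_assoc (h * D) hᵀ h'ᵀ]
      _ = c • (D * h'ᵀ) := by rw [hs, Matrix.smul_mul]
  have e1 : hᵀ * G * h = hᵀ * G * (h * D) * G := by
    rw [Matrix.mul_assoc (hᵀ * G) (h * D) G, Matrix.mul_assoc h D G, hDG, Matrix.mul_one]
  rw [e1, h1, Matrix.mul_smul, Matrix.smul_mul, ← Matrix.mul_assoc (hᵀ * G) D,
    Matrix.mul_assoc hᵀ G D, hGD, Matrix.mul_one, ht, Matrix.one_mul]

theorem oc_bil_map {ι : Type*} [Fintype ι] (G h : Matrix ι ι F) (a b : ι → F) :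
    (h *ᵥ a) ⬝ᵥ G *ᵥ (h *ᵥ b) = a ⬝ᵥ (hᵀ * G * h) *ᵥ b := by
  rw [Matrix.mulVec_mulVec, dotProduct_comm, Matrix.dotProduct_mulVec, ← Matrix.mulVec_transpose,
    dotProduct_comm, Matrix.mulVec_mulVec, Matrix.mul_assoc]

theorem oc_single {ι : Type*} [Fintype ι] [DecidableEq ι] (G : Matrix ι ι F) (i j : ι) :
    (Pi.single i (1 : F)) ⬝ᵥ G *ᵥ (Pi.single j (1 : F)) = G i j := by
  rw [Matrix.mulVec_single_one, single_one_dotProduct]
  rfl

/-- **O-CORE**, with the pieces O-REFL, O-GEO and FX as explicit hypotheses. -/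
theorem orth_noCore_of {N : ℕ} (hN : 2 ≤ N) (δ : Fˣ)
    (G : Matrix (Fin (N + 1)) (Fin (N + 1)) F) (hGdef : G = Dlast N ((δ⁻¹ : Fˣ) : F))
    (HR1 : ∀ v : Fin (N + 1) → F, v ⬝ᵥ G *ᵥ v ≠ 0 → refl G v * refl G v = 1)
    (HR2 : ∀ v : Fin (N + 1) → F, v ⬝ᵥ G *ᵥ v ≠ 0 → (refl G v)ᵀ * G * refl G v = G)
    (HR4 : ∀ (h h' : Matrix (Fin (N + 1)) (Fin (N + 1)) F), h * h' = 1 → ∀ c : F, c ≠ 0 →
        hᵀ * G * h = c • G → ∀ v : Fin (N + 1) → F, h' * refl G v * h = refl G (h' *ᵥ v))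
    (HR5 : ∀ a b : Fin (N + 1) → F, a ⬝ᵥ G *ᵥ a ≠ 0 → b ⬝ᵥ G *ᵥ b ≠ 0 → a ⬝ᵥ G *ᵥ b = 0 →
        (refl G a * refl G b) * (refl G a * refl G b) = 1)
    (HR6 : ∀ a b : Fin (N + 1) → F, a ⬝ᵥ G *ᵥ a ≠ 0 → b ⬝ᵥ G *ᵥ b ≠ 0 → a ⬝ᵥ G *ᵥ b = 0 →
        ∀ c : F, refl G a * refl G b ≠ c • (1 : Matrix (Fin (N + 1)) (Fin (N + 1)) F))
    (HGEO : ∀ v w : Fin (N + 1) → F, v ⬝ᵥ G *ᵥ v ≠ 0 → w ⬝ᵥ G *ᵥ w ≠ 0 → (∀ t : F, w ≠ t • v) →
        ∃ u : Fin (N + 1) → F, u ⬝ᵥ G *ᵥ u ≠ 0 ∧ u ⬝ᵥ G *ᵥ ((refl G w * refl G v) *ᵥ u) = 0)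
    (HFX1 : ∀ s : SpecialLinearGroup (Fin (N + 1)) F,
        (cAut (dlast N δ) * gAut : MulAut (ProjectiveSpecialLinearGroup (Fin (N + 1)) F)) (pr s)
          = pr s → ∃ c : F, s.1 * (dlast N δ).1 * s.1ᵀ = c • (dlast N δ).1)
    (HFX2 : ∀ (g : GL (Fin (N + 1)) F) (c : F), g.1 * (dlast N δ).1 * g.1ᵀ = c • (dlast N δ).1 →
        cAut g * (cAut (dlast N δ) * gAut : MulAut (ProjectiveSpecialLinearGroup (Fin (N + 1)) F))
          = (cAut (dlast N δ) * gAut) * cAut g) :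
    NoCore 2 (cAut (dlast N δ) * gAut : MulAut (ProjectiveSpecialLinearGroup (Fin (N + 1)) F)) := by
  classical
  obtain ⟨D, hD⟩ : ∃ D : Matrix (Fin (N + 1)) (Fin (N + 1)) F, D = (dlast N δ).1 := ⟨_, rfl⟩
  rw [← hD] at HFX1 HFX2
  have hGD : G * D = 1 := by rw [hGdef, hD]; exact (dlast N δ).inv_val
  have hDG : D * G = 1 := by rw [hGdef, hD]; exact (dlast N δ).val_inv
  have hdetG : G.det ≠ 0 := by
    intro h0
    have h1 := congrArg Matrix.det hGD
    rw [Matrix.det_mul, h0, zero_mul, Matrix.det_one] at h1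
    exact zero_ne_one h1
  intro M hMfix hMinv hcop
  have hSLinv : ∀ h : SpecialLinearGroup (Fin (N + 1)) F, h.1 * (h⁻¹).1 = 1 := by
    intro h
    rw [← Matrix.SpecialLinearGroup.coe_mul, mul_inv_cancel]
    rfl
  -- the form on preimages
  have hQpre : ∀ (h h' : Matrix (Fin (N + 1)) (Fin (N + 1)) F), h * h' = 1 → ∀ c : F,
      hᵀ * G * h = c • G → ∀ a b : Fin (N + 1) → F,
        a ⬝ᵥ G *ᵥ b = c * ((h' *ᵥ a) ⬝ᵥ G *ᵥ (h' *ᵥ b)) := by
    intro h h' hh c hsim a b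
    have h1 := oc_bil_map G h (h' *ᵥ a) (h' *ᵥ b)
    have ea : h *ᵥ (h' *ᵥ a) = a := by rw [Matrix.mulVec_mulVec, hh, Matrix.one_mulVec]
    have eb : h *ᵥ (h' *ᵥ b) = b := by rw [Matrix.mulVec_mulVec, hh, Matrix.one_mulVec]
    rw [ea, eb, hsim, Matrix.smul_mulVec, dotProduct_smul, smul_eq_mul] at h1
    exact h1
  -- the basic step: `m⁻¹ * a_v m ∈ M`
  have stepA : ∀ (h : SpecialLinearGroup (Fin (N + 1)) F) (c : F), c ≠ 0 →
      h.1ᵀ * G * h.1 = c • G → pr h ∈ M → ∀ v : Fin (N + 1) → F, v ⬝ᵥ G *ᵥ v ≠ 0 →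
      ∃ k : SpecialLinearGroup (Fin (N + 1)) F,
        k.1 = refl G ((h⁻¹).1 *ᵥ v) * refl G v ∧ pr k ∈ M := by
    intro h c hc hsim hm v hv
    have hρ : refl G v * refl G v = 1 := HR1 v hv
    have hiso := HR2 v hv
    obtain ⟨g, hg1, hg2⟩ : ∃ g : GL (Fin (N + 1)) F, g.1 = refl G v ∧ g⁻¹.1 = refl G v :=
      ⟨⟨refl G v, refl G v, hρ, hρ⟩, rfl, rfl⟩
    have hgD : g.1 * D * g.1ᵀ = (1 : F) • D := by
      rw [hg1, one_smul]
      have e1 : (refl G v)ᵀ * G = G * refl G v := by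
        calc (refl G v)ᵀ * G = (refl G v)ᵀ * G * (refl G v * refl G v) := by
              rw [hρ, Matrix.mul_one]
          _ = (refl G v)ᵀ * G * refl G v * refl G v := by
              rw [Matrix.mul_assoc ((refl G v)ᵀ * G) (refl G v) (refl G v)]
          _ = G * refl G v := by rw [hiso]
      calc refl G v * D * (refl G v)ᵀ = refl G v * D * ((refl G v)ᵀ * G) * D := by
            rw [Matrix.mul_assoc (refl G v * D) ((refl G v)ᵀ * G) D,
              Matrix.mul_assoc (refl G v)ᵀ G D, hGD, Matrix.mul_one]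
        _ = refl G v * (D * G) * refl G v * D := by rw [e1]; simp only [Matrix.mul_assoc]
        _ = D := by rw [hDG, Matrix.mul_one, hρ, Matrix.one_mul]
    have hcomm := HFX2 g 1 hgD
    have hmem := hMinv (cAut g) hcomm (pr h) hm
    rw [cAut_pr] at hmem
    refine ⟨h⁻¹ * conjSL g h, ?_, ?_⟩
    · rw [Matrix.SpecialLinearGroup.coe_mul, conjSL_coe, hg1, hg2,
        ← HR4 h.1 (h⁻¹).1 (hSLinv h) c hc hsim v]
      simp only [Matrix.mul_assoc]
    · rw [map_mul, map_inv]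
      exact M.mul_mem (M.inv_mem hm) hmem
  rw [Subgroup.eq_bot_iff_forall]
  intro m hm
  obtain ⟨h, rfl⟩ := pr_surj m
  obtain ⟨c, hc0⟩ := HFX1 h (hMfix _ hm)
  have hsim : h.1ᵀ * G * h.1 = c • G :=
    oc_sim_transfer D G h.1 (h⁻¹).1 hGD hDG (hSLinv h) c hc0
  have hc : c ≠ 0 := by
    rintro rfl
    have h1 := congrArg Matrix.det hsim
    rw [zero_smul, Matrix.det_mul, Matrix.det_mul, Matrix.det_transpose, h.2, one_mul, mul_one,
      Matrix.det_zero] at h1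
    exact hdetG h1
  -- every anisotropic vector is an eigenvector of `h⁻¹`
  have key : ∀ v : Fin (N + 1) → F, v ⬝ᵥ G *ᵥ v ≠ 0 → ∃ t : F, (h⁻¹).1 *ᵥ v = t • v := by
    intro v hv
    by_contra hcon
    simp only [not_exists] at hcon
    have hQw : ((h⁻¹).1 *ᵥ v) ⬝ᵥ G *ᵥ ((h⁻¹).1 *ᵥ v) ≠ 0 := by
      intro h0
      apply hv
      rw [hQpre h.1 (h⁻¹).1 (hSLinv h) c hsim v v, h0, mul_zero]
    obtain ⟨k, hk, hkM⟩ := stepA h c hc hsim hm v hv
    have hkiso : k.1ᵀ * G * k.1 = G := by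
      rw [hk, Matrix.transpose_mul]
      calc (refl G v)ᵀ * (refl G ((h⁻¹).1 *ᵥ v))ᵀ * G * (refl G ((h⁻¹).1 *ᵥ v) * refl G v)
            = (refl G v)ᵀ * ((refl G ((h⁻¹).1 *ᵥ v))ᵀ * G * refl G ((h⁻¹).1 *ᵥ v)) * refl G v := by
              simp only [Matrix.mul_assoc]
        _ = G := by rw [HR2 _ hQw, HR2 v hv]
    have hkiso1 : k.1ᵀ * G * k.1 = (1 : F) • G := by rw [one_smul]; exact hkiso
    obtain ⟨u, hu, hperp⟩ := HGEO v _ hv hQw hcon
    rw [← hk] at hperp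
    obtain ⟨k₂, hk₂, hk₂M⟩ := stepA k 1 one_ne_zero hkiso1 hkM u hu
    have hQu' : ((k⁻¹).1 *ᵥ u) ⬝ᵥ G *ᵥ ((k⁻¹).1 *ᵥ u) ≠ 0 := by
      intro h0
      apply hu
      rw [hQpre k.1 (k⁻¹).1 (hSLinv k) 1 hkiso1 u u, h0, mul_zero]
    have hperp' : ((k⁻¹).1 *ᵥ u) ⬝ᵥ G *ᵥ u = 0 := by
      have h1 := oc_bil_map G k.1 ((k⁻¹).1 *ᵥ u) u
      rw [Matrix.mulVec_mulVec, hSLinv k, Matrix.one_mulVec, hkiso] at h1
      rw [← h1]
      exact hperp
    have hsq : k₂ * k₂ = 1 := by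
      apply Subtype.ext
      rw [Matrix.SpecialLinearGroup.coe_mul, hk₂]
      exact HR5 _ u hQu' hu hperp'
    have hne : pr k₂ ≠ 1 := by
      intro h1
      have h3 : pr (1 : SpecialLinearGroup (Fin (N + 1)) F) = pr k₂ := by rw [h1, map_one]
      obtain ⟨c', -, hc'⟩ := (pr_eq_iff _ _).mp h3
      rw [hk₂] at hc'
      exact HR6 _ u hQu' hu hperp' c' hc'
    have hord : orderOf (pr k₂) = 2 := by
      have : Fact (Nat.Prime 2) := ⟨Nat.prime_two⟩
      apply orderOf_eq_prime _ hne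
      rw [pow_two, ← map_mul, hsq, map_one]
    have hdvd : 2 ∣ Nat.card M := by
      have h3 : orderOf (⟨pr k₂, hk₂M⟩ : ↥M) = orderOf (pr k₂) := by
        rw [← Subgroup.orderOf_coe]
      rw [← hord, ← h3]
      exact orderOf_dvd_natCard _
    have h4 := Nat.Coprime.eq_one_of_dvd hcop.symm hdvd
    omega
  -- hence `h⁻¹` is scalar
  have hGdiag : ∀ i j : Fin (N + 1),
      G i j = if i = j then (if i = Fin.last N then ((δ⁻¹ : Fˣ) : F) else 1) else 0 := by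
    intro i j
    rw [hGdef]
    unfold Dlast
    rw [Matrix.diagonal_apply]
  have hg0 : ∀ i : Fin (N + 1), G i i ≠ 0 := by
    intro i
    rw [hGdiag, if_pos rfl]
    split_ifs
    · exact Units.ne_zero _
    · exact one_ne_zero
  have hGoff : ∀ i j : Fin (N + 1), i ≠ j → G i j = 0 := by
    intro i j hij
    rw [hGdiag, if_neg hij]
  have hdiag : ∀ i : Fin (N + 1), ∃ t : F, ∀ j, (h⁻¹).1 j i = if j = i then t else 0 := by
    intro i
    have hq : (Pi.single i (1 : F)) ⬝ᵥ G *ᵥ (Pi.single i (1 : F)) ≠ 0 := by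
      rw [oc_single]
      exact hg0 i
    obtain ⟨t, ht⟩ := key _ hq
    refine ⟨t, fun j => ?_⟩
    have h1 := congrFun ht j
    rw [Matrix.mulVec_single_one] at h1
    simp only [Pi.smul_apply, smul_eq_mul, Pi.single_apply, mul_ite, mul_one, mul_zero] at h1
    exact h1
  choose t ht using hdiag
  have hrow : ∀ (v : Fin (N + 1) → F) (l : Fin (N + 1)), ((h⁻¹).1 *ᵥ v) l = t l * v l := by
    intro v l
    rw [Matrix.mulVec, dotProduct, Finset.sum_eq_single l]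
    · rw [ht l l, if_pos rfl]
    · intro b _ hb
      rw [ht b l, if_neg hb.symm, zero_mul]
    · intro h'
      exact absurd (Finset.mem_univ l) h'
  have hteq : ∀ i j : Fin (N + 1), i ≠ j → t i = t j := by
    intro i j hij
    have hv : ∃ v : Fin (N + 1) → F, v ⬝ᵥ G *ᵥ v ≠ 0 ∧ v i = 1 ∧ v j = 1 := by
      by_cases hs : G i i + G j j = 0
      · obtain ⟨k, hki, hkj⟩ : ∃ k : Fin (N + 1), k ≠ i ∧ k ≠ j := by
          by_contra hcon
          simp only [not_exists, not_and, not_not] at hcon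
          have h0 := hcon ⟨0, by omega⟩
          have h1 := hcon ⟨1, by omega⟩
          have h2' := hcon ⟨2, by omega⟩
          rcases i with ⟨i, hi⟩
          rcases j with ⟨j, hj⟩
          simp only [ne_eq, Fin.mk.injEq] at h0 h1 h2' hij
          omega
        refine ⟨Pi.single i 1 + Pi.single j 1 + Pi.single k 1, ?_, ?_, ?_⟩
        · simp only [add_dotProduct, Matrix.mulVec_add, dotProduct_add, oc_single]
          rw [hGoff i j hij, hGoff j i hij.symm, hGoff i k hki.symm, hGoff k i hki,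
            hGoff j k hkj.symm, hGoff k j hkj]
          intro h0
          apply hg0 k
          linear_combination h0 - hs
        · simp [Pi.single_apply, hij, hij.symm, hki, hki.symm]
        · simp [Pi.single_apply, hij, hij.symm, hkj, hkj.symm]
      · refine ⟨Pi.single i 1 + Pi.single j 1, ?_, ?_, ?_⟩
        · simp only [add_dotProduct, Matrix.mulVec_add, dotProduct_add, oc_single]
          rw [hGoff i j hij, hGoff j i hij.symm]
          intro h0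
          apply hs
          linear_combination h0
        · simp [Pi.single_apply, hij, hij.symm]
        · simp [Pi.single_apply, hij, hij.symm]
    obtain ⟨v, hv, hvi, hvj⟩ := hv
    obtain ⟨s, hs⟩ := key v hv
    have hi := congrFun hs i
    have hj := congrFun hs j
    rw [hrow, Pi.smul_apply, hvi, smul_eq_mul, mul_one, mul_one] at hi
    rw [hrow, Pi.smul_apply, hvj, smul_eq_mul, mul_one, mul_one] at hj
    rw [hi, hj]
  have hscal : (h⁻¹).1 = t 0 • (1 : Matrix (Fin (N + 1)) (Fin (N + 1)) F) := by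
    ext a b
    rw [ht b a, Matrix.smul_apply, Matrix.one_apply, smul_eq_mul]
    by_cases hab : a = b
    · subst hab
      rw [if_pos rfl, if_pos rfl, mul_one]
      by_cases h0 : a = 0
      · rw [h0]
      · exact hteq a 0 h0
    · rw [if_neg hab, if_neg hab, mul_zero]
  have h1 : pr (1 : SpecialLinearGroup (Fin (N + 1)) F) = pr h⁻¹ := by
    rw [pr_eq_iff]
    refine ⟨t 0, ?_, ?_⟩
    · have h3 : (h⁻¹).1.det = 1 := (h⁻¹).2
      rw [hscal, Matrix.det_smul, Matrix.det_one, mul_one, Fintype.card_fin] at h3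
      exact h3
    · rw [hscal]
      rfl
  rw [map_one, map_inv] at h1
  exact inv_eq_one.mp h1.symm

end Cfsg.Agent.Lib.helper50.S2686
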