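import Cfsg.Agent.Lib.helper50.S2687GCENTa
import Cfsg.Agent.Lib.helper1.S2687GOI
import Cfsg.Agent.Lib.helper27.S2687GAL
import Cfsg.Agent.Lib.helper48.S2687GLINO
import Cfsg.Agent.Lib.helper22.S2687GLINS

/-!
# S2687, piece G-CENT

`NoCent 2 (graphU σ A)` for a graph-type involution of `PSU_n(q)` (`q` odd): exact statement of
`tools/S2687_Skel.lean.txt`.
-/

set_option autoImplicit false

namespace Cfsg.Agent.Lib.helper50.S2687

open Matrix Cfsg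
open Cfsg.Agent.Lib.helper50
open Cfsg.Agent.Lib.helper48.LB
open Cfsg.Agent.Lib.helper48.AbsBal (fixG)
open Cfsg.Agent.Lib.helper99 (suMat)

universe u v

variable {n q : ℕ} {F : Type u} [Field F] [Fintype F]

/-- G-CENT -/
theorem graphU_noCent {F₀ : Type v} [Field F₀] [Fintype F₀] (hF : Fintype.card F = q ^ 2)
    (hn : 3 ≤ n) (h32 : ¬ (n = 3 ∧ q = 2)) {r f : ℕ} [Fact r.Prime] (hq : q = r ^ f) (hf : 1 ≤ f)
    (h2 : (2 : F) ≠ 0) (σ : F ≃+* F) (hσ : ∀ a, σ a = a ^ q) (ι : F₀ →+* F)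
    (hι1 : ∀ y, σ (ι y) = ι y) (hι2 : ∀ x, σ x = x → ∃ y, ι y = x) (δs : F) (hδs : δs ≠ 0)
    (A : ↥(GU n F q)) (A₀ : GL (Fin n) F₀) (hrel : Rel σ ι δs A A₀) :
    NoCent 2 (graphU σ A) :=
  graphU_noCent_of hF hn σ hσ ι hι1 hι2 δs hδs A A₀ hrel
    (fun a ha => Cfsg.Agent.Lib.helper1.S2687.odd_aut_form_U hF hn h32 hq hf a ha)
    (fun M₀ hM₀ hdet w hw τ h =>
      Cfsg.Agent.Lib.helper48.S2687.lin_orth ι (two_ne_zero_of_emb ι h2) hn M₀ hM₀ hdet w hw τ h)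
    (fun M₀ hM₀ hdet w hw τ h =>
      Cfsg.Agent.Lib.helper22.S2687.lin_symp ι (two_ne_zero_of_emb ι h2) hn M₀ hM₀ hdet w hw τ h)
    (fun τ h => Cfsg.Agent.Lib.helper27.S2687.mem_zpowers_of_fix σ τ h)

end Cfsg.Agent.Lib.helper50.S2687
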