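import Cfsg.Agent.Lib.helper48.LBRefl
import Cfsg.Agent.Lib.helper50.PSUTransfer
import Cfsg.Agent.Lib.helper50.PSUF4
import Cfsg.Agent.Lib.helper48.PSUOut
import Cfsg.Agent.S0283

/-!
# S2687, piece G-CENT (hypothesis-passing form)

`NoCent 2 (graphU σ A)` for a graph-type involution of `PSU_n(q)` (`q` odd), from the pieces G-OI,
G-LIN-O, G-LIN-S and GAL, which are taken here as explicit hypotheses.
-/

set_option autoImplicit false

namespace Cfsg.Agent.Lib.helper50.S2687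

open Matrix Cfsg
open Cfsg.Agent.Lib.helper50
open Cfsg.Agent.Lib.helper48.LB
open Cfsg.Agent.Lib.helper48.AbsBal (fixG)
open Cfsg.Agent.Lib.helper99 (suMat)

universe u v

variable {n q : ℕ} {F : Type u} [Field F] [Fintype F]

/-- G-CENT with G-OI, G-LIN-O, G-LIN-S, GAL as hypotheses -/
theorem graphU_noCent_of {F₀ : Type v} [Field F₀] (hF : Fintype.card F = q ^ 2)
    (hn : 3 ≤ n) (σ : F ≃+* F) (hσ : ∀ a, σ a = a ^ q) (ι : F₀ →+* F)
    (hι1 : ∀ y, σ (ι y) = ι y) (hι2 : ∀ x, σ x = x → ∃ y, ι y = x) (δs : F) (hδs : δs ≠ 0)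
    (A : ↥(GU n F q)) (A₀ : GL (Fin n) F₀) (hrel : Rel σ ι δs A A₀)
    (HOI : ∀ a : MulAut (PSU n F q), Odd (orderOf a) →
      ∃ (w : ↥(GU n F q)) (τ : F ≃+* F), a = phiPSU w * fieldPSU τ ∧ Odd (orderOf τ) ∧
        ∀ s : ↥(SU n F q), s * s = 1 → a (QuotientGroup.mk s) = QuotientGroup.mk s →
          ((w : GL (Fin n) F) : Matrix (Fin n) (Fin n) F) * (suMat s).map τ
            = suMat s * ((w : GL (Fin n) F) : Matrix (Fin n) (Fin n) F))
    (HLO : ∀ (M₀ : Matrix (Fin n) (Fin n) F₀), M₀ᵀ = M₀ → M₀.det ≠ 0 →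
      ∀ (w : Matrix (Fin n) (Fin n) F), w.det ≠ 0 → ∀ τ : F ≃+* F,
      (∀ S : Matrix (Fin n) (Fin n) F₀, S * S = 1 → S.det = 1 → Sᵀ * M₀ * S = M₀ →
        w * (S.map ι).map τ = S.map ι * w) →
      (∃ c : F, w = c • (1 : Matrix (Fin n) (Fin n) F)) ∧ ∀ y : F₀, τ (ι y) = ι y)
    (HLS : ∀ (M₀ : Matrix (Fin n) (Fin n) F₀), M₀ᵀ = -M₀ → M₀.det ≠ 0 →
      ∀ (w : Matrix (Fin n) (Fin n) F), w.det ≠ 0 → ∀ τ : F ≃+* F,
      (∀ S : Matrix (Fin n) (Fin n) F₀, S.det = 1 → Sᵀ * M₀ * S = M₀ →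
        ∃ ζ : F, w * (S.map ι).map τ = ζ • (S.map ι * w)) →
      (∃ c : F, w = c • (1 : Matrix (Fin n) (Fin n) F)) ∧ ∀ y : F₀, τ (ι y) = ι y)
    (HGAL : ∀ τ : F ≃+* F, (∀ x : F, σ x = x → τ x = x) → τ ∈ Subgroup.zpowers σ) :
    NoCent 2 (graphU σ A) := by
  classical
  intro a _ hfix hcop
  have hodd : Odd (orderOf a) := Nat.Coprime.odd_of_right hcop
  obtain ⟨w, τ, ha, hτodd, hOI⟩ := HOI a hodd
  have i0 : Fin n := ⟨0, by omega⟩
  -- a uniform description of the correspondence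
  obtain ⟨δ, hδ, hcorr, hcase⟩ : ∃ δ : F, δ ≠ 0 ∧ Corr σ ι δ A A₀ ∧
      ((A₀ : Matrix (Fin n) (Fin n) F₀)ᵀ = (A₀ : Matrix (Fin n) (Fin n) F₀) ∨
        (A₀ : Matrix (Fin n) (Fin n) F₀)ᵀ = -(A₀ : Matrix (Fin n) (Fin n) F₀)) := by
    rcases hrel with ⟨-, h1, h3⟩ | ⟨-, -, h1, h3⟩
    · exact ⟨1, one_ne_zero, h3, Or.inl h1⟩
    · exact ⟨δs, hδs, h3, Or.inr h1⟩
  obtain ⟨e, P, he, hAP, hG⟩ := hcorr
  obtain ⟨Am, hAm⟩ : ∃ Am : Matrix (Fin n) (Fin n) F,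
      Am = ((A : GL (Fin n) F) : Matrix (Fin n) (Fin n) F) := ⟨_, rfl⟩
  obtain ⟨Ai, hAi⟩ : ∃ Ai : Matrix (Fin n) (Fin n) F,
      Ai = (((A⁻¹ : ↥(GU n F q)) : GL (Fin n) F) : Matrix (Fin n) (Fin n) F) := ⟨_, rfl⟩
  have hAAi : Am * Ai = 1 := by
    rw [hAm, hAi]
    exact Units.mul_inv (A : GL (Fin n) F)
  obtain ⟨Pm, hPm⟩ : ∃ Pm : Matrix (Fin n) (Fin n) F, Pm = (P : Matrix (Fin n) (Fin n) F) :=
    ⟨_, rfl⟩
  obtain ⟨Pi, hPi⟩ : ∃ Pi : Matrix (Fin n) (Fin n) F,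
      Pi = ((P⁻¹ : GL (Fin n) F) : Matrix (Fin n) (Fin n) F) := ⟨_, rfl⟩
  have hPPi : Pm * Pi = 1 := by rw [hPm, hPi]; exact Units.mul_inv P
  have hPiP : Pi * Pm = 1 := by rw [hPm, hPi]; exact Units.inv_mul P
  rw [← hAm, ← hPm] at hAP
  rw [← hPm] at hG
  obtain ⟨wm, hwm⟩ : ∃ wm : Matrix (Fin n) (Fin n) F,
      wm = ((w : GL (Fin n) F) : Matrix (Fin n) (Fin n) F) := ⟨_, rfl⟩
  obtain ⟨wi, hwi⟩ : ∃ wi : Matrix (Fin n) (Fin n) F,
      wi = (((w⁻¹ : ↥(GU n F q)) : GL (Fin n) F) : Matrix (Fin n) (Fin n) F) := ⟨_, rfl⟩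
  have hwwi : wm * wi = 1 := by
    rw [hwm, hwi]
    exact Units.mul_inv (w : GL (Fin n) F)
  have hwiw : wi * wm = 1 := mul_eq_one_comm.mp hwwi
  rw [← hwm] at hOI
  -- the form over `F₀`
  obtain ⟨M₀, hM₀⟩ : ∃ M₀ : Matrix (Fin n) (Fin n) F₀,
      M₀ = ((A₀⁻¹ : GL (Fin n) F₀) : Matrix (Fin n) (Fin n) F₀) := ⟨_, rfl⟩
  have hA₀M : (A₀ : Matrix (Fin n) (Fin n) F₀) * M₀ = 1 := by rw [hM₀]; exact Units.mul_inv A₀
  have hMA₀ : M₀ * (A₀ : Matrix (Fin n) (Fin n) F₀) = 1 := by rw [hM₀]; exact Units.inv_mul A₀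
  have hM₀det : M₀.det ≠ 0 := Matrix.det_ne_zero_of_right_inverse hMA₀
  have hGeq : Pmᵀ * Pm.map σ = δ • M₀.map ι := by
    calc Pmᵀ * Pm.map σ
        = Pmᵀ * Pm.map σ * ((A₀ : Matrix (Fin n) (Fin n) F₀).map ι * M₀.map ι) := by
          rw [← emb_mul, hA₀M, emb_one, Matrix.mul_one]
      _ = (Pmᵀ * Pm.map σ * (A₀ : Matrix (Fin n) (Fin n) F₀).map ι) * M₀.map ι := by
          rw [Matrix.mul_assoc (Pmᵀ * Pm.map σ)]
      _ = δ • M₀.map ι := by rw [hG, Matrix.smul_mul, Matrix.one_mul]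
  have hPτ : Pm.map τ * Pi.map τ = 1 := by rw [← bar_mul, hPPi, bar_one]
  have hPτ' : Pi.map τ * Pm.map τ = 1 := by rw [← bar_mul, hPiP, bar_one]
  -- fixed points of the graph automorphism coming from isometries over `F₀`
  have hfixS : ∀ S₀ : Matrix (Fin n) (Fin n) F₀, S₀.det = 1 → S₀ᵀ * M₀ * S₀ = M₀ →
      ∃ s : ↥(SU n F q), suMat s = Pm * S₀.map ι * Pi ∧
        a (QuotientGroup.mk s) = QuotientGroup.mk s := by
    intro S₀ hdet hiso
    obtain ⟨Sm, hSm⟩ : ∃ Sm : Matrix (Fin n) (Fin n) F, Sm = S₀.map ι := ⟨_, rfl⟩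
    have hSσ : Sm.map σ = Sm := by rw [hSm]; exact emb_bar σ ι hι1 S₀
    have hSG : Smᵀ * (Pmᵀ * Pm.map σ) * Sm = ((1 : F) * σ 1) • (Pmᵀ * Pm.map σ) := by
      rw [map_one, one_mul, one_smul, hGeq, Matrix.mul_smul, Matrix.smul_mul, hSm,
        ← Matrix.transpose_map, ← emb_mul, ← emb_mul, hiso]
    obtain ⟨h1, h2⟩ := descent_a σ Am Pm Pi e hPPi hPiP hAP Sm hSσ 1 one_ne_zero hSG
    rw [inv_one, one_smul] at h1 h2
    rw [map_one, mul_one, one_smul] at h2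
    rw [← hSm]
    obtain ⟨X, hX⟩ : ∃ X : Matrix (Fin n) (Fin n) F, X = Pm * Sm * Pi := ⟨_, rfl⟩
    rw [← hX] at h1 h2 ⊢
    have hXdet : X.det = 1 := by
      have h3 : Pm.det * Pi.det = 1 := by rw [← Matrix.det_mul, hPPi, Matrix.det_one]
      rw [hX, Matrix.det_mul, Matrix.det_mul, hSm, det_emb, hdet, map_one, mul_one, h3]
    have hXisom : ∀ u v : Fin n → F,
        hermForm n F q (X *ᵥ u) (X *ᵥ v) = hermForm n F q u v := by
      have h3 : Matrix.GeneralLinearGroup.mkOfDetNeZero X (by rw [hXdet]; exact one_ne_zero)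
          ∈ GU n F q := mem_GU_of_transpose_mul_map σ hσ _ h1
      exact (mem_GU_iff' _).mp h3
    refine ⟨Cfsg.Agent.Lib.helper99.mkSU X hXdet hXisom, rfl, ?_⟩
    apply hfix
    show (phiPSU A * fieldPSU σ : MulAut (PSU n F q))
        (QuotientGroup.mk (Cfsg.Agent.Lib.helper99.mkSU X hXdet hXisom))
      = QuotientGroup.mk (Cfsg.Agent.Lib.helper99.mkSU X hXdet hXisom)
    rw [MulAut.mul_apply, fieldPSU_mk, phiPSU_mk]
    congr 1
    apply Cfsg.Agent.Lib.helper99.suMat_inj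
    have e5 : suMat (conjSU A (fieldSU σ (Cfsg.Agent.Lib.helper99.mkSU X hXdet hXisom)))
        = Am * X.map σ * Ai := by
      rw [hAm, hAi]
      rfl
    rw [e5, Cfsg.Agent.Lib.helper99.suMat_mkSU]
    have h4 : X * Am = Am * X.map σ := by
      calc X * Am = X * Am * (Xᵀ * X.map σ) := by rw [h1, Matrix.mul_one]
        _ = (X * Am * Xᵀ) * X.map σ := by rw [Matrix.mul_assoc (X * Am)]
        _ = Am * X.map σ := by rw [h2]
    rw [← h4, Matrix.mul_assoc, hAAi, Matrix.mul_one]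
  -- the matrix `w' = P⁻¹ w P^τ`
  obtain ⟨w', hw'⟩ : ∃ w' : Matrix (Fin n) (Fin n) F, w' = Pi * wm * Pm.map τ := ⟨_, rfl⟩
  have hw'det : w'.det ≠ 0 := by
    apply Matrix.det_ne_zero_of_right_inverse (B := Pi.map τ * wi * Pm)
    rw [hw']
    calc Pi * wm * Pm.map τ * (Pi.map τ * wi * Pm)
        = Pi * (wm * (Pm.map τ * Pi.map τ) * wi) * Pm := by simp only [Matrix.mul_assoc]
      _ = 1 := by rw [hPτ, Matrix.mul_one, hwwi, Matrix.mul_one, hPiP]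
  -- transport of a relation `w X^τ = ζ X w` to `w'`
  have htrans : ∀ (Sm : Matrix (Fin n) (Fin n) F) (ζ : F),
      wm * (Pm * Sm * Pi).map τ = ζ • (Pm * Sm * Pi * wm) → w' * Sm.map τ = ζ • (Sm * w') := by
    intro Sm ζ h1
    rw [bar_mul, bar_mul] at h1
    calc w' * Sm.map τ = Pi * (wm * (Pm.map τ * Sm.map τ * Pi.map τ)) * Pm.map τ := by
          rw [hw']
          simp only [Matrix.mul_assoc]
          rw [hPτ', Matrix.mul_one]
      _ = ζ • (Sm * w') := by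
          rw [h1, hw', Matrix.mul_smul, Matrix.smul_mul]
          congr 1
          calc Pi * (Pm * Sm * Pi * wm) * Pm.map τ
              = (Pi * Pm) * Sm * (Pi * wm * Pm.map τ) := by simp only [Matrix.mul_assoc]
            _ = Sm * (Pi * wm * Pm.map τ) := by rw [hPiP, Matrix.one_mul]
  have hmain : (∃ c : F, w' = c • (1 : Matrix (Fin n) (Fin n) F)) ∧ ∀ y : F₀, τ (ι y) = ι y := by
    rcases hcase with hsym | hskew
    · have hM₀sym : M₀ᵀ = M₀ := by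
        calc M₀ᵀ = M₀ᵀ * ((A₀ : Matrix (Fin n) (Fin n) F₀) * M₀) := by rw [hA₀M, Matrix.mul_one]
          _ = (M₀ᵀ * (A₀ : Matrix (Fin n) (Fin n) F₀)ᵀ) * M₀ := by rw [hsym, Matrix.mul_assoc]
          _ = M₀ := by rw [← Matrix.transpose_mul, hA₀M, Matrix.transpose_one, Matrix.one_mul]
      apply HLO M₀ hM₀sym hM₀det w' hw'det τ
      intro S₀ hSS hdet hiso
      obtain ⟨s, hs, has⟩ := hfixS S₀ hdet hiso
      have hss : s * s = 1 := by
        apply Cfsg.Agent.Lib.helper99.suMat_inj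
        rw [Cfsg.Agent.Lib.helper99.suMat_mul, hs, Cfsg.Agent.Lib.helper99.suMat_one]
        calc Pm * S₀.map ι * Pi * (Pm * S₀.map ι * Pi)
            = Pm * (S₀.map ι * (Pi * Pm) * S₀.map ι) * Pi := by simp only [Matrix.mul_assoc]
          _ = 1 := by rw [hPiP, Matrix.mul_one, ← emb_mul, hSS, emb_one, Matrix.mul_one, hPPi]
      have h3 := hOI s hss has
      rw [hs] at h3
      have h4 := htrans (S₀.map ι) 1 (by rw [one_smul]; exact h3)
      rw [one_smul] at h4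
      exact h4
    · have hM₀skew : M₀ᵀ = -M₀ := by
        calc M₀ᵀ = M₀ᵀ * ((A₀ : Matrix (Fin n) (Fin n) F₀) * M₀) := by rw [hA₀M, Matrix.mul_one]
          _ = -((M₀ᵀ * (A₀ : Matrix (Fin n) (Fin n) F₀)ᵀ) * M₀) := by
              rw [hskew, Matrix.mul_neg, Matrix.neg_mul, Matrix.mul_assoc, neg_neg]
          _ = -M₀ := by rw [← Matrix.transpose_mul, hA₀M, Matrix.transpose_one, Matrix.one_mul]
      apply HLS M₀ hM₀skew hM₀det w' hw'det τ
      intro S₀ hdet hiso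
      obtain ⟨s, hs, has⟩ := hfixS S₀ hdet hiso
      have has' := has.symm
      rw [ha, MulAut.mul_apply, fieldPSU_mk, phiPSU_mk, QuotientGroup.eq] at has'
      obtain ⟨ζ, hζ⟩ := central_scalar hF i0 _ has'
      refine ⟨ζ, htrans (S₀.map ι) ζ ?_⟩
      rw [← hs]
      -- `conjSU w (fieldSU τ s) = s * z`
      have e2 : conjSU w (fieldSU τ s) = s * (s⁻¹ * conjSU w (fieldSU τ s)) := by group
      have e3 := congrArg suMat e2
      rw [Cfsg.Agent.Lib.helper99.suMat_mul] at e3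
      have e4 : suMat (s⁻¹ * conjSU w (fieldSU τ s)) = ζ • (1 : Matrix (Fin n) (Fin n) F) := hζ
      have e5 : suMat (conjSU w (fieldSU τ s)) = wm * (suMat s).map τ * wi := by
        rw [hwm, hwi]
        rfl
      rw [e4, e5, Matrix.mul_smul, Matrix.mul_one] at e3
      calc wm * (suMat s).map τ = wm * (suMat s).map τ * (wi * wm) := by
            rw [hwiw, Matrix.mul_one]
        _ = (wm * (suMat s).map τ * wi) * wm := by rw [Matrix.mul_assoc (wm * (suMat s).map τ)]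
        _ = ζ • (suMat s * wm) := by rw [e3, Matrix.smul_mul]
  obtain ⟨⟨c, hc⟩, hτι⟩ := hmain
  -- `τ = 1`
  have hτfix : ∀ x : F, σ x = x → τ x = x := by
    intro x hx
    obtain ⟨y, rfl⟩ := hι2 x hx
    exact hτι y
  have hτmem := HGAL τ hτfix
  have hσσ : σ * σ = 1 := frob_mul_self hF σ hσ
  have hττ : τ ^ 2 = 1 := by
    obtain ⟨k, rfl⟩ := Subgroup.mem_zpowers_iff.mp hτmem
    rw [pow_two, ← (Commute.refl σ).mul_zpow, hσσ, _root_.one_zpow]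
  have hτ1 : τ = 1 := by
    have h1 : orderOf τ ∣ 2 := orderOf_dvd_of_pow_eq_one hττ
    have h2 : orderOf τ = 1 := by
      rcases (Nat.dvd_prime Nat.prime_two).mp h1 with h3 | h3
      · exact h3
      · rw [h3] at hτodd
        exact absurd hτodd (by decide)
    exact orderOf_eq_one_iff.mp h2
  have hPm1 : Pm.map τ = Pm := by
    ext i j
    rw [Matrix.map_apply, hτ1]
    rfl
  have hwc : wm = c • (1 : Matrix (Fin n) (Fin n) F) := by
    calc wm = (Pm * Pi) * wm * (Pm * Pi) := by rw [hPPi, Matrix.one_mul, Matrix.mul_one]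
      _ = Pm * (Pi * wm * Pm.map τ) * Pi := by rw [hPm1]; simp only [Matrix.mul_assoc]
      _ = c • (1 : Matrix (Fin n) (Fin n) F) := by
          rw [← hw', hc, Matrix.mul_smul, Matrix.smul_mul, Matrix.mul_one, hPPi]
  have hc0 : c ≠ 0 := by
    rintro rfl
    rw [zero_smul] at hwc
    rw [hwc, Matrix.zero_mul] at hwwi
    have : Nonempty (Fin n) := ⟨i0⟩
    exact zero_ne_one hwwi
  have hphi : phiPSU w = 1 := by
    rw [phiPSU_eq_one_iff hF hn, Geo.mem_scalars_iff]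
    exact ⟨Units.mk0 c hc0, by rw [← hwm, hwc]; rfl⟩
  rw [ha, hphi, hτ1, fieldPSU_one, one_mul]

end Cfsg.Agent.Lib.helper50.S2687
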