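import Mathlib
import Cfsg.Agent.Lib.helper26.S4409Defs
import Cfsg.Agent.Lib.helper16.S4409_QZ
import Cfsg.Agent.Lib.helper13.S4409VFIX
import Cfsg.Agent.Lib.helper69.S4409_B2QC
import Cfsg.Agent.Lib.helper47.S4409_CP32

/-!
S4409 (helper26 split), piece B2Q, core (racer copy by helper50): the case where the maximal
invariant subgroup `M` is a quaternion group.  The pieces Q8L and KF enter as hypotheses.
-/

set_option autoImplicit false

namespace Cfsg.Agent.Lib.helper26.S4409

variable {G : Type*} [Group G]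

theorem h50_norm_cent (M : Subgroup G) :
    Subgroup.normalizer (M : Set G) ≤
      Subgroup.normalizer ((Subgroup.centralizer (M : Set G) : Subgroup G) : Set G) := by
  intro g hg
  rw [Subgroup.mem_normalizer_iff] at hg ⊢
  intro c
  constructor
  · intro hc
    rw [Subgroup.mem_centralizer_iff] at hc ⊢
    intro m hm
    have h1 : g⁻¹ * m * g ∈ M := by
      rw [hg (g⁻¹ * m * g)]
      simpa [mul_assoc] using hm
    have h2 := hc _ h1
    calc m * (g * c * g⁻¹) = g * (g⁻¹ * m * g * c) * g⁻¹ := by group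
      _ = g * (c * (g⁻¹ * m * g)) * g⁻¹ := by rw [h2]
      _ = g * c * g⁻¹ * m := by group
  · intro hc
    rw [Subgroup.mem_centralizer_iff] at hc ⊢
    intro m hm
    have h1 : g * m * g⁻¹ ∈ M := (hg m).mp hm
    have h2 := hc _ h1
    have h3 : g * (m * c) * g⁻¹ = g * (c * m) * g⁻¹ := by
      calc g * (m * c) * g⁻¹ = g * m * g⁻¹ * (g * c * g⁻¹) := by group
        _ = g * c * g⁻¹ * (g * m * g⁻¹) := h2
        _ = g * (c * m) * g⁻¹ := by group
    exact mul_left_cancel (mul_right_cancel h3)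

theorem h50_norm_sup (A B : Subgroup G) :
    Subgroup.normalizer (A : Set G) ⊓ Subgroup.normalizer (B : Set G) ≤
      Subgroup.normalizer ((A ⊔ B : Subgroup G) : Set G) := by
  intro g hg
  obtain ⟨hA, hB⟩ := Subgroup.mem_inf.mp hg
  rw [Subgroup.mem_normalizer_iff_map_conj_eq] at hA hB ⊢
  rw [Subgroup.map_sup, hA, hB]

theorem h50_concl_of_eq (X Y : Subgroup G) (h : Y = X) (hE : Cfsg.IsExtraspecial 2 ↥Y)
    (h32 : Nat.card ↥Y = 32) : Concl X := by
  subst h
  exact Or.inr (Or.inl ⟨hE, h32.ge⟩)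

theorem h50_b2q_core [Finite G] (X H M : Subgroup G) (hM : MinSet X H) (hXH : ⁅X, H⁆ = X)
    (hMax : IsMaxInv X H M) (hQ : IsQ8 M)
    (hq8l : X ⊓ Subgroup.centralizer (M : Set G) ≤ M → NoP X)
    (hkf : ∀ Y : Subgroup G, IsPGroup 2 ↥Y → NoP Y → ∀ g : G,
      g ∈ Subgroup.normalizer (Y : Set G) → Odd (orderOf g) →
      g ∉ Subgroup.centralizer (Y : Set G) → IsV4 Y ∨ IsQ8 Y) : Concl X := by
  obtain ⟨hX, hHX, hodd, hmin, hnot⟩ := hM
  obtain ⟨hMX, hMne, hXM, hHM, hmax⟩ := hMax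
  obtain ⟨z, hzM, hz1, hzz, hzuniq, hzcent, hM8⟩ := qz M hQ
  obtain ⟨C, hCdef⟩ : ∃ C : Subgroup G, C = X ⊓ Subgroup.centralizer (M : Set G) := ⟨_, rfl⟩
  have hCX : C ≤ X := hCdef ▸ inf_le_left
  have hCM : C ≤ Subgroup.centralizer (M : Set G) := hCdef ▸ inf_le_right
  have hCnM : ¬ C ≤ M := fun h => hnot (hq8l (hCdef ▸ h))
  have hXX : X ≤ Subgroup.normalizer (X : Set G) := Subgroup.le_normalizer
  have hXC : X ≤ Subgroup.normalizer (C : Set G) := by
    rw [hCdef]
    refine le_trans ?_ Subgroup.inf_normalizer_le_normalizer_inf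
    exact le_inf hXX (hXM.trans (h50_norm_cent M))
  have hHC : H ≤ Subgroup.normalizer (C : Set G) := by
    rw [hCdef]
    refine le_trans ?_ Subgroup.inf_normalizer_le_normalizer_inf
    exact le_inf hHX (hHM.trans (h50_norm_cent M))
  have hsup : M ⊔ C = X := by
    rcases hmax (M ⊔ C) le_sup_left (sup_le hMX hCX)
      ((le_inf hXM hXC).trans (h50_norm_sup M C))
      ((le_inf hHM hHC).trans (h50_norm_sup M C)) with h | h
    · exact absurd (h ▸ le_sup_right : C ≤ M) hCnM
    · exact h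
  have hCne : C ≠ X := by
    intro h
    have hMc : M ≤ Subgroup.centralizer (M : Set G) := by
      have : X ≤ Subgroup.centralizer (M : Set G) := h ▸ hCM
      exact hMX.trans this
    have hMz : M = Subgroup.zpowers z := by
      rw [← hzcent]; exact (inf_eq_left.mpr hMc).symm
    have h2 : Nat.card ↥(Subgroup.zpowers z) ≤ 2 := by
      rw [Nat.card_zpowers]
      exact Nat.le_of_dvd (by norm_num) (orderOf_dvd_of_pow_eq_one (by rw [pow_two]; exact hzz))
    rw [hMz] at hM8
    omega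
  have hNC : NoP C := hmin C hCX hCne hHC
  have hCp : IsPGroup 2 ↥C := hX.to_le hCX
  have hHnc : ¬ H ≤ Subgroup.centralizer (C : Set G) := by
    intro hc
    have h1 := b2qc X H M C hsup hXM hHM hc
    rw [hXH] at h1
    exact hMne (le_antisymm hMX h1)
  obtain ⟨g, hgH, hgc⟩ := SetLike.not_le_iff_exists.mp hHnc
  have hgo : Odd (orderOf g) := by
    have h1 : orderOf g ∣ Nat.card ↥H := by
      have := orderOf_dvd_natCard (⟨g, hgH⟩ : ↥H)
      rwa [Subgroup.orderOf_mk] at this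
    exact Nat.Coprime.odd_of_right (Nat.Coprime.coprime_dvd_left h1 hodd)
  have hzC : z ∈ C := by
    rw [hCdef]
    refine Subgroup.mem_inf.mpr ⟨hMX hzM, ?_⟩
    have h1 : z ∈ M ⊓ Subgroup.centralizer (M : Set G) := by
      rw [hzcent]; exact Subgroup.mem_zpowers z
    exact (Subgroup.mem_inf.mp h1).2
  rcases hkf C hCp hNC g (hHC hgH) hgo hgc with hV | hQC
  · exfalso
    have hgM := hHM hgH
    rw [Subgroup.mem_normalizer_iff] at hgM
    have h1 : g * z * g⁻¹ ∈ M := (hgM z).mp hzM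
    have h2 : g * z * g⁻¹ * (g * z * g⁻¹) = 1 := by
      calc g * z * g⁻¹ * (g * z * g⁻¹) = g * (z * z) * g⁻¹ := by group
        _ = 1 := by rw [hzz]; group
    have h3 : g * z * g⁻¹ = z := by
      rcases hzuniq _ h1 h2 with h | h
      · exfalso; apply hz1
        rw [mul_inv_eq_one] at h
        exact mul_left_cancel (h.trans (mul_one g).symm)
      · exact h
    have hc : g * z = z * g := by
      rw [mul_inv_eq_iff_eq_mul] at h3; exact h3
    exact vfix C hV g (hHC hgH) hgo hgc z hzC hz1 hc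
  · have hne : M ⊓ C ≠ ⊥ := by
      intro h
      have h1 : z ∈ (⊥ : Subgroup G) := h ▸ Subgroup.mem_inf.mpr ⟨hzM, hzC⟩
      exact hz1 (Subgroup.mem_bot.mp h1)
    obtain ⟨hE, h32⟩ := cp32 M C hQ hQC hCM hne
    exact h50_concl_of_eq X (M ⊔ C) hsup hE h32

end Cfsg.Agent.Lib.helper26.S4409
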