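import Mathlib
import Cfsg.Agent.Lib.helper50.S4409_B2Qcore
import Cfsg.Agent.Lib.helper82.S4409_Q8L
import Cfsg.Agent.Lib.helper83.S4409_KFN
import Cfsg.Agent.Lib.helper12.S4409_KFU

/-!
S4409 (helper26 split), piece B2Q (racer copy by helper50): the verbatim statement, from the core
and the landed pieces Q8L, KFU, KFN.
-/

set_option autoImplicit false

namespace Cfsg.Agent.Lib.helper26.S4409

variable {G : Type*} [Group G]

theorem h50_kf [Finite G] (Y : Subgroup G) (hY : IsPGroup 2 ↥Y) (hN : NoP Y) (g : G)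
    (hg : g ∈ Subgroup.normalizer (Y : Set G)) (hodd : Odd (orderOf g))
    (hnc : g ∉ Subgroup.centralizer (Y : Set G)) : IsV4 Y ∨ IsQ8 Y := by
  by_cases hU : Cfsg.Agent.Lib.helper59.UniqueOrderP 2 ↥Y
  · exact Or.inr (kfu Y hY hU g hg hodd hnc)
  · exact Or.inl (kfn Y hY hN hU g hg hodd hnc)

theorem h50_b2q [Finite G] (X H M : Subgroup G) (hM : MinSet X H) (hXH : ⁅X, H⁆ = X)
    (hMax : IsMaxInv X H M) (hQ : IsQ8 M) : Concl X :=
  h50_b2q_core X H M hM hXH hMax hQ (q8l X M hM.1 hMax.1 hMax.2.2.1 hQ)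
    (fun Y hY hN g hg ho hc => h50_kf Y hY hN g hg ho hc)

end Cfsg.Agent.Lib.helper26.S4409
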