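import Mathlib
import Cfsg.Agent.Lib.helper89.S60Defs
import Cfsg.Agent.Lib.helper54.S6eE1
import Cfsg.Agent.Lib.helper54.S6eE4

/-!
# S6000 piece X5 (`s60_exists_five`), helper50 racer copy (prefixed `h50_`)
-/

set_option autoImplicit false

namespace Cfsg.Agent.Lib.helper89.S60

open Matrix Cfsg Cfsg.Geo

/-- the embedding `A ↦ A ⊕ 1 ⊕ 1`. -/
def h50_s60_emb {F : Type*} [Field F] (A : Matrix (Fin 2) (Fin 2) F) : Matrix (Fin 4) (Fin 4) F :=
  !![A 0 0, A 0 1, 0, 0; A 1 0, A 1 1, 0, 0; 0, 0, 1, 0; 0, 0, 0, 1]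

theorem h50_s60_emb_mul {F : Type*} [Field F] (A B : Matrix (Fin 2) (Fin 2) F) :
    h50_s60_emb (A * B) = h50_s60_emb A * h50_s60_emb B := by
  ext i j
  fin_cases i <;> fin_cases j <;>
    simp [h50_s60_emb, Matrix.mul_apply, Fin.sum_univ_four, Fin.sum_univ_two]

theorem h50_s60_emb_one {F : Type*} [Field F] :
    h50_s60_emb (1 : Matrix (Fin 2) (Fin 2) F) = 1 := by
  ext i j
  fin_cases i <;> fin_cases j <;> simp [h50_s60_emb]

theorem h50_s60_emb_pow {F : Type*} [Field F] (A : Matrix (Fin 2) (Fin 2) F) (n : ℕ) :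
    h50_s60_emb (A ^ n) = h50_s60_emb A ^ n := by
  induction n with
  | zero => rw [pow_zero, pow_zero, h50_s60_emb_one]
  | succ n ih => rw [pow_succ, pow_succ, h50_s60_emb_mul, ih]

theorem h50_s60_emb_trace {F : Type*} [Field F] (A : Matrix (Fin 2) (Fin 2) F) :
    Matrix.trace (h50_s60_emb A) = 2 + Matrix.trace A := by
  simp [h50_s60_emb, Matrix.trace, Fin.sum_univ_four, Fin.sum_univ_two]
  ring

theorem h50_s60_emb_det {F : Type*} [Field F] (A : Matrix (Fin 2) (Fin 2) F) :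
    (h50_s60_emb A).det = A.det := by
  rw [Matrix.det_succ_row_zero, Matrix.det_fin_two]
  simp [Fin.sum_univ_succ, Matrix.det_fin_three, Fin.succAbove, h50_s60_emb]
  ring

theorem h50_s60_emb_scalar {F : Type*} [Field F] (A : Matrix (Fin 2) (Fin 2) F) (hA : A ≠ 1) :
    ∀ z : F, h50_s60_emb A ≠ z • (1 : Matrix (Fin 4) (Fin 4) F) := by
  intro z hz
  have h22 := congrFun (congrFun hz 2) 2
  have h00 := congrFun (congrFun hz 0) 0
  have h01 := congrFun (congrFun hz 0) 1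
  have h10 := congrFun (congrFun hz 1) 0
  have h11 := congrFun (congrFun hz 1) 1
  simp [h50_s60_emb] at h22 h00 h01 h10 h11
  apply hA
  ext i j
  fin_cases i <;> fin_cases j <;> simp [h00, h01, h10, h11, ← h22]

theorem h50_trace_adj2 {F : Type*} [Field F] (A : Matrix (Fin 2) (Fin 2) F) :
    Matrix.trace (Matrix.adjugate A) = Matrix.trace A := by
  rw [Matrix.trace_fin_two, Matrix.trace_fin_two, Matrix.adjugate_fin_two]
  simp
  ring

/-- X5 (racer copy). -/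
theorem h50_s60_exists_five {F : Type*} [Field F] [Fintype F] (h2 : (2 : F) ≠ 0)
    (hdiv : 5 ∣ Fintype.card F ^ 2 - 1) :
    ∃ x : GL (Fin 4) F, x ∈ specialLinear (Fin 4) F ∧ x ^ 5 = 1 ∧ (∀ z : F, (x : Matrix (Fin 4) (Fin 4) F) ≠ z • (1 : Matrix (Fin 4) (Fin 4) F)) ∧
      ∃ τ : F, τ ^ 2 + τ - 1 = 0 ∧ Matrix.trace (x : Matrix (Fin 4) (Fin 4) F) = 2 + τ ∧
        Matrix.trace ((x⁻¹ : GL (Fin 4) F) : Matrix (Fin 4) (Fin 4) F) = 2 + τ := by
  have : Fact (Nat.Prime 5) := ⟨Nat.prime_five⟩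
  obtain ⟨A, hdet, hA5, hA1⟩ := Cfsg.Agent.Lib.helper24.s6_sl2_elt (F := F) 5 hdiv
  have htr := Cfsg.Agent.Lib.helper24.s6_sl2_trace5 h2 A hdet hA5 hA1
  have hm1 : h50_s60_emb A * h50_s60_emb (Matrix.adjugate A) = 1 := by
    rw [← h50_s60_emb_mul, Matrix.mul_adjugate, hdet, one_smul, h50_s60_emb_one]
  have hm2 : h50_s60_emb (Matrix.adjugate A) * h50_s60_emb A = 1 := by
    rw [← h50_s60_emb_mul, Matrix.adjugate_mul, hdet, one_smul, h50_s60_emb_one]
  refine ⟨⟨h50_s60_emb A, h50_s60_emb (Matrix.adjugate A), hm1, hm2⟩, ?_, ?_, ?_,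
    Matrix.trace A, htr, ?_, ?_⟩
  · unfold specialLinear
    rw [MonoidHom.mem_ker]
    apply Units.ext
    rw [Matrix.GeneralLinearGroup.val_det_apply]
    show (h50_s60_emb A).det = 1
    rw [h50_s60_emb_det, hdet]
  · apply Units.ext
    rw [Units.val_pow_eq_pow_val]
    show h50_s60_emb A ^ 5 = 1
    rw [← h50_s60_emb_pow, hA5, h50_s60_emb_one]
  · exact h50_s60_emb_scalar A hA1
  · exact h50_s60_emb_trace A
  · show Matrix.trace (h50_s60_emb (Matrix.adjugate A)) = 2 + Matrix.trace A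
    rw [h50_s60_emb_trace, h50_trace_adj2]

end Cfsg.Agent.Lib.helper89.S60
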