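import Mathlib
import Cfsg.Agent.Lib.helper24.S6eDefs

/-!
S6002 (helper24 split), piece S2 `s6_suff_two`, core (racer copy by helper50): the statements of
BINV, BQRT and BSC enter as hypotheses.
-/

set_option autoImplicit false

namespace Cfsg.Agent.Lib.helper24

open Matrix Cfsg Cfsg.Geo

theorem h50_s6_suff_two_core {F : Type*} [Field F] [Fintype F] (h2 : (2 : F) ≠ 0)
    (R : Subgroup (GL S6I F)) (hG : S6Good R)
    (x : GL S6I F) (hx : x ∈ spGL 2 F) (z : F)
    (hz : (x : Matrix S6I S6I F) ^ 2 = z • (1 : Matrix S6I S6I F))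
    (hns : ∀ z : F, (x : Matrix S6I S6I F) ≠ z • (1 : Matrix S6I S6I F))
    (hbinv : ∀ y : GL S6I F, y ∈ spGL 2 F →
      (x : Matrix S6I S6I F) * (x : Matrix S6I S6I F) = 1 →
      (y : Matrix S6I S6I F) * (y : Matrix S6I S6I F) = 1 →
      (x : Matrix S6I S6I F) ≠ 1 → (x : Matrix S6I S6I F) ≠ -1 →
      (y : Matrix S6I S6I F) ≠ 1 → (y : Matrix S6I S6I F) ≠ -1 →
      ∃ g ∈ spGL 2 F, g⁻¹ * x * g = y)
    (hbqrt : ∀ y : GL S6I F, y ∈ spGL 2 F →
      (x : Matrix S6I S6I F) * (x : Matrix S6I S6I F) = -1 →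
      (y : Matrix S6I S6I F) * (y : Matrix S6I S6I F) = -1 →
      ∃ g ∈ spGL 2 F, g⁻¹ * x * g = y)
    (hbsc : z = 1 ∨ z = -1) :
    ∃ g ∈ spGL 2 F, g⁻¹ * x * g ∈ subgroupNormalizer R := by
  obtain ⟨t, htR, ht2, hta, -⟩ := hG.frame
  have hnorm : ∀ y : GL S6I F, y ∈ R → y ∈ subgroupNormalizer R := by
    intro y hy
    unfold subgroupNormalizer
    exact Subgroup.le_normalizer hy
  have h10 : (1 : Matrix S6I S6I F) ≠ 0 := one_ne_zero
  -- `t 1` is not annihilated by `2`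
  have ht1 : (t 1 : Matrix S6I S6I F) + (t 1 : Matrix S6I S6I F) ≠ 0 := by
    intro h
    have h3 : (t 1 : Matrix S6I S6I F) * ((t 1 : Matrix S6I S6I F) + (t 1 : Matrix S6I S6I F)) = 0 := by
      rw [h, mul_zero]
    rw [mul_add, ht2 1] at h3
    have h4 : ((2 : F)) • (1 : Matrix S6I S6I F) = 0 := by
      rw [two_smul]; exact h3
    have h5 := congrFun (congrFun h4 (Sum.inl 0)) (Sum.inl 0)
    simp at h5
    exact h2 h5
  have h01 : (0 : Fin 4) ≠ 1 := by decide
  rcases hbsc with rfl | rfl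
  · -- involution case
    have hx2 : (x : Matrix S6I S6I F) * (x : Matrix S6I S6I F) = 1 := by
      rw [← pow_two, hz, one_smul]
    have hx1 : (x : Matrix S6I S6I F) ≠ 1 := by
      have := hns 1
      rwa [one_smul] at this
    have hx1' : (x : Matrix S6I S6I F) ≠ -1 := by
      have := hns (-1)
      rwa [neg_smul, one_smul] at this
    have hy1 : (t 0 : Matrix S6I S6I F) ≠ 1 := by
      intro h
      have h3 := hta 0 1 h01
      rw [h, one_mul, mul_one] at h3
      apply ht1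
      rw [eq_neg_iff_add_eq_zero] at h3
      exact h3
    have hy1' : (t 0 : Matrix S6I S6I F) ≠ -1 := by
      intro h
      have h3 := hta 0 1 h01
      rw [h, neg_one_mul, mul_neg_one, neg_neg] at h3
      apply ht1
      rw [neg_eq_iff_add_eq_zero] at h3
      exact h3
    obtain ⟨g, hg, hgx⟩ := hbinv (t 0) (hG.sp (htR 0)) hx2 (ht2 0) hx1 hx1' hy1 hy1'
    exact ⟨g, hg, hgx ▸ hnorm _ (htR 0)⟩
  · -- square `-1`
    have hx2 : (x : Matrix S6I S6I F) * (x : Matrix S6I S6I F) = -1 := by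
      rw [← pow_two, hz, neg_smul, one_smul]
    have hyR : t 0 * t 1 ∈ R := R.mul_mem (htR 0) (htR 1)
    have hy2 : ((t 0 * t 1 : GL S6I F) : Matrix S6I S6I F) * ((t 0 * t 1 : GL S6I F) : Matrix S6I S6I F) = -1 := by
      rw [Units.val_mul]
      have h3 := hta 1 0 (Ne.symm h01)
      calc (t 0 : Matrix S6I S6I F) * (t 1 : Matrix S6I S6I F) * ((t 0 : Matrix S6I S6I F) * (t 1 : Matrix S6I S6I F))
          = (t 0 : Matrix S6I S6I F) * ((t 1 : Matrix S6I S6I F) * (t 0 : Matrix S6I S6I F)) * (t 1 : Matrix S6I S6I F) := by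
            simp only [mul_assoc]
        _ = (t 0 : Matrix S6I S6I F) * (-((t 0 : Matrix S6I S6I F) * (t 1 : Matrix S6I S6I F))) * (t 1 : Matrix S6I S6I F) := by
            rw [h3]
        _ = -(((t 0 : Matrix S6I S6I F) * (t 0 : Matrix S6I S6I F)) * ((t 1 : Matrix S6I S6I F) * (t 1 : Matrix S6I S6I F))) := by
            simp only [mul_neg, neg_mul, mul_assoc]
        _ = -1 := by rw [ht2 0, ht2 1, mul_one]
    obtain ⟨g, hg, hgx⟩ := hbqrt (t 0 * t 1) (hG.sp hyR) hx2 hy2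
    exact ⟨g, hg, hgx ▸ hnorm _ hyR⟩

end Cfsg.Agent.Lib.helper24
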