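import Mathlib
import Cfsg.Agent.Lib.helper24.S6eDefs
import Cfsg.Agent.Lib.helper50.S6eS2core
import Cfsg.Agent.Lib.helper46.S6eBINV
import Cfsg.Agent.Lib.helper46.S6eBQRT
import Cfsg.Agent.Lib.helper54.S6eBSC

/-!
S6002 (helper24 split), piece S2 `s6_suff_two` (racer copy by helper50): the verbatim statement,
from the core and the landed pieces BINV, BQRT, BSC.
-/

set_option autoImplicit false

namespace Cfsg.Agent.Lib.helper24

open Matrix Cfsg Cfsg.Geo

theorem h50_s6_suff_two {F : Type*} [Field F] [Fintype F] (h2 : (2 : F) ≠ 0) (R : Subgroup (GL S6I F)) (hG : S6Good R)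
    (x : GL S6I F) (hx : x ∈ spGL 2 F) (z : F)
    (hz : (x : Matrix S6I S6I F) ^ 2 = z • (1 : Matrix S6I S6I F)) (hns : ∀ z : F, (x : Matrix S6I S6I F) ≠ z • (1 : Matrix S6I S6I F)) :
    ∃ g ∈ spGL 2 F, g⁻¹ * x * g ∈ subgroupNormalizer R :=
  h50_s6_suff_two_core h2 R hG x hx z hz hns
    (fun y hy hx2 hy2 hx1 hx1' hy1 hy1' => s6_conj_invol h2 x y hx hy hx2 hy2 hx1 hx1' hy1 hy1')
    (fun y hy hx2 hy2 => helper46_s6_conj_quart h2 x y hx hy hx2 hy2)
    (s6_scalar_pm x hx 2 z hz)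

end Cfsg.Agent.Lib.helper24
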