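import Mathlib
import Cfsg.Agent.Lib.helper53.SM_W1

/-! S0892 split, piece O4 (`odd_a4`, racing copy under the prefixed name `h50_odd_a4`), with
self-contained copies of the odd-kernel lemmas. -/

set_option autoImplicit false
set_option linter.unusedVariables false

namespace Cfsg.Agent.Lib.helper70.SM

universe u

/-- An element of the odd kernel whose square is trivial is trivial. -/
theorem helper50_sm_eq_one_of_sq {Γ : Type u} [Group Γ] [Finite Γ] {P : Type*} [Group P]
    (π : Γ →* P) (hodd : Odd (Nat.card π.ker)) (c : Γ) (hc : c ∈ π.ker) (h2 : c ^ 2 = 1) :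
    c = 1 := by
  have h1 : (⟨c, hc⟩ : π.ker) ^ 2 = 1 := Subtype.ext h2
  have hd2 : orderOf (⟨c, hc⟩ : π.ker) ∣ 2 := orderOf_dvd_of_pow_eq_one h1
  have hdn : orderOf (⟨c, hc⟩ : π.ker) ∣ Nat.card π.ker := orderOf_dvd_natCard _
  have hcop : Nat.gcd 2 (Nat.card π.ker) = 1 := hodd.coprime_two_left
  have h3 : orderOf (⟨c, hc⟩ : π.ker) = 1 := by
    have h4 := Nat.dvd_gcd hd2 hdn
    rw [hcop] at h4
    exact Nat.dvd_one.mp h4
  exact congrArg Subtype.val (orderOf_eq_one_iff.mp h3)

/-- Products of involutions, odd kernel (the O3 argument). -/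
theorem helper50_sm_invol_pow {Γ : Type u} [Group Γ] [Finite Γ] {P : Type*} [Group P]
    (π : Γ →* P) (hc : π.ker ≤ Subgroup.center Γ) (hodd : Odd (Nat.card π.ker))
    (u v : Γ) (hu : u * u = 1) (hv : v * v = 1) (m : ℕ) (h : (π u * π v) ^ m = 1) :
    (u * v) ^ m = 1 := by
  have hK : (u * v) ^ m ∈ π.ker := by
    rw [MonoidHom.mem_ker, map_pow, map_mul, h]
  have hcen := hc hK
  have huinv : u⁻¹ = u := inv_eq_of_mul_eq_one_left hu
  have hvinv : v⁻¹ = v := inv_eq_of_mul_eq_one_left hv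
  have h1 : u * (u * v) ^ m * u⁻¹ = ((u * v) ^ m)⁻¹ := by
    rw [← conj_pow, ← inv_pow]
    congr 1
    rw [mul_inv_rev, hvinv, huinv, ← mul_assoc, hu, one_mul]
  have h2 : u * (u * v) ^ m * u⁻¹ = (u * v) ^ m := by
    rw [Subgroup.mem_center_iff.mp hcen u, mul_inv_cancel_right]
  have h3 : ((u * v) ^ m) ^ 2 = 1 := by
    rw [pow_two]
    nth_rewrite 1 [← h2]
    rw [h1]
    exact inv_mul_cancel _
  exact helper50_sm_eq_one_of_sq π hodd _ hK h3

/-- Two involutions whose product is an involution commute. -/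
theorem helper50_sm_comm_of_sq {Γ : Type u} [Group Γ] (s t : Γ) (hs : s * s = 1) (ht : t * t = 1)
    (h : (s * t) ^ 2 = 1) : s * t = t * s := by
  have h1 : s * t * (s * t) = 1 := by rw [← pow_two]; exact h
  have h2 : s * t = (s * t)⁻¹ := eq_inv_of_mul_eq_one_left h1
  rw [h2, mul_inv_rev, inv_eq_of_mul_eq_one_left hs, inv_eq_of_mul_eq_one_left ht]

/-- O4 (the `A₄` relation, odd kernel). -/
theorem h50_odd_a4 {Γ : Type u} [Group Γ] [Finite Γ] {P : Type*} [Group P] (π : Γ →* P)
    (hc : π.ker ≤ Subgroup.center Γ) (hodd : Odd (Nat.card π.ker))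
    (a b : Γ) (ha : a ^ 3 = 1) (hb : b ^ 2 = 1) (hab : (π a * π b) ^ 3 = 1) :
    (a * b) ^ 3 = 1 := by
  have hb' : b * b = 1 := by rw [← pow_two]; exact hb
  have ha3 : a * a * a = 1 := by rw [← pow_three']; exact ha
  have haa : a * a = a⁻¹ := eq_inv_of_mul_eq_one_left ha3
  have hainv2 : a⁻¹ * a⁻¹ = a := by rw [← mul_inv_rev, haa, inv_inv]
  obtain ⟨v, hv⟩ : ∃ v : Γ, v = a * b * a⁻¹ := ⟨_, rfl⟩
  obtain ⟨w, hw⟩ : ∃ w : Γ, w = a⁻¹ * b * a := ⟨_, rfl⟩
  have hvv : v * v = 1 := by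
    rw [hv]
    calc a * b * a⁻¹ * (a * b * a⁻¹) = a * (b * b) * a⁻¹ := by group
      _ = 1 := by rw [hb', mul_one, mul_inv_cancel]
  have hww : w * w = 1 := by
    rw [hw]
    calc a⁻¹ * b * a * (a⁻¹ * b * a) = a⁻¹ * (b * b) * a := by group
      _ = 1 := by rw [hb', mul_one, inv_mul_cancel]
  have hcv : a * v * a⁻¹ = w := by
    rw [hv, hw]
    calc a * (a * b * a⁻¹) * a⁻¹ = (a * a) * b * (a⁻¹ * a⁻¹) := by group
      _ = a⁻¹ * b * a := by rw [haa, hainv2]
  have hcw : a * w * a⁻¹ = b := by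
    rw [hw]
    group
  -- `b` and `v` commute
  have hbv : b * v = v * b := by
    have hP : π b * π v = π v * π b := by
      rw [hv]
      simp only [map_mul, map_inv]
      exact a4_comm (π a) (π b) (by rw [← map_pow, ha, map_one]) (by rw [← map_pow, hb, map_one])
        hab
    have h2 : (π b * π v) ^ 2 = 1 := by
      rw [(show Commute (π b) (π v) from hP).mul_pow, ← map_pow, ← map_pow, hb, pow_two v, hvv,
        map_one, mul_one]
    exact helper50_sm_comm_of_sq b v hb' hvv (helper50_sm_invol_pow π hc hodd b v hb' hvv 2 h2)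
  -- conjugating by `a`
  have hvw : v * w = w * v := by
    have e1 : a * (b * v) * a⁻¹ = v * w := by
      calc a * (b * v) * a⁻¹ = (a * b * a⁻¹) * (a * v * a⁻¹) := by group
        _ = v * w := by rw [hcv, ← hv]
    have e2 : a * (v * b) * a⁻¹ = w * v := by
      calc a * (v * b) * a⁻¹ = (a * v * a⁻¹) * (a * b * a⁻¹) := by group
        _ = w * v := by rw [hcv, ← hv]
    rw [← e1, ← e2, hbv]
  have hwb : w * b = b * w := by
    have e1 : a * (v * w) * a⁻¹ = w * b := by
      calc a * (v * w) * a⁻¹ = (a * v * a⁻¹) * (a * w * a⁻¹) := by group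
        _ = w * b := by rw [hcv, hcw]
    have e2 : a * (w * v) * a⁻¹ = b * w := by
      calc a * (w * v) * a⁻¹ = (a * w * a⁻¹) * (a * v * a⁻¹) := by group
        _ = b * w := by rw [hcv, hcw]
    rw [← e1, ← e2, hvw]
  -- `(a b)³ = v w b`
  have hβ : (a * b) ^ 3 = v * w * b := by
    calc (a * b) ^ 3 = a * b * a * b * a * b := by rw [pow_three']; simp only [mul_assoc]
      _ = a * b * (a⁻¹ * a⁻¹) * b * a * b := by rw [hainv2]
      _ = (a * b * a⁻¹) * (a⁻¹ * b * a) * b := by group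
      _ = v * w * b := by rw [← hv, ← hw]
  have hβ2 : v * w * b * (v * w * b) = 1 := by
    calc v * w * b * (v * w * b) = v * w * (b * v) * w * b := by group
      _ = v * w * (v * b) * w * b := by rw [hbv]
      _ = v * (w * v) * b * w * b := by group
      _ = v * (v * w) * b * w * b := by rw [← hvw]
      _ = v * v * w * (b * w) * b := by group
      _ = v * v * w * (w * b) * b := by rw [← hwb]
      _ = (v * v) * (w * w) * (b * b) := by group
      _ = 1 := by rw [hvv, hww, hb', one_mul, one_mul]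
  have hK : (a * b) ^ 3 ∈ π.ker := by
    rw [MonoidHom.mem_ker, map_pow, map_mul]
    exact hab
  have hsq : ((a * b) ^ 3) ^ 2 = 1 := by
    rw [hβ, pow_two]
    exact hβ2
  exact helper50_sm_eq_one_of_sq π hodd _ hK hsq

end Cfsg.Agent.Lib.helper70.SM
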