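import Mathlib

/-! S3350 split (architect helper70), piece P1 (racer copy by helper50): rigidity of a permutation
with a large centralizer. -/

set_option autoImplicit false
open Equiv MulAction

namespace Cfsg.Agent.Lib.helper70.SR

/-- P1 (rigidity of a permutation with a large centralizer). -/
theorem h50_perm_rigid (m : ℕ) (hm : 8 ≤ m) (a b c d e : Fin m)
    (hab : a ≠ b) (hac : a ≠ c) (had : a ≠ d) (hae : a ≠ e) (hbc : b ≠ c) (hbd : b ≠ d)
    (hbe : b ≠ e) (hcd : c ≠ d) (hce : c ≠ e) (hde : d ≠ e)
    (π : Perm (Fin m))
    (h1 : ∀ σ : Perm (Fin m), σ a = a → σ b = b → σ c = c → σ d = d → σ e = e → σ * π = π * σ)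
    (h2 : π * swap c d = swap c d * π)
    (h3 : π * π = 1)
    (h4 : (π * swap a b) ^ 3 = 1)
    (h5 : π ≠ swap a b) :
    π = swap a e ∨ π = swap b e := by
  classical
  have hex : ∀ u v : Fin m, ∃ w : Fin m,
      w ≠ a ∧ w ≠ b ∧ w ≠ c ∧ w ≠ d ∧ w ≠ e ∧ w ≠ u ∧ w ≠ v := by
    intro u v
    have hcard : ({a, b, c, d, e, u, v} : Finset (Fin m)).card <
        (Finset.univ : Finset (Fin m)).card := by
      rw [Finset.card_univ, Fintype.card_fin]
      have h7 : ({a, b, c, d, e, u, v} : Finset (Fin m)).card ≤ 7 :=
        (Finset.card_insert_le _ _).trans (Nat.succ_le_succ Finset.card_le_six)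
      omega
    obtain ⟨w, -, hw⟩ := Finset.exists_mem_notMem_of_card_lt_card hcard
    simp only [Finset.mem_insert, Finset.mem_singleton, not_or] at hw
    exact ⟨w, hw.1, hw.2.1, hw.2.2.1, hw.2.2.2.1, hw.2.2.2.2.1, hw.2.2.2.2.2.1, hw.2.2.2.2.2.2⟩
  have hfix : ∀ u : Fin m, u ≠ a → u ≠ b → u ≠ c → u ≠ d → u ≠ e → π u = u := by
    intro u hua hub huc hud hue
    by_contra hne
    obtain ⟨w, hwa, hwb, hwc, hwd, hwe, hwu, hwv⟩ := hex u (π u)
    have hσ := h1 (swap u w) (swap_apply_of_ne_of_ne hua.symm hwa.symm)
      (swap_apply_of_ne_of_ne hub.symm hwb.symm) (swap_apply_of_ne_of_ne huc.symm hwc.symm)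
      (swap_apply_of_ne_of_ne hud.symm hwd.symm) (swap_apply_of_ne_of_ne hue.symm hwe.symm)
    have h := congrArg (fun f => f u) hσ
    simp only [Perm.mul_apply, swap_apply_left] at h
    rw [swap_apply_of_ne_of_ne hne hwv.symm] at h
    exact hwu (π.injective h).symm
  have hcd1 : π d = swap c d (π c) := by
    have h := congrArg (fun f => f c) h2
    simp only [Perm.mul_apply, swap_apply_left] at h
    exact h
  have hπc : π c = c ∨ π c = d := by
    by_contra hcon
    push Not at hcon
    rw [swap_apply_of_ne_of_ne hcon.1 hcon.2] at hcd1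
    exact hcd (π.injective hcd1).symm
  have hπc' : π c = c := by
    rcases hπc with h | h
    · exact h
    · exfalso
      have hπd : π d = c := by rw [hcd1, h, swap_apply_right]
      have h' := congrArg (fun f => f c) h4
      simp only [pow_succ, pow_zero, one_mul, Perm.mul_apply, Perm.one_apply] at h'
      rw [swap_apply_of_ne_of_ne hac.symm hbc.symm, h, swap_apply_of_ne_of_ne had.symm hbd.symm,
        hπd, swap_apply_of_ne_of_ne hac.symm hbc.symm, h] at h'
      exact hcd h'.symm
  have hπd' : π d = d := by rw [hcd1, hπc', swap_apply_left]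
  have hfix' : ∀ u : Fin m, u ≠ a → u ≠ b → u ≠ e → π u = u := by
    intro u hua hub hue
    by_cases huc : u = c
    · rw [huc]; exact hπc'
    by_cases hud : u = d
    · rw [hud]; exact hπd'
    exact hfix u hua hub huc hud hue
  have hinv : ∀ x, π (π x) = x := fun x => by
    have h := congrArg (fun f => f x) h3
    simpa using h
  have hmem : ∀ x : Fin m, (x = a ∨ x = b ∨ x = e) → (π x = a ∨ π x = b ∨ π x = e) := by
    intro x hx
    by_contra hcon
    push Not at hcon
    have h := hfix' (π x) hcon.1 hcon.2.1 hcon.2.2
    have hx' : π x = x := π.injective h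
    rw [hx'] at hcon
    rcases hx with h | h | h
    · exact hcon.1 h
    · exact hcon.2.1 h
    · exact hcon.2.2 h
  rcases hmem a (Or.inl rfl) with ha | ha | ha
  · rcases hmem b (Or.inr (Or.inl rfl)) with hb | hb | hb
    · exact absurd (π.injective (hb.trans ha.symm)) hab.symm
    · exfalso
      have he : π e = e := by
        rcases hmem e (Or.inr (Or.inr rfl)) with he | he | he
        · exact absurd (π.injective (he.trans ha.symm)) hae.symm
        · exact absurd (π.injective (he.trans hb.symm)) hbe.symm
        · exact he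
      have hπ1 : π = 1 := by
        apply Equiv.ext
        intro x
        rw [Perm.one_apply]
        by_cases hxa : x = a
        · rw [hxa]; exact ha
        by_cases hxb : x = b
        · rw [hxb]; exact hb
        by_cases hxe : x = e
        · rw [hxe]; exact he
        exact hfix' x hxa hxb hxe
      rw [hπ1, one_mul] at h4
      have h' := congrArg (fun f => f a) h4
      simp only [pow_succ, pow_zero, one_mul, Perm.mul_apply, Perm.one_apply, swap_apply_left,
        swap_apply_right] at h'
      exact hab h'.symm
    · right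
      have he : π e = b := by rw [← hb, hinv]
      apply Equiv.ext
      intro x
      by_cases hxb : x = b
      · rw [hxb, hb, swap_apply_left]
      by_cases hxe : x = e
      · rw [hxe, he, swap_apply_right]
      rw [swap_apply_of_ne_of_ne hxb hxe]
      by_cases hxa : x = a
      · rw [hxa]; exact ha
      exact hfix' x hxa hxb hxe
  · exfalso
    have hb : π b = a := by rw [← ha, hinv]
    have he : π e = e := by
      rcases hmem e (Or.inr (Or.inr rfl)) with he | he | he
      · exact absurd (π.injective (he.trans hb.symm)) hbe.symm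
      · exact absurd (π.injective (he.trans ha.symm)) hae.symm
      · exact he
    apply h5
    apply Equiv.ext
    intro x
    by_cases hxa : x = a
    · rw [hxa, ha, swap_apply_left]
    by_cases hxb : x = b
    · rw [hxb, hb, swap_apply_right]
    rw [swap_apply_of_ne_of_ne hxa hxb]
    by_cases hxe : x = e
    · rw [hxe]; exact he
    exact hfix' x hxa hxb hxe
  · left
    have he : π e = a := by rw [← ha, hinv]
    have hb : π b = b := by
      rcases hmem b (Or.inr (Or.inl rfl)) with hb | hb | hb
      · exact absurd (π.injective (hb.trans he.symm)) hbe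
      · exact hb
      · exact absurd (π.injective (hb.trans ha.symm)) hab.symm
    apply Equiv.ext
    intro x
    by_cases hxa : x = a
    · rw [hxa, ha, swap_apply_left]
    by_cases hxe : x = e
    · rw [hxe, he, swap_apply_right]
    rw [swap_apply_of_ne_of_ne hxa hxe]
    by_cases hxb : x = b
    · rw [hxb]; exact hb
    exact hfix' x hxa hxb hxe

end Cfsg.Agent.Lib.helper70.SR
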