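import Mathlib

/-! S3350 split (architect helper70), piece P3 (racer copy by helper50): a transposition commuting
with a two-point stabilizer. -/

set_option autoImplicit false
open Equiv MulAction

namespace Cfsg.Agent.Lib.helper70.SR

/-- P3 (a transposition commuting with a two-point stabilizer). -/
theorem h50_swap_eq_of_comm_stab (m : ℕ) (hm : 5 ≤ m) (a b i j : Fin m) (hab : a ≠ b)
    (hij : i ≠ j)
    (h : ∀ σ : Perm (Fin m), σ a = a → σ b = b → σ * swap i j = swap i j * σ) :
    swap i j = swap a b := by
  classical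
  have hex : ∀ u v : Fin m, ∃ l : Fin m, l ≠ a ∧ l ≠ b ∧ l ≠ u ∧ l ≠ v := by
    intro u v
    have hcard : ({a, b, u, v} : Finset (Fin m)).card < (Finset.univ : Finset (Fin m)).card := by
      rw [Finset.card_univ, Fintype.card_fin]
      have h4 : ({a, b, u, v} : Finset (Fin m)).card ≤ 4 := Finset.card_le_four
      omega
    obtain ⟨l, -, hl⟩ := Finset.exists_mem_notMem_of_card_lt_card hcard
    simp only [Finset.mem_insert, Finset.mem_singleton, not_or] at hl
    exact ⟨l, hl.1, hl.2.1, hl.2.2.1, hl.2.2.2⟩
  have key : ∀ i j : Fin m, i ≠ j →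
      (∀ σ : Perm (Fin m), σ a = a → σ b = b → σ * swap i j = swap i j * σ) →
      (i = a ∨ i = b) := by
    intro i j hij h
    by_contra hcon
    push Not at hcon
    obtain ⟨l, hla, hlb, hli, hlj⟩ := hex i j
    have hσ := h (swap i l) (swap_apply_of_ne_of_ne (Ne.symm hcon.1) hla.symm)
      (swap_apply_of_ne_of_ne (Ne.symm hcon.2) hlb.symm)
    have h' := congrArg (fun f => f i) hσ
    simp only [Perm.mul_apply, swap_apply_left] at h'
    rw [swap_apply_of_ne_of_ne hij.symm hlj.symm, swap_apply_of_ne_of_ne hli hlj] at h'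
    exact hlj h'.symm
  have hi := key i j hij h
  have hj := key j i hij.symm (by intro σ ha hb; rw [swap_comm j i]; exact h σ ha hb)
  rcases hi with hi | hi <;> rcases hj with hj | hj
  · exact absurd (hi.trans hj.symm) hij
  · rw [hi, hj]
  · rw [hi, hj, swap_comm]
  · exact absurd (hi.trans hj.symm) hij

end Cfsg.Agent.Lib.helper70.SR
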