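import Mathlib
import Cfsg.Agent.Lib.helper44.SUWDefs

/-!
# S2335 piece R1COUNT, core version (racing copy by helper50)

`h50_rank_one_count_core`: the statement of `rank_one_count` with the pieces SLTR (`sl_trans`)
and FNORM1 (`card_norm_one_le`) as hypotheses `hsl`, `hnorm`.
-/

set_option autoImplicit false

namespace Cfsg.Agent.Lib.helper44.SUW

open Matrix

/-- `σ` is an involution. -/
theorem h50_sigma_sigma {K : Type*} [Field K] [Fintype K] {q : ℕ} (hK : Fintype.card K = q ^ 2)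
    (σ : K →+* K) (hσ : ∀ x, σ x = x ^ q) (x : K) : σ (σ x) = x := by
  rw [hσ, hσ, ← pow_mul, ← sq, ← hK, FiniteField.pow_card]

/-- conjugating a rank one matrix. -/
theorem h50_conj_rank_one {K : Type*} [Field K] (σ : K →+* K) (hσσ : ∀ x, σ (σ x) = x) {m : ℕ}
    (B : Matrix (Fin m) (Fin m) K) (c : K) (z : Fin m → K) :
    (B.map σ)ᵀ * (c • Matrix.vecMulVec z (fun j => σ (z j))) * B =
      c • Matrix.vecMulVec ((B.map σ)ᵀ *ᵥ z) (fun j => σ (((B.map σ)ᵀ *ᵥ z) j)) := by
  ext i j
  simp only [Matrix.mul_apply, Matrix.smul_apply, Matrix.vecMulVec_apply, Matrix.transpose_apply,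
    Matrix.map_apply, smul_eq_mul, Matrix.mulVec, dotProduct, map_sum, map_mul, hσσ]
  simp only [Finset.sum_mul, Finset.mul_sum]
  exact Finset.sum_congr rfl (fun k _ => Finset.sum_congr rfl (fun l _ => by ring))

/-- R1COUNT, core: SLTR and FNORM1 as hypotheses. -/
theorem h50_rank_one_count_core {K : Type*} [Field K] [Fintype K] [DecidableEq K] {q m : ℕ}
    (hK : Fintype.card K = q ^ 2) (σ : K →+* K) (hσ : ∀ x, σ x = x ^ q)
    (hsl : ∀ x y : Fin m → K, x ≠ 0 → y ≠ 0 →
      ∃ B : Matrix (Fin m) (Fin m) K, B.det = 1 ∧ B *ᵥ x = y)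
    (hnorm : Nat.card {z : K // z * σ z = 1} ≤ q + 1)
    (S : Set (Matrix (Fin m) (Fin m) K))
    (hstab : ∀ Y ∈ S, ∀ B : Matrix (Fin m) (Fin m) K, B.det = 1 → (B.map σ)ᵀ * Y * B ∈ S)
    (c : K) (z : Fin m → K) (hc : c ≠ 0) (hz : z ≠ 0)
    (hmem : c • Matrix.vecMulVec z (fun j => σ (z j)) ∈ S) :
    (q ^ (m + m) - 1) / (q + 1) ≤ Nat.card S := by
  classical
  have hσσ : ∀ x, σ (σ x) = x := h50_sigma_sigma hK σ hσ
  have hσ0 : ∀ x : K, x ≠ 0 → σ x ≠ 0 := by
    intro x hx
    rw [hσ]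
    exact pow_ne_zero _ hx
  -- every `c w w†` is in `S`
  have hall : ∀ w : Fin m → K, w ≠ 0 → c • Matrix.vecMulVec w (fun j => σ (w j)) ∈ S := by
    intro w hw
    obtain ⟨B', hB', hB'z⟩ := hsl z w hz hw
    have hBB : ((B'ᵀ.map σ).map σ)ᵀ = B' := by
      ext i j
      simp [hσσ]
    have hdet : (B'ᵀ.map σ).det = 1 := by
      have h1 : (B'ᵀ.map σ).det = σ (B'ᵀ.det) := by
        rw [RingHom.map_det]
        rfl
      rw [h1, Matrix.det_transpose, hB', map_one]
    have h2 := hstab _ hmem (B'ᵀ.map σ) hdet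
    rw [h50_conj_rank_one σ hσσ, hBB, hB'z] at h2
    exact h2
  -- counting
  have hcardZ : (Finset.univ.filter (fun ζ : K => ζ * σ ζ = 1)).card ≤ q + 1 := by
    rw [← Fintype.card_subtype, ← Nat.card_eq_fintype_card]
    exact hnorm
  have hfib : ∀ a ∈ (Finset.univ.filter (fun w : Fin m → K => w ≠ 0)).image
      (fun w : Fin m → K => c • Matrix.vecMulVec w (fun j => σ (w j))),
      ((Finset.univ.filter (fun w : Fin m → K => w ≠ 0)).filter
        (fun w : Fin m → K => c • Matrix.vecMulVec w (fun j => σ (w j)) = a)).card ≤ q + 1 := by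
    intro a ha
    obtain ⟨w₀, hw₀, rfl⟩ := Finset.mem_image.mp ha
    have hw₀0 : w₀ ≠ 0 := (Finset.mem_filter.mp hw₀).2
    have hsub : ((Finset.univ.filter (fun w : Fin m → K => w ≠ 0)).filter
        (fun w : Fin m → K => c • Matrix.vecMulVec w (fun j => σ (w j)) =
          c • Matrix.vecMulVec w₀ (fun j => σ (w₀ j)))) ⊆
        (Finset.univ.filter (fun ζ : K => ζ * σ ζ = 1)).image (fun ζ : K => ζ • w₀) := by
      intro w hw
      rw [Finset.mem_filter, Finset.mem_filter] at hw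
      obtain ⟨⟨-, hw0⟩, heq⟩ := hw
      have hent : ∀ i j, w i * σ (w j) = w₀ i * σ (w₀ j) := by
        intro i j
        have h1 := congrFun (congrFun heq i) j
        simp only [Matrix.smul_apply, Matrix.vecMulVec_apply, smul_eq_mul] at h1
        exact mul_left_cancel₀ hc h1
      obtain ⟨i₀, hi₀⟩ : ∃ i₀, w i₀ ≠ 0 := by
        by_contra hcon
        push Not at hcon
        exact hw0 (funext hcon)
      have hσw : σ (w i₀) ≠ 0 := hσ0 _ hi₀
      rw [Finset.mem_image]
      refine ⟨σ (w₀ i₀) / σ (w i₀), ?_, ?_⟩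
      · rw [Finset.mem_filter]
        refine ⟨Finset.mem_univ _, ?_⟩
        rw [map_div₀, hσσ, hσσ, div_mul_div_comm, div_eq_one_iff_eq (mul_ne_zero hσw hi₀),
          mul_comm (σ (w₀ i₀)), mul_comm (σ (w i₀))]
        exact (hent i₀ i₀).symm
      · funext i
        have h3 := hent i i₀
        simp only [Pi.smul_apply, smul_eq_mul]
        rw [div_mul_eq_mul_div, div_eq_iff hσw, mul_comm]
        exact h3.symm
    exact le_trans (Finset.card_le_card hsub) (le_trans Finset.card_image_le hcardZ)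
  have hcount := Finset.card_le_mul_card_image (Finset.univ.filter (fun w : Fin m → K => w ≠ 0))
    (q + 1) hfib
  have hcardN : (Finset.univ.filter (fun w : Fin m → K => w ≠ 0)).card = q ^ (m + m) - 1 := by
    rw [Finset.filter_ne', Finset.card_erase_of_mem (Finset.mem_univ _), Finset.card_univ,
      Fintype.card_fun, hK, Fintype.card_fin, ← pow_mul, two_mul]
  have himg : ((Finset.univ.filter (fun w : Fin m → K => w ≠ 0)).image
      (fun w : Fin m → K => c • Matrix.vecMulVec w (fun j => σ (w j)))).card ≤ Nat.card S := by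
    rw [Nat.card_coe_set_eq, ← Set.ncard_coe_finset]
    apply Set.ncard_le_ncard _ (Set.toFinite S)
    intro a ha
    rw [Finset.mem_coe, Finset.mem_image] at ha
    obtain ⟨w, hw, rfl⟩ := ha
    exact hall w (Finset.mem_filter.mp hw).2
  rw [hcardN] at hcount
  apply Nat.div_le_of_le_mul
  exact le_trans hcount (Nat.mul_le_mul_left _ himg)

end Cfsg.Agent.Lib.helper44.SUW
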