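import Mathlib
import Cfsg.Prelude.Def_Classical
import Cfsg.Prelude.Def_GeometricClasses
import Cfsg.Agent.Lib.helper17.SymmForm

/-!
S5977 / S5978 block [A] (helper59 split), piece JBASIS `sfk_j_basis` (racer copy by helper50):
for an isometry `x` with `x * x = -1` there are `e_1 .. e_m` such that `e_i, x e_i` form an
orthogonal basis.
-/

set_option autoImplicit false

namespace Cfsg.Agent.Lib.helper59.Sfk

open Matrix Cfsg.Geo

theorem h50_sfk_j_basis {F : Type*} [Field F] {ι : Type} [Fintype ι] [DecidableEq ι]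
    (h2 : (2 : F) ≠ 0) (Q : QuadraticForm F (ι → F))
    (hQ : (QuadraticMap.polarBilin Q).Nondegenerate)
    (x : GL ι F) (hx : x ∈ Cfsg.isometryGroup F (⇑Q))
    (hxx : (x : Matrix ι ι F) * (x : Matrix ι ι F) = -1) :
    ∃ (m : ℕ) (e : Fin m → (ι → F)),
      LinearIndependent F (Sum.elim e (fun i => (x : Matrix ι ι F) *ᵥ e i)) ∧
      Fintype.card ι = 2 * m ∧
      (∀ i j, i ≠ j → QuadraticMap.polar (⇑Q) (e i) (e j) = 0) ∧
      (∀ i j, QuadraticMap.polar (⇑Q) (e i) ((x : Matrix ι ι F) *ᵥ e j) = 0) ∧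
      ∀ i, Q (e i) ≠ 0 := by
  classical
  have hiso : ∀ v : ι → F, Q ((x : Matrix ι ι F) *ᵥ v) = Q v := fun v => hx v v
  have hpol : ∀ u v : ι → F, QuadraticMap.polar (⇑Q) ((x : Matrix ι ι F) *ᵥ u)
      ((x : Matrix ι ι F) *ᵥ v) = QuadraticMap.polar (⇑Q) u v := by
    intro u v
    unfold QuadraticMap.polar
    rw [← Matrix.mulVec_add, hiso, hiso, hiso]
  have hxx' : ∀ v : ι → F, (x : Matrix ι ι F) *ᵥ ((x : Matrix ι ι F) *ᵥ v) = -v := by
    intro v
    rw [Matrix.mulVec_mulVec, hxx, Matrix.neg_mulVec, Matrix.one_mulVec]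
  have hskew : ∀ u v : ι → F, QuadraticMap.polar (⇑Q) ((x : Matrix ι ι F) *ᵥ u) v =
      -QuadraticMap.polar (⇑Q) u ((x : Matrix ι ι F) *ᵥ v) := by
    intro u v
    have h1 := hpol u ((x : Matrix ι ι F) *ᵥ v)
    rw [hxx', QuadraticMap.polar_neg_right] at h1
    rw [← h1, neg_neg]
  have hself : ∀ u : ι → F, QuadraticMap.polar (⇑Q) u ((x : Matrix ι ι F) *ᵥ u) = 0 := by
    intro u
    have h1 := hskew u u
    rw [QuadraticMap.polar_comm] at h1
    have h3 : (2 : F) * QuadraticMap.polar (⇑Q) u ((x : Matrix ι ι F) *ᵥ u) = 0 := by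
      linear_combination h1
    exact (mul_eq_zero.mp h3).resolve_left h2
  have hsymm : LinearMap.BilinForm.IsSymm (QuadraticMap.polarBilin Q) := by
    refine ⟨fun u v => ?_⟩
    simp [QuadraticMap.polar_comm]
  have hBself : ∀ w : ι → F, QuadraticMap.polarBilin Q w w = 2 * Q w := by
    intro w
    rw [QuadraticMap.polarBilin_apply_apply, QuadraticMap.polar_self]
    simp
  -- the orthogonality facts for the doubled family
  have hfam : ∀ (k : ℕ) (e : Fin k → (ι → F)),
      (∀ i j, i ≠ j → QuadraticMap.polar (⇑Q) (e i) (e j) = 0) →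
      (∀ i j, QuadraticMap.polar (⇑Q) (e i) ((x : Matrix ι ι F) *ᵥ e j) = 0) →
      (∀ i, Q (e i) ≠ 0) →
      (∀ a b : Fin k ⊕ Fin k, a ≠ b → QuadraticMap.polarBilin Q
        (Sum.elim e (fun i => (x : Matrix ι ι F) *ᵥ e i) a)
        (Sum.elim e (fun i => (x : Matrix ι ι F) *ᵥ e i) b) = 0) ∧
      (∀ a : Fin k ⊕ Fin k, QuadraticMap.polarBilin Q
        (Sum.elim e (fun i => (x : Matrix ι ι F) *ᵥ e i) a)
        (Sum.elim e (fun i => (x : Matrix ι ι F) *ᵥ e i) a) ≠ 0) := by
    intro k e ho1 ho2 hne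
    constructor
    · rintro (i | i) (j | j) hab
      · simp only [Sum.elim_inl, QuadraticMap.polarBilin_apply_apply]
        exact ho1 i j (fun h => hab (by rw [h]))
      · simp only [Sum.elim_inl, Sum.elim_inr, QuadraticMap.polarBilin_apply_apply]
        exact ho2 i j
      · simp only [Sum.elim_inl, Sum.elim_inr, QuadraticMap.polarBilin_apply_apply]
        rw [QuadraticMap.polar_comm]
        exact ho2 j i
      · simp only [Sum.elim_inr, QuadraticMap.polarBilin_apply_apply]
        rw [hpol]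
        exact ho1 i j (fun h => hab (by rw [h]))
    · rintro (i | i)
      · simp only [Sum.elim_inl]
        rw [hBself]
        exact mul_ne_zero h2 (hne i)
      · simp only [Sum.elim_inr]
        rw [hBself, hiso]
        exact mul_ne_zero h2 (hne i)
  have hcard : ∀ (k : ℕ) (e : Fin k → (ι → F)),
      (∀ i j, i ≠ j → QuadraticMap.polar (⇑Q) (e i) (e j) = 0) →
      (∀ i j, QuadraticMap.polar (⇑Q) (e i) ((x : Matrix ι ι F) *ᵥ e j) = 0) →
      (∀ i, Q (e i) ≠ 0) →
      LinearIndependent F (Sum.elim e (fun i => (x : Matrix ι ι F) *ᵥ e i)) ∧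
        2 * k ≤ Fintype.card ι := by
    intro k e ho1 ho2 hne
    obtain ⟨h1, h1'⟩ := hfam k e ho1 ho2 hne
    have hli := Cfsg.Agent.Lib.helper17.linearIndependent_of_orthogonal
      (QuadraticMap.polarBilin Q) _ h1 h1'
    refine ⟨hli, ?_⟩
    have h3 := hli.fintype_card_le_finrank
    rw [Module.finrank_fintype_fun_eq_card, Fintype.card_sum, Fintype.card_fin] at h3
    omega
  have hstep : ∀ (k : ℕ) (e : Fin k → (ι → F)),
      (∀ i j, i ≠ j → QuadraticMap.polar (⇑Q) (e i) (e j) = 0) →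
      (∀ i j, QuadraticMap.polar (⇑Q) (e i) ((x : Matrix ι ι F) *ᵥ e j) = 0) →
      (∀ i, Q (e i) ≠ 0) → 2 * k < Fintype.card ι →
      ∃ e' : Fin (k + 1) → (ι → F),
        (∀ i j, i ≠ j → QuadraticMap.polar (⇑Q) (e' i) (e' j) = 0) ∧
        (∀ i j, QuadraticMap.polar (⇑Q) (e' i) ((x : Matrix ι ι F) *ᵥ e' j) = 0) ∧
        (∀ i, Q (e' i) ≠ 0) := by
    intro k e ho1 ho2 hne hlt
    obtain ⟨h1, h1'⟩ := hfam k e ho1 ho2 hne
    have hk : k + k < Module.finrank F (ι → F) := by
      rw [Module.finrank_fintype_fun_eq_card]; omega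
    obtain ⟨w, hww, hw⟩ := Cfsg.Agent.Lib.helper17.exists_orthogonal_extend h2
      (QuadraticMap.polarBilin Q) hsymm hQ (k + k)
      (fun a => Sum.elim e (fun i => (x : Matrix ι ι F) *ᵥ e i) (finSumFinEquiv.symm a))
      (fun a b hab => h1 _ _ (fun h => hab (finSumFinEquiv.symm.injective h)))
      (fun a => h1' _) hk
    have hw1 : ∀ i, QuadraticMap.polar (⇑Q) (e i) w = 0 := by
      intro i
      have h3 := hw (finSumFinEquiv (Sum.inl i))
      simp only [Equiv.symm_apply_apply, Sum.elim_inl, QuadraticMap.polarBilin_apply_apply] at h3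
      exact h3
    have hw2 : ∀ i, QuadraticMap.polar (⇑Q) ((x : Matrix ι ι F) *ᵥ e i) w = 0 := by
      intro i
      have h3 := hw (finSumFinEquiv (Sum.inr i))
      simp only [Equiv.symm_apply_apply, Sum.elim_inr, QuadraticMap.polarBilin_apply_apply] at h3
      exact h3
    have hQw : Q w ≠ 0 := by
      intro h
      apply hww
      rw [hBself, h, mul_zero]
    refine ⟨Fin.cons w e, ?_, ?_, ?_⟩
    · intro i j
      refine Fin.cases ?_ (fun i' => ?_) i
      · refine Fin.cases ?_ (fun j' => ?_) j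
        · intro hij; exact absurd rfl hij
        · intro _
          simp only [Fin.cons_zero, Fin.cons_succ]
          rw [QuadraticMap.polar_comm]; exact hw1 j'
      · refine Fin.cases ?_ (fun j' => ?_) j
        · intro _
          simp only [Fin.cons_zero, Fin.cons_succ]
          exact hw1 i'
        · intro hij
          simp only [Fin.cons_succ]
          exact ho1 i' j' (fun h => hij (by rw [h]))
    · intro i j
      refine Fin.cases ?_ (fun i' => ?_) i
      · refine Fin.cases ?_ (fun j' => ?_) j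
        · simp only [Fin.cons_zero]
          exact hself w
        · simp only [Fin.cons_zero, Fin.cons_succ]
          rw [QuadraticMap.polar_comm]; exact hw2 j'
      · refine Fin.cases ?_ (fun j' => ?_) j
        · simp only [Fin.cons_zero, Fin.cons_succ]
          have h := hskew (e i') w
          rw [hw2 i'] at h
          exact neg_eq_zero.mp h.symm
        · simp only [Fin.cons_succ]
          exact ho2 i' j'
    · intro i
      refine Fin.cases ?_ (fun i' => ?_) i
      · simpa using hQw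
      · simpa using hne i'
  have key : ∀ (n k : ℕ), Fintype.card ι - 2 * k = n → ∀ e : Fin k → (ι → F),
      (∀ i j, i ≠ j → QuadraticMap.polar (⇑Q) (e i) (e j) = 0) →
      (∀ i j, QuadraticMap.polar (⇑Q) (e i) ((x : Matrix ι ι F) *ᵥ e j) = 0) →
      (∀ i, Q (e i) ≠ 0) →
      ∃ (m : ℕ) (e : Fin m → (ι → F)),
        (∀ i j, i ≠ j → QuadraticMap.polar (⇑Q) (e i) (e j) = 0) ∧
        (∀ i j, QuadraticMap.polar (⇑Q) (e i) ((x : Matrix ι ι F) *ᵥ e j) = 0) ∧
        (∀ i, Q (e i) ≠ 0) ∧ Fintype.card ι = 2 * m := by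
    intro n
    induction n using Nat.strong_induction_on with
    | _ n ih =>
      intro k hk e ho1 ho2 hne
      have hle := (hcard k e ho1 ho2 hne).2
      by_cases h : 2 * k = Fintype.card ι
      · exact ⟨k, e, ho1, ho2, hne, h.symm⟩
      · have hlt : 2 * k < Fintype.card ι := lt_of_le_of_ne hle h
        obtain ⟨e', h1, h2', h3⟩ := hstep k e ho1 ho2 hne hlt
        exact ih (Fintype.card ι - 2 * (k + 1)) (by omega) (k + 1) rfl e' h1 h2' h3
  obtain ⟨m, e, ho1, ho2, hne, hm⟩ := key _ 0 rfl (fun i => i.elim0) (fun i => i.elim0)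
    (fun i => i.elim0) (fun i => i.elim0)
  exact ⟨m, e, (hcard m e ho1 ho2 hne).1, hm, ho1, ho2, hne⟩

end Cfsg.Agent.Lib.helper59.Sfk
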