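import Mathlib

/-! S5973 split, piece ARIE-N (spare copy of `stp_arith_nec` under a prefixed name): pure arithmetic. -/

set_option autoImplicit false

namespace Cfsg.Agent.Lib.helper24

/-- `h x + c = h y`, `c ≤ h`: either `c = 0`, `x = y` or `c = h`, `x + 1 = y`. -/
theorem helper50_arien_aux (h x y c : ℕ) (h0 : 0 < h) (hc : c ≤ h) (e : h * x + c = h * y) :
    (c = 0 ∧ x = y) ∨ (c = h ∧ x + 1 = y) := by
  rcases Nat.lt_or_ge c h with hlt | hge
  · left
    have h1 : (h * x + c) % h = c := by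
      rw [Nat.mul_add_mod]; exact Nat.mod_eq_of_lt hlt
    have h2 : (h * y) % h = 0 := Nat.mul_mod_right h y
    rw [e, h2] at h1
    subst h1
    exact ⟨rfl, Nat.eq_of_mul_eq_mul_left h0 (by simpa using e)⟩
  · right
    have hch : c = h := le_antisymm hc hge
    subst hch
    refine ⟨rfl, ?_⟩
    have : c * (x + 1) = c * y := by rw [Nat.mul_succ]; exact e
    exact Nat.eq_of_mul_eq_mul_left h0 this

/-- `a + i b = i μ + σ`, `σ < i`: `b ≤ μ`, `σ ≤ a`, and `σ + i ≤ a` if `b < μ`. -/
theorem helper50_arien_fin (i μ σ m a b : ℕ) (hσ : σ < i) (hm : i * μ + σ = m)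
    (hab : a + i * b = m) : b ≤ μ ∧ σ ≤ a ∧ (b < μ → σ + i ≤ a) := by
  have hbμ : b ≤ μ := by
    by_contra hlt
    push Not at hlt
    have h1 := Nat.mul_le_mul_left i (Nat.succ_le_of_lt hlt)
    rw [Nat.mul_succ] at h1
    omega
  refine ⟨hbμ, ?_, ?_⟩
  · have h1 := Nat.mul_le_mul_left i hbμ
    omega
  · intro hlt
    have h1 := Nat.mul_le_mul_left i (Nat.succ_le_of_lt hlt)
    rw [Nat.mul_succ] at h1
    omega

theorem helper50_stp_arith_nec (i t d m : ℕ) (hi : Even i) (hi0 : 0 < i) (ht : 1 ≤ t) (hm : 1 ≤ m)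
    (hmd : m < d)
    (hcount : ∃ j₀, j₀ < m ∧ (i ∣ d - j₀ ∨ (i ∣ 2 * (d - j₀ - 1) ∧ ¬ i ∣ d - j₀ - 1)))
    (hC : ¬ (i ≤ m ∧ t + 2 * (m / i) ≤ (2 * d) / i ∧
      ((2 * (m % i) ≤ i ∧ (2 * d) % i = 0 ∧ Odd ((2 * d) / i) ∧ t + 2 * (m / i) < (2 * d) / i) ∨
       (2 * (m % i) ≤ (2 * d) % i ∧ Even ((2 * d) / i)) ∨
       (2 * (m % i) < (2 * d) % i ∧ Odd ((2 * d) / i))))) :
    ∃ j : ℕ, 1 ≤ j ∧ i * j ≤ 2 * d ∧ (i * j = 2 * d → Even j) ∧
      ∀ a b : ℕ, a + i * b = m → b ≤ (j + 1 - t) / 2 →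
        2 * (a + (if Odd j then 1 else 0)) ≤ 2 * d - i * j → False := by
  obtain ⟨h, hh⟩ := hi
  have hh0 : 0 < h := by omega
  have hN := Nat.div_add_mod (2 * d) i
  have hρ := Nat.mod_lt (2 * d) hi0
  have hμ := Nat.div_add_mod m i
  have hσ := Nat.mod_lt m hi0
  generalize (2 * d) / i = N at *
  generalize (2 * d) % i = ρ at *
  generalize m / i = μ at *
  generalize m % i = σ at *
  rw [Nat.odd_iff, Nat.even_iff] at hC
  have hX : i * N = 2 * (h * N) := by rw [hh]; ring
  -- normal form of the counting hypothesis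
  have hcnt : ∃ j₀ k, j₀ < m ∧ ((d = j₀ + h * k ∧ k % 2 = 0 ∧ 0 < k) ∨
      (d = j₀ + 1 + h * k ∧ k % 2 = 1)) := by
    obtain ⟨j₀, hj₀, hdiv | ⟨hdiv, hnd⟩⟩ := hcount
    · obtain ⟨c, hc⟩ := hdiv
      refine ⟨j₀, 2 * c, hj₀, Or.inl ⟨?_, by omega, ?_⟩⟩
      · have : i * c = h * (2 * c) := by rw [hh]; ring
        omega
      · rcases Nat.eq_zero_or_pos c with rfl | hc0
        · simp at hc; omega
        · omega
    · obtain ⟨c, hc⟩ := hdiv
      have h1 : i * c = 2 * (h * c) := by rw [hh]; ring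
      refine ⟨j₀, c, hj₀, Or.inr ⟨by omega, ?_⟩⟩
      by_contra hce
      apply hnd
      refine ⟨c / 2, ?_⟩
      have h2 : i * (c / 2) = h * (2 * (c / 2)) := by rw [hh]; ring
      have h3 : 2 * (c / 2) = c := by omega
      rw [h2, h3]
      omega
  obtain ⟨j₀, k, hj₀, hk⟩ := hcnt
  -- `ρ` is even
  obtain ⟨ρ', rfl⟩ : ∃ ρ', ρ = 2 * ρ' := ⟨ρ / 2, by omega⟩
  have hd : d = h * N + ρ' := by omega
  have hρ' : ρ' < h := by omega
  -- `1 ≤ N`
  have hN1 : 1 ≤ N := by
    rcases Nat.eq_zero_or_pos N with rfl | hpos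
    · exfalso
      simp only [Nat.mul_zero, Nat.zero_add] at hd hN
      rcases hk with ⟨e, -, hk0⟩ | ⟨e, hk1⟩
      · have : h * 1 ≤ h * k := Nat.mul_le_mul_left h hk0
        omega
      · have : h * 1 ≤ h * k := Nat.mul_le_mul_left h (by omega)
        omega
    · exact hpos
  -- the contradiction when `m < i` and the bound fails
  have hcontra : μ = 0 → (N % 2 = 0 → σ ≤ ρ') → (N % 2 = 1 → ρ' ≠ 0 → σ < ρ') →
      (N % 2 = 1 → ρ' = 0 → σ ≤ h) → False := by
    intro hμ0 hA hB1 hB2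
    subst hμ0
    simp only [Nat.mul_zero, Nat.zero_add] at hμ
    subst hμ
    rcases hk with ⟨e, hk0, -⟩ | ⟨e, hk1⟩
    · -- `h N + ρ' = j₀ + h k`, `k` even
      rcases Nat.lt_or_ge j₀ ρ' with hlt | hge
      · -- `h N + (ρ' - j₀) = h k`
        have e' : h * N + (ρ' - j₀) = h * k := by omega
        rcases helper50_arien_aux h N k (ρ' - j₀) hh0 (by omega) e' with ⟨h1, -⟩ | ⟨h1, -⟩ <;> omega
      · -- `h k + (j₀ - ρ') = h N`
        have e' : h * k + (j₀ - ρ') = h * N := by omega
        rcases Nat.mod_two_eq_zero_or_one N with hNe | hNo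
        · have := hA hNe; omega
        · by_cases hρ0 : ρ' = 0
          · have := hB2 hNo hρ0
            rcases helper50_arien_aux h k N (j₀ - ρ') hh0 (by omega) e' with ⟨-, h2⟩ | ⟨h1, -⟩ <;> omega
          · have := hB1 hNo hρ0; omega
    · -- `h N + ρ' = j₀ + 1 + h k`, `k` odd
      rcases Nat.lt_or_ge j₀ ρ' with hlt | hge
      · have e' : h * N + (ρ' - j₀ - 1) = h * k := by omega
        rcases helper50_arien_aux h N k (ρ' - j₀ - 1) hh0 (by omega) e' with ⟨h1, h2⟩ | ⟨h1, -⟩
        · rcases Nat.mod_two_eq_zero_or_one N with hNe | hNo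
          · omega
          · have := hB1 hNo (by omega); omega
        · omega
      · have e' : h * k + (j₀ + 1 - ρ') = h * N := by omega
        rcases Nat.mod_two_eq_zero_or_one N with hNe | hNo
        · have := hA hNe; omega
        · by_cases hρ0 : ρ' = 0
          · have := hB2 hNo hρ0
            rcases helper50_arien_aux h k N (j₀ + 1 - ρ') hh0 (by omega) e' with ⟨h1, -⟩ | ⟨-, h2⟩ <;> omega
          · have := hB1 hNo hρ0; omega
  -- main case analysis
  rcases Nat.mod_two_eq_zero_or_one N with hNe | hNo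
  · -- `N` even
    by_cases hgood : (N + 1 - t) / 2 < μ ∨ ρ' < σ
    · refine ⟨N, hN1, by omega, fun _ => Nat.even_iff.mpr hNe, ?_⟩
      intro a b hab hb hle
      obtain ⟨hbμ, hσa, hlt⟩ := helper50_arien_fin i μ σ m a b hσ hμ hab
      rw [if_neg (by rw [Nat.odd_iff]; omega)] at hle
      by_cases hbμ' : b < μ
      · have := hlt hbμ'; omega
      · omega
    · push Not at hgood
      rcases Nat.eq_zero_or_pos μ with hμ0 | hμpos
      · exact (hcontra hμ0 (fun _ => hgood.2) (fun hh1 => by omega) (fun hh1 => by omega)).elim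
      · obtain ⟨N', rfl⟩ : ∃ N', N = N' + 1 := ⟨N - 1, by omega⟩
        have hX1 : i * (N' + 1) = i * N' + i := Nat.mul_succ i N'
        have hm' : i * 1 ≤ i * μ := Nat.mul_le_mul_left i hμpos
        refine ⟨N', by omega, by omega, fun e => by omega, ?_⟩
        intro a b hab hb hle
        obtain ⟨hbμ, hσa, hlt⟩ := helper50_arien_fin i μ σ m a b hσ hμ hab
        rw [if_pos (by rw [Nat.odd_iff]; omega)] at hle
        have := hlt (by omega)
        omega
  · -- `N` odd
    by_cases hρ0 : ρ' = 0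
    · -- `ρ = 0`
      subst hρ0
      obtain ⟨N', rfl⟩ : ∃ N', N = N' + 1 := ⟨N - 1, by omega⟩
      have hX1 : i * (N' + 1) = i * N' + i := Nat.mul_succ i N'
      by_cases hgood : (N' + 1 - t) / 2 < μ ∨ i < 2 * σ
      · have hN'1 : 1 ≤ N' := by
          rcases Nat.eq_zero_or_pos N' with rfl | hpos
          · exfalso
            rcases Nat.eq_zero_or_pos μ with rfl | hμpos
            · simp only [Nat.mul_zero, Nat.zero_add] at hμ
              omega
            · have hm' : i * 1 ≤ i * μ := Nat.mul_le_mul_left i hμpos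
              omega
          · exact hpos
        refine ⟨N', hN'1, by omega, fun e => by omega, ?_⟩
        intro a b hab hb hle
        obtain ⟨hbμ, hσa, hlt⟩ := helper50_arien_fin i μ σ m a b hσ hμ hab
        rw [if_neg (by rw [Nat.odd_iff]; omega)] at hle
        by_cases hbμ' : b < μ
        · have := hlt hbμ'; omega
        · omega
      · push Not at hgood
        rcases Nat.eq_zero_or_pos μ with hμ0 | hμpos
        · exact (hcontra hμ0 (fun hh1 => by omega) (fun _ hh2 => (hh2 rfl).elim)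
            (fun _ _ => by omega)).elim
        · have hm' : i * 1 ≤ i * μ := Nat.mul_le_mul_left i hμpos
          obtain ⟨N'', rfl⟩ : ∃ N'', N' = N'' + 1 := ⟨N' - 1, by omega⟩
          have hX2 : i * (N'' + 1) = i * N'' + i := Nat.mul_succ i N''
          refine ⟨N'', by omega, by omega, fun e => by omega, ?_⟩
          intro a b hab hb hle
          obtain ⟨hbμ, hσa, hlt⟩ := helper50_arien_fin i μ σ m a b hσ hμ hab
          rw [if_pos (by rw [Nat.odd_iff]; omega)] at hle
          have := hlt (by omega)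
          omega
    · -- `ρ ≠ 0`
      by_cases hgood : (N + 1 - t) / 2 < μ ∨ ρ' ≤ σ
      · refine ⟨N, hN1, by omega, fun e => by omega, ?_⟩
        intro a b hab hb hle
        obtain ⟨hbμ, hσa, hlt⟩ := helper50_arien_fin i μ σ m a b hσ hμ hab
        rw [if_pos (by rw [Nat.odd_iff]; omega)] at hle
        by_cases hbμ' : b < μ
        · have := hlt hbμ'; omega
        · omega
      · push Not at hgood
        rcases Nat.eq_zero_or_pos μ with hμ0 | hμpos
        · exact (hcontra hμ0 (fun hh1 => by omega) (fun _ _ => hgood.2)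
            (fun _ hh2 => (hρ0 hh2).elim)).elim
        · obtain ⟨N', rfl⟩ : ∃ N', N = N' + 1 := ⟨N - 1, by omega⟩
          have hX1 : i * (N' + 1) = i * N' + i := Nat.mul_succ i N'
          have hm' : i * 1 ≤ i * μ := Nat.mul_le_mul_left i hμpos
          refine ⟨N', by omega, by omega, fun e => by omega, ?_⟩
          intro a b hab hb hle
          obtain ⟨hbμ, hσa, hlt⟩ := helper50_arien_fin i μ σ m a b hσ hμ hab
          rw [if_neg (by rw [Nat.odd_iff]; omega)] at hle
          have := hlt (by omega)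
          omega

end Cfsg.Agent.Lib.helper24
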