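import Mathlib

set_option autoImplicit false

namespace Cfsg.Agent.Lib.helper50.T97

/-- PIECE CA of the S3797 split. -/
theorem aut_trivial_of_unique_roots {R : Type*} [Group R] [Finite R] (V : Subgroup R)
    (hVc : V ≤ Subgroup.center R) (hsq : ∀ a : R, a * a ∈ V) (hV : ∀ a : R, a * a = 1 → a ∈ V)
    (hV2 : ∀ v ∈ V, v * v = 1)
    (hroots : ∀ w ∈ V, w ≠ 1 → Nat.card {a : R // a * a = w} = Nat.card V)
    (σ : MulAut R) (hodd : Odd (orderOf σ)) (hσ : ∀ v ∈ V, σ v = v) : σ = 1 := by
  ext a
  show σ a = a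
  by_cases ha : a ∈ V
  · exact hσ a ha
  · have hw1 : a * a ≠ 1 := fun h => ha (hV a h)
    let φ : V → {b : R // b * b = a * a} := fun v => ⟨a * v, by
      have hc : ∀ x : R, x * v.1 = v.1 * x := fun x => Subgroup.mem_center_iff.mp (hVc v.2) x
      calc a * v.1 * (a * v.1) = a * (v.1 * a) * v.1 := by group
        _ = a * (a * v.1) * v.1 := by rw [hc a]
        _ = a * a * (v.1 * v.1) := by group
        _ = a * a := by rw [hV2 v.1 v.2, mul_one]⟩
    have hφi : Function.Injective φ := by
      intro v v' h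
      have h1 : a * v.1 = a * v'.1 := congrArg Subtype.val h
      exact Subtype.ext (mul_left_cancel h1)
    have hφs : Function.Surjective φ :=
      ((Nat.bijective_iff_injective_and_card φ).2 ⟨hφi, (hroots _ (hsq a) hw1).symm⟩).2
    obtain ⟨v, hv⟩ := hφs ⟨σ a, by rw [← map_mul]; exact hσ _ (hsq a)⟩
    have hv' : σ a = a * v.1 := (congrArg Subtype.val hv).symm
    have hpow : ∀ k : ℕ, (σ ^ k) a = a * v.1 ^ k := by
      intro k
      induction k with
      | zero => simp
      | succ k ih =>
        rw [pow_succ', MulAut.mul_apply, ih, map_mul, hv', map_pow, hσ v.1 v.2, pow_succ',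
          mul_assoc]
    have h1 := hpow (orderOf σ)
    rw [pow_orderOf_eq_one, MulAut.one_apply] at h1
    have h2 : v.1 ^ orderOf σ = 1 := by
      have h4 : a * 1 = a * v.1 ^ orderOf σ := by rw [mul_one]; exact h1
      exact (mul_left_cancel h4).symm
    obtain ⟨k, hk⟩ := hodd
    have h3 : v.1 = 1 := by
      rw [hk, pow_succ, pow_mul, pow_two, hV2 v.1 v.2, one_pow, one_mul] at h2
      exact h2
    rw [hv', h3, mul_one]

end Cfsg.Agent.Lib.helper50.T97
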