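import Mathlib

set_option autoImplicit false

namespace Cfsg.Agent.Lib.helper50.T97

theorem t97hc_ofAdd_pow (k N : ℕ) :
    (Multiplicative.ofAdd (1 : ZMod k)) ^ N = 1 ↔ k ∣ N := by
  rw [← ofAdd_nsmul, ofAdd_eq_one, nsmul_eq_mul, mul_one, ZMod.natCast_eq_zero_iff]

theorem t97hc_pow_dvd (k N : ℕ) (h : k ∣ N) (w : Multiplicative (ZMod k)) : w ^ N = 1 := by
  apply Multiplicative.toAdd.injective
  rw [toAdd_pow, toAdd_one, nsmul_eq_mul, (ZMod.natCast_eq_zero_iff N k).2 h, zero_mul]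

theorem t97hc_reindex {S : Type*} [Group S] {ι : Type} [Fintype ι] (n : ι → ℕ) (k : ℕ)
    (hn : ∀ i, n i = k) (e : S ≃* ((i : ι) → Multiplicative (ZMod (n i)))) :
    Nonempty (S ≃* (Fin (Fintype.card ι) → Multiplicative (ZMod k))) := by
  obtain rfl : n = fun _ => k := funext hn
  exact ⟨e.trans (MulEquiv.arrowCongr (Fintype.equivFin ι) (MulEquiv.refl _))⟩

theorem homocyclic_comm {S : Type*} [CommGroup S] [Finite S] (h2 : IsPGroup 2 S)
    (htr : ∀ x y : S, x ≠ 1 → x ^ 2 = 1 → y ≠ 1 → y ^ 2 = 1 → ∃ a : MulAut S, a x = y) :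
    ∃ m r : ℕ, Nonempty (S ≃* (Fin r → Multiplicative (ZMod (2 ^ m)))) := by
  classical
  obtain ⟨ι, _, n, hn1, ⟨e⟩⟩ := CommGroup.equiv_prod_multiplicative_zmod_of_finite S
  let π : ∀ j : ι, S →* Multiplicative (ZMod (n j)) := fun j =>
    (Pi.evalMonoidHom (fun i => Multiplicative (ZMod (n i))) j).comp e.toMonoidHom
  let u : ι → S := fun j => e.symm (Pi.mulSingle j (Multiplicative.ofAdd (1 : ZMod (n j))))
  have hπu : ∀ j, π j (u j) = Multiplicative.ofAdd (1 : ZMod (n j)) := by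
    intro j
    simp [π, u]
  have hu_pow : ∀ j N, (u j) ^ N = 1 ↔ n j ∣ N := by
    intro j N
    constructor
    · intro h
      have h1 : π j ((u j) ^ N) = 1 := by rw [h, map_one]
      rw [map_pow, hπu] at h1
      exact (t97hc_ofAdd_pow _ N).1 h1
    · intro h
      apply e.injective
      rw [map_pow, map_one]
      show (e (e.symm _)) ^ N = 1
      rw [e.apply_symm_apply]
      ext i
      rw [Pi.pow_apply, Pi.one_apply]
      by_cases hij : i = j
      · subst hij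
        rw [Pi.mulSingle_eq_same]
        exact t97hc_pow_dvd _ _ h _
      · rw [Pi.mulSingle_eq_of_ne hij, one_pow]
  have hpow2 : ∀ j, ∃ k, n j = 2 ^ k := by
    intro j
    obtain ⟨k, hk⟩ := h2 (u j)
    obtain ⟨l, -, hl⟩ := (Nat.dvd_prime_pow Nat.prime_two).1 ((hu_pow j _).1 hk)
    exact ⟨l, hl⟩
  choose m hm using hpow2
  have hm1 : ∀ j, 1 ≤ m j := by
    intro j
    by_contra h
    have h0 : m j = 0 := by omega
    have h3 := hn1 j
    rw [hm j, h0] at h3
    simp at h3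
  have hmM : ∀ i, m i = Finset.univ.sup m := by
    intro i
    have hle : m i ≤ Finset.univ.sup m := Finset.le_sup (Finset.mem_univ i)
    obtain ⟨i0, -, hi0⟩ := Finset.exists_mem_eq_sup Finset.univ ⟨i, Finset.mem_univ i⟩ m
    by_contra hne
    have hlt : m i < m i0 := by rw [← hi0]; exact lt_of_le_of_ne hle hne
    obtain ⟨M', hM'⟩ : ∃ M', m i0 = M' + 1 := ⟨m i0 - 1, by have := hm1 i0; omega⟩
    obtain ⟨k, hk⟩ : ∃ k, m i = k + 1 := ⟨m i - 1, by have := hm1 i; omega⟩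
    have hx1 : (u i0) ^ (2 ^ M') ≠ 1 := by
      rw [Ne, hu_pow, hm i0, hM', Nat.pow_dvd_pow_iff_le_right (by norm_num)]
      omega
    have hx2 : ((u i0) ^ (2 ^ M')) ^ 2 = 1 := by
      rw [← pow_mul, hu_pow, hm i0, hM', pow_succ]
    have hy1 : (u i) ^ (2 ^ k) ≠ 1 := by
      rw [Ne, hu_pow, hm i, hk, Nat.pow_dvd_pow_iff_le_right (by norm_num)]
      omega
    have hy2 : ((u i) ^ (2 ^ k)) ^ 2 = 1 := by
      rw [← pow_mul, hu_pow, hm i, hk, pow_succ]
    obtain ⟨a, ha⟩ := htr _ _ hx1 hx2 hy1 hy2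
    have h4 : π i ((u i) ^ (2 ^ k)) = 1 := by
      rw [← ha, map_pow, map_pow]
      refine t97hc_pow_dvd _ _ ?_ _
      rw [hm i, hk]
      exact pow_dvd_pow 2 (by omega)
    rw [map_pow, hπu, t97hc_ofAdd_pow, hm i, hk,
      Nat.pow_dvd_pow_iff_le_right (by norm_num)] at h4
    omega
  exact ⟨Finset.univ.sup m, Fintype.card ι,
    t97hc_reindex n (2 ^ Finset.univ.sup m) (fun i => by rw [hm i, hmM i]) e⟩

/-- PIECE HC (homocyclic) of the S3797 split. -/
theorem homocyclic_of_transitive {S : Type*} [Group S] [Finite S] (h2 : IsPGroup 2 S)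
    (hab : ∀ a b : S, a * b = b * a)
    (htr : ∀ x y : S, x ≠ 1 → x ^ 2 = 1 → y ≠ 1 → y ^ 2 = 1 → ∃ a : MulAut S, a x = y) :
    ∃ m r : ℕ, Nonempty (S ≃* (Fin r → Multiplicative (ZMod (2 ^ m)))) := by
  letI : CommGroup S := { (inferInstance : Group S) with mul_comm := hab }
  exact homocyclic_comm h2 htr

end Cfsg.Agent.Lib.helper50.T97
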