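import Mathlib
import Cfsg.Agent.Lib.helper50.T97GS
import Cfsg.Agent.Lib.helper57.T97SQ1
import Cfsg.Agent.Lib.helper57.T97FIX
import Cfsg.Agent.Lib.helper32.T97CHAR

set_option autoImplicit false

namespace Cfsg.Agent.Lib.helper50.T97

/-- A sum of terms `± P` is `P * s` with `s` of the parity of the number of terms. -/
theorem t97sq2_sign_sum {ι : Type*} (S : Finset ι) (f : ι → ℤ) (P : ℤ)
    (h : ∀ i ∈ S, f i = P ∨ f i = -P) :
    ∃ s : ℤ, ∑ i ∈ S, f i = P * s ∧ Even (s - (S.card : ℤ)) := by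
  classical
  induction S using Finset.induction_on with
  | empty => exact ⟨0, by simp, by simp⟩
  | insert a S ha ih =>
    obtain ⟨s, hs, hev⟩ := ih (fun i hi => h i (Finset.mem_insert_of_mem hi))
    rcases h a (Finset.mem_insert_self a S) with h1 | h1
    · refine ⟨s + 1, ?_, ?_⟩
      · rw [Finset.sum_insert ha, hs, h1]; ring
      · rw [Finset.card_insert_of_notMem ha]
        push_cast
        have e : s + 1 - ((S.card : ℤ) + 1) = s - S.card := by ring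
        rw [e]; exact hev
    · refine ⟨s - 1, ?_, ?_⟩
      · rw [Finset.sum_insert ha, hs, h1]; ring
      · rw [Finset.card_insert_of_notMem ha]
        push_cast
        have e : s - 1 - ((S.card : ℤ) + 1) = (s - S.card) - 2 := by ring
        rw [e]; exact hev.sub even_two

theorem t97sq2_arith (r u t : ℕ) (s : ℤ) (hru : r < u) (hu : u ≤ 3 * r) (ht : 2 * t = u + r)
    (hs : Odd s) (h : (2 : ℤ) ^ t * s = 2 ^ (2 * r) - 2 ^ u) : u = 3 * r := by
  by_contra hne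
  have e1 : (2 : ℤ) ^ (2 * r) = 2 ^ t * 2 ^ (2 * r - t) := by
    rw [← pow_add]; congr 1; omega
  have e2 : (2 : ℤ) ^ u = 2 ^ t * 2 ^ (u - t) := by
    rw [← pow_add]; congr 1; omega
  rw [e1, e2, ← mul_sub] at h
  have h3 : s = 2 ^ (2 * r - t) - 2 ^ (u - t) := mul_left_cancel₀ (by positivity) h
  have h4 : Even s := by
    rw [h3]
    apply Even.sub
    · exact (Int.even_pow).2 ⟨even_two, by omega⟩
    · exact (Int.even_pow).2 ⟨even_two, by omega⟩
  exact (Int.not_even_iff_odd.2 hs) h4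

theorem t97sq2_sqrt (x : ℤ) (k : ℕ) (h : x ^ 2 = 2 ^ k) :
    ∃ t : ℕ, 2 * t = k ∧ (x = 2 ^ t ∨ x = -2 ^ t) := by
  have hd : x.natAbs ∣ 2 ^ k := by
    have h1 : (x.natAbs : ℤ) ∣ (2 : ℤ) ^ k := by
      rw [Int.natAbs_dvd, ← h]; exact dvd_pow_self x two_ne_zero
    exact_mod_cast h1
  obtain ⟨t, -, ht⟩ := (Nat.dvd_prime_pow Nat.prime_two).1 hd
  have hx : x = 2 ^ t ∨ x = -2 ^ t := by
    rcases Int.natAbs_eq x with h1 | h1
    · left; rw [h1, ht]; push_cast; rfl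
    · right; rw [h1, ht]; push_cast; rfl
  refine ⟨t, ?_, hx⟩
  have h2 : (2 : ℤ) ^ (2 * t) = 2 ^ k := by
    rw [← h]
    rcases hx with h1 | h1 <;> rw [h1] <;> ring
  have h3 : (2 : ℕ) ^ (2 * t) = 2 ^ k := by exact_mod_cast h2
  exact Nat.pow_right_injective (le_refl 2) h3

/-- PIECE SQ2 of the S3797 split. -/
theorem sq_fixed {R : Type*} [Group R] [Finite R] (hR : IsPGroup 2 R) (V : Subgroup R)
    (hVc : V ≤ Subgroup.center R) (hsq : ∀ a : R, a * a ∈ V) (hV : ∀ a : R, a * a = 1 → a ∈ V)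
    (hV2 : ∀ v ∈ V, v * v = 1) (hR3 : Nat.card R = Nat.card V ^ 3)
    (hrad : ∀ χ : V →* ℤˣ, χ ≠ 1 → ∀ c : R,
        (∀ a : R, ∀ h : c⁻¹ * a⁻¹ * c * a ∈ V, χ ⟨c⁻¹ * a⁻¹ * c * a, h⟩ = 1) → c ∈ V)
    (σ : MulAut R) (p : ℕ) (hp : p.Prime) (hp2 : p ≠ 2) (hσ : σ ^ p = 1)
    (hσV : ∀ v ∈ V, σ v = v) :
    σ = 1 ∨ ∀ a : R, σ a = a → a ∈ V := by
  classical
  by_cases hfix : ∀ a : R, σ a = a → a ∈ V
  · exact Or.inr hfix
  left
  simp only [not_forall] at hfix
  obtain ⟨a₀, ha₀, ha₀V⟩ := hfix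
  have hcomm : ∀ v ∈ V, ∀ a : R, v * a = a * v := fun v hv a =>
    (Subgroup.mem_center_iff.mp (hVc hv) a).symm
  have hκV : ∀ c a : R, c⁻¹ * a⁻¹ * c * a ∈ V := by
    intro c a
    have h1 := hcomm (a⁻¹ * a⁻¹) (hsq a⁻¹) c
    have h2 : c⁻¹ * a⁻¹ * c * a = (c⁻¹ * c⁻¹) * (a⁻¹ * a⁻¹) * ((c * a) * (c * a)) := by
      calc c⁻¹ * a⁻¹ * c * a = c⁻¹ * c⁻¹ * (c * (a⁻¹ * a⁻¹)) * a * c * a := by group
        _ = c⁻¹ * c⁻¹ * ((a⁻¹ * a⁻¹) * c) * a * c * a := by rw [← h1]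
        _ = (c⁻¹ * c⁻¹) * (a⁻¹ * a⁻¹) * ((c * a) * (c * a)) := by group
    rw [h2]
    exact V.mul_mem (V.mul_mem (hsq c⁻¹) (hsq a⁻¹)) (hsq (c * a))
  have hκa : ∀ c a b : R, c⁻¹ * (a * b)⁻¹ * c * (a * b) =
      (c⁻¹ * a⁻¹ * c * a) * (c⁻¹ * b⁻¹ * c * b) := by
    intro c a b
    calc c⁻¹ * (a * b)⁻¹ * c * (a * b) = c⁻¹ * b⁻¹ * c * ((c⁻¹ * a⁻¹ * c * a) * b) := by group
      _ = c⁻¹ * b⁻¹ * c * (b * (c⁻¹ * a⁻¹ * c * a)) := by rw [hcomm _ (hκV c a) b]
      _ = (c⁻¹ * b⁻¹ * c * b) * (c⁻¹ * a⁻¹ * c * a) := by group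
      _ = (c⁻¹ * a⁻¹ * c * a) * (c⁻¹ * b⁻¹ * c * b) := (hcomm _ (hκV c a) _).symm
  -- the subgroup of fixed points
  let U : Subgroup R :=
    { carrier := {a | σ a = a}
      one_mem' := map_one σ
      mul_mem' := fun {a b} ha hb => by
        show σ (a * b) = a * b
        rw [map_mul, show σ a = a from ha, show σ b = b from hb]
      inv_mem' := fun {a} ha => by
        show σ a⁻¹ = a⁻¹
        rw [map_inv, show σ a = a from ha] }
  have hVU : V ≤ U := fun v hv => hσV v hv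
  haveI : Fintype U := Fintype.ofFinite U
  haveI : Fintype V := Fintype.ofFinite V
  -- characters of `V`
  have hchar_exists : ∀ v : V, v ≠ 1 → ∃ χ : V →* ℤˣ, χ v = -1 := by
    letI : CommGroup V := { (inferInstance : Group V) with
      mul_comm := fun a b => Subtype.ext (hcomm a.1 a.2 b.1) }
    intro v hv
    exact Cfsg.Agent.Lib.helper32.T97.char_exists (fun v => Subtype.ext (hV2 v.1 v.2)) v hv
  have hchar_card : Nat.card (V →* ℤˣ) = Nat.card V := by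
    letI : CommGroup V := { (inferInstance : Group V) with
      mul_comm := fun a b => Subtype.ext (hcomm a.1 a.2 b.1) }
    exact Cfsg.Agent.Lib.helper32.T97.char_card (fun v => Subtype.ext (hV2 v.1 v.2))
  haveI : Finite (V →* ℤˣ) :=
    Finite.of_injective (fun χ : V →* ℤˣ => (χ : V → ℤˣ)) DFunLike.coe_injective
  haveI : Fintype (V →* ℤˣ) := Fintype.ofFinite _
  let f : (V →* ℤˣ) → R → ℤ := fun χ x => if h : x ∈ V then ((χ ⟨x, h⟩ : ℤˣ) : ℤ) else 0
  have hfV : ∀ (χ : V →* ℤˣ) (x : R) (h : x ∈ V), f χ x = ((χ ⟨x, h⟩ : ℤˣ) : ℤ) :=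
    fun χ x h => dif_pos h
  have hf1 : ∀ χ : V →* ℤˣ, f χ 1 = 1 := by
    intro χ
    rw [hfV χ 1 V.one_mem]
    have e : (⟨1, V.one_mem⟩ : V) = 1 := rfl
    rw [e, map_one]; rfl
  have hfm : ∀ χ : V →* ℤˣ, ∀ v ∈ V, ∀ w ∈ V, f χ (v * w) = f χ v * f χ w := by
    intro χ v hv w hw
    rw [hfV χ _ (V.mul_mem hv hw), hfV χ v hv, hfV χ w hw]
    have e : (⟨v * w, V.mul_mem hv hw⟩ : V) = ⟨v, hv⟩ * ⟨w, hw⟩ := rfl
    rw [e, map_mul, Units.val_mul]
  let T : (V →* ℤˣ) → ℤ := fun χ => ∑ a : U, f χ ((a : R) * (a : R))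
  have hcount : (Finset.univ.filter fun c : U => (c : R) ∈ V).card = Fintype.card V := by
    rw [← Fintype.card_subtype]
    exact Fintype.card_congr
      { toFun := fun c => ⟨c.1.1, c.2⟩
        invFun := fun v => ⟨⟨v.1, hVU v.2⟩, v.2⟩
        left_inv := fun c => rfl
        right_inv := fun v => rfl }
  -- Step A
  have hA : ∀ χ : V →* ℤˣ, χ ≠ 1 →
      (T χ) ^ 2 = (Fintype.card U : ℤ) * (Fintype.card V : ℤ) := by
    intro χ hχ
    have hrad' : ∀ c : U, (∀ a : U, f χ ((c : R)⁻¹ * (a : R)⁻¹ * (c : R) * (a : R)) = 1) ↔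
        (c : R) ∈ V := by
      intro c
      constructor
      · intro hall
        by_contra hcV
        have hex : ∃ a : R, χ ⟨(c : R)⁻¹ * a⁻¹ * (c : R) * a, hκV c a⟩ ≠ 1 := by
          by_contra hno
          simp only [not_exists, not_not] at hno
          exact hcV (hrad χ hχ c (fun a h => hno a))
        obtain ⟨a, ha⟩ := hex
        have ha' : χ ⟨(c : R)⁻¹ * a⁻¹ * (c : R) * a, hκV c a⟩ = -1 :=
          (Int.units_eq_one_or _).resolve_left ha
        let g : R →* ℤˣ := MonoidHom.mk'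
          (fun a => χ ⟨(c : R)⁻¹ * a⁻¹ * (c : R) * a, hκV c a⟩) (by
            intro a b
            have e : (⟨(c : R)⁻¹ * (a * b)⁻¹ * (c : R) * (a * b), hκV c (a * b)⟩ : V) =
                ⟨(c : R)⁻¹ * a⁻¹ * (c : R) * a, hκV c a⟩ *
                  ⟨(c : R)⁻¹ * b⁻¹ * (c : R) * b, hκV c b⟩ :=
              Subtype.ext (hκa c a b)
            show χ _ = χ _ * χ _
            rw [e, map_mul])
        have hg : ∀ a, g (σ a) = g a := by
          intro a
          show χ ⟨(c : R)⁻¹ * (σ a)⁻¹ * (c : R) * σ a, hκV c (σ a)⟩ =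
            χ ⟨(c : R)⁻¹ * a⁻¹ * (c : R) * a, hκV c a⟩
          congr 1
          apply Subtype.ext
          show (c : R)⁻¹ * (σ a)⁻¹ * (c : R) * σ a = (c : R)⁻¹ * a⁻¹ * (c : R) * a
          have hc : σ (c : R) = c := c.2
          have h1 : σ ((c : R)⁻¹ * a⁻¹ * (c : R) * a) =
              (c : R)⁻¹ * (σ a)⁻¹ * (c : R) * σ a := by
            rw [map_mul, map_mul, map_mul, map_inv, map_inv, hc]
          rw [← h1]
          exact hσV _ (hκV c a)
        obtain ⟨b, hb, hgb⟩ :=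
          Cfsg.Agent.Lib.helper57.T97.exists_fixed_neg hR σ p hp hp2 hσ g hg ⟨a, ha'⟩
        have h2 := hall ⟨b, hb⟩
        rw [hfV χ _ (hκV c b)] at h2
        have h3 : χ ⟨(c : R)⁻¹ * b⁻¹ * (c : R) * b, hκV c b⟩ = -1 := hgb
        rw [h3] at h2
        norm_num at h2
      · intro hcV a
        have h1 : (c : R)⁻¹ * (a : R)⁻¹ * (c : R) * (a : R) = 1 := by
          have h2 := hcomm (c : R) hcV (a : R)⁻¹
          calc (c : R)⁻¹ * (a : R)⁻¹ * (c : R) * (a : R)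
              = (c : R)⁻¹ * ((a : R)⁻¹ * (c : R)) * (a : R) := by group
            _ = (c : R)⁻¹ * ((c : R) * (a : R)⁻¹) * (a : R) := by rw [h2]
            _ = 1 := by group
        rw [h1, hf1]
    have hgs := Cfsg.Agent.Lib.helper50.T97.gauss_sq V hVc hsq hV2 (f χ) (hf1 χ) (hfm χ) U
    show (∑ a : U, f χ ((a : R) * (a : R))) ^ 2 = _
    rw [hgs]
    congr 1
    rw [← hcount, Finset.card_filter]
    push_cast
    refine Finset.sum_congr rfl (fun c _ => ?_)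
    by_cases hc : (c : R) ∈ V
    · rw [if_pos ((hrad' c).2 hc), if_pos hc, hV2 _ hc, hf1]
    · rw [if_neg (fun h => hc ((hrad' c).1 h)), if_neg hc]
  -- Step B
  have hB : T 1 = (Fintype.card U : ℤ) := by
    have h1 : ∀ a : U, f 1 ((a : R) * (a : R)) = 1 := fun a => by
      rw [hfV 1 _ (hsq a)]; rfl
    show ∑ a : U, f 1 ((a : R) * (a : R)) = _
    rw [Finset.sum_congr rfl (fun a _ => h1 a), Finset.sum_const, Finset.card_univ,
      nsmul_eq_mul, mul_one]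
  -- Step C
  have hC : ∑ χ : V →* ℤˣ, T χ = (Fintype.card V : ℤ) * (Fintype.card V : ℤ) := by
    show ∑ χ : V →* ℤˣ, ∑ a : U, f χ ((a : R) * (a : R)) = _
    rw [Finset.sum_comm]
    have hin : ∀ a : U, ∑ χ : V →* ℤˣ, f χ ((a : R) * (a : R)) =
        if (a : R) ∈ V then (Fintype.card V : ℤ) else 0 := by
      intro a
      by_cases ha : (a : R) ∈ V
      · rw [if_pos ha]
        have h1 : ∀ χ : V →* ℤˣ, f χ ((a : R) * (a : R)) = 1 := fun χ => by
          rw [hV2 _ ha, hf1]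
        rw [Finset.sum_congr rfl (fun χ _ => h1 χ), Finset.sum_const, Finset.card_univ,
          nsmul_eq_mul, mul_one]
        have h2 := hchar_card
        rw [Nat.card_eq_fintype_card, Nat.card_eq_fintype_card] at h2
        exact_mod_cast h2
      · rw [if_neg ha]
        have hne : (⟨(a : R) * (a : R), hsq a⟩ : V) ≠ 1 :=
          fun h => ha (hV _ (congrArg Subtype.val h))
        obtain ⟨χ₀, hχ₀⟩ := hchar_exists _ hne
        have hev := Cfsg.Agent.Lib.helper57.T97.char_sum_zero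
          (MonoidHom.eval (⟨(a : R) * (a : R), hsq a⟩ : V) : (V →* ℤˣ) →* ℤˣ) (by
            intro h
            have h3 : χ₀ ⟨(a : R) * (a : R), hsq a⟩ = 1 := by
              have h4 := congrArg (fun e : (V →* ℤˣ) →* ℤˣ => e χ₀) h
              exact h4
            rw [hχ₀] at h3
            exact absurd h3 (by decide))
        rw [← hev]
        refine Finset.sum_congr rfl (fun χ _ => ?_)
        rw [hfV χ _ (hsq a)]
        rfl
    rw [Finset.sum_congr rfl (fun a _ => hin a), ← Finset.sum_filter, Finset.sum_const, hcount,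
      nsmul_eq_mul]
  -- Step D: arithmetic
  obtain ⟨r, hr⟩ := IsPGroup.iff_card.mp (hR.to_subgroup V)
  obtain ⟨u, hu⟩ := IsPGroup.iff_card.mp (hR.to_subgroup U)
  have hVc' : Fintype.card V = 2 ^ r := by rw [← Nat.card_eq_fintype_card]; exact hr
  have hUc' : Fintype.card U = 2 ^ u := by rw [← Nat.card_eq_fintype_card]; exact hu
  have hu3 : u ≤ 3 * r := by
    have h1 := Subgroup.card_le_card_group U
    rw [hu, hR3, hr, ← pow_mul] at h1
    have h2 := (Nat.pow_le_pow_iff_right (by norm_num : 1 < 2)).1 h1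
    omega
  have hru : r < u := by
    rcases Nat.lt_or_ge r u with h | h
    · exact h
    · exfalso
      have hcard : Nat.card U ≤ Nat.card V := by
        rw [hr, hu]; exact Nat.pow_le_pow_right (by norm_num) h
      have hUV := Subgroup.eq_of_le_of_card_ge hVU hcard
      apply ha₀V
      rw [hUV]
      exact ha₀
  have hr1 : 1 ≤ r := by omega
  obtain ⟨χ₁, hχ₁⟩ := Cfsg.Agent.Lib.helper57.T97.exists_char_ne_one (hR.to_subgroup V)
    (by rw [hr]; calc 2 = 2 ^ 1 := by norm_num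
          _ ≤ 2 ^ r := Nat.pow_le_pow_right (by norm_num) hr1)
  have hsq1 : ∀ χ : V →* ℤˣ, χ ≠ 1 → (T χ) ^ 2 = (2 : ℤ) ^ (u + r) := by
    intro χ hχ
    rw [hA χ hχ, hUc', hVc']
    push_cast
    rw [pow_add]
  obtain ⟨t, ht, -⟩ := t97sq2_sqrt (T χ₁) (u + r) (hsq1 χ₁ hχ₁)
  have hTP : ∀ χ : V →* ℤˣ, χ ≠ 1 → T χ = (2 : ℤ) ^ t ∨ T χ = -(2 : ℤ) ^ t := by
    intro χ hχ
    apply sq_eq_sq_iff_eq_or_eq_neg.mp
    rw [hsq1 χ hχ, ← pow_mul, mul_comm, ht]
  obtain ⟨s, hs, hev⟩ := t97sq2_sign_sum (Finset.univ.erase (1 : V →* ℤˣ)) T ((2 : ℤ) ^ t)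
    (fun χ hχ => hTP χ (Finset.ne_of_mem_erase hχ))
  have hXc : (Finset.univ.erase (1 : V →* ℤˣ)).card = 2 ^ r - 1 := by
    rw [Finset.card_erase_of_mem (Finset.mem_univ _), Finset.card_univ,
      ← Nat.card_eq_fintype_card, hchar_card, hr]
  have hsodd : Odd s := by
    rw [hXc] at hev
    obtain ⟨k, hk⟩ := hev
    have h2 : ((2 ^ r - 1 : ℕ) : ℤ) = 2 ^ r - 1 := by
      rw [Nat.cast_sub Nat.one_le_two_pow]; push_cast; rfl
    rw [h2] at hk
    have h3 : (2 : ℤ) ^ r = 2 * 2 ^ (r - 1) := by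
      rw [← pow_succ']; congr 1; omega
    refine ⟨k + 2 ^ (r - 1) - 1, ?_⟩
    linarith
  have heq : (2 : ℤ) ^ t * s = 2 ^ (2 * r) - 2 ^ u := by
    have h1 := Finset.add_sum_erase Finset.univ T (Finset.mem_univ (1 : V →* ℤˣ))
    rw [hC, hB, hs, hUc', hVc'] at h1
    push_cast at h1
    have h2 : (2 : ℤ) ^ (2 * r) = 2 ^ r * 2 ^ r := by rw [← pow_add]; congr 1; omega
    linarith
  have hu3' := t97sq2_arith r u t s hru hu3 ht hsodd heq
  have hUtop : U = ⊤ := by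
    apply (Subgroup.card_eq_iff_eq_top U).mp
    rw [hu, hR3, hr, ← pow_mul, hu3', mul_comm]
  apply MulEquiv.ext
  intro a
  have ha : a ∈ U := by rw [hUtop]; exact Subgroup.mem_top a
  exact ha

end Cfsg.Agent.Lib.helper50.T97
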