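import Mathlib

set_option autoImplicit false

namespace Cfsg.Agent.Lib.helper50.T97

/-- PIECE SR of the S3797 split. -/
theorem card_dvd_roots_of_semireg {R : Type*} [Group R] [Finite R] (V : Subgroup R)
    (K : Subgroup (MulAut R)) (hK : ∀ σ ∈ K, σ ≠ 1 → ∀ a : R, σ a = a → a ∈ V)
    (hV2 : ∀ v ∈ V, v * v = 1)
    (hKV : ∀ σ ∈ K, ∀ v ∈ V, σ v = v) (w : R) (hw : w ∈ V) (hw1 : w ≠ 1) :
    Nat.card K ∣ Nat.card {a : R // a * a = w} := by
  letI : MulAction K {a : R // a * a = w} :=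
    { smul := fun σ a => ⟨(σ : MulAut R) a.1, by
        rw [← map_mul, a.2]; exact hKV σ σ.2 w hw⟩
      one_smul := fun a => Subtype.ext rfl
      mul_smul := fun σ τ a => Subtype.ext rfl }
  have hstab : ∀ a : {a : R // a * a = w}, MulAction.stabilizer K a = ⊥ := by
    intro a
    rw [Subgroup.eq_bot_iff_forall]
    intro σ hσ
    rw [MulAction.mem_stabilizer_iff] at hσ
    have h1 : (σ : MulAut R) a.1 = a.1 := congrArg Subtype.val hσ
    by_contra hne
    have h2 : (σ : MulAut R) ≠ 1 := fun h => hne (Subtype.ext h)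
    have h3 := hK σ σ.2 h2 a.1 h1
    exact hw1 (by rw [← a.2]; exact hV2 _ h3)
  have e := MulAction.selfEquivOrbitsQuotientProd hstab
  exact ⟨Nat.card (Quotient (MulAction.orbitRel K {a : R // a * a = w})), by
    rw [Nat.card_congr e, Nat.card_prod, mul_comm]⟩

end Cfsg.Agent.Lib.helper50.T97
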