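import Mathlib

set_option autoImplicit false

namespace Cfsg.Agent.Lib.helper50.T97

/-- PIECE TR of the S3797 split. -/
theorem card_invol_dvd_index {G : Type*} [Group G] [Finite G] (N : Subgroup G)
    (hconj : ∀ x y : G, x ≠ 1 → x * x = 1 → y ≠ 1 → y * y = 1 → ∃ c : G, c * x * c⁻¹ = y)
    (hN : ∀ g : G, g * g = 1 → ∀ n ∈ N, n * g = g * n) (hex : ∃ x : G, x ≠ 1 ∧ x * x = 1) :
    Nat.card {g : G // g ≠ 1 ∧ g * g = 1} ∣ N.index := by
  letI : MulAction G {g : G // g ≠ 1 ∧ g * g = 1} :=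
    { smul := fun c x => ⟨c * x.1 * c⁻¹, by
        refine ⟨fun h => x.2.1 ?_, ?_⟩
        · have h1 : x.1 = c⁻¹ * (c * x.1 * c⁻¹) * c := by group
          rw [h1, h]; group
        · have h1 : c * x.1 * c⁻¹ * (c * x.1 * c⁻¹) = c * (x.1 * x.1) * c⁻¹ := by group
          rw [h1, x.2.2]; group⟩
      one_smul := fun x => Subtype.ext (by show 1 * x.1 * 1⁻¹ = x.1; group)
      mul_smul := fun c d x => Subtype.ext (by
        show (c * d) * x.1 * (c * d)⁻¹ = c * (d * x.1 * d⁻¹) * c⁻¹; group) }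
  haveI : MulAction.IsPretransitive G {g : G // g ≠ 1 ∧ g * g = 1} :=
    ⟨fun x y => by
      obtain ⟨c, hc⟩ := hconj x.1 y.1 x.2.1 x.2.2 y.2.1 y.2.2
      exact ⟨c, Subtype.ext hc⟩⟩
  obtain ⟨x0, hx0⟩ := hex
  rw [← MulAction.index_stabilizer_of_transitive G (⟨x0, hx0⟩ : {g : G // g ≠ 1 ∧ g * g = 1})]
  apply Subgroup.index_dvd_of_le
  intro n hn
  rw [MulAction.mem_stabilizer_iff]
  apply Subtype.ext
  show n * x0 * n⁻¹ = x0
  rw [hN x0 hx0.2 n hn]; group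

end Cfsg.Agent.Lib.helper50.T97
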