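import Mathlib

/-! S4118 split, piece E1 (`quat_aut_card_small`): small quaternion groups have fewer than 60
automorphisms. -/

set_option autoImplicit false

namespace Cfsg.Agent.Lib.helper50.TIH

open QuaternionGroup

/-- An automorphism of `QuaternionGroup n` is determined by the images of `a 1` and `xa 0`. -/
theorem helper50_quat_aut_ext (n : ℕ) [NeZero n] (φ ψ : MulAut (QuaternionGroup n))
    (h1 : φ (a 1) = ψ (a 1)) (h2 : φ (xa 0) = ψ (xa 0)) : φ = ψ := by
  have ha : ∀ i : ZMod (2 * n), φ (a i) = ψ (a i) := by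
    intro i
    have hi : (a i : QuaternionGroup n) = (a 1) ^ i.val := by
      rw [a_one_pow, ZMod.natCast_zmod_val]
    rw [hi, map_pow, map_pow, h1]
  ext g
  cases g with
  | a i => exact ha i
  | xa i =>
    have hi : (xa i : QuaternionGroup n) = xa 0 * a i := by
      rw [xa_mul_a, zero_add]
    rw [hi, map_mul, map_mul, h2, ha i]

/-- `QuaternionGroup n` has at most `(4 n - 1)^2` automorphisms. -/
theorem helper50_quat_aut_card (n : ℕ) [NeZero n] :
    Finite (MulAut (QuaternionGroup n)) ∧
      Nat.card (MulAut (QuaternionGroup n)) ≤ (4 * n - 1) * (4 * n - 1) := by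
  classical
  have hn : n ≠ 0 := NeZero.ne n
  have ha1 : (a 1 : QuaternionGroup n) ≠ 1 := by
    intro h
    rw [one_def] at h
    have h' : (1 : ZMod (2 * n)) = 0 := by injection h
    rw [ZMod.one_eq_zero_iff] at h'
    omega
  have hx0 : (xa 0 : QuaternionGroup n) ≠ 1 := by
    intro h
    rw [one_def] at h
    injection h
  let f : MulAut (QuaternionGroup n) →
      {g : QuaternionGroup n // ¬ g = 1} × {g : QuaternionGroup n // ¬ g = 1} :=
    fun φ => (⟨φ (a 1), fun h => ha1 ((MulEquiv.map_eq_one_iff φ).mp h)⟩,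
      ⟨φ (xa 0), fun h => hx0 ((MulEquiv.map_eq_one_iff φ).mp h)⟩)
  have hf : Function.Injective f := by
    intro φ ψ h
    have h1 : φ (a 1) = ψ (a 1) := congrArg (fun z => (z.1 : QuaternionGroup n)) h
    have h2 : φ (xa 0) = ψ (xa 0) := congrArg (fun z => (z.2 : QuaternionGroup n)) h
    exact helper50_quat_aut_ext n φ ψ h1 h2
  have hfin : Finite (MulAut (QuaternionGroup n)) := Finite.of_injective f hf
  refine ⟨hfin, ?_⟩
  have hc : Nat.card {g : QuaternionGroup n // ¬ g = 1} = 4 * n - 1 := by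
    rw [Nat.card_eq_fintype_card, Fintype.card_subtype_compl, Fintype.card_subtype_eq,
      QuaternionGroup.card]
  have hle := Nat.card_le_card_of_injective f hf
  rw [Nat.card_prod, hc] at hle
  exact hle

theorem quat_aut_card_small :
    (Finite (MulAut (QuaternionGroup 1)) ∧ Nat.card (MulAut (QuaternionGroup 1)) < 60) ∧
    (Finite (MulAut (QuaternionGroup 2)) ∧ Nat.card (MulAut (QuaternionGroup 2)) < 60) := by
  obtain ⟨h1, h1'⟩ := helper50_quat_aut_card 1
  obtain ⟨h2, h2'⟩ := helper50_quat_aut_card 2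
  exact ⟨⟨h1, lt_of_le_of_lt h1' (by norm_num)⟩, ⟨h2, lt_of_le_of_lt h2' (by norm_num)⟩⟩

end Cfsg.Agent.Lib.helper50.TIH
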