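import Mathlib

/-! S4118 split, piece F2 (`cent_le_core`). -/

set_option autoImplicit false

namespace Cfsg.Agent.Lib.helper50.TIH

theorem cent_le_core {G : Type*} [Group G] [Finite G] (H O B : Subgroup G) [O.Normal]
    (hOmax : ∀ K : Subgroup G, K.Normal → (Nat.card K).Coprime (Nat.card H) → K ≤ O)
    (hOc : (Nat.card O).Coprime (Nat.card H))
    (hOL : O ⊔ Subgroup.normalizer (H : Set G) = ⊤)
    (hBN : B ≤ Subgroup.normalizer (H : Set G)) (hBc : (Nat.card B).Coprime (Nat.card H))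
    (hHB : H ⊔ B = Subgroup.normalizer (H : Set G)) :
    B ⊓ Subgroup.centralizer (H : Set G) ≤ O := by
  -- conjugation by elements of `H` and `B` preserves `Y = C_B(H)`
  have hYH : ∀ h ∈ H, ∀ y ∈ B ⊓ Subgroup.centralizer (H : Set G),
      h * y * h⁻¹ ∈ B ⊓ Subgroup.centralizer (H : Set G) := by
    intro h hh y hy
    have hyc : h * y = y * h := Subgroup.mem_centralizer_iff.mp hy.2 h hh
    have e : h * y * h⁻¹ = y := by rw [hyc, mul_inv_cancel_right]
    rw [e]
    exact hy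
  have hYB : ∀ b ∈ B, ∀ y ∈ B ⊓ Subgroup.centralizer (H : Set G),
      b * y * b⁻¹ ∈ B ⊓ Subgroup.centralizer (H : Set G) := by
    intro b hb y hy
    refine Subgroup.mem_inf.mpr ⟨B.mul_mem (B.mul_mem hb hy.1) (B.inv_mem hb), ?_⟩
    rw [Subgroup.mem_centralizer_iff]
    intro x hx
    have hbN : b⁻¹ ∈ Subgroup.normalizer (H : Set G) := Subgroup.inv_mem _ (hBN hb)
    have hx' : b⁻¹ * x * b⁻¹⁻¹ ∈ H := (Subgroup.mem_normalizer_iff.mp hbN x).mp hx
    rw [inv_inv] at hx'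
    have hc : b⁻¹ * x * b * y = y * (b⁻¹ * x * b) := Subgroup.mem_centralizer_iff.mp hy.2 _ hx'
    calc x * (b * y * b⁻¹) = b * (b⁻¹ * x * b * y) * b⁻¹ := by group
      _ = b * (y * (b⁻¹ * x * b)) * b⁻¹ := by rw [hc]
      _ = b * y * b⁻¹ * x := by group
  -- `K = O ⊔ Y` is normal
  have hdec : ∀ k ∈ O ⊔ (B ⊓ Subgroup.centralizer (H : Set G)),
      ∃ o ∈ O, ∃ y ∈ B ⊓ Subgroup.centralizer (H : Set G), k = o * y := by
    intro k hk
    rw [← SetLike.mem_coe, Subgroup.normal_mul] at hk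
    obtain ⟨o, ho, y, hy, rfl⟩ := Set.mem_mul.mp hk
    exact ⟨o, ho, y, hy, rfl⟩
  have hconj : ∀ g : G, (∀ y ∈ B ⊓ Subgroup.centralizer (H : Set G),
      g * y * g⁻¹ ∈ B ⊓ Subgroup.centralizer (H : Set G)) →
      ∀ k ∈ O ⊔ (B ⊓ Subgroup.centralizer (H : Set G)),
        g * k * g⁻¹ ∈ O ⊔ (B ⊓ Subgroup.centralizer (H : Set G)) := by
    intro g hg k hk
    obtain ⟨o, ho, y, hy, rfl⟩ := hdec k hk
    have e : g * (o * y) * g⁻¹ = (g * o * g⁻¹) * (g * y * g⁻¹) := by group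
    rw [e]
    exact Subgroup.mul_mem _ (Subgroup.mem_sup_left (Subgroup.Normal.conj_mem inferInstance o ho g))
      (Subgroup.mem_sup_right (hg y hy))
  have hON : O ≤ Subgroup.normalizer
      ((O ⊔ (B ⊓ Subgroup.centralizer (H : Set G)) : Subgroup G) : Set G) :=
    le_trans le_sup_left Subgroup.le_normalizer
  have hHN : H ≤ Subgroup.normalizer
      ((O ⊔ (B ⊓ Subgroup.centralizer (H : Set G)) : Subgroup G) : Set G) :=
    Subgroup.le_normalizer_iff.mpr (fun h hh k hk => hconj h (hYH h hh) k hk)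
  have hBN' : B ≤ Subgroup.normalizer
      ((O ⊔ (B ⊓ Subgroup.centralizer (H : Set G)) : Subgroup G) : Set G) :=
    Subgroup.le_normalizer_iff.mpr (fun b hb k hk => hconj b (hYB b hb) k hk)
  have htop : Subgroup.normalizer
      ((O ⊔ (B ⊓ Subgroup.centralizer (H : Set G)) : Subgroup G) : Set G) = ⊤ := by
    rw [eq_top_iff, ← hOL, ← hHB]
    exact sup_le hON (sup_le hHN hBN')
  have hKn : (O ⊔ (B ⊓ Subgroup.centralizer (H : Set G))).Normal :=
    Subgroup.normalizer_eq_top_iff.mp htop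
  -- the order of `K`
  have hcard : Nat.card ↥(O ⊔ (B ⊓ Subgroup.centralizer (H : Set G))) =
      Nat.card O * O.relIndex (B ⊓ Subgroup.centralizer (H : Set G)) := by
    have h1 := Subgroup.relIndex_mul_relIndex (⊥ : Subgroup G) O
      (O ⊔ (B ⊓ Subgroup.centralizer (H : Set G))) bot_le le_sup_left
    rw [Subgroup.relIndex_bot_left, Subgroup.relIndex_bot_left, Subgroup.relIndex_sup_left] at h1
    exact h1.symm
  have hcop : (Nat.card ↥(O ⊔ (B ⊓ Subgroup.centralizer (H : Set G)))).Coprime (Nat.card H) := by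
    rw [hcard]
    refine Nat.Coprime.mul_left hOc ?_
    have hdvd : O.relIndex (B ⊓ Subgroup.centralizer (H : Set G)) ∣ Nat.card B :=
      dvd_trans (Subgroup.relIndex_dvd_card O _) (Subgroup.card_dvd_of_le inf_le_left)
    exact Nat.Coprime.coprime_dvd_left hdvd hBc
  exact le_trans le_sup_right (hOmax _ hKn hcop)

end Cfsg.Agent.Lib.helper50.TIH
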