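import Mathlib

/-! S4118 split, piece F4 (`cent_of_sylows`). -/

set_option autoImplicit false

namespace Cfsg.Agent.Lib.helper50.TIH

theorem cent_of_sylows {G : Type*} [Group G] [Finite G] (H : Subgroup G) (c : G)
    (h : ∀ (p : ℕ) [Fact p.Prime], ∃ P : Sylow p H, ∀ x ∈ (P : Subgroup H),
      c * (x : G) = (x : G) * c) :
    ∀ x ∈ H, c * x = x * c := by
  -- the centralizer of `c` in `H`
  have hmem : ∀ x : H, x ∈ (Subgroup.centralizer ({c} : Set G)).subgroupOf H ↔
      c * (x : G) = (x : G) * c := by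
    intro x
    rw [Subgroup.mem_subgroupOf, Subgroup.mem_centralizer_iff]
    constructor
    · intro hx
      exact hx c rfl
    · intro hx g hg
      rw [Set.mem_singleton_iff] at hg
      rw [hg]
      exact hx
  have hH0 : Nat.card H ≠ 0 := Nat.card_pos.ne'
  have hC0 : Nat.card ↥((Subgroup.centralizer ({c} : Set G)).subgroupOf H) ≠ 0 := Nat.card_pos.ne'
  have hdvd : Nat.card H ∣ Nat.card ↥((Subgroup.centralizer ({c} : Set G)).subgroupOf H) := by
    rw [← Nat.factorization_prime_le_iff_dvd hH0 hC0]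
    intro p hp
    have : Fact p.Prime := ⟨hp⟩
    obtain ⟨P, hP⟩ := h p
    have hle : (P : Subgroup H) ≤ (Subgroup.centralizer ({c} : Set G)).subgroupOf H := by
      intro x hx
      exact (hmem x).mpr (hP x hx)
    have h1 : Nat.card (P : Subgroup H) ∣
        Nat.card ↥((Subgroup.centralizer ({c} : Set G)).subgroupOf H) :=
      Subgroup.card_dvd_of_le hle
    rw [Sylow.card_eq_multiplicity] at h1
    exact (hp.pow_dvd_iff_le_factorization hC0).mp h1
  have htop : (Subgroup.centralizer ({c} : Set G)).subgroupOf H = ⊤ := by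
    apply Subgroup.eq_top_of_card_eq
    exact Nat.dvd_antisymm (Subgroup.card_subgroup_dvd_card _) hdvd
  intro x hx
  have hx' : (⟨x, hx⟩ : H) ∈ (Subgroup.centralizer ({c} : Set G)).subgroupOf H := by
    rw [htop]
    exact Subgroup.mem_top _
  exact (hmem ⟨x, hx⟩).mp hx'

end Cfsg.Agent.Lib.helper50.TIH
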