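import Cfsg.Agent.Lib.helper81.WTDefs

/-!
# S4414 piece E1b (`bc_sum_eq_zero`): base change of the vanishing of `∑ y, ρ y`.
-/

set_option autoImplicit false

namespace Cfsg.Agent.Lib.helper81.WT

open scoped TensorProduct

universe u v w

/-- [E1b] base change of E1 -/
theorem bc_sum_eq_zero {S : Type u} [Group S] [Finite S] {E : Type v} [AddCommGroup E] [Module (ZMod 2) E] [Finite E]
    (ρ : Representation (ZMod 2) S E)
    (F : Type w) [Field F] [Algebra (ZMod 2) F] (Y : Subgroup S) [Fintype ↥Y]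
    (h : ∑ y : ↥Y, ρ (y : S) = 0) : ∑ y : ↥Y, bc F ρ (y : S) = 0 := by
  have h1 : ∑ y : ↥Y, bc F ρ (y : S) = (∑ y : ↥Y, ρ (y : S)).baseChange F := by
    have h2 : ∀ y : ↥Y, bc F ρ (y : S) = LinearMap.baseChangeHom (ZMod 2) F E E (ρ (y : S)) := by
      intro y
      rfl
    rw [Finset.sum_congr rfl (fun y _ => h2 y), ← map_sum]
    rfl
  rw [h1, h, LinearMap.baseChange_zero]

end Cfsg.Agent.Lib.helper81.WT
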