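import Cfsg.Agent.Lib.helper50.WTW0INDcore
import Cfsg.Agent.Lib.helper32.WTPC

/-!
# S4414 piece IND (`indep_of_disjoint`): vectors with disjoint supports are independent.

Wrapper of `helper50_indep_of_disjoint_core` with the landed completeness lemma
`helper32_proj_complete` (racing copy of piece PC).
-/

set_option autoImplicit false

namespace Cfsg.Agent.Lib.helper81.WT

open scoped TensorProduct

universe u v w

/-- [IND] vectors with disjoint supports are independent; uses PC -/
theorem indep_of_disjoint {S : Type u} [Group S] [Finite S] {F : Type w} [Field F] [Finite F] [CharP F 2]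
    {V : Type v} [AddCommGroup V] [Module F V]
    (R : Representation F S V) (Y : Subgroup S) [Y.Normal] [Fintype ↥Y]
    (hYc : ∀ a b : ↥Y, a * b = b * a) [HasEnoughRootsOfUnity F (Monoid.exponent ↥Y)]
    (hodd : Odd (Fintype.card ↥Y))
    (v₁ v₂ : V) (h₁ : v₁ ≠ 0) (h₂ : v₂ ≠ 0) (hd : Disjoint (supp R Y v₁) (supp R Y v₂))
    (a b : F) (h : a • v₁ + b • v₂ = 0) : a = 0 ∧ b = 0 :=
  helper50_indep_of_disjoint_core R Y (fun v hv => helper32_proj_complete R Y hYc hodd v hv)
    v₁ v₂ h₁ h₂ hd a b h

end Cfsg.Agent.Lib.helper81.WT
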