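import Cfsg.Agent.Lib.helper81.WTDefs

/-!
# S4414 pieces W0 / IND, core versions

The completeness of the weight projections (piece PC) is taken as the hypothesis `hPC`; the
pieces `weights_nonempty` (W0) and `indep_of_disjoint` (IND) are one-line consequences of
`helper50_weights_nonempty_core` / `helper50_indep_of_disjoint_core` and `proj_complete`.
-/

set_option autoImplicit false

namespace Cfsg.Agent.Lib.helper81.WT

open scoped TensorProduct

universe u v w

/-- [W0], core: weights exist, given completeness. -/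
theorem helper50_weights_nonempty_core {S : Type u} [Group S] {F : Type w} [Field F]
    {V : Type v} [AddCommGroup V] [Module F V]
    (R : Representation F S V) (Y : Subgroup S) [Fintype ↥Y]
    (hPC : ∀ v : V, (∀ μ : ↥Y →* Fˣ, proj R Y μ v = 0) → v = 0)
    [Nontrivial V] : ∃ μ₀ : ↥Y →* Fˣ, proj R Y μ₀ ≠ 0 := by
  obtain ⟨v, hv⟩ := exists_ne (0 : V)
  by_contra hcon
  push Not at hcon
  apply hv
  apply hPC v
  intro μ
  rw [hcon μ]
  rfl

/-- [IND], core: vectors with disjoint supports are independent, given completeness. -/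
theorem helper50_indep_of_disjoint_core {S : Type u} [Group S] {F : Type w} [Field F]
    {V : Type v} [AddCommGroup V] [Module F V]
    (R : Representation F S V) (Y : Subgroup S) [Fintype ↥Y]
    (hPC : ∀ v : V, (∀ μ : ↥Y →* Fˣ, proj R Y μ v = 0) → v = 0)
    (v₁ v₂ : V) (h₁ : v₁ ≠ 0) (h₂ : v₂ ≠ 0) (hd : Disjoint (supp R Y v₁) (supp R Y v₂))
    (a b : F) (h : a • v₁ + b • v₂ = 0) : a = 0 ∧ b = 0 := by
  have key : ∀ (u₁ u₂ : V), u₁ ≠ 0 → Disjoint (supp R Y u₁) (supp R Y u₂) →
      ∀ c d : F, c • u₁ + d • u₂ = 0 → c = 0 := by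
    intro u₁ u₂ hu₁ hdis c d hcd
    have hex : ∃ ν : ↥Y →* Fˣ, proj R Y ν u₁ ≠ 0 := by
      by_contra hcon
      push Not at hcon
      exact hu₁ (hPC u₁ hcon)
    obtain ⟨ν, hν⟩ := hex
    have hν2 : proj R Y ν u₂ = 0 := by
      by_contra hne
      exact (Set.disjoint_left.mp hdis) (show ν ∈ supp R Y u₁ from hν) (show ν ∈ supp R Y u₂ from hne)
    have h3 : proj R Y ν (c • u₁ + d • u₂) = 0 := by
      rw [hcd, map_zero]
    rw [map_add, map_smul, map_smul, hν2, smul_zero, add_zero] at h3
    rcases smul_eq_zero.mp h3 with h4 | h4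
    · exact h4
    · exact absurd h4 hν
  refine ⟨key v₁ v₂ h₁ hd a b h, key v₂ v₁ h₂ hd.symm b a ?_⟩
  rw [add_comm]
  exact h

end Cfsg.Agent.Lib.helper81.WT
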